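import Cfsg.Agent.Lib.Aschbacher.SymplecticType

/-!
# A minimal normal non-scalar subgroup with scalar commutators
-/

set_option autoImplicit false

namespace CfsgLib.Asch

open Matrix Cfsg.Geo
open scoped MatrixGroups

variable {ι : Type} [Fintype ι] [DecidableEq ι] [Nonempty ι] {F : Type*} [Field F] [Fintype F]

omit [Fintype F] in
/-- scalar units of GL -/
lemma exists_unit_of_mem_scalars {z : GL ι F} (hz : z ∈ scalars ι F) :
    ∃ c : Fˣ, Units.map (Matrix.scalar ι : F →+* Matrix ι ι F).toMonoidHom c = z := hz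

omit [Fintype F] in
lemma scalarMap_injective :
    Function.Injective (Units.map (Matrix.scalar ι : F →+* Matrix ι ι F).toMonoidHom) := by
  intro a b h
  have := congrArg (fun x : GL ι F => x.val (Classical.arbitrary ι) (Classical.arbitrary ι)) h
  exact Units.ext (by simpa using this)

/-- the abelian-modulo-scalars case -/
theorem abelian_case {G N : Subgroup (GL ι F)} (hn2 : 3 ≤ Fintype.card ι) (hNG : N ≤ G) (hn : Norms G N)
    (hZN : scalars ι F ≤ N)
    (hmin : ∀ M : Subgroup (GL ι F), M ≤ N → Norms G M → scalars ι F ≤ M → M = N ∨ M = scalars ι F)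
    (hall : ∀ M : Subgroup (GL ι F), M ≤ G → Norms G M → ¬ M ≤ scalars ι F → Spans (matrixSet M))
    (hns : ¬ N ≤ scalars ι F) (hD : ⁅N, N⁆ ≤ scalars ι F) :
    InQuad G ∨ InSymp G ∨ InUnit G ∨ InSubfield G ∨ InSympType G := by
  classical
  have hspN : Spans (matrixSet N) := hall N hNG hn hns
  let mk : Fˣ →* GL ι F := Units.map (Matrix.scalar ι : F →+* Matrix ι ι F).toMonoidHom
  -- non-commuting elements
  obtain ⟨x, hx, y, hy, hxy⟩ : ∃ x ∈ N, ∃ y ∈ N, x * y ≠ y * x := by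
    by_contra hc
    push_neg at hc
    exact hns fun a ha => hspN.mem_scalars_of_commute fun b hb => hc a ha b hb
  have hcom : ∀ a ∈ N, ∀ b ∈ N, ∃ c ∈ scalars ι F, (∀ h : GL ι F, c * h = h * c) ∧ b * a = c * (a * b) := by
    intro a ha b hb
    refine ⟨b * a * b⁻¹ * a⁻¹, hD (Subgroup.commutator_mem_commutator hb ha), fun h => ?_, by group⟩
    exact scalar_commute (hD (Subgroup.commutator_mem_commutator hb ha)) h
  have hxns : x ∉ scalars ι F := fun h => hxy (scalar_commute h y)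
  -- choose the prime
  obtain ⟨r, hr, x', hx', hx'ns, hx'r⟩ : ∃ r : ℕ, r.Prime ∧ ∃ x' ∈ N, x' ∉ scalars ι F ∧ x' ^ r ∈ scalars ι F := by
    let q := orderOf (QuotientGroup.mk x : GL ι F ⧸ scalars ι F)
    have hq1 : q ≠ 1 := fun h1 => hxns ((QuotientGroup.eq_one_iff x).mp (orderOf_eq_one_iff.mp h1))
    have hq0 : q ≠ 0 := (orderOf_pos _).ne'
    obtain ⟨r, hr, k, hk⟩ := Nat.exists_prime_and_dvd hq1
    refine ⟨r, hr, x ^ k, N.pow_mem hx k, fun h => ?_, ?_⟩
    · have h1 : (QuotientGroup.mk x : GL ι F ⧸ scalars ι F) ^ k = 1 := (QuotientGroup.eq_one_iff _).mpr h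
      have h2 : q ∣ k := orderOf_dvd_of_pow_eq_one h1
      have hk0 : k ≠ 0 := by rintro rfl; exact hq0 (by simpa using hk)
      have hle := Nat.le_of_dvd (Nat.pos_of_ne_zero hk0) h2
      have hlt : 1 * k < r * k := Nat.mul_lt_mul_of_pos_right hr.one_lt (Nat.pos_of_ne_zero hk0)
      rw [one_mul, ← hk] at hlt
      omega
    · rw [← QuotientGroup.eq_one_iff, QuotientGroup.mk_pow, QuotientGroup.mk_pow, ← pow_mul, mul_comm k r, ← hk]
      exact pow_orderOf_eq_one _
  have hcommq : ∀ a ∈ N, ∀ b ∈ N, Commute (QuotientGroup.mk a : GL ι F ⧸ scalars ι F) (QuotientGroup.mk b) := by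
    intro a ha b hb
    obtain ⟨c, hc, -, hba⟩ := hcom b hb a ha
    show (QuotientGroup.mk a : GL ι F ⧸ scalars ι F) * QuotientGroup.mk b = QuotientGroup.mk b * QuotientGroup.mk a
    rw [← QuotientGroup.mk_mul, ← QuotientGroup.mk_mul, hba, QuotientGroup.mk_mul _ c,
      (QuotientGroup.eq_one_iff c).mpr hc, one_mul]
  let M₁ : Subgroup (GL ι F) :=
  { carrier := {a | a ∈ N ∧ a ^ r ∈ scalars ι F}
    one_mem' := ⟨N.one_mem, by simp⟩
    mul_mem' := fun {a b} ha hb => ⟨N.mul_mem ha.1 hb.1, by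
      rw [← QuotientGroup.eq_one_iff, QuotientGroup.mk_pow, QuotientGroup.mk_mul,
        (hcommq a ha.1 b hb.1).mul_pow, ← QuotientGroup.mk_pow, ← QuotientGroup.mk_pow,
        (QuotientGroup.eq_one_iff _).mpr ha.2, (QuotientGroup.eq_one_iff _).mpr hb.2, one_mul]⟩
    inv_mem' := fun {a} ha => ⟨N.inv_mem ha.1, by rw [inv_pow]; exact inv_mem ha.2⟩ }
  have hM₁ : M₁ = N := by
    refine (hmin M₁ (fun a ha => ha.1) (fun g hg a ha => ⟨hn g hg a ha.1, ?_⟩) (fun z hz =>
      ⟨hZN hz, pow_mem hz r⟩)).resolve_right (fun h => hx'ns ?_)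
    · rw [conj_pow]
      exact (scalars_normal (ι := ι) (F := F)).conj_mem _ ha.2 g
    · exact h ▸ (show x' ∈ M₁ from ⟨hx', hx'r⟩)
  have hpowr : ∀ a ∈ N, a ^ r ∈ scalars ι F := fun a ha => (hM₁ ▸ ha : a ∈ M₁).2
  -- commutators have order dividing `r`
  have hcr : ∀ a ∈ N, ∀ b ∈ N, ∀ c, (∀ h : GL ι F, c * h = h * c) → b * a = c * (a * b) → c ^ r = 1 := by
    intro a ha b hb c hc hba
    have hconj : b * a * b⁻¹ = c * a := by rw [hba]; group
    have h1 := conj_pow (i := r) (a := b) (b := a)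
    rw [hconj, (show Commute c a from hc a).mul_pow, ← scalar_commute (hpowr a ha) b] at h1
    simpa using h1
  obtain ⟨c₀, hc₀, hc₀c, hc₀xy⟩ := hcom x hx y hy
  obtain ⟨u₀, hu₀⟩ := exists_unit_of_mem_scalars hc₀
  have hu₀r : u₀ ^ r = 1 := scalarMap_injective (ι := ι) (by
    rw [map_pow, hu₀, map_one]; exact hcr x hx y hy c₀ hc₀c hc₀xy)
  have hu₀1 : u₀ ≠ 1 := by
    rintro rfl
    rw [map_one] at hu₀
    rw [← hu₀, one_mul] at hc₀xy
    exact hxy hc₀xy.symm
  obtain ⟨p, f, hp, hchar, hf, hcard⟩ := exists_prime_pow (F := F)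
  haveI := Fact.mk hp
  haveI := hchar
  have hrp : r ≠ p := by
    rintro rfl
    refine hu₀1 (Units.ext ?_)
    have h1 : ((u₀ : F) - 1) ^ r = 0 := by
      rw [sub_pow_char, one_pow, ← Units.val_pow_eq_pow_val, hu₀r, Units.val_one, sub_self]
    exact sub_eq_zero.mp (pow_eq_zero_iff hp.ne_zero |>.mp h1)
  have hrq : r ∣ Nat.card Fˣ := by
    haveI := Fact.mk hr
    have : orderOf u₀ = r := orderOf_eq_prime hu₀r hu₀1
    exact this ▸ orderOf_dvd_natCard u₀
  set d := Nat.gcd 2 r with hd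
  set e := r * d with he
  have hT : r ∣ e.choose 2 := by
    rcases hr.eq_two_or_odd' with h2 | hodd
    · have : e = 4 := by rw [he, hd, h2]; rfl
      rw [this, h2]; decide
    · have hd1 : d = 1 := Nat.coprime_iff_gcd_eq_one.mp (Nat.coprime_two_left.mpr hodd)
      rw [he, hd1, mul_one, Nat.choose_two_right]
      obtain ⟨k, hk⟩ := hodd
      exact ⟨k, by rw [show r - 1 = 2 * k by omega, show r * (2 * k) = r * k * 2 by ring, Nat.mul_div_cancel _ two_pos]⟩
  have hTd : r ∣ r.choose 2 * d := by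
    rcases hr.eq_two_or_odd' with h2 | hodd
    · rw [hd, h2]; decide
    · refine Dvd.dvd.mul_right ?_ _
      rw [Nat.choose_two_right]
      obtain ⟨k, hk⟩ := hodd
      exact ⟨k, by rw [show r - 1 = 2 * k by omega, show r * (2 * k) = r * k * 2 by ring, Nat.mul_div_cancel _ two_pos]⟩
  have hmulpow : ∀ a ∈ N, ∀ b ∈ N, (a * b) ^ e = a ^ e * b ^ e := by
    intro a ha b hb
    obtain ⟨c, -, hcc, hba⟩ := hcom a ha b hb
    obtain ⟨k, hk⟩ := hT
    rw [mul_pow_class_two hcc hba, hk, pow_mul, hcr a ha b hb c hcc hba, one_pow, one_mul]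
  have hpowe : ∀ a ∈ N, a ^ e ∈ scalars ι F := fun a ha => by
    rw [he, pow_mul]; exact pow_mem (hpowr a ha) d
  let N₁ : Subgroup (GL ι F) :=
  { carrier := {a | a ∈ N ∧ ∃ z : Fˣ, (mk z * a) ^ e = 1}
    one_mem' := ⟨N.one_mem, 1, by simp⟩
    mul_mem' := fun {a b} ha hb => by
      obtain ⟨ha, z, hz⟩ := ha
      obtain ⟨hb, w, hw⟩ := hb
      refine ⟨N.mul_mem ha hb, z * w, ?_⟩
      have : mk (z * w) * (a * b) = (mk z * a) * (mk w * b) := by
        rw [map_mul, mul_assoc, mul_assoc (mk z) a, ← mul_assoc a (mk w),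
          ← scalar_commute (⟨w, rfl⟩ : mk w ∈ scalars ι F) a, mul_assoc]
      rw [this, hmulpow _ (N.mul_mem (hZN ⟨z, rfl⟩) ha) _ (N.mul_mem (hZN ⟨w, rfl⟩) hb), hz, hw, one_mul]
    inv_mem' := fun {a} ha => by
      obtain ⟨ha, z, hz⟩ := ha
      refine ⟨N.inv_mem ha, z⁻¹, ?_⟩
      rw [map_inv, scalar_commute (inv_mem (⟨z, rfl⟩ : mk z ∈ scalars ι F)) a⁻¹, ← _root_.mul_inv_rev,
        inv_pow, hz, inv_one] }
  have hN₁ : N₁ = N := by
    refine (hmin N₁ (fun a ha => ha.1) ?_ ?_).resolve_right fun h => ?_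
    · rintro g hg a ⟨ha, z, hz⟩
      refine ⟨hn g hg a ha, z, ?_⟩
      have : mk z * (g * a * g⁻¹) = g * (mk z * a) * g⁻¹ := by
        rw [← mul_assoc g (mk z), ← scalar_commute (⟨z, rfl⟩ : mk z ∈ scalars ι F) g]; simp [mul_assoc]
      rw [this, conj_pow, hz, mul_one, mul_inv_cancel]
    · rintro _ ⟨c, rfl⟩
      exact ⟨hZN ⟨c, rfl⟩, c⁻¹, by simp [mk]⟩
    -- otherwise some product of powers of `x, y` would be a non-scalar element of `N₁`
    obtain ⟨g₀, hg₀⟩ := IsCyclic.exists_generator (α := Fˣ)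
    have hlog : ∀ a ∈ N, ∃ i : ℤ, a ^ r = mk g₀ ^ i := by
      intro a ha
      obtain ⟨c, hc⟩ := exists_unit_of_mem_scalars (hpowr a ha)
      obtain ⟨i, hi⟩ := Subgroup.mem_zpowers_iff.mp (hg₀ c)
      exact ⟨i, by rw [← map_zpow, hi]; exact hc.symm⟩
    have hroot : ∀ a ∈ N, ∀ (k : ℤ) (ω : GL ι F), ω ^ d = 1 → a ^ r = mk g₀ ^ ((r : ℤ) * k) * ω → a ∈ N₁ := by
      intro a ha k ω hω hak
      refine ⟨ha, g₀ ^ (-k), ?_⟩
      rw [he, pow_mul, (show Commute (mk (g₀ ^ (-k))) a from scalar_commute ⟨_, rfl⟩ a).mul_pow, hak, ← mul_assoc,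
        ← map_zpow, ← map_pow, ← map_mul, ← zpow_natCast (g₀ ^ (-k)), ← _root_.zpow_mul, ← _root_.zpow_add]
      rw [show (-k) * (r : ℤ) + r * k = 0 by ring, zpow_zero, map_one, one_mul, hω]
    obtain ⟨i, hi⟩ := hlog x hx
    obtain ⟨j, hj⟩ := hlog y hy
    have hri : ¬ (r : ℤ) ∣ i := by
      rintro ⟨k, rfl⟩
      exact hxns (h ▸ hroot x hx k 1 (one_pow _) (by rw [hi, mul_one]))
    obtain ⟨u, v, huv⟩ : IsCoprime (r : ℤ) i := (Nat.prime_iff_prime_int.mp hr).coprime_iff_not_dvd.mpr hri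
    -- `y x^(-jv)`
    set m : ℤ := -(j * v)
    have hxm : x ^ m ∈ N := N.zpow_mem hx m
    obtain ⟨c, -, hcc, hba⟩ := hcom y hy (x ^ m) hxm
    have hpow : (y * x ^ m) ^ r = mk g₀ ^ ((r : ℤ) * (j * u)) * c ^ r.choose 2 := by
      rw [mul_pow_class_two hcc hba, ← zpow_natCast (x ^ m), ← _root_.zpow_mul, mul_comm m, _root_.zpow_mul, zpow_natCast, hi,
        ← _root_.zpow_mul, hj, ← _root_.zpow_add]
      rw [show j + i * m = (r : ℤ) * (j * u) by
        calc j + i * m = j * (u * r + v * i) + i * m := by rw [huv, mul_one]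
          _ = _ := by ring]
      exact ((show Commute c _ from hcc _).pow_left _).eq
    have hω : (c ^ r.choose 2) ^ d = 1 := by
      obtain ⟨k, hk⟩ := hTd
      rw [← pow_mul, hk, pow_mul, hcr y hy _ hxm c hcc hba, one_pow]
    have hmem := h ▸ hroot _ (N.mul_mem hy hxm) _ _ hω hpow
    refine hxy ?_
    have h1 := scalar_commute hmem x
    have h3 : (y * x) * x ^ m = (x * y) * x ^ m := by
      rw [mul_assoc, ((Commute.refl x).zpow_right m).eq, ← mul_assoc, h1, mul_assoc]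
    exact (mul_right_cancel h3).symm
  have hrootN : ∀ a ∈ N, ∃ z : Fˣ, (mk z * a) ^ e = 1 := fun a ha => (hN₁ ▸ ha : a ∈ N₁).2
  let R : Subgroup (GL ι F) :=
  { carrier := {a | a ∈ N ∧ a ^ e = 1}
    one_mem' := ⟨N.one_mem, one_pow e⟩
    mul_mem' := fun {a b} ha hb => ⟨N.mul_mem ha.1 hb.1, by rw [hmulpow a ha.1 b hb.1, ha.2, hb.2, one_mul]⟩
    inv_mem' := fun {a} ha => ⟨N.inv_mem ha.1, by rw [inv_pow, ha.2, inv_one]⟩ }
  have hnR : Norms G R := fun g hg a ha => ⟨hn g hg a ha.1, by rw [conj_pow, ha.2, mul_one, mul_inv_cancel]⟩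
  have hsR : Spans (matrixSet R) := hall R (fun a ha => hNG ha.1) hnR fun hle => hns fun a ha => by
    obtain ⟨z, hz⟩ := hrootN a ha
    have h1 : mk z * a ∈ scalars ι F := hle ⟨N.mul_mem (hZN ⟨z, rfl⟩) ha, hz⟩
    simpa [← mul_assoc] using mul_mem (inv_mem (⟨z, rfl⟩ : mk z ∈ scalars ι F)) h1
  have hD' : RData r e R :=
    ⟨hsR, fun a ha b hb => hD (Subgroup.commutator_mem_commutator ha.1 hb.1), fun a ha => ha.2⟩
  have hRcomm : ¬ ∀ a b : R, a * b = b * a := by
    intro hab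
    refine hns fun a ha => ?_
    obtain ⟨z, hz⟩ := hrootN a ha
    have h1 : mk z * a ∈ scalars ι F := hsR.mem_scalars_of_commute fun b hb =>
      congrArg Subtype.val (hab ⟨_, N.mul_mem (hZN ⟨z, rfl⟩) ha, hz⟩ ⟨b, hb⟩)
    simpa [← mul_assoc] using mul_mem (inv_mem (⟨z, rfl⟩ : mk z ∈ scalars ι F)) h1
  have he0 : e ≠ 0 := Nat.mul_ne_zero hr.ne_zero (Nat.gcd_pos_of_pos_left r two_pos).ne'
  have hzc := hD'.card_center fun z hz hze => ⟨hZN hz, hze⟩
  set z := Nat.gcd (Nat.card Fˣ) e with hz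
  have hq : Nat.card Fˣ = p ^ f - 1 := by rw [Nat.card_units, Nat.card_eq_fintype_card, hcard]
  have hzq : z ∣ p ^ f - 1 := hq ▸ Nat.gcd_dvd_left _ _
  have hrz : r ∣ z := Nat.dvd_gcd hrq (dvd_mul_right _ _)
  have hroot_z : ∀ ζ : F, ζ ^ e = 1 → ζ ^ z = 1 := by
    intro ζ hζ
    have hζ0 : ζ ≠ 0 := by rintro rfl; rw [zero_pow he0] at hζ; exact zero_ne_one hζ
    refine pow_gcd_eq_one.mpr ⟨?_, hζ⟩
    have h' := congrArg Units.val (pow_card_eq_one' (x := Units.mk0 ζ hζ0))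
    rwa [Units.val_pow_eq_pow_val, Units.val_mk0, Units.val_one] at h'
  -- the order of `R`
  have hpg : IsPGroup r R := by
    intro a
    refine ⟨2, Subtype.ext ?_⟩
    rw [SubmonoidClass.coe_pow]
    obtain ⟨k, hk⟩ : e ∣ r ^ 2 := by
      rcases hr.eq_two_or_odd' with h2 | hodd
      · rw [he, hd, h2]; decide
      · rw [he, hd, Nat.coprime_iff_gcd_eq_one.mp (Nat.coprime_two_left.mpr hodd), mul_one, sq]
        exact dvd_mul_right r r
    rw [hk, pow_mul, a.2.2, one_pow]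
    rfl
  haveI := Fact.mk hr
  obtain ⟨a, hcardR⟩ := IsPGroup.iff_card.mp hpg
  have hcard' := hD'.card_eq
  rw [hzc, hcardR] at hcard'
  obtain ⟨k, -, hk⟩ := (Nat.dvd_prime_pow hr).mp
    (show Fintype.card ι ∣ r ^ a from ⟨z * Fintype.card ι, by rw [hcard']; ring⟩)
  have hk1 : 1 ≤ k := by
    rcases Nat.eq_zero_or_pos k with rfl | h
    · rw [pow_zero] at hk; omega
    · exact h
  have hexp : Monoid.exponent R = e := by
    have hdvd : Monoid.exponent R ∣ e :=
      Monoid.exponent_dvd_of_forall_pow_eq_one fun b => Subtype.ext (by rw [SubmonoidClass.coe_pow]; exact b.2.2)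
    have hne1 : Monoid.exponent R ≠ 1 := fun h1 => hRcomm fun a b => by
      haveI := Monoid.exp_eq_one_iff.mp h1
      exact Subsingleton.elim _ _
    rcases hr.eq_two_or_odd' with h2 | hodd
    · have he4 : e = 2 ^ 2 := by rw [he, hd, h2]; rfl
      rw [he4] at hdvd ⊢
      obtain ⟨i, hi, hei⟩ := (Nat.dvd_prime_pow Nat.prime_two).mp hdvd
      interval_cases i
      · exact absurd (by simpa using hei) hne1
      · exact absurd (fun a b => mul_comm_of_exponent_two (by simpa using hei) a b) hRcomm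
      · simpa using hei
    · have her : e = r := by rw [he, hd, Nat.coprime_iff_gcd_eq_one.mp (Nat.coprime_two_left.mpr hodd), mul_one]
      rw [her] at hdvd ⊢
      exact (hr.eq_one_or_self_of_dvd _ hdvd).resolve_left hne1
  -- the four outcomes
  have hzcases : (Odd r ∧ z = r) ∨ (r = 2 ∧ (z = 2 ∨ z = 4)) := by
    have hze : z ∣ e := Nat.gcd_dvd_right _ _
    have hz1 : z ≠ 1 := fun h1 => hr.one_lt.ne' (Nat.dvd_one.mp (h1 ▸ hrz))
    rcases hr.eq_two_or_odd' with h2 | hodd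
    · refine Or.inr ⟨h2, ?_⟩
      have he4 : e = 2 ^ 2 := by rw [he, hd, h2]; rfl
      rw [he4] at hze
      obtain ⟨i, hi, hei⟩ := (Nat.dvd_prime_pow Nat.prime_two).mp hze
      interval_cases i
      · exact absurd (by simpa using hei) hz1
      · exact Or.inl (by simpa using hei)
      · exact Or.inr (by simpa using hei)
    · refine Or.inl ⟨hodd, ?_⟩
      have her : e = r := by rw [he, hd, Nat.coprime_iff_gcd_eq_one.mp (Nat.coprime_two_left.mpr hodd), mul_one]
      rw [her] at hze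
      exact (hr.eq_one_or_self_of_dvd _ hze).resolve_left hz1
  by_cases h22 : r = 2 ∧ z = 2
  · -- the centre is `±1`
    obtain ⟨h2, hz2⟩ := h22
    have hne2 : (2 : F) ≠ 0 := by
      intro h0
      refine hrp (h2.trans ?_)
      exact ((Nat.prime_dvd_prime_iff_eq hp Nat.prime_two).mp ((CharP.cast_eq_zero_iff F p 2).mp (by exact_mod_cast h0))).symm
    rcases hD'.exists_form hnR (RingEquiv.refl F) (fun a => rfl) (fun ζ hζ => by
        have := hroot_z ζ hζ
        rw [hz2, sq] at this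
        exact this) (fun _ => hne2) with h | h | h
    · exact Or.inl h
    · exact Or.inr (Or.inl h)
    · exact Or.inr (Or.inr (Or.inl h))
  have hze : z = e := by
    rcases hzcases with ⟨hodd, hz'⟩ | ⟨h2, hz' | hz'⟩
    · rw [hz', he, hd, Nat.coprime_iff_gcd_eq_one.mp (Nat.coprime_two_left.mpr hodd), mul_one]
    · exact absurd ⟨h2, hz'⟩ h22
    · rw [hz', he, hd, h2]; rfl
  by_cases hmin' : ∀ i, 0 < i → i < f → ¬ z ∣ p ^ i - 1
  · have hfield : IsMinimalFieldFor (Nat.card (Subgroup.center R)) p f F :=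
      ⟨hp, hchar, hcard, hzc ▸ hzq, fun i hi hif => hzc ▸ hmin' i hi hif⟩
    have hsymp : IsSymplecticTypeGroup r R := by
      refine ⟨hr, hpg, fun A hA hAc => ?_, by rw [hexp, he, hd, Nat.gcd_comm]⟩
      have hsc : ∀ a ∈ A, ((a : R) : GL ι F) ∈ scalars ι F := by
        by_contra hcon
        push_neg at hcon
        obtain ⟨a₁, ha₁, ha₁s⟩ := hcon
        refine ha₁s ((hall (A.map R.subtype) ?_ ?_ ?_).mem_scalars_of_commute ?_)
        · rintro _ ⟨b, -, rfl⟩; exact hNG b.2.1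
        · rintro g hg _ ⟨b, hb, rfl⟩
          let φ : R ≃* R :=
            { toFun := fun c => ⟨g * c * g⁻¹, hnR g hg c c.2⟩
              invFun := fun c => ⟨g⁻¹ * c * g, by simpa using hnR g⁻¹ (G.inv_mem hg) c c.2⟩
              left_inv := fun c => Subtype.ext (by simp [mul_assoc])
              right_inv := fun c => Subtype.ext (by simp [mul_assoc])
              map_mul' := fun c c' => Subtype.ext (by simp [mul_assoc]) }
          refine ⟨φ b, ?_, rfl⟩
          have := (Subgroup.characteristic_iff_map_eq.mp hA) φ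
          exact this ▸ ⟨b, hb, rfl⟩
        · exact fun hle => ha₁s (hle ⟨a₁, ha₁, rfl⟩)
        · rintro _ ⟨b, hb, rfl⟩
          exact congrArg (fun t : A => ((t : R) : GL ι F)) (hAc.is_comm.comm ⟨a₁, ha₁⟩ ⟨b, hb⟩)
      let toF : A →* F :=
      { toFun := fun a => ((a : R) : GL ι F).val (Classical.arbitrary ι) (Classical.arbitrary ι)
        map_one' := by simp
        map_mul' := fun a b => by
          obtain ⟨c, hc⟩ := exists_unit_of_mem_scalars (hsc a a.2)
          show ((((a : R) : GL ι F) * ((b : R) : GL ι F) : GL ι F) : Matrix ι ι F) _ _ = _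
          rw [← hc]
          simp }
      refine isCyclic_of_subgroup_isDomain toF fun a b hab => ?_
      obtain ⟨c, hc⟩ := exists_unit_of_mem_scalars (hsc a a.2)
      obtain ⟨c', hc'⟩ := exists_unit_of_mem_scalars (hsc b b.2)
      refine Subtype.ext (Subtype.ext ?_)
      rw [← hc, ← hc']
      congr 1
      refine Units.ext ?_
      simpa [toF, ← hc, ← hc'] using hab
    have hcardR2 : Nat.card R = z * r ^ (2 * k) := by
      rw [hcardR, hcard', hk, ← pow_mul, mul_comm k]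
    by_cases hok : (Odd r ∧ Odd f) ∨ (r = 2 ∧ f = 1)
    · refine Or.inr (Or.inr (Or.inr (Or.inr ⟨r, R, ⟨hsymp, hsR.absIrred, p, f, hrp, hfield, ?_⟩,
        ⟨k, hk1, hk.symm⟩, hnR.le_normalizer⟩)))
      rcases hok with ⟨hodd, hfodd⟩ | ⟨h2, hf1⟩
      · refine Or.inl ⟨hodd, hfodd, ?_, k, hk1, ?_⟩
        · rcases hzcases with ⟨-, hz'⟩ | ⟨h2, -⟩
          · rw [hzc, hz']
          · subst h2; exact absurd hodd (by decide)
        · rcases hzcases with ⟨-, hz'⟩ | ⟨h2, -⟩
          · rw [hcardR2, hz', pow_add, pow_one]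
          · subst h2; exact absurd hodd (by decide)
      · have hz4 : z = 4 := by rw [hze, he, hd, h2]; rfl
        refine Or.inr (Or.inl ⟨h2, hf1, hzc.trans hz4, ?_, k, ?_⟩)
        · rw [hk, h2]
          calc 4 = 2 ^ 2 := rfl
            _ ≤ 2 ^ k := by
              refine Nat.pow_le_pow_right two_pos ?_
              by_contra hlt
              have hk1' : k = 1 := by omega
              rw [hk1', h2, pow_one] at hk
              omega
        · rw [hcardR2, hz4, h2, pow_add]; rfl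
    -- a unitary form
    have hσex : ∃ (i : ℕ), i + i = f ∧ ∀ ζ : F, ζ ^ e = 1 → ζ ^ p ^ i * ζ = 1 := by
      rcases hzcases with ⟨hodd, hzr⟩ | ⟨h2, hz' | hz'⟩
      · obtain ⟨i, hi⟩ : Even f := by
          by_contra hne
          exact hok (Or.inl ⟨hodd, Nat.not_even_iff_odd.mp hne⟩)
        refine ⟨i, hi.symm, fun ζ hζ => ?_⟩
        have hdiv : r ∣ p ^ i + 1 := by
          have h1 : r ∣ (p ^ i + 1) * (p ^ i - 1) := by
            have hsq : (p ^ i + 1) * (p ^ i - 1) = p ^ f - 1 := by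
              rw [← Nat.sq_sub_sq, one_pow, ← pow_mul, hi]; congr 2; ring
            rw [hsq, ← hzr]; exact hzq
          refine (hr.dvd_mul.mp h1).resolve_right fun h => ?_
          exact hmin' i (by omega) (by omega) (hzr ▸ h)
        obtain ⟨m, hm⟩ := hdiv
        rw [← pow_succ, hm, pow_mul, ← hzr, hroot_z ζ hζ, one_pow]
      · exact absurd ⟨h2, hz'⟩ h22
      · have hf1 : f ≠ 1 := fun h1 => hok (Or.inr ⟨h2, h1⟩)
        have h4 : ¬ 4 ∣ p ^ 1 - 1 := hz' ▸ hmin' 1 one_pos (by omega)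
        have hpodd : p % 2 = 1 := hp.eq_two_or_odd.resolve_left fun h => hrp (h2.trans h.symm)
        rw [pow_one] at h4
        have h4' : 4 ∣ p + 1 := by omega
        have hf2 : f = 2 := by
          by_contra hne
          refine hmin' 2 two_pos (by omega) ?_
          rw [hz']
          have hsq : p ^ 2 - 1 = (p + 1) * (p - 1) := by rw [← Nat.sq_sub_sq, one_pow]
          rw [hsq]
          exact Dvd.dvd.mul_right h4' _
        refine ⟨1, hf2.symm, fun ζ hζ => ?_⟩
        obtain ⟨m, hm⟩ := h4'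
        rw [pow_one, ← pow_succ, hm, pow_mul, ← hz', hroot_z ζ hζ, one_pow]
    obtain ⟨i, hi, hσ⟩ := hσex
    let σ : F ≃+* F := RingEquiv.ofBijective (iterateFrobenius F p i)
      (Finite.injective_iff_bijective.mp (iterateFrobenius F p i).injective)
    have hσa : ∀ a, σ a = a ^ p ^ i := fun a => iterateFrobenius_def p i a
    have hσne : σ ≠ RingEquiv.refl F := by
      intro h0
      obtain ⟨g₀, hg₀⟩ := IsCyclic.exists_ofOrder_eq_natCard (α := Fˣ)
      have h1 : (g₀ : F) ^ p ^ i = g₀ := by rw [← hσa, h0]; rfl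
      have hpos : 1 ≤ p ^ i := Nat.one_le_pow _ _ hp.pos
      have h3 : g₀ ^ (p ^ i - 1) = 1 := by
        refine Units.ext (mul_right_cancel₀ g₀.ne_zero ?_)
        rw [Units.val_pow_eq_pow_val, ← pow_succ, Nat.sub_add_cancel hpos, h1, Units.val_one, one_mul]
      have h2 : Nat.card Fˣ ∣ p ^ i - 1 := hg₀ ▸ orderOf_dvd_of_pow_eq_one h3
      rw [hq] at h2
      exact hmin' i (by omega) (by omega) (hzq.trans h2)
    rcases hD'.exists_form hnR σ (fun a => by rw [hσa, hσa, ← pow_mul, ← pow_add, hi, ← hcard, FiniteField.pow_card])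
        (fun ζ hζ => by rw [hσa]; exact hσ ζ hζ) (fun h => absurd h hσne) with h | h | h
    · exact Or.inl h
    · exact Or.inr (Or.inl h)
    · exact Or.inr (Or.inr (Or.inl h))
  · -- not minimal: realisable over a subfield
    push_neg at hmin'
    obtain ⟨i, hi0, hif, hzi⟩ := hmin'
    have hpos : 1 ≤ p ^ i := Nat.one_le_pow _ _ hp.pos
    have hne : powFixed (F := F) p i ≠ ⊤ := by
      intro h0
      obtain ⟨g₀, hg₀⟩ := IsCyclic.exists_ofOrder_eq_natCard (α := Fˣ)
      have h1 : (g₀ : F) ^ p ^ i = g₀ := mem_powFixed.mp (h0 ▸ Subfield.mem_top _)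
      have h3 : g₀ ^ (p ^ i - 1) = 1 := by
        refine Units.ext (mul_right_cancel₀ g₀.ne_zero ?_)
        rw [Units.val_pow_eq_pow_val, ← pow_succ, Nat.sub_add_cancel hpos, h1, Units.val_one, one_mul]
      have h2 : Nat.card Fˣ ∣ p ^ i - 1 := hg₀ ▸ orderOf_dvd_of_pow_eq_one h3
      have hlt : p ^ i < p ^ f := Nat.pow_lt_pow_right hp.one_lt hif
      have : 1 < p ^ i := Nat.one_lt_pow hi0.ne' hp.one_lt
      have := Nat.le_of_dvd (by omega) (hq ▸ h2)
      omega
    refine Or.inr (Or.inr (Or.inr (Or.inl (inSubfield_of_realisable hsR hnR hne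
      (hD'.realisable (hze ▸ Nat.gcd_dvd_left _ _) he0 fun ζ hζ => ?_)))))
    rw [mem_powFixed]
    obtain ⟨m, hm⟩ := hzi
    calc ζ ^ p ^ i = ζ ^ (p ^ i - 1) * ζ := by rw [← pow_succ, Nat.sub_add_cancel hpos]
      _ = ζ := by rw [hm, pow_mul, hroot_z ζ hζ, one_pow, one_mul]

end CfsgLib.Asch
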