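import Cfsg.Prelude.Def_GeometricClasses

/-!
# Basic vocabulary for the subgroup-structure theorem of finite linear groups
-/

set_option autoImplicit false

namespace CfsgLib.Asch

open Matrix Cfsg.Geo
open scoped MatrixGroups

variable {ι : Type} [Fintype ι] [DecidableEq ι] {F : Type*} [Field F]

/-- `G` normalises `N`, elementwise. -/
def Norms (G N : Subgroup (GL ι F)) : Prop := ∀ g ∈ G, ∀ x ∈ N, g * x * g⁻¹ ∈ N

/-- the matrices in `S` span the full matrix space -/
def Spans (S : Set (Matrix ι ι F)) : Prop := Submodule.span F S = ⊤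

/-- `M` is a scalar matrix -/
def IsScalarMat (M : Matrix ι ι F) : Prop := ∃ c : F, M = c • (1 : Matrix ι ι F)

/-- the matrix algebra generated by a subgroup -/
def alg (N : Subgroup (GL ι F)) : Subalgebra F (Matrix ι ι F) := Algebra.adjoin F (matrixSet N)

omit [Fintype ι] [DecidableEq ι] in
lemma mem_span_image_induction {S : Set (Matrix ι ι F)} (q : Matrix ι ι F → Prop)
    (h : ∀ s ∈ S, q s) (h0 : q 0) (ha : ∀ x y, q x → q y → q (x + y))
    (hs : ∀ (c : F) x, q x → q (c • x)) {M : Matrix ι ι F} (hM : M ∈ Submodule.span F S) : q M := by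
  induction hM using Submodule.span_induction with
  | mem x hx => exact h x hx
  | zero => exact h0
  | add x y _ _ hx hy => exact ha x y hx hy
  | smul c x _ hx => exact hs c x hx

lemma mem_matrixSet {N : Subgroup (GL ι F)} {M : Matrix ι ι F} :
    M ∈ matrixSet N ↔ ∃ g ∈ N, (g : Matrix ι ι F) = M := Iff.rfl

lemma coe_mem_matrixSet {N : Subgroup (GL ι F)} {g : GL ι F} (hg : g ∈ N) :
    (g : Matrix ι ι F) ∈ matrixSet N := ⟨g, hg, rfl⟩

lemma alg_toSubmodule (N : Subgroup (GL ι F)) :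
    Subalgebra.toSubmodule (alg N) = Submodule.span F (matrixSet N) := by
  have h : (Submonoid.closure (matrixSet N) : Set (Matrix ι ι F)) = matrixSet N := by
    refine Set.Subset.antisymm ?_ Submonoid.subset_closure
    intro x hx
    induction hx using Submonoid.closure_induction with
    | mem x hx => exact hx
    | one => exact ⟨1, N.one_mem, rfl⟩
    | mul x y _ _ hx hy =>
      obtain ⟨a, ha, rfl⟩ := hx
      obtain ⟨b, hb, rfl⟩ := hy
      exact ⟨a * b, N.mul_mem ha hb, rfl⟩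
  rw [alg, Algebra.adjoin_eq_span, h]

lemma mem_alg {N : Subgroup (GL ι F)} {M : Matrix ι ι F} :
    M ∈ alg N ↔ M ∈ Submodule.span F (matrixSet N) := by
  rw [← alg_toSubmodule]; rfl

lemma coe_mem_alg {N : Subgroup (GL ι F)} {g : GL ι F} (hg : g ∈ N) :
    (g : Matrix ι ι F) ∈ alg N := Algebra.subset_adjoin (coe_mem_matrixSet hg)

lemma alg_induction {N : Subgroup (GL ι F)} (q : Matrix ι ι F → Prop)
    (h : ∀ g ∈ N, q (g : Matrix ι ι F)) (h0 : q 0) (ha : ∀ x y, q x → q y → q (x + y))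
    (hs : ∀ (c : F) x, q x → q (c • x)) {M : Matrix ι ι F} (hM : M ∈ alg N) : q M := by
  refine mem_span_image_induction q ?_ h0 ha hs (mem_alg.mp hM)
  rintro _ ⟨g, hg, rfl⟩
  exact h g hg

lemma alg_mono {N N' : Subgroup (GL ι F)} (h : N ≤ N') : alg N ≤ alg N' :=
  Algebra.adjoin_mono (Set.image_mono h)

/-- conjugation of a matrix by an invertible one -/
def cj (g : GL ι F) (M : Matrix ι ι F) : Matrix ι ι F :=
  (g : Matrix ι ι F) * M * ((g⁻¹ : GL ι F) : Matrix ι ι F)

@[simp] lemma cj_mul (g : GL ι F) (M M' : Matrix ι ι F) : cj g (M * M') = cj g M * cj g M' := by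
  simp [cj, mul_assoc]

@[simp] lemma cj_add (g : GL ι F) (M M' : Matrix ι ι F) : cj g (M + M') = cj g M + cj g M' := by
  simp [cj, mul_add, add_mul]

@[simp] lemma cj_smul (g : GL ι F) (c : F) (M : Matrix ι ι F) : cj g (c • M) = c • cj g M := by
  simp [cj]

@[simp] lemma cj_zero (g : GL ι F) : cj g (0 : Matrix ι ι F) = 0 := by simp [cj]

@[simp] lemma cj_one (g : GL ι F) : cj g (1 : Matrix ι ι F) = 1 := by simp [cj]

lemma cj_coe (g h : GL ι F) : cj g (h : Matrix ι ι F) = ((g * h * g⁻¹ : GL ι F) : Matrix ι ι F) := by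
  simp [cj]

lemma cj_cj (g h : GL ι F) (M : Matrix ι ι F) : cj g (cj h M) = cj (g * h) M := by
  simp [cj, mul_assoc]

@[simp] lemma cj_one_left (M : Matrix ι ι F) : cj 1 M = M := by simp [cj]

lemma cj_pow (g : GL ι F) (M : Matrix ι ι F) (k : ℕ) : cj g (M ^ k) = cj g M ^ k := by
  induction k with
  | zero => simp
  | succ k ih => simp [pow_succ, ih]

lemma cj_injective (g : GL ι F) : Function.Injective (cj (F := F) g) := fun M M' h => by
  simpa [cj_cj] using congrArg (cj g⁻¹) h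

lemma cj_mulVec (g : GL ι F) (M : Matrix ι ι F) (v : ι → F) :
    cj g M *ᵥ ((g : Matrix ι ι F) *ᵥ v) = (g : Matrix ι ι F) *ᵥ (M *ᵥ v) := by
  simp [cj, mulVec_mulVec, mul_assoc]

lemma cj_eq_iff_commute {g : GL ι F} {M : Matrix ι ι F} :
    cj g M = M ↔ (g : Matrix ι ι F) * M = M * (g : Matrix ι ι F) := by
  constructor
  · intro h
    conv_rhs => rw [← h]
    simp [cj, mul_assoc]
  · intro h
    simp [cj, h, mul_assoc]

lemma cj_mem_alg {G N : Subgroup (GL ι F)} (hn : Norms G N) {g : GL ι F} (hg : g ∈ G)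
    {M : Matrix ι ι F} (hM : M ∈ alg N) : cj g M ∈ alg N := by
  refine alg_induction (fun M => cj g M ∈ alg N) ?_ ?_ ?_ ?_ hM
  · intro x hx
    rw [cj_coe]
    exact coe_mem_alg (hn g hg x hx)
  · simp
  · intro x y hx hy
    simpa using add_mem hx hy
  · intro c x hx
    simpa using Subalgebra.smul_mem _ hx c

lemma commute_alg {N : Subgroup (GL ι F)} {X M : Matrix ι ι F}
    (h : ∀ g ∈ N, X * (g : Matrix ι ι F) = (g : Matrix ι ι F) * X) (hM : M ∈ alg N) :
    X * M = M * X := by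
  refine alg_induction (fun M => X * M = M * X) h (by simp) ?_ ?_ hM
  · intro x y hx hy; simp [mul_add, add_mul, hx, hy]
  · intro c x hx; simp [hx]

lemma mem_subspaceStabilizer {W : Submodule F (ι → F)} {g : GL ι F} :
    g ∈ subspaceStabilizer W ↔ ∀ v, v ∈ W ↔ (g : Matrix ι ι F) *ᵥ v ∈ W := Iff.rfl

lemma le_subspaceStabilizer {G : Subgroup (GL ι F)} {W : Submodule F (ι → F)}
    (h : ∀ g ∈ G, ∀ w ∈ W, (g : Matrix ι ι F) *ᵥ w ∈ W) : G ≤ subspaceStabilizer W := by
  intro g hg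
  refine mem_subspaceStabilizer.mpr fun v => ⟨h g hg v, fun hv => ?_⟩
  have := h g⁻¹ (G.inv_mem hg) _ hv
  simpa [mulVec_mulVec] using this

lemma map_le_iff_mulVec {W : Submodule F (ι → F)} {s : Matrix ι ι F} :
    W.map (Matrix.toLin' s) ≤ W ↔ ∀ w ∈ W, s *ᵥ w ∈ W := by
  constructor
  · intro h w hw
    exact h ⟨w, hw, Matrix.toLin'_apply s w⟩
  · rintro h _ ⟨w, hw, rfl⟩
    rw [Matrix.toLin'_apply]
    exact h w hw

lemma irred_apply {G : Subgroup (GL ι F)} (hG : ActsIrreducibly (matrixSet G))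
    {W : Submodule F (ι → F)} (h : ∀ g ∈ G, ∀ w ∈ W, (g : Matrix ι ι F) *ᵥ w ∈ W) :
    W = ⊥ ∨ W = ⊤ := by
  refine hG W ?_
  rintro _ ⟨g, hg, rfl⟩
  exact map_le_iff_mulVec.mpr (h g hg)

/-- either irreducible, or contained in the stabiliser of a proper non-zero subspace -/
lemma irred_or_subspace (G : Subgroup (GL ι F)) :
    ActsIrreducibly (matrixSet G) ∨
      ∃ W : Submodule F (ι → F), W ≠ ⊥ ∧ W ≠ ⊤ ∧ G ≤ subspaceStabilizer W := by
  refine or_iff_not_imp_left.mpr fun h => ?_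
  simp only [ActsIrreducibly, not_forall, not_or] at h
  obtain ⟨W, hW, h1, h2⟩ := h
  exact ⟨W, h1, h2, le_subspaceStabilizer fun g hg =>
    map_le_iff_mulVec.mp (hW _ (coe_mem_matrixSet hg))⟩

lemma isScalarMat_of_commute_all {X : Matrix ι ι F} (h : ∀ M : Matrix ι ι F, X * M = M * X) :
    IsScalarMat X := by
  obtain ⟨c, hc⟩ := Matrix.mem_range_scalar_of_commute_single (M := X)
    (fun i j _ => (h (Matrix.single i j 1)).symm)
  exact ⟨c, by rw [← hc]; simp [Matrix.smul_one_eq_diagonal]⟩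

lemma IsScalarMat.commute {X : Matrix ι ι F} (h : IsScalarMat X) (M : Matrix ι ι F) :
    X * M = M * X := by
  obtain ⟨c, rfl⟩ := h
  simp

lemma mem_scalars_iff_isScalarMat {g : GL ι F} :
    g ∈ scalars ι F ↔ IsScalarMat (g : Matrix ι ι F) := by
  rw [mem_scalars_iff]
  refine ⟨fun ⟨c, hc⟩ => ⟨c, hc⟩, fun ⟨c, hc⟩ => ?_⟩
  rcases isEmpty_or_nonempty ι with hι | hι
  · exact ⟨1, Subsingleton.elim _ _⟩
  · have h0 : c ≠ 0 := by
      rintro rfl
      rw [zero_smul] at hc
      have h1 := g.mul_inv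
      rw [hc, zero_mul] at h1
      exact zero_ne_one h1
    exact ⟨Units.mk0 c h0, hc⟩

lemma scalar_commute {z : GL ι F} (hz : z ∈ scalars ι F) (g : GL ι F) : z * g = g * z :=
  Units.ext (by simpa using (mem_scalars_iff_isScalarMat.mp hz).commute (g : Matrix ι ι F))

lemma Spans.mem_alg {N : Subgroup (GL ι F)} (h : Spans (matrixSet N)) (M : Matrix ι ι F) :
    M ∈ alg N := CfsgLib.Asch.mem_alg.mpr (h ▸ Submodule.mem_top)

lemma spans_of_alg_eq_top {N : Subgroup (GL ι F)} (h : ∀ M, M ∈ alg N) :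
    Spans (matrixSet N) :=
  eq_top_iff.mpr fun M _ => CfsgLib.Asch.mem_alg.mp (h M)

lemma Spans.scalar_of_commute {N : Subgroup (GL ι F)} (h : Spans (matrixSet N)) {X : Matrix ι ι F}
    (hX : ∀ g ∈ N, X * (g : Matrix ι ι F) = (g : Matrix ι ι F) * X) : IsScalarMat X :=
  isScalarMat_of_commute_all fun M => commute_alg hX (h.mem_alg M)

lemma Spans.mem_scalars_of_commute {N : Subgroup (GL ι F)} (h : Spans (matrixSet N)) {g : GL ι F}
    (hg : ∀ x ∈ N, g * x = x * g) : g ∈ scalars ι F :=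
  mem_scalars_iff_isScalarMat.mpr <| h.scalar_of_commute fun x hx => by
    simpa using congrArg Units.val (hg x hx)

lemma Spans.irred {S : Set (Matrix ι ι F)} (h : Spans S) : ActsIrreducibly S := by
  intro W hW
  refine or_iff_not_imp_left.mpr fun hb => ?_
  obtain ⟨w, hw, hw0⟩ := (Submodule.ne_bot_iff W).mp hb
  obtain ⟨i, hi⟩ : ∃ i, w i ≠ 0 := Function.ne_iff.mp hw0
  have hall : ∀ M : Matrix ι ι F, ∀ v ∈ W, M *ᵥ v ∈ W := by
    intro M
    refine mem_span_image_induction (fun M => ∀ v ∈ W, M *ᵥ v ∈ W) ?_ ?_ ?_ ?_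
      (h ▸ Submodule.mem_top : M ∈ Submodule.span F S)
    · intro s hs; exact map_le_iff_mulVec.mp (hW s hs)
    · intro v _; simp
    · intro x y hx hy v hv; simpa [add_mulVec] using add_mem (hx v hv) (hy v hv)
    · intro c x hx v hv; simpa [smul_mulVec] using W.smul_mem c (hx v hv)
  refine eq_top_iff.mpr fun v _ => ?_
  have : vecMulVec v (Pi.single i (w i)⁻¹) *ᵥ w = v := by
    rw [vecMulVec_mulVec]; simp [hi]
  exact this ▸ hall _ w hw

lemma Spans.absIrred {N : Subgroup (GL ι F)} (h : Spans (matrixSet N)) :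
    ActsAbsolutelyIrreducibly (matrixSet N) :=
  ⟨h.irred, fun _ hM => h.scalar_of_commute fun g hg => hM _ (coe_mem_matrixSet hg)⟩

lemma Norms.mono {G G' N : Subgroup (GL ι F)} (h : Norms G N) (hle : G' ≤ G) : Norms G' N :=
  fun g hg => h g (hle hg)

lemma Norms.le_normalizer {G N : Subgroup (GL ι F)} (h : Norms G N) :
    G ≤ subgroupNormalizer N := by
  intro g hg
  refine Subgroup.mem_normalizer_iff.mpr fun x => ⟨h g hg x, fun hx => ?_⟩
  have := h g⁻¹ (G.inv_mem hg) _ hx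
  simpa [mul_assoc] using this

lemma Norms.commutatorLeft {G N : Subgroup (GL ι F)} (h : Norms G N) : Norms G ⁅N, N⁆ := by
  intro g hg x hx
  have hmap : N.map (MulAut.conj g).toMonoidHom ≤ N := by
    rintro _ ⟨y, hy, rfl⟩
    exact h g hg y hy
  have h2 : (⁅N, N⁆).map (MulAut.conj g).toMonoidHom ≤ ⁅N, N⁆ := by
    rw [Subgroup.map_commutator]
    exact Subgroup.commutator_mono hmap hmap
  exact h2 ⟨x, hx, rfl⟩

end CfsgLib.Asch
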