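import Cfsg.Agent.Lib.Aschbacher.Small

/-!
# Maximal subgroups of the special linear groups
-/

set_option autoImplicit false

namespace CfsgLib.Asch

open Matrix Cfsg.Geo
open scoped MatrixGroups

variable {n : ℕ} {F : Type*} [Field F] [Fintype F]

lemma max_eq {H M : Subgroup (GL (Fin n) F)} (hH : IsMaximalIn (specialLinear (Fin n) F) H) (h : H ≤ M)
    (hns : ¬ specialLinear (Fin n) F ≤ M) : H = M ⊓ specialLinear (Fin n) F :=
  ((hH.2 _ (le_inf h hH.1.le) inf_le_right).resolve_right fun e => hns (e.ge.trans inf_le_left)).symm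

/-- the possible geometric types of a maximal subgroup of the special linear group -/
inductive LinType (H : Subgroup (GL (Fin n) F)) : Prop
  | subspace (W : Submodule F (Fin n → F)) (h0 : W ≠ ⊥) (h1 : W ≠ ⊤)
      (he : H = subspaceStabilizer W ⊓ specialLinear (Fin n) F)
  | imprim (t m : ℕ) (D : Fin t → Submodule F (Fin n → F)) (hD : IsMDecomposition m D) (htm : t * m = n)
      (h1 : m = 1 → 5 ≤ Fintype.card F) (h2 : m = 2 → 3 ≤ Fintype.card F)
      (h4 : m = 2 → n = 4 → 4 ≤ Fintype.card F) (he : H = decompositionStabilizer D ⊓ specialLinear (Fin n) F)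
  | extField (r : ℕ) (K : Subalgebra F (Matrix (Fin n) (Fin n) F)) (hr : r.Prime) (hK : IsFieldSubalgebra r K)
      (hrn : r ∣ n) (he : H = subalgebraNormalizer K ⊓ specialLinear (Fin n) F)
  | tensor (a b : ℕ) (e : Fin n ≃ Fin a × Fin b) (P : GL (Fin n) F) (ha : 2 ≤ a) (hab : a < b) (hn : a * b = n)
      (h2 : a = 2 → 3 ≤ Fintype.card F) (he : H = tensorProductSubgroup a b e P ⊓ specialLinear (Fin n) F)
  | subfield (F₀ : Subfield F) (r : ℕ) (P : GL (Fin n) F) (hr : r.Prime)
      (hc : Fintype.card F = Nat.card F₀ ^ r) (he : H = subfieldSubgroup F₀ P ⊓ specialLinear (Fin n) F)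
  | sympType (r k : ℕ) (R : Subgroup (GL (Fin n) F)) (hR : IsLinearSymplecticTypeData r R) (hk : 1 ≤ k)
      (hrk : r ^ k = n) (he : H = subgroupNormalizer R ⊓ specialLinear (Fin n) F)
  | wreath (m t : ℕ) (e : Fin n ≃ (Fin t → Fin m)) (P : GL (Fin n) F) (hm : 3 ≤ m) (ht : 2 ≤ t) (hn : m ^ t = n)
      (he : H = tensorWreathSubgroup m t e P ⊓ specialLinear (Fin n) F)
  | quad (Q : (Fin n → F) → F) (hQ : IsNondegenerateQuadraticForm Q) (ho : Odd (Fintype.card F))
      (he : H = quadSimilarityGroup Q ⊓ specialLinear (Fin n) F)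
  | symp (f : (Fin n → F) → (Fin n → F) → F) (hf : IsSymplecticForm f) (hn : Even n)
      (he : H = similarityGroup f ⊓ specialLinear (Fin n) F)
  | unit (σ : F ≃+* F) (f : (Fin n → F) → (Fin n → F) → F) (hf : IsUnitaryForm σ f)
      (he : H = similarityGroup f ⊓ specialLinear (Fin n) F)
  | residual (h : InLinearResidualClass H)

variable {H G : Subgroup (GL (Fin n) F)} (hn : 3 ≤ n) (hH : IsMaximalIn (specialLinear (Fin n) F) H) (hle : H ≤ G)
include hn hH hle

lemma LinType.of_subspace (h : InSubspace G) : LinType H := by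
  obtain ⟨W, h0, h1, h⟩ := h
  exact .subspace W h0 h1 (max_eq hH (hle.trans h) (sl_not_le_subspace (by simp; omega) h0 h1))

lemma LinType.of_quad (h : InQuad G) : LinType H := by
  obtain ⟨Q, hQ, ho, h⟩ := h
  exact .quad Q hQ ho (max_eq hH (hle.trans h) (sl_not_le_quadSimilarity (by simpa using hn) hQ))

lemma LinType.of_symp (h : InSymp G) : LinType H := by
  obtain ⟨f, hf, he, h⟩ := h
  exact .symp f hf (by simpa using he)
    (max_eq hH (hle.trans h) (sl_not_le_similarity (by simpa using hn) hf.bilinear.add_left hf.nondegenerate))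

lemma LinType.of_unit (h : InUnit G) : LinType H := by
  obtain ⟨σ, f, hf, h⟩ := h
  exact .unit σ f hf
    (max_eq hH (hle.trans h) (sl_not_le_similarity (by simpa using hn) hf.add_left hf.nondegenerate))

lemma LinType.of_extField (h : InExtField G) : LinType H := by
  obtain ⟨r, K, hr, hK, hrn, h⟩ := h
  exact .extField r K hr hK (by simpa using hrn)
    (max_eq hH (hle.trans h) (sl_not_le_extField (by simpa using hn) hr.two_le hK))

lemma LinType.of_subfield (h : InSubfield G) : LinType H := by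
  obtain ⟨F₀, r, P, hr, hc, h⟩ := h
  refine .subfield F₀ r P hr hc (max_eq hH (hle.trans h) (sl_not_le_subfield (by simp; omega) ?_ P))
  rintro rfl
  have h1 : Nat.card (⊤ : Subfield F) = Fintype.card F := by
    rw [Nat.card_congr (Subfield.topEquiv (K := F)).toEquiv, Nat.card_eq_fintype_card]
  rw [h1] at hc
  have h2 : 1 < Fintype.card F := Fintype.one_lt_card
  have h4 := Nat.pow_lt_pow_right h2 hr.one_lt
  rw [pow_one, ← hc] at h4
  exact lt_irrefl _ h4

omit hle

/-- every maximal subgroup of the special linear group is of one of the types -/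
theorem linType_of_maximal : LinType H := by
  classical
  have hq : 2 ≤ Fintype.card F := Fintype.one_lt_card
  have hle : H ≤ H ⊔ scalars (Fin n) F := le_sup_left
  rcases linear_cases' (ι := Fin n) (by simpa using hn) H with
    h | ⟨t, m, D, hD, htm, h⟩ | h | ⟨a, b, e, P, ha, hab, habn, h⟩ | h | ⟨r, R, hR, ⟨k, hk, hrk⟩, h⟩ |
      ⟨m, t, e, P, hm, ht, hmt, h⟩ | h | h | h | h
  · exact .of_subspace hn hH hle h
  · have h' : H ≤ decompositionStabilizer D := hle.trans h
    by_cases hm1 : m = 1 ∧ Fintype.card F < 5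
    · obtain ⟨rfl, hlt⟩ := hm1
      obtain hq' | hq' | hq' : Fintype.card F = 2 ∨ Fintype.card F = 3 ∨ Fintype.card F = 4 := by omega
      · exact .of_subspace hn hH h' (inSubspace_of_lines hq' (by simp; omega) hD)
      · exact .of_quad hn hH h' (inQuad_of_lines hq' hD)
      · exact .of_unit hn hH h' (inUnit_of_lines hq' hD)
    by_cases hm2 : m = 2 ∧ Fintype.card F = 2
    · obtain ⟨rfl, hq'⟩ := hm2
      exact .of_symp hn hH h' (inSymp_of_planes_two hq' hD)
    by_cases hm4 : m = 2 ∧ n = 4 ∧ Fintype.card F = 3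
    · obtain ⟨rfl, hn4, hq'⟩ := hm4
      obtain rfl : t = 2 := by simp [hn4] at htm; omega
      refine .of_symp hn hH (le_inf h' hH.1.le) (inSymp_of_planes_three hq' (by simpa using hn4) hD
        (fun g hg => ⟨hg.1, det_mem_sl.mp hg.2⟩))
    refine .imprim t m D hD (by simpa using htm) ?_ ?_ ?_ (max_eq hH h' (sl_not_le_decomposition hD))
    · intro h1; by_contra hc; exact hm1 ⟨h1, by omega⟩
    · intro h1; by_contra hc; exact hm2 ⟨h1, by omega⟩
    · intro h1 h2
      by_contra hc
      by_cases hq2 : Fintype.card F = 2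
      · exact hm2 ⟨h1, hq2⟩
      · exact hm4 ⟨h1, h2, by omega⟩
  · exact .of_extField hn hH hle h
  · by_cases ha2 : a = 2 ∧ Fintype.card F = 2
    · obtain ⟨rfl, hq'⟩ := ha2
      exact .of_extField hn hH (hle.trans h) (inExtField_of_tensor_two hq' (by omega) e P)
    refine .tensor a b e P ha hab (by simpa using habn) (fun h1 => ?_)
      (max_eq hH (hle.trans h) (sl_not_le_tensor ha (by omega) e P))
    by_contra hc
    exact ha2 ⟨h1, by omega⟩
  · exact .of_subfield hn hH hle h
  · exact .sympType r k R hR hk (by simpa using hrk)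
      (max_eq hH (hle.trans h) (sl_not_le_normalizer (by simpa using hn) hR))
  · exact .wreath m t e P hm ht (by simpa using hmt) (max_eq hH (hle.trans h) (sl_not_le_wreath hm ht e P))
  · exact .of_quad hn hH hle h
  · exact .of_symp hn hH hle h
  · exact .of_unit hn hH hle h
  · exact .residual h

omit hn hH

/-- congruences forced by the symplectic-type data -/
theorem sympType_congr {ι : Type} [Fintype ι] [DecidableEq ι] {r : ℕ} {R : Subgroup (GL ι F)}
    (hR : IsLinearSymplecticTypeData r R) (hι : Fintype.card ι ≠ 2) :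
    ∃ p e : ℕ, p.Prime ∧ CharP F p ∧ Fintype.card F = p ^ e ∧
      ((Odd r ∧ Odd e ∧ e < r ∧ p % r ≠ 0 ∧ (p % r) ^ e % r = 1 ∧ ∀ d, 0 < d → d < e → (p % r) ^ d % r ≠ 1) ∨
       (r = 2 ∧ e = 1 ∧ p % 4 = 1)) := by
  obtain ⟨p, e, hrp, ⟨hp, hchar, hcard, hz, hmin⟩, h⟩ := hR.field
  refine ⟨p, e, hp, hchar, hcard, ?_⟩
  have hr := hR.symplecticType.prime
  rcases h with ⟨hodd, he, hcen, -⟩ | ⟨h2, he, hcen, -, -⟩ | ⟨-, -, h2, -⟩
  · left
    rw [hcen] at hz hmin
    haveI := Fact.mk hr
    have hiff : ∀ d, (r ∣ p ^ d - 1) ↔ (p % r) ^ d % r = 1 := fun d => by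
      rw [← Nat.pow_mod, ← Nat.modEq_iff_dvd' (Nat.one_le_pow _ _ hp.pos), Nat.ModEq, Nat.one_mod_eq_one.mpr
        hr.one_lt.ne', eq_comm]
    have hpr : p % r ≠ 0 := fun h0 =>
      hrp ((Nat.prime_dvd_prime_iff_eq hr hp).mp (Nat.dvd_of_mod_eq_zero h0))
    have hfermat : r ∣ p ^ (r - 1) - 1 := by
      rw [← Nat.modEq_iff_dvd' (Nat.one_le_pow _ _ hp.pos), ← ZMod.natCast_eq_natCast_iff]
      push_cast
      rw [ZMod.pow_card_sub_one_eq_one]
      intro h0
      rw [ZMod.natCast_eq_zero_iff] at h0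
      exact hpr (Nat.mod_eq_zero_of_dvd h0)
    refine ⟨hodd, he, ?_, hpr, (hiff e).mp hz, fun d hd hde => fun h1 => hmin d hd hde ((hiff d).mpr h1)⟩
    by_contra hc
    have := hr.two_le
    exact hmin (r - 1) (by omega) (by omega) hfermat
  · right
    rw [hcen, he, pow_one] at hz
    have := hp.two_le
    exact ⟨h2, he, by omega⟩
  · exact absurd h2 hι

end CfsgLib.Asch
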