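import Cfsg.Agent.Lib.Aschbacher.MatrixUnits

/-!
# The centre of the enveloping algebra of a normal subgroup of an irreducible group

No isotypic components are needed: the radical and the nilpotent central elements vanish by
irreducibility, central idempotents give imprimitivity systems, and the centre is then a field.
-/

set_option autoImplicit false

namespace CfsgLib.Asch

open Matrix Cfsg.Geo
open scoped MatrixGroups Kronecker

variable {ι : Type} [Fintype ι] [DecidableEq ι] {F : Type*} [Field F]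

/-- imprimitive: contained in the stabiliser of a direct sum decomposition -/
def InImprim (G : Subgroup (GL ι F)) : Prop :=
  ∃ (t m : ℕ) (D : Fin t → Submodule F (ι → F)), IsMDecomposition m D ∧
    t * m = Fintype.card ι ∧ G ≤ decompositionStabilizer D

/-- contained in the normaliser of a field extension of prime degree -/
def InExtField (G : Subgroup (GL ι F)) : Prop :=
  ∃ (r : ℕ) (K : Subalgebra F (Matrix ι ι F)), r.Prime ∧ IsFieldSubalgebra r K ∧
    r ∣ Fintype.card ι ∧ G ≤ subalgebraNormalizer K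

/-- the centre of `alg N` -/
def ctr (N : Subgroup (GL ι F)) : Subalgebra F (Matrix ι ι F) :=
  alg N ⊓ Subalgebra.centralizer F (matrixSet N)

lemma mem_ctr {N : Subgroup (GL ι F)} {z : Matrix ι ι F} :
    z ∈ ctr N ↔ z ∈ alg N ∧ ∀ g ∈ N, z * (g : Matrix ι ι F) = (g : Matrix ι ι F) * z := by
  simp only [ctr, Algebra.mem_inf, Subalgebra.mem_centralizer_iff, matrixSet, Set.forall_mem_image,
    SetLike.mem_coe]
  exact and_congr_right fun _ => ⟨fun h g hg => (h hg).symm, fun h g hg => (h g hg).symm⟩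

lemma ctr_commute {N : Subgroup (GL ι F)} {z M : Matrix ι ι F} (hz : z ∈ ctr N) (hM : M ∈ alg N) :
    z * M = M * z := commute_alg (mem_ctr.mp hz).2 hM

lemma ctr_comm {N : Subgroup (GL ι F)} {z z' : Matrix ι ι F} (hz : z ∈ ctr N) (hz' : z' ∈ ctr N) :
    z * z' = z' * z := ctr_commute hz (mem_ctr.mp hz').1

lemma cj_mem_ctr {G N : Subgroup (GL ι F)} (hn : Norms G N) {g : GL ι F} (hg : g ∈ G)
    {z : Matrix ι ι F} (hz : z ∈ ctr N) : cj g z ∈ ctr N := by
  refine mem_ctr.mpr ⟨cj_mem_alg hn hg (mem_ctr.mp hz).1, fun x hx => ?_⟩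
  have hy : g⁻¹ * x * g ∈ N := by simpa using hn g⁻¹ (G.inv_mem hg) x hx
  have : (x : Matrix ι ι F) = cj g ((g⁻¹ * x * g : GL ι F) : Matrix ι ι F) := by
    rw [cj_coe]; congr 1; group
  rw [this, ← cj_mul, ← cj_mul, (mem_ctr.mp hz).2 _ hy]

/-- an invariant set of matrices with a non-zero common kernel vanishes -/
lemma eq_zero_of_common_kernel {G : Subgroup (GL ι F)} (hG : ActsIrreducibly (matrixSet G))
    {S : Set (Matrix ι ι F)} (hinv : ∀ g ∈ G, ∀ s ∈ S, cj g s ∈ S)
    (hker : ∃ v : ι → F, v ≠ 0 ∧ ∀ s ∈ S, s *ᵥ v = 0) : ∀ s ∈ S, s = 0 := by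
  let W : Submodule F (ι → F) := ⨅ s ∈ S, LinearMap.ker (Matrix.toLin' s)
  have hW : ∀ v, v ∈ W ↔ ∀ s ∈ S, s *ᵥ v = 0 := fun v => by simp [W]
  obtain ⟨v, hv0, hv⟩ := hker
  have htop : W = ⊤ := by
    refine (irred_apply hG (W := W) fun g hg w hw => (hW _).mpr fun s hs => ?_).resolve_left ?_
    · have h1 := (hW w).mp hw _ (hinv g⁻¹ (G.inv_mem hg) s hs)
      have h2 := cj_mulVec g (cj g⁻¹ s) w
      rw [cj_cj, mul_inv_cancel, cj_one_left, h1, mulVec_zero] at h2
      exact h2
    · exact (Submodule.ne_bot_iff W).mpr ⟨v, (hW v).mpr hv, hv0⟩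
  intro s hs
  refine Matrix.ext_of_mulVec_single fun i => ?_
  rw [Matrix.zero_mulVec]
  exact (hW _).mp (htop ▸ Submodule.mem_top) s hs

lemma exists_common_kernel [Nonempty ι] (t : Finset (Matrix ι ι F))
    (hnil : ∀ s ∈ t, IsNilpotent s) (hcomm : ∀ s ∈ t, ∀ s' ∈ t, s * s' = s' * s) :
    ∃ v : ι → F, v ≠ 0 ∧ ∀ s ∈ t, s *ᵥ v = 0 := by
  classical
  induction t using Finset.induction with
  | empty => exact ⟨1, one_ne_zero, by simp⟩
  | @insert a t ha ih =>
    obtain ⟨v, hv0, hv⟩ := ih (fun s hs => hnil s (Finset.mem_insert_of_mem hs))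
      (fun s hs s' hs' => hcomm s (Finset.mem_insert_of_mem hs) s' (Finset.mem_insert_of_mem hs'))
    obtain ⟨N, hN⟩ := hnil a (Finset.mem_insert_self a t)
    have hex : ∃ i, a ^ i *ᵥ v = 0 := ⟨N, by simp [hN]⟩
    have hpos : Nat.find hex ≠ 0 := fun h => hv0 (by simpa [h] using Nat.find_spec hex)
    obtain ⟨i, hi⟩ := Nat.exists_eq_succ_of_ne_zero hpos
    refine ⟨a ^ i *ᵥ v, Nat.find_min hex (by omega), fun s hs => ?_⟩
    rcases Finset.mem_insert.mp hs with rfl | hs
    · rw [mulVec_mulVec, ← pow_succ', ← Nat.succ_eq_add_one, ← hi]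
      exact Nat.find_spec hex
    · have hc : Commute s a := hcomm s (Finset.mem_insert_of_mem hs) a (Finset.mem_insert_self a t)
      rw [mulVec_mulVec, (hc.pow_right i).eq, ← mulVec_mulVec, hv s hs, mulVec_zero]

/-- a commutative subalgebra normalised by `G` -/
structure InvComm (G : Subgroup (GL ι F)) (Z : Subalgebra F (Matrix ι ι F)) : Prop where
  comm : ∀ x ∈ Z, ∀ y ∈ Z, x * y = y * x
  cj_mem : ∀ g ∈ G, ∀ z ∈ Z, cj g z ∈ Z

lemma invComm_ctr {G N : Subgroup (GL ι F)} (hn : Norms G N) : InvComm G (ctr N) :=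
  ⟨fun _ hx _ hy => ctr_comm hx hy, fun _ hg _ hz => cj_mem_ctr hn hg hz⟩

/-- the idempotents of a subalgebra -/
def IdemIn (Z : Subalgebra F (Matrix ι ι F)) (f : Matrix ι ι F) : Prop := f ∈ Z ∧ f * f = f

lemma InvComm.cj_idem {G : Subgroup (GL ι F)} {Z : Subalgebra F (Matrix ι ι F)} (h : InvComm G Z)
    {g : GL ι F} (hg : g ∈ G) {f : Matrix ι ι F} (hf : IdemIn Z f) : IdemIn Z (cj g f) :=
  ⟨h.cj_mem g hg f hf.1, by rw [← cj_mul, hf.2]⟩

/-- an orbit of pairwise orthogonal idempotents summing to one, with the dimension of their ranges -/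
structure OrbitDecomp (G : Subgroup (GL ι F)) (e : Matrix ι ι F) where
  t : ℕ
  m : ℕ
  E : Fin t → Matrix ι ι F
  mem : ∀ i, ∃ g ∈ G, cj g e = E i
  exists_eq : ∀ g ∈ G, ∃ i, E i = cj g e
  inj : Function.Injective E
  orth : ∀ i j, i ≠ j → E i * E j = 0
  idem : ∀ i, E i * E i = E i
  sum : ∑ i, E i = 1
  rank : ∀ i, Module.finrank F (LinearMap.range (Matrix.toLin' (E i))) = m
  pos : 0 < m
  card : t * m = Fintype.card ι
  indep : iSupIndep fun i => LinearMap.range (Matrix.toLin' (E i))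
  top : ⨆ i, LinearMap.range (Matrix.toLin' (E i)) = ⊤
  le_stab : G ≤ decompositionStabilizer fun i => LinearMap.range (Matrix.toLin' (E i))

namespace OrbitDecomp

variable {G : Subgroup (GL ι F)} {e : Matrix ι ι F} (O : OrbitDecomp G e)

/-- the members of the decomposition -/
def space (i : Fin O.t) : Submodule F (ι → F) := LinearMap.range (Matrix.toLin' (O.E i))

lemma two_le (he : e ≠ 1) : 2 ≤ O.t := by
  obtain ⟨i, hi⟩ := O.exists_eq 1 G.one_mem
  rw [cj_one_left] at hi
  by_contra hlt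
  refine he ?_
  rw [← hi, ← O.sum, Finset.sum_eq_single i]
  · intro j _ hji
    exfalso
    exact hji (Fin.ext (by have := i.2; have := j.2; omega))
  · simp

lemma isMDecomposition (he : e ≠ 1) : IsMDecomposition O.m O.space :=
  ⟨O.two_le he, O.pos, O.rank, O.indep, O.top⟩

lemma mulVec_eq_self {i : Fin O.t} {v : ι → F} (hv : v ∈ O.space i) : O.E i *ᵥ v = v := by
  obtain ⟨u, rfl⟩ := hv
  rw [Matrix.toLin'_apply, mulVec_mulVec, O.idem]

end OrbitDecomp

variable [Finite F] [Nonempty ι]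

/-- an invariant commutative algebra is reduced -/
lemma InvComm.reduced {G : Subgroup (GL ι F)} {Z : Subalgebra F (Matrix ι ι F)} (h : InvComm G Z)
    (hG : ActsIrreducibly (matrixSet G)) {z : Matrix ι ι F} (hz : z ∈ Z) (hnil : IsNilpotent z) :
    z = 0 := by
  classical
  let S : Set (Matrix ι ι F) := {s | s ∈ Z ∧ IsNilpotent s}
  refine eq_zero_of_common_kernel hG (S := S) ?_ ?_ z ⟨hz, hnil⟩
  · rintro g hg s ⟨hs, k, hk⟩
    exact ⟨h.cj_mem g hg s hs, k, by rw [← cj_pow, hk, cj_zero]⟩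
  · obtain ⟨v, hv0, hv⟩ := exists_common_kernel (Set.toFinite S).toFinset
      (fun s hs => ((Set.Finite.mem_toFinset _).mp hs).2)
      (fun s hs s' hs' => h.comm _ ((Set.Finite.mem_toFinset _).mp hs).1 _
        ((Set.Finite.mem_toFinset _).mp hs').1)
    exact ⟨v, hv0, fun s hs => hv s ((Set.Finite.mem_toFinset _).mpr hs)⟩

/-- the centre is reduced -/
lemma ctr_reduced {G N : Subgroup (GL ι F)} (hG : ActsIrreducibly (matrixSet G)) (hn : Norms G N)
    {z : Matrix ι ι F} (hz : z ∈ ctr N) (hnil : IsNilpotent z) : z = 0 :=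
  (invComm_ctr hn).reduced hG hz hnil

/-- the central idempotents of `alg N` -/
def IsCIdem (N : Subgroup (GL ι F)) (f : Matrix ι ι F) : Prop := IdemIn (ctr N) f

omit [Finite F] in
/-- a minimal non-zero idempotent -/
lemma exists_atom (Z : Subalgebra F (Matrix ι ι F)) (hcomm : ∀ x ∈ Z, ∀ y ∈ Z, x * y = y * x) :
    ∃ e, IdemIn Z e ∧ e ≠ 0 ∧ ∀ f, IdemIn Z f → e * f = f → f = 0 ∨ f = e := by
  classical
  let rk : Matrix ι ι F → ℕ := fun f => Module.finrank F (LinearMap.range (Matrix.toLin' f))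
  have h : ∃ k, ∃ f, IdemIn Z f ∧ f ≠ 0 ∧ rk f = k :=
    ⟨_, 1, ⟨one_mem _, mul_one 1⟩, one_ne_zero, rfl⟩
  obtain ⟨e, he, he0, hr⟩ := Nat.find_spec h
  refine ⟨e, he, he0, fun f hf hef => or_iff_not_imp_left.mpr fun hf0 => ?_⟩
  have hle : LinearMap.range (Matrix.toLin' f) ≤ LinearMap.range (Matrix.toLin' e) := by
    rintro _ ⟨v, rfl⟩
    exact ⟨f *ᵥ v, by simp [Matrix.toLin'_apply, mulVec_mulVec, hef]⟩
  have hmin : rk e ≤ rk f := hr.trans_le (Nat.find_le ⟨f, hf, hf0, rfl⟩)
  have heq := Submodule.eq_of_le_of_finrank_le hle hmin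
  have hfe : f * e = e := by
    refine Matrix.ext_of_mulVec_single fun i => ?_
    have : e *ᵥ Pi.single i 1 ∈ LinearMap.range (Matrix.toLin' f) :=
      heq ▸ ⟨Pi.single i 1, Matrix.toLin'_apply _ _⟩
    obtain ⟨u, hu⟩ := this
    rw [← mulVec_mulVec, ← hu, Matrix.toLin'_apply, mulVec_mulVec, hf.2]
  rw [← hef, hcomm _ he.1 _ hf.1, hfe]

omit [Finite F] in
/-- the conjugates of an atom are equal or orthogonal -/
lemma InvComm.atom_orth {G : Subgroup (GL ι F)} {Z : Subalgebra F (Matrix ι ι F)} (h : InvComm G Z)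
    {e : Matrix ι ι F} (he : IdemIn Z e) (hmin : ∀ f, IdemIn Z f → e * f = f → f = 0 ∨ f = e)
    {g : GL ι F} (hg : g ∈ G) (hne : cj g e ≠ e) : e * cj g e = 0 := by
  have hf := h.cj_idem hg he
  have hc := h.comm _ he.1 _ hf.1
  have hi : IdemIn Z (e * cj g e) := ⟨mul_mem he.1 hf.1, by
    rw [mul_assoc e (cj g e), ← mul_assoc (cj g e) e, ← hc, mul_assoc e (cj g e), hf.2, ← mul_assoc, he.2]⟩
  rcases hmin _ hi (by rw [← mul_assoc, he.2]) with h0 | h1
  · exact h0
  -- then `e ≤ cj g e`, and minimality transported by `g` gives equality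
  exfalso
  have h2 : cj g e * e = e := by rw [← hc]; exact h1
  have h3 := congrArg (cj g⁻¹) h2
  rw [cj_mul, cj_cj, inv_mul_cancel, cj_one_left] at h3
  rcases hmin _ (h.cj_idem (G.inv_mem hg) he) h3 with h4 | h4
  · refine hne ?_
    have h5 : e = 0 := cj_injective g⁻¹ (h4.trans (cj_zero _).symm)
    rw [h5, cj_zero]
  · refine hne ?_
    calc cj g e = cj g (cj g⁻¹ e) := by rw [h4]
      _ = e := by rw [cj_cj, mul_inv_cancel, cj_one_left]

omit [Finite F] in
/-- the decomposition given by an orbit of orthogonal idempotents -/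
theorem exists_orbitDecomp [Finite F] {G : Subgroup (GL ι F)} (hG : ActsIrreducibly (matrixSet G))
    {e : Matrix ι ι F} (he0 : e ≠ 0) (he : e * e = e)
    (horth : ∀ g ∈ G, cj g e ≠ e → e * cj g e = 0) : Nonempty (OrbitDecomp G e) := by
  classical
  let O : Finset (Matrix ι ι F) := (Set.toFinite {f | ∃ g ∈ G, cj g e = f}).toFinset
  have hO : ∀ f, f ∈ O ↔ ∃ g ∈ G, cj g e = f := fun f => Set.Finite.mem_toFinset _
  have heO : e ∈ O := (hO e).mpr ⟨1, G.one_mem, cj_one_left e⟩
  have hOC : ∀ f ∈ O, f * f = f ∧ f ≠ 0 := fun f hf => by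
    obtain ⟨g, hg, rfl⟩ := (hO f).mp hf
    exact ⟨by rw [← cj_mul, he], fun h0 => he0 (cj_injective g (h0.trans (cj_zero g).symm))⟩
  have horth' : ∀ f ∈ O, ∀ f' ∈ O, f ≠ f' → f * f' = 0 := by
    intro f hf f' hf' hne
    obtain ⟨g, hg, rfl⟩ := (hO f).mp hf
    obtain ⟨k, hk, rfl⟩ := (hO f').mp hf'
    have hk' : cj k e = cj g (cj (g⁻¹ * k) e) := by rw [cj_cj, mul_inv_cancel_left]
    rw [hk', ← cj_mul, horth _ (G.mul_mem (G.inv_mem hg) hk) (fun h => hne (by rw [hk', h])), cj_zero]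
  have hperm : ∀ g ∈ G, O.image (cj g) = O := by
    intro g hg
    refine Finset.eq_of_subset_of_card_le ?_ (Finset.card_image_of_injective _ (cj_injective g)).ge
    intro x hx
    obtain ⟨f, hf, rfl⟩ := Finset.mem_image.mp hx
    obtain ⟨k, hk, rfl⟩ := (hO f).mp hf
    exact (hO _).mpr ⟨g * k, G.mul_mem hg hk, (cj_cj g k e).symm⟩
  set s := ∑ f ∈ O, f with hs_def
  have hfs : ∀ f ∈ O, f * s = f := by
    intro f hf
    rw [hs_def, Finset.mul_sum, Finset.sum_eq_single f (fun f' hf' hne => horth' f hf f' hf' hne.symm)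
      (fun h => absurd hf h), (hOC f hf).1]
  have hss : s * s = s := by
    conv_lhs => arg 1; rw [hs_def]
    rw [Finset.sum_mul]
    exact Finset.sum_congr rfl hfs
  have hcs : ∀ g ∈ G, cj g s = s := by
    intro g hg
    conv_rhs => rw [hs_def, ← hperm g hg, Finset.sum_image (fun x _ y _ h => cj_injective g h)]
    rw [hs_def]
    simp only [cj, Finset.mul_sum, Finset.sum_mul]
  have hs1 : s = 1 := by
    have hW : LinearMap.range (Matrix.toLin' s) = ⊤ := by
      refine (irred_apply hG ?_).resolve_left ?_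
      · rintro g hg _ ⟨v, rfl⟩
        refine ⟨(g : Matrix ι ι F) *ᵥ v, ?_⟩
        rw [Matrix.toLin'_apply, Matrix.toLin'_apply, ← cj_mulVec g s v, hcs g hg]
      · intro hbot
        have hs0 : s = 0 := Matrix.toLin'.injective
          (by rw [map_zero]; exact LinearMap.range_eq_bot.mp hbot)
        exact he0 (by rw [← hfs e heO, hs0, mul_zero])
    refine Matrix.ext_of_mulVec_single fun i => ?_
    obtain ⟨u, hu⟩ := (hW ▸ Submodule.mem_top : Pi.single i 1 ∈ LinearMap.range (Matrix.toLin' s))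
    rw [one_mulVec, ← hu, Matrix.toLin'_apply, mulVec_mulVec, hss]
  let eq := O.equivFin
  let E : Fin O.card → Matrix ι ι F := fun i => (eq.symm i : Matrix ι ι F)
  have hE : ∀ i, E i ∈ O := fun i => (eq.symm i).2
  have hEinj : Function.Injective E := fun i j hij => eq.symm.injective (Subtype.ext hij)
  have hEsum : ∑ i, E i = 1 := by
    rw [← hs1, hs_def, ← Finset.sum_coe_sort O]
    exact Equiv.sum_comp eq.symm (fun f : O => (f : Matrix ι ι F))
  let D : Fin O.card → Submodule F (ι → F) := fun i => LinearMap.range (Matrix.toLin' (E i))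
  have hσ : ∀ g ∈ G, ∃ σ : Equiv.Perm (Fin O.card), ∀ i, cj g (E i) = E (σ i) := by
    intro g hg
    have hmem : ∀ i, cj g (E i) ∈ O := fun i => by
      have h1 := Finset.mem_image_of_mem (cj g) (hE i)
      rwa [hperm g hg] at h1
    let σ : Fin O.card → Fin O.card := fun i => eq ⟨cj g (E i), hmem i⟩
    have hσ : ∀ i, E (σ i) = cj g (E i) := fun i => by simp [E, σ]
    have hinj : Function.Injective σ := fun i j hij =>
      hEinj (cj_injective g (by rw [← hσ, ← hσ, hij]))
    exact ⟨Equiv.ofBijective σ (Finite.injective_iff_bijective.mp hinj), fun i => (hσ i).symm⟩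
  have hmap : ∀ (g : GL ι F) (i j : Fin O.card), cj g (E i) = E j →
      (D i).map (Matrix.toLin' (g : Matrix ι ι F)) = D j := by
    intro g i j hij
    simp only [D, ← hij]
    refine le_antisymm ?_ ?_
    · rintro _ ⟨_, ⟨v, rfl⟩, rfl⟩
      exact ⟨(g : Matrix ι ι F) *ᵥ v, by simp only [Matrix.toLin'_apply]; rw [cj_mulVec]⟩
    · rintro _ ⟨v, rfl⟩
      refine ⟨E i *ᵥ (((g⁻¹ : GL ι F) : Matrix ι ι F) *ᵥ v), ⟨_, Matrix.toLin'_apply _ _⟩, ?_⟩
      simp only [Matrix.toLin'_apply, cj, mulVec_mulVec, mul_assoc]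
  have hinjg : ∀ g : GL ι F, Function.Injective (Matrix.toLin' (g : Matrix ι ι F)) := fun g x y hxy => by
    simpa [Matrix.toLin'_apply, mulVec_mulVec] using
      congrArg (fun v => ((g⁻¹ : GL ι F) : Matrix ι ι F) *ᵥ v) hxy
  let i₀ : Fin O.card := eq ⟨e, heO⟩
  have hdim : ∀ i, Module.finrank F (D i) = Module.finrank F (D i₀) := by
    intro i
    obtain ⟨g, hg, hgi⟩ := (hO _).mp (hE i)
    have : E i₀ = e := by simp [E, i₀]
    rw [← hmap g i₀ i (by rw [this, hgi])]
    exact ((D i₀).equivMapOfInjective _ (hinjg g)).finrank_eq.symm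
  have hindep : iSupIndep D := by
    intro i
    rw [disjoint_iff, Submodule.eq_bot_iff]
    rintro x ⟨hxi, hx⟩
    obtain ⟨v, rfl⟩ := hxi
    have hle : (⨆ (j) (_ : j ≠ i), D j) ≤ LinearMap.ker (Matrix.toLin' (E i)) := by
      refine iSup₂_le fun j hj => ?_
      rintro _ ⟨u, rfl⟩
      simp [LinearMap.mem_ker, Matrix.toLin'_apply, mulVec_mulVec,
        horth' _ (hE i) _ (hE j) (fun h => hj (hEinj h).symm)]
    have := hle hx
    simpa [LinearMap.mem_ker, Matrix.toLin'_apply, mulVec_mulVec, (hOC _ (hE i)).1] using this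
  have htop : iSup D = ⊤ := by
    refine eq_top_iff.mpr fun v _ => ?_
    rw [show v = ∑ i, E i *ᵥ v by rw [← Matrix.sum_mulVec, hEsum, one_mulVec]]
    exact sum_mem fun i _ => le_iSup D i ⟨v, Matrix.toLin'_apply _ _⟩
  have hpos : 0 < Module.finrank F (D i₀) := by
    refine Nat.pos_of_ne_zero fun h0 => (hOC _ (hE i₀)).2 ?_
    exact Matrix.toLin'.injective
      (by rw [map_zero]; exact LinearMap.range_eq_bot.mp (Submodule.finrank_eq_zero.mp h0))
  refine ⟨{
      t := O.card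
      m := Module.finrank F (D i₀)
      E := E
      mem := fun i => (hO _).mp (hE i)
      exists_eq := fun g hg => ⟨eq ⟨cj g e, (hO _).mpr ⟨g, hg, rfl⟩⟩, by simp [E]⟩
      inj := hEinj
      orth := fun i j hij => horth' _ (hE i) _ (hE j) fun h => hij (hEinj h)
      idem := fun i => (hOC _ (hE i)).1
      sum := hEsum
      rank := hdim
      pos := hpos
      card := ?_
      indep := hindep
      top := htop
      le_stab := fun g hg => ?_ }⟩
  · have hI := DirectSum.isInternal_submodule_of_iSupIndep_of_iSup_eq_top hindep htop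
    have hc := Module.finrank_eq_card_basis (hI.collectedBasis fun i => Module.finBasis F (D i))
    rw [Fintype.card_sigma] at hc
    simp only [Fintype.card_fin, hdim, Finset.sum_const, Finset.card_univ, smul_eq_mul,
      Module.finrank_fintype_fun_eq_card] at hc
    exact hc.symm
  · obtain ⟨σ, hσ'⟩ := hσ g hg
    exact ⟨σ, fun i => hmap g i _ (hσ' i)⟩

/-- non-trivial central idempotents give an imprimitivity system -/
theorem inImprim_of_idem {G N : Subgroup (GL ι F)} (hG : ActsIrreducibly (matrixSet G))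
    (hn : Norms G N) (h : ∃ f, IsCIdem N f ∧ f ≠ 0 ∧ f ≠ 1) : InImprim G := by
  obtain ⟨e, he, he0, hmin⟩ := exists_atom (ctr N) (invComm_ctr (G := G) hn).comm
  have he1 : e ≠ 1 := by
    rintro rfl
    obtain ⟨f, hf, hf0, hf1⟩ := h
    exact (hmin f hf (one_mul f)).elim hf0 hf1
  obtain ⟨O⟩ := exists_orbitDecomp hG he0 he.2
    (fun g hg hne => (invComm_ctr hn).atom_orth he hmin hg hne)
  exact ⟨O.t, O.m, O.space, O.isMDecomposition he1, O.card, O.le_stab⟩

/-- with only trivial idempotents an invariant commutative algebra is a field -/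
lemma InvComm.inv {G : Subgroup (GL ι F)} {Z : Subalgebra F (Matrix ι ι F)} (h : InvComm G Z)
    (hG : ActsIrreducibly (matrixSet G)) (htriv : ∀ f, IdemIn Z f → f = 0 ∨ f = 1)
    {z : Matrix ι ι F} (hz : z ∈ Z) (hz0 : z ≠ 0) : ∃ y ∈ Z, z * y = 1 := by
  obtain ⟨a, b, hab, heq⟩ : ∃ a b, a < b ∧ z ^ a = z ^ b := by
    obtain ⟨a, b, hne, heq⟩ := Finite.exists_ne_map_eq_of_infinite (fun i : ℕ => z ^ i)
    rcases lt_or_gt_of_ne hne with h | h
    · exact ⟨a, b, h, heq⟩
    · exact ⟨b, a, h, heq.symm⟩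
  set d := b - a
  have hper : ∀ i, a ≤ i → z ^ (i + d) = z ^ i := fun i hi => by
    rw [show i + d = b + (i - a) by omega, pow_add, ← heq, ← pow_add]
    congr 1
    omega
  have hper' : ∀ k i, a ≤ i → z ^ (i + k * d) = z ^ i := by
    intro k
    induction k with
    | zero => simp
    | succ k ih =>
      intro i hi
      rw [show i + (k + 1) * d = (i + k * d) + d by ring, hper _ (le_add_right hi), ih i hi]
  obtain ⟨m, hm⟩ : ∃ m, (a + 1) * d = m + 1 :=
    ⟨(a + 1) * d - 1, by have : 0 < (a + 1) * d := Nat.mul_pos (by omega) (by omega); omega⟩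
  have ham : a ≤ (a + 1) * d := by
    calc a ≤ (a + 1) * 1 := by omega
      _ ≤ _ := Nat.mul_le_mul_left _ (by omega)
  have hidem : IdemIn Z (z ^ ((a + 1) * d)) :=
    ⟨pow_mem hz _, by rw [← pow_add]; exact hper' (a + 1) _ ham⟩
  rcases htriv _ hidem with h' | h'
  · exact absurd (h.reduced hG hz ⟨_, h'⟩) hz0
  · exact ⟨z ^ m, pow_mem hz _, by rw [← pow_succ', ← hm, h']⟩

/-- with only trivial idempotents the centre is a field -/
lemma ctr_inv {G N : Subgroup (GL ι F)} (hG : ActsIrreducibly (matrixSet G)) (hn : Norms G N)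
    (htriv : ∀ f, IsCIdem N f → f = 0 ∨ f = 1) {z : Matrix ι ι F} (hz : z ∈ ctr N) (hz0 : z ≠ 0) :
    ∃ y ∈ ctr N, z * y = 1 := (invComm_ctr hn).inv hG htriv hz hz0

end CfsgLib.Asch
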