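import Cfsg.Agent.Lib.Aschbacher.Product
import Cfsg.Agent.Lib.Solvable.Core

/-!
# A perfect minimal normal non-scalar subgroup: simple modulo scalars, or a tensor power
-/

set_option autoImplicit false

namespace CfsgLib.Asch

open Matrix Cfsg.Geo
open scoped MatrixGroups commutatorElement

variable {ι : Type} [Fintype ι] [DecidableEq ι] [Nonempty ι] {F : Type*} [Field F] [Fintype F]

omit [Nonempty ι] [Fintype F] in
/-- a perfect group centralised modulo scalars is centralised -/
lemma commute_of_comm_scalar {P : Subgroup (GL ι F)} (hP : ⁅P, P⁆ = P) {g : GL ι F}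
    (h : ∀ x ∈ P, g * x * g⁻¹ * x⁻¹ ∈ scalars ι F) {x : GL ι F} (hx : x ∈ P) : g * x = x * g := by
  let φ : P →* GL ι F :=
    { toFun := fun y => g * y * g⁻¹ * (y : GL ι F)⁻¹
      map_one' := by simp
      map_mul' := fun y z => by
        calc g * ((y * z : P) : GL ι F) * g⁻¹ * ((y * z : P) : GL ι F)⁻¹
            = (g * y * g⁻¹) * (g * z * g⁻¹ * (z : GL ι F)⁻¹) * (y : GL ι F)⁻¹ := by simp [mul_assoc]
          _ = (g * z * g⁻¹ * (z : GL ι F)⁻¹) * ((g * y * g⁻¹) * (y : GL ι F)⁻¹) := by
              rw [← scalar_commute (h z z.2) (g * y * g⁻¹)]; simp [mul_assoc]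
          _ = _ := scalar_commute (h z z.2) _ }
  have hker : φ.ker.map P.subtype = P := by
    refine le_antisymm (Subgroup.map_subtype_le _) ?_
    conv_lhs => rw [← hP]
    refine Subgroup.commutator_le.mpr fun a ha b hb => ⟨⁅(⟨a, ha⟩ : P), ⟨b, hb⟩⁆, ?_, rfl⟩
    rw [SetLike.mem_coe, MonoidHom.mem_ker, map_commutatorElement, commutatorElement_eq_one_iff_mul_comm]
    exact scalar_commute (h a ha) _
  obtain ⟨y, hy, rfl⟩ : x ∈ φ.ker.map P.subtype := hker.symm ▸ hx
  have h1 : g * y * g⁻¹ * (y : GL ι F)⁻¹ = 1 := hy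
  calc g * (y : GL ι F) = (g * y * g⁻¹ * (y : GL ι F)⁻¹) * ((y : GL ι F) * g) := by group
    _ = _ := by rw [h1, one_mul]; rfl

omit [Nonempty ι] [Fintype F] in
/-- commutators ignore scalar factors -/
lemma comm_le_of_le_sup {P M : Subgroup (GL ι F)} (h : P ≤ M ⊔ scalars ι F) : ⁅P, P⁆ ≤ ⁅M, M⁆ := by
  have hdec : ∀ x ∈ P, ∃ m ∈ M, ∃ z ∈ scalars ι F, x = m * z := fun x hx => by
    obtain ⟨m, hm, z, hz, rfl⟩ := Subgroup.mem_sup_of_normal_right.mp (h hx)
    exact ⟨m, hm, z, hz, rfl⟩
  refine Subgroup.commutator_le.mpr fun a ha b hb => ?_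
  obtain ⟨m, hm, z, hz, rfl⟩ := hdec a ha
  obtain ⟨m', hm', z', hz', rfl⟩ := hdec b hb
  have e : ⁅m * z, m' * z'⁆ = ⁅m, m'⁆ := by
    rw [commutatorElement_def, commutatorElement_def, _root_.mul_inv_rev, _root_.mul_inv_rev]
    have cz : ∀ x : GL ι F, z * x = x * z := scalar_commute hz
    have cz' : ∀ x : GL ι F, z' * x = x * z' := scalar_commute hz'
    have cz'i : ∀ x : GL ι F, z'⁻¹ * x = x * z'⁻¹ := scalar_commute (Subgroup.inv_mem _ hz')
    calc m * z * (m' * z') * (z⁻¹ * m⁻¹) * (z'⁻¹ * m'⁻¹)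
        = m * (z * (m' * z')) * z⁻¹ * (m⁻¹ * z'⁻¹) * m'⁻¹ := by simp [mul_assoc]
      _ = m * m' * z' * (z * z⁻¹) * (z'⁻¹ * m⁻¹) * m'⁻¹ := by rw [cz, ← cz'i]; simp [mul_assoc]
      _ = m * m' * m⁻¹ * m'⁻¹ := by simp [mul_assoc]
  rw [e]
  exact Subgroup.commutator_mem_commutator hm hm'

omit [Nonempty ι] [Fintype F] in
/-- the derived subgroup of a product with scalars -/
lemma le_of_perfect_le_sup {P M : Subgroup (GL ι F)} (hP : ⁅P, P⁆ = P) (h : P ≤ M ⊔ scalars ι F) :
    P ≤ M :=
  hP.symm.le.trans ((comm_le_of_le_sup h).trans (Subgroup.commutator_le_self M))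

omit [Nonempty ι] [Fintype F] in
lemma norms_comm {G P : Subgroup (GL ι F)} (h : Norms G P) (n : ℕ) :
    Norms G ((fun X => ⁅X, X⁆)^[n] P) := by
  induction n with
  | zero => exact h
  | succ n ih => rw [Function.iterate_succ_apply']; exact ih.commutatorLeft

/-- the conjugate of a subgroup -/
def translate (g : GL ι F) (L : Subgroup (GL ι F)) : Subgroup (GL ι F) := L.map (MulAut.conj g).toMonoidHom

omit [Nonempty ι] [Fintype F] in
lemma mem_translate {g x : GL ι F} {L : Subgroup (GL ι F)} :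
    x ∈ translate g L ↔ g⁻¹ * x * g ∈ L := by
  constructor
  · rintro ⟨y, hy, rfl⟩; simpa [mul_assoc] using hy
  · exact fun h => ⟨_, h, by simp [mul_assoc]⟩

omit [Nonempty ι] [Fintype F] in
lemma translate_translate (g k : GL ι F) (L : Subgroup (GL ι F)) :
    translate g (translate k L) = translate (g * k) L := by
  ext x; simp [mem_translate, mul_assoc]

omit [Nonempty ι] [Fintype F] in
lemma translate_one (L : Subgroup (GL ι F)) : translate 1 L = L := by
  ext x; simp [mem_translate]

omit [Nonempty ι] [Fintype F] in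
lemma cj_mem_alg_translate {g : GL ι F} {L : Subgroup (GL ι F)} {M : Matrix ι ι F} (hM : M ∈ alg L) :
    cj g M ∈ alg (translate g L) := by
  refine alg_induction (fun M => cj g M ∈ alg (translate g L)) ?_ ?_ ?_ ?_ hM
  · intro x hx
    rw [cj_coe]
    exact coe_mem_alg (mem_translate.mpr (by simpa [mul_assoc] using hx))
  · simp
  · intro x y hx hy; rw [cj_add]; exact add_mem hx hy
  · intro c x hx; rw [cj_smul]; exact Subalgebra.smul_mem _ hx c

omit [Nonempty ι] [Fintype F] in
lemma derived_stable {K : Subgroup (GL ι F)} [Finite K] :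
    ∃ n, ⁅((fun X => ⁅X, X⁆)^[n] K), ((fun X => ⁅X, X⁆)^[n] K)⁆ = (fun X => ⁅X, X⁆)^[n] K ∧
      ((fun X => ⁅X, X⁆)^[n] K) ≤ K := by
  classical
  set it := fun n => (fun X : Subgroup (GL ι F) => ⁅X, X⁆)^[n] K with hit
  have hle : ∀ n, it (n + 1) ≤ it n := fun n => by
    simp only [hit, Function.iterate_succ_apply']
    exact Subgroup.commutator_le_self _
  have hleK : ∀ n, it n ≤ K := fun n => by
    induction n with
    | zero => exact le_rfl
    | succ n ih => exact (hle n).trans ih
  have hfin : ∀ n, (it n : Set (GL ι F)).Finite := fun n => (Set.toFinite (K : Set (GL ι F))).subset (hleK n)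
  have hex : ∃ k, ∃ n, (it n : Set (GL ι F)).ncard = k := ⟨_, 0, rfl⟩
  obtain ⟨n, hn⟩ := Nat.find_spec hex
  refine ⟨n, ?_, hleK n⟩
  have h1 : (it (n + 1) : Set (GL ι F)) = (it n : Set (GL ι F)) :=
    Set.eq_of_subset_of_ncard_le (hle n) (hn.trans_le (Nat.find_le ⟨n + 1, rfl⟩)) (hfin n)
  have h2 := SetLike.coe_injective h1
  simp only [hit, Function.iterate_succ_apply'] at h2
  exact h2

omit [Nonempty ι] in
/-- soluble normal subgroups are scalar -/
lemma scalar_of_normal_soluble {G P : Subgroup (GL ι F)} (hn : Norms G P) (hperf : ⁅P, P⁆ = P)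
    (hns : ¬ P ≤ scalars ι F)
    (hmin : ∀ M : Subgroup (GL ι F), M ≤ P → Norms G M → ¬ M ≤ scalars ι F → P ≤ M ⊔ scalars ι F) :
    ∀ (n : ℕ) (K : Subgroup (GL ι F)), K ≤ P → Norms P K →
      ((fun X : Subgroup (GL ι F) => ⁅X, X⁆)^[n] K) ≤ scalars ι F → K ≤ scalars ι F := by
  classical
  intro n
  induction n with
  | zero => intro K _ _ h; exact h
  | succ n ih =>
    intro K hKP hKn h
    rw [Function.iterate_succ_apply] at h
    have h1 : ⁅K, K⁆ ≤ scalars ι F :=
      ih ⁅K, K⁆ ((Subgroup.commutator_le_self K).trans hKP) hKn.commutatorLeft h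
    -- `K` is nilpotent, so inside the Fitting subgroup, which is scalar
    set K' : Subgroup P := K.subgroupOf P
    have hK'n : K'.Normal := ⟨fun x hx p => by
      rw [Subgroup.mem_subgroupOf] at hx ⊢
      exact hKn p p.2 x hx⟩
    have hK'nil : Group.IsNilpotent K' := by
      refine of_quotient_center_nilpotent (CfsgLib.Solvable.isNilpotent_of_comm ?_)
      intro a b
      induction a using QuotientGroup.induction_on with
      | H a =>
        induction b using QuotientGroup.induction_on with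
        | H b =>
          rw [← QuotientGroup.mk_mul, ← QuotientGroup.mk_mul, QuotientGroup.eq, Subgroup.mem_center_iff]
          intro c
          have hc : ((((a * b)⁻¹ * (b * a) : K') : P) : GL ι F) ∈ scalars ι F := by
            have := h1 (Subgroup.commutator_mem_commutator
              (Subgroup.mem_subgroupOf.mp (K'.inv_mem b.2)) (Subgroup.mem_subgroupOf.mp (K'.inv_mem a.2)))
            simpa [commutatorElement_def, mul_assoc] using this
          exact Subtype.ext (Subtype.ext (scalar_commute hc _).symm)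
    set Φ := Cfsg.fittingSubgroup P
    haveI hΦc : Φ.Characteristic := CfsgLib.Solvable.fittingSubgroup_characteristic P
    set F₀ : Subgroup (GL ι F) := Φ.map P.subtype
    have hKF : K ≤ F₀ := fun x hx =>
      ⟨⟨x, hKP hx⟩, CfsgLib.Solvable.le_fittingSubgroup hK'n hK'nil (Subgroup.mem_subgroupOf.mpr hx), rfl⟩
    have hF₀n : Norms G F₀ := by
      rintro g hg _ ⟨x, hx, rfl⟩
      let α : P ≃* P :=
        { toFun := fun y => ⟨g * y * g⁻¹, hn g hg y y.2⟩
          invFun := fun y => ⟨g⁻¹ * y * g, by simpa using hn g⁻¹ (G.inv_mem hg) y y.2⟩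
          left_inv := fun y => Subtype.ext (by simp [mul_assoc])
          right_inv := fun y => Subtype.ext (by simp [mul_assoc])
          map_mul' := fun y z => Subtype.ext (by simp [mul_assoc]) }
      refine ⟨α x, ?_, rfl⟩
      have := Subgroup.characteristic_iff_map_eq.mp hΦc α
      exact this ▸ Subgroup.mem_map_of_mem α.toMonoidHom hx
    by_contra hKs
    have hF₀s : ¬ F₀ ≤ scalars ι F := fun hle => hKs (hKF.trans hle)
    have hPF := le_of_perfect_le_sup hperf (hmin F₀ (Subgroup.map_subtype_le _) hF₀n hF₀s)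
    have htop : Φ = ⊤ := by
      refine eq_top_iff.mpr fun x _ => ?_
      obtain ⟨y, hy, hyx⟩ := hPF x.2
      exact (Subtype.ext hyx : y = x) ▸ hy
    haveI : Group.IsNilpotent P := by
      have := CfsgLib.Solvable.fittingSubgroup_isNilpotent P
      rw [show Cfsg.fittingSubgroup P = ⊤ from htop] at this
      exact Group.nilpotent_of_mulEquiv Subgroup.topEquiv
    haveI : Nontrivial P := by
      rw [Subgroup.nontrivial_iff_ne_bot]
      exact fun h0 => hns (by rw [h0]; exact bot_le)
    have hlt := Group.IsSolvable.commutator_lt_top_of_nontrivial P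
    apply hlt.ne
    refine Subgroup.map_injective P.subtype_injective ?_
    rw [← MonoidHom.range_eq_map, Subgroup.range_subtype, commutator_def, Subgroup.map_commutator,
      ← MonoidHom.range_eq_map, Subgroup.range_subtype, hperf]

/-- the coordinates given by the components of a perfect group that is not simple modulo scalars -/
structure CompData (G P : Subgroup (GL ι F)) where
  w : ℕ
  t : ℕ
  e : ι ≃ (Fin t → Fin w)
  Q : GL ι F
  hw : 2 ≤ w
  ht : 2 ≤ t
  card : w ^ t = Fintype.card ι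
  le : G ≤ tensorWreathSubgroup w t e Q
  slot : ∀ i, ∃ L : Subgroup (GL ι F), L ≤ P ∧ ⁅L, L⁆ = L ∧ ¬ L ≤ scalars ι F ∧
    ∀ M, M ∈ alg L ↔ ∃ A, M = cw e Q (pw (Function.update 1 i A))
  trans : ∀ i j, ∃ g ∈ G, ∀ A, ∃ A', cj g (cw e Q (pw (Function.update 1 i A)))
    = cw e Q (pw (Function.update 1 j A'))
  left : ∃ (L : Subgroup (GL ι F)) (w' k : ℕ) (e₀ : ι ≃ Fin w' × Fin k) (P₀ : GL ι F), L ≤ P ∧ Norms P L ∧
    2 ≤ w' ∧ 2 ≤ k ∧ IsTensorAlg L e₀ P₀

/-- simple modulo scalars, or components -/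
theorem perfect_components {G P : Subgroup (GL ι F)} (hn : Norms G P) (hperf : ⁅P, P⁆ = P)
    (hns : ¬ P ≤ scalars ι F)
    (hmin : ∀ M : Subgroup (GL ι F), M ≤ P → Norms G M → ¬ M ≤ scalars ι F → P ≤ M ⊔ scalars ι F)
    (hspan : Spans (matrixSet P)) :
    IsSimpleGroup (P ⧸ (scalars ι F).subgroupOf P) ∨ Nonempty (CompData G P) := by
  classical
  set Z := scalars ι F
  let good : Subgroup (GL ι F) → Prop := fun L => L ≤ P ∧ Norms P L ∧ ⁅L, L⁆ = L ∧ ¬ L ≤ Z
  have hgood : ∀ K : Subgroup (GL ι F), K ≤ P → Norms P K → ¬ K ≤ Z → ∃ L, good L ∧ L ≤ K := by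
    intro K hKP hKn hKs
    obtain ⟨n, h1, h2⟩ := derived_stable (K := K)
    exact ⟨_, ⟨h2.trans hKP, norms_comm hKn n, h1,
      fun h => hKs (scalar_of_normal_soluble hn hperf hns hmin n K hKP hKn h)⟩, h2⟩
  let comp : Subgroup (GL ι F) → Prop := fun L => Minimal good L
  have hcomp : ∀ K : Subgroup (GL ι F), K ≤ P → Norms P K → ¬ K ≤ Z → ∃ L, comp L ∧ L ≤ K := by
    intro K hKP hKn hKs
    obtain ⟨L, hL, hLK⟩ := hgood K hKP hKn hKs
    obtain ⟨L', hL'L, hL'⟩ := (Set.toFinite {M | good M}).exists_le_minimal hL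
    exact ⟨L', hL', hL'L.trans hLK⟩
  have hcommute : ∀ L M, comp L → comp M → L ≠ M → ∀ x ∈ L, ∀ y ∈ M, x * y = y * x := by
    intro L M hL hM hne x hx y hy
    have hle : ⁅L, M⁆ ≤ L ⊓ M := Subgroup.commutator_le.mpr fun a ha b hb => by
      rw [commutatorElement_def]
      constructor
      · simpa [mul_assoc] using L.mul_mem ha (hL.1.2.1 b (hM.1.1 hb) _ (L.inv_mem ha))
      · exact M.mul_mem (hM.1.2.1 a (hL.1.1 ha) _ hb) (M.inv_mem hb)
    have hs : ⁅L, M⁆ ≤ Z := by
      by_contra hs
      have hn' : Norms P ⁅L, M⁆ := by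
        intro p hp z hz
        have hmap : Subgroup.map (MulAut.conj p).toMonoidHom ⁅L, M⁆ ≤ ⁅L, M⁆ := by
          rw [Subgroup.map_commutator]
          refine Subgroup.commutator_mono ?_ ?_ <;> rintro _ ⟨w, hw, rfl⟩
          · exact hL.1.2.1 p hp w hw
          · exact hM.1.2.1 p hp w hw
        exact hmap ⟨z, hz, rfl⟩
      obtain ⟨L', hL', hle'⟩ := hgood _ ((hle.trans inf_le_left).trans hL.1.1) hn' hs
      have h1 : L ≤ L' := hL.2 hL' (hle'.trans (hle.trans inf_le_left))
      have h2 : M ≤ L' := hM.2 hL' (hle'.trans (hle.trans inf_le_right))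
      exact hne (le_antisymm (h1.trans (hle'.trans (hle.trans inf_le_right)))
        (h2.trans (hle'.trans (hle.trans inf_le_left))))
    refine commute_of_comm_scalar hM.1.2.2.1 (fun z hz => ?_) hy
    simpa [commutatorElement_def] using hs (Subgroup.commutator_mem_commutator hx hz)
  have htrgood : ∀ g ∈ G, ∀ L, good L → good (translate g L) := by
    rintro g hg L ⟨h1, h2, h3, h4⟩
    refine ⟨fun x hx => ?_, fun p hp x hx => ?_, ?_, fun hle => h4 fun x hx => ?_⟩
    · obtain ⟨y, hy, rfl⟩ := hx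
      exact hn g hg y (h1 hy)
    · rw [mem_translate] at hx ⊢
      have h' : g⁻¹ * p * g ∈ P := by simpa using hn g⁻¹ (G.inv_mem hg) p hp
      simpa [mul_assoc] using h2 _ h' _ hx
    · rw [translate, ← Subgroup.map_commutator, h3]
    · have h5 := scalars_normal.conj_mem _ (hle ⟨x, hx, rfl⟩) g⁻¹
      simpa [mul_assoc] using h5
  have htrcomp : ∀ g ∈ G, ∀ L, comp L → comp (translate g L) := by
    intro g hg L hL
    refine ⟨htrgood g hg L hL.1, fun L' hL' hle => ?_⟩
    have h1 := hL.2 (htrgood g⁻¹ (G.inv_mem hg) L' hL') (fun x hx => by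
      rw [mem_translate, inv_inv] at hx
      simpa [mem_translate, mul_assoc] using hle hx)
    intro x hx
    rw [mem_translate] at hx
    simpa [mem_translate, mul_assoc] using h1 hx
  obtain ⟨L₀, hL₀, -⟩ := hcomp P le_rfl
    (fun g hg x hx => P.mul_mem (P.mul_mem hg hx) (P.inv_mem hg)) hns
  -- `P` is generated by the conjugates of `L₀`
  have hgen : P ≤ ⨆ g : G, translate (g : GL ι F) L₀ := by
    refine le_of_perfect_le_sup hperf (hmin _ (iSup_le fun g => (htrgood g g.2 L₀ hL₀.1).1) ?_ ?_)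
    · intro k hk x hx
      have hmap : translate k (⨆ g : G, translate (g : GL ι F) L₀) ≤ ⨆ g : G, translate (g : GL ι F) L₀ := by
        rw [translate, Subgroup.map_iSup]
        refine iSup_le fun g => ?_
        rw [show Subgroup.map (MulAut.conj k).toMonoidHom (translate (g : GL ι F) L₀)
          = translate (k * (g : GL ι F)) L₀ from translate_translate k g L₀]
        exact le_iSup_of_le (⟨k * g, G.mul_mem hk g.2⟩ : G) le_rfl
      exact hmap ⟨x, hx, rfl⟩
    · intro hle
      refine hL₀.1.2.2.2 fun x hx => hle ?_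
      refine le_iSup (fun g : G => translate (g : GL ι F) L₀) 1 ?_
      simpa [translate_one] using hx
  by_cases hone : ∀ g : G, translate (g : GL ι F) L₀ = L₀
  · -- simple modulo the scalars
    left
    have hL₀P : L₀ = P := le_antisymm hL₀.1.1 (hgen.trans (iSup_le fun g => (hone g).le))
    have hmax : ∀ M : Subgroup (GL ι F), M ≤ P → Norms P M → ¬ M ≤ Z → P ≤ M := by
      intro M hMP hMn hMs
      obtain ⟨L, hL, hLM⟩ := hcomp M hMP hMn hMs
      by_cases hLP : L = L₀
      · exact hL₀P ▸ hLP ▸ hLM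
      · exfalso
        refine hL.1.2.2.2 ?_
        rw [← hL.1.2.2.1, Subgroup.commutator_le]
        intro a ha b hb
        rw [commutatorElement_eq_one_iff_mul_comm.mpr (hcommute L L₀ hL hL₀ hLP a ha b (hL₀P ▸ hL.1.1 hb))]
        exact one_mem _
    haveI : (Z.subgroupOf P).Normal := inferInstance
    haveI : Nontrivial (P ⧸ Z.subgroupOf P) := by
      refine QuotientGroup.nontrivial_iff.mpr fun h => hns fun x hx => ?_
      have : (⟨x, hx⟩ : P) ∈ Z.subgroupOf P := h ▸ Subgroup.mem_top _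
      exact this
    refine ⟨fun N hN => ?_⟩
    let M' : Subgroup P := N.comap (QuotientGroup.mk' (Z.subgroupOf P))
    have hM'n : M'.Normal := hN.comap _
    by_cases hs : M'.map P.subtype ≤ Z
    · left
      rw [eq_bot_iff]
      intro y hy
      induction y using QuotientGroup.induction_on with
      | H y =>
        rw [Subgroup.mem_bot, QuotientGroup.eq_one_iff]
        exact hs ⟨y, hy, rfl⟩
    · right
      have hP := hmax _ (Subgroup.map_subtype_le _) (by
        rintro p hp _ ⟨x, hx, rfl⟩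
        exact ⟨⟨p, hp⟩ * x * ⟨p, hp⟩⁻¹, hM'n.conj_mem x hx _, rfl⟩) hs
      rw [eq_top_iff]
      intro y _
      induction y using QuotientGroup.induction_on with
      | H y =>
        obtain ⟨w, hw, hwy⟩ := hP y.2
        exact (Subtype.ext hwy : w = y) ▸ hw
  right
  push_neg at hone
  obtain ⟨g₁, hg₁⟩ := hone
  -- the orbit
  let O : Finset (Subgroup (GL ι F)) := (Set.toFinite (Set.range fun g : G => translate (g : GL ι F) L₀)).toFinset
  set t := O.card
  let σ : Fin t ≃ O := O.equivFin.symm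
  let L : Fin t → Subgroup (GL ι F) := fun i => (σ i : Subgroup (GL ι F))
  have hL : ∀ i, ∃ g : G, translate (g : GL ι F) L₀ = L i := fun i => by
    have := (σ i).2
    simp only [O, Set.Finite.mem_toFinset, Set.mem_range] at this
    exact this
  choose r hr using hL
  have hLinj : Function.Injective L := Subtype.val_injective.comp σ.injective
  have hLsurj : ∀ g : G, ∃ i, L i = translate (g : GL ι F) L₀ := fun g =>
    ⟨σ.symm ⟨translate (g : GL ι F) L₀, (Set.Finite.mem_toFinset _).mpr ⟨g, rfl⟩⟩, by simp [L]⟩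
  have ht : 2 ≤ t := by
    refine Finset.one_lt_card.mpr ⟨_, ?_, _, ?_, hg₁⟩
    · simp [O]
    · simp only [O, Set.Finite.mem_toFinset, Set.mem_range]
      exact ⟨1, translate_one L₀⟩
  have hcompL : ∀ i, comp (L i) := fun i => hr i ▸ htrcomp _ (r i).2 L₀ hL₀
  have hgenL : ∀ X : Matrix ι ι F, (∀ i, ∀ x ∈ L i, X * (x : Matrix ι ι F) = (x : Matrix ι ι F) * X) →
      IsScalarMat X := by
    intro X hX
    refine hspan.scalar_of_commute fun x hx => ?_
    refine Subgroup.iSup_induction (fun g : G => translate (g : GL ι F) L₀)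
      (C := fun x => X * (x : Matrix ι ι F) = (x : Matrix ι ι F) * X) (hgen hx) ?_ ?_ ?_
    · intro g y hy
      obtain ⟨i, hi⟩ := hLsurj g
      exact hX i y (hi ▸ hy)
    · simp
    · intro a b ha hb
      rw [Units.val_mul, ← mul_assoc, ha, mul_assoc, hb, mul_assoc]
  -- the centre of each factor is scalar
  obtain ⟨i₀, hi₀⟩ := hLsurj 1
  have hi₀' : L i₀ = L₀ := by rw [hi₀]; exact translate_one L₀
  have hctr : ∀ z ∈ ctr L₀, IsScalarMat z := by
    intro z hz
    obtain ⟨hz1, hz2⟩ := mem_ctr.mp hz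
    refine hgenL z fun i x hx => ?_
    by_cases hi : L i = L₀
    · exact hz2 x (hi ▸ hx)
    · refine (commute_alg (X := (x : Matrix ι ι F)) (fun y hy => ?_) hz1).symm
      rw [← Units.val_mul, ← Units.val_mul, hcommute (L i) L₀ (hcompL i) hL₀ hi x hx y hy]
  obtain ⟨w, k, e₀, P₀, hw, hk, hA⟩ := exists_tensorAlg hspan.irred hL₀.1.2.1 hctr
  let ε₀ : Fin w → Fin w → Matrix ι ι F := fun a b => tens e₀ P₀ (single a b 1) 1
  let ε : Fin t → Fin w → Fin w → Matrix ι ι F := fun i a b => cj (r i) (ε₀ a b)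
  have hεmem : ∀ i a b, ε i a b ∈ alg (L i) := fun i a b => by
    have := cj_mem_alg_translate (g := (r i : GL ι F)) (L := L₀) ((hA _).mpr ⟨_, rfl⟩ : ε₀ a b ∈ alg L₀)
    rwa [hr i] at this
  have hεU : ∀ i, MUnits (ε i) := by
    intro i
    refine ⟨fun x y z => ?_, fun x y z z' hne => ?_, ?_⟩
    · simp only [ε, ε₀, ← cj_mul, tens_mul, single_mul_single_same, mul_one]
    · simp only [ε, ε₀, ← cj_mul, tens_mul, mul_one]
      rw [Matrix.single_mul_single_of_ne _ _ _ _ hne]
      simp
    · have hsum : ∀ s : Finset (Fin w), ∑ a ∈ s, ε i a a = cj (r i) (tens e₀ P₀ (∑ a ∈ s, single a a (1 : F)) 1) := by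
        intro s
        induction s using Finset.induction with
        | empty => simp
        | @insert a s ha ih => rw [Finset.sum_insert ha, Finset.sum_insert ha, tens_add_left, cj_add, ih]
      rw [hsum, show ∑ a, single a a (1 : F) = (1 : Matrix (Fin w) (Fin w) F) by
        ext p q
        simp [Matrix.sum_apply, Matrix.single_apply, Matrix.one_apply, ite_and]]
      simp
  have hcross : ∀ i j, i ≠ j → ∀ a b c d, ε i a b * ε j c d = ε j c d * ε i a b := by
    intro i j hij a b c d
    refine commute_alg (fun y hy => ?_) (hεmem j c d)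
    refine (commute_alg (X := (y : Matrix ι ι F)) (fun x hx => ?_) (hεmem i a b)).symm
    rw [← Units.val_mul, ← Units.val_mul, hcommute (L j) (L i) (hcompL j) (hcompL i)
      (fun h => hij (hLinj h).symm) y hy x hx]
  have hcoordlin : ∀ i (X : Matrix ι ι F), (∀ a b, X * ε i a b = ε i a b * X) →
      ∀ A, X * cj (r i) (tens e₀ P₀ A 1) = cj (r i) (tens e₀ P₀ A 1) * X := by
    intro i X hX A
    induction A using Matrix.induction_on' with
    | h_zero => simp
    | h_add A B hA' hB' => rw [tens_add_left, cj_add, mul_add, add_mul, hA', hB']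
    | h_std_basis a b c =>
      rw [show single a b c = c • single a b (1 : F) by simp [Matrix.smul_single], tens_smul_left, cj_smul,
        mul_smul_comm, smul_mul_assoc, hX a b]
  have halg : ∀ i M, M ∈ alg (L i) → ∃ A, M = cj (r i) (tens e₀ P₀ A 1) := by
    intro i M hM
    have h1 := cj_mem_alg_translate (g := (r i : GL ι F)⁻¹) hM
    rw [← hr i, translate_translate, inv_mul_cancel, translate_one] at h1
    obtain ⟨A, hA'⟩ := (hA _).mp h1
    exact ⟨A, by rw [← hA', cj_cj, mul_inv_cancel, cj_one_left]⟩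
  obtain ⟨e, Q, hQ⟩ := exists_power_coord (ι := ι) (m := w) hw ε hεU hcross (fun X hX => hgenL X fun i x hx => by
    obtain ⟨A, hA'⟩ := halg i _ (coe_mem_alg hx)
    rw [hA']
    exact hcoordlin i X (fun a b => hX i a b) A)
  have hlin : ∀ i A, cw e Q (pw (Function.update 1 i A)) = cj (r i) (tens e₀ P₀ A 1) := by
    intro i A
    induction A using Matrix.induction_on' with
    | h_zero =>
      rw [tens_zero_left, cj_zero, show (0 : Matrix (Fin w) (Fin w) F) = (0 : F) • 1 by simp,
        update_one_smul, zero_smul]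
      simp [cw]
    | h_add A B hA' hB' =>
      rw [tens_add_left, cj_add, update_one_add, ← hA', ← hB']
      simp [cw, Matrix.submatrix_add]
    | h_std_basis a b c =>
      rw [show single a b c = c • single a b (1 : F) by simp [Matrix.smul_single], tens_smul_left, cj_smul,
        update_one_smul]
      show _ = c • ε i a b
      rw [hQ i a b]
      simp [cw]
  have hperm : ∀ g ∈ G, g ∈ tensorWreathSubgroup w t e Q := by
    intro g hg
    have hτ : ∀ i, ∃ j, L j = translate g (L i) := fun i => by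
      obtain ⟨j, hj⟩ := hLsurj (⟨g, hg⟩ * r i)
      exact ⟨j, by rw [hj, ← hr i, translate_translate]; rfl⟩
    choose τ hτ using hτ
    have hτinj : Function.Injective τ := fun i j hij => hLinj (by
      have h1 : translate g⁻¹ (translate g (L i)) = translate g⁻¹ (translate g (L j)) := by
        rw [← hτ i, ← hτ j, hij]
      simpa [translate_translate, translate_one] using h1)
    refine mem_wreath_of_permutes hw (by omega) (Equiv.ofBijective τ hτinj.bijective_of_finite) fun i A => ?_
    have h1 : cj g (cw e Q (pw (Function.update 1 i A))) ∈ alg (L (τ i)) := by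
      rw [hτ i, hlin]
      refine cj_mem_alg_translate ?_
      have h2 := cj_mem_alg_translate (g := (r i : GL ι F)) ((hA _).mpr ⟨A, rfl⟩ : tens e₀ P₀ A 1 ∈ alg L₀)
      rwa [hr i] at h2
    obtain ⟨A', hA'⟩ := halg _ _ h1
    exact ⟨A', by rw [hA', hlin]; rfl⟩
  have hcard : w ^ t = Fintype.card ι := by
    rw [Fintype.card_congr e]; simp
  have hw2 : 2 ≤ w := by
    by_contra hw2
    obtain rfl : w = 1 := by omega
    apply hns
    intro x _
    haveI : Subsingleton ι := Fintype.card_le_one_iff_subsingleton.mp (by rw [← hcard]; simp)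
    rw [mem_scalars_iff_isScalarMat]
    exact isScalarMat_of_commute_all fun M => by
      ext p q
      simp only [Matrix.mul_apply]
      refine Finset.sum_congr rfl fun r _ => ?_
      rw [Subsingleton.elim p q, Subsingleton.elim r q, mul_comm]
  have hk2 : 2 ≤ k := by
    by_contra hk2
    obtain rfl : k = 1 := by omega
    have h1 : w ^ t = w ^ 1 := hcard.trans (by rw [Fintype.card_congr e₀]; simp)
    have := Nat.pow_right_injective hw2 h1
    omega
  have halg' : ∀ i M, M ∈ alg (L i) ↔ ∃ A, M = cw e Q (pw (Function.update 1 i A)) := fun i M => by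
    refine ⟨fun hM => ?_, ?_⟩
    · obtain ⟨A, hA'⟩ := halg i M hM
      exact ⟨A, hA'.trans (hlin i A).symm⟩
    · rintro ⟨A, rfl⟩
      rw [hlin]
      have := cj_mem_alg_translate (g := (r i : GL ι F)) ((hA _).mpr ⟨A, rfl⟩ : tens e₀ P₀ A 1 ∈ alg L₀)
      rwa [hr i] at this
  refine ⟨⟨w, t, e, Q, hw2, ht, hcard, hperm, fun i => ⟨L i, (hcompL i).1.1, (hcompL i).1.2.2.1, (hcompL i).1.2.2.2, halg' i⟩, fun i j => ?_,
    L₀, w, k, e₀, P₀, hL₀.1.1, hL₀.1.2.1, hw2, hk2, hA⟩⟩
  refine ⟨(r j : GL ι F) * (r i : GL ι F)⁻¹, G.mul_mem (r j).2 (G.inv_mem (r i).2), fun A => ⟨A, ?_⟩⟩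
  rw [hlin, hlin, cj_cj, inv_mul_cancel_right]

/-- the perfect case -/
theorem perfect_case {G P : Subgroup (GL ι F)} (hn : Norms G P) (hperf : ⁅P, P⁆ = P)
    (hns : ¬ P ≤ scalars ι F)
    (hmin : ∀ M : Subgroup (GL ι F), M ≤ P → Norms G M → ¬ M ≤ scalars ι F → P ≤ M ⊔ scalars ι F)
    (hspan : Spans (matrixSet P)) :
    IsSimpleGroup (P ⧸ (scalars ι F).subgroupOf P) ∨ InWreath G ∨ InQuad G ∨ InSymp G := by
  rcases perfect_components hn hperf hns hmin hspan with h | ⟨⟨w, t, e, Q, hw, ht, hcard, hle, -, -, -⟩⟩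
  · exact Or.inl h
  rcases Nat.lt_or_ge w 3 with hw3 | hw3
  · obtain rfl : w = 2 := by omega
    exact Or.inr (Or.inr (inForm_of_wreath_two (by omega) hle))
  · exact Or.inr (Or.inl ⟨w, t, e, Q, hw3, ht, hcard, hle⟩)

end CfsgLib.Asch
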