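import Cfsg.Agent.Lib.Aschbacher.Basic

/-!
# Finite field facts
-/

set_option autoImplicit false

namespace CfsgLib.Asch

open Matrix Cfsg.Geo
open scoped MatrixGroups

variable {F : Type*} [Field F]

/-- in a finite field with `q ^ d` elements, `x ^ q ^ r = x` has exactly `q ^ r` solutions, `r ∣ d` -/
lemma natCard_pow_fixed [Finite F] {q d r : ℕ} (hq : 2 ≤ q) (hcard : Nat.card F = q ^ d)
    (hr : r ∣ d) (hr0 : r ≠ 0) : Nat.card {x : F // x ^ q ^ r = x} = q ^ r := by
  classical
  cases nonempty_fintype F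
  have hQ : 2 ≤ q ^ r := hq.trans (Nat.le_self_pow hr0 q)
  have hdvd : q ^ r - 1 ∣ Nat.card Fˣ := by
    rw [Nat.card_units, hcard]
    exact Nat.pow_sub_one_dvd_pow_sub_one q hr
  have hker : Nat.card (powMonoidHom (q ^ r - 1) : Fˣ →* Fˣ).ker = q ^ r - 1 := by
    rw [IsCyclic.card_powMonoidHom_ker]
    exact Nat.gcd_eq_right hdvd
  have he : {x : F // x ^ q ^ r = x} ≃ Option (powMonoidHom (q ^ r - 1) : Fˣ →* Fˣ).ker :=
  { toFun := fun x => if h : x.1 = 0 then none else some ⟨Units.mk0 x.1 h, by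
      rw [MonoidHom.mem_ker, powMonoidHom_apply]
      ext
      have h2 : x.1 ^ (q ^ r - 1) * x.1 = x.1 := by
        rw [← pow_succ, Nat.sub_add_cancel (by omega)]; exact x.2
      simpa [h] using h2⟩
    invFun := fun o => match o with
      | none => ⟨0, by rw [zero_pow (by omega)]⟩
      | some u => ⟨(u.1 : F), by
          have h1 := congrArg Units.val (MonoidHom.mem_ker.mp u.2)
          simp only [powMonoidHom_apply, Units.val_pow_eq_pow_val, Units.val_one] at h1
          calc (u.1 : F) ^ q ^ r = (u.1 : F) ^ (q ^ r - 1) * u.1 := by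
                rw [← pow_succ, Nat.sub_add_cancel (by omega)]
            _ = _ := by rw [h1, one_mul]⟩
    left_inv := fun x => by
      by_cases h : x.1 = 0
      · simp only [h, dite_true]; exact Subtype.ext h.symm
      · simp [h]
    right_inv := fun o => by
      match o with
      | none => simp
      | some u => simp }
  rw [Nat.card_congr he, Finite.card_option, hker]
  omega

/-- the characteristic data of a finite field -/
lemma exists_prime_pow [Fintype F] :
    ∃ p f : ℕ, p.Prime ∧ CharP F p ∧ 0 < f ∧ Fintype.card F = p ^ f := by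
  obtain ⟨p, hp⟩ := CharP.exists F
  haveI := hp
  obtain ⟨⟨f, hf⟩, h1, h2⟩ := FiniteField.card F p
  exact ⟨p, f, h1, hp, hf, h2⟩

/-- the fixed field of `x ↦ x ^ p ^ k` -/
def powFixed (p k : ℕ) [Fact p.Prime] [CharP F p] : Subfield F where
  carrier := {x | x ^ p ^ k = x}
  mul_mem' := fun {a b} ha hb => by simp only [Set.mem_setOf_eq] at *; rw [mul_pow, ha, hb]
  one_mem' := one_pow _
  add_mem' := fun {a b} ha hb => by simp only [Set.mem_setOf_eq] at *; rw [add_pow_char_pow, ha, hb]
  zero_mem' := zero_pow (pow_ne_zero _ (Fact.out : p.Prime).ne_zero)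
  neg_mem' := fun {a} ha => by
    simp only [Set.mem_setOf_eq] at *
    have h0 : (a + -a) ^ p ^ k = 0 := by
      rw [add_neg_cancel, zero_pow (pow_ne_zero _ (Fact.out : p.Prime).ne_zero)]
    rw [add_pow_char_pow, ha] at h0
    linear_combination h0
  inv_mem' := fun a ha => by simp only [Set.mem_setOf_eq] at *; rw [inv_pow, ha]

lemma mem_powFixed {p k : ℕ} [Fact p.Prime] [CharP F p] {x : F} :
    x ∈ powFixed (F := F) p k ↔ x ^ p ^ k = x := Iff.rfl

lemma natCard_powFixed [Fintype F] {p k f : ℕ} [hp : Fact p.Prime] [CharP F p]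
    (hcard : Fintype.card F = p ^ f) (hk : k ∣ f) (hk0 : k ≠ 0) :
    Nat.card (powFixed (F := F) p k) = p ^ k :=
  natCard_pow_fixed hp.out.two_le (by rw [Nat.card_eq_fintype_card, hcard]) hk hk0

/-- a proper subfield lies in one of prime index -/
lemma exists_prime_index_subfield [Fintype F] {F₀ : Subfield F} (h : F₀ ≠ ⊤) :
    ∃ (F₁ : Subfield F) (r : ℕ), r.Prime ∧ Fintype.card F = Nat.card F₁ ^ r ∧ F₀ ≤ F₁ := by
  classical
  obtain ⟨p, f, hp, hchar, hf, hcard⟩ := exists_prime_pow (F := F)
  haveI := Fact.mk hp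
  haveI := hchar
  haveI : CharP F₀ p := (RingHom.charP_iff_charP F₀.subtype p).mpr hchar
  obtain ⟨⟨g, hg⟩, -, hg'⟩ := FiniteField.card F₀ p
  simp only [PNat.mk_coe] at hg'
  have hfg : Nat.card F = Nat.card F₀ ^ Module.finrank F₀ F := Module.natCard_eq_pow_finrank
  have hf' : f = g * Module.finrank F₀ F := by
    rw [Nat.card_eq_fintype_card, Nat.card_eq_fintype_card, hcard, hg', ← pow_mul] at hfg
    exact Nat.pow_right_injective hp.two_le hfg
  have hd : Module.finrank F₀ F ≠ 1 := by
    intro h1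
    refine h ?_
    refine SetLike.coe_injective (Set.eq_univ_of_forall fun x => ?_) |>.trans rfl
    have hc : Nat.card F₀ = Nat.card F := by rw [hfg, h1, pow_one]
    have : Function.Bijective F₀.subtype :=
      (Nat.bijective_iff_injective_and_card _).mpr ⟨Subtype.val_injective, hc⟩
    obtain ⟨y, rfl⟩ := this.2 x
    exact y.2
  obtain ⟨r, hr, hrd⟩ := Nat.exists_prime_and_dvd hd
  obtain ⟨u, hu⟩ := hrd
  have hu0 : u ≠ 0 := by
    rintro rfl; rw [hu, mul_zero, mul_zero] at hf'; omega
  refine ⟨powFixed p (g * u), r, hr, ?_, fun x hx => ?_⟩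
  · rw [natCard_powFixed hcard ⟨r, by rw [hf', hu]; ring⟩ (Nat.mul_ne_zero hg.ne' hu0),
      ← pow_mul, hcard, hf', hu]
    congr 1; ring
  · rw [mem_powFixed, pow_mul, ← hg']
    have := congrArg Subtype.val (FiniteField.pow_card_pow u (⟨x, hx⟩ : F₀))
    simpa using this

end CfsgLib.Asch
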