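import Cfsg.Agent.Lib.Aschbacher.FormBasic
import Cfsg.Agent.Lib.Aschbacher.Fields

/-!
# A field of matrices closed under adjoints
-/

set_option autoImplicit false

namespace CfsgLib.Asch

open Matrix Cfsg.Geo
open scoped MatrixGroups

variable {ι : Type} [Fintype ι] [DecidableEq ι] [Nonempty ι] {F : Type*} [Field F] [Finite F]

omit [Finite F] in
lemma fieldSub_isField {r : ℕ} {K : Subalgebra F (Matrix ι ι F)}
    (hK : IsFieldSubalgebra r K) : IsField K :=
  { exists_pair_ne := ⟨0, 1, fun h => zero_ne_one (congrArg Subtype.val h)⟩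
    mul_comm := fun a b => Subtype.ext (hK.comm a.1 a.2 b.1 b.2)
    mul_inv_cancel := fun {a} ha => by
      obtain ⟨y, hy, hxy⟩ := hK.inv a.1 a.2 (fun h => ha (Subtype.ext h))
      exact ⟨⟨y, hy⟩, Subtype.ext hxy⟩ }

/-- a proper subalgebra of dimension `r ≥ 2` is not scalar -/
lemma exists_nonscalar_of_finrank {r : ℕ} {K : Subalgebra F (Matrix ι ι F)}
    (hK : IsFieldSubalgebra r K) (hr : 2 ≤ r) : ∃ k ∈ K, ¬ IsScalarMat k := by
  by_contra hc
  push_neg at hc
  have h1 : Module.finrank F K ≤ 1 := by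
    refine finrank_le_one (1 : K) fun x => ?_
    obtain ⟨c, hc'⟩ := hc x.1 x.2
    exact ⟨c, Subtype.ext hc'.symm⟩
  rw [hK.finrank_eq] at h1
  omega

namespace FData

variable (D : FData ι F) {r : ℕ} {K : Subalgebra F (Matrix ι ι F)}

set_option backward.isDefEq.respectTransparency false in
/-- bilinear case: self-adjoint or of degree two -/
theorem selfAdjoint_or_two (hσ : D.σ = RingHom.id F) (hr : r.Prime) (hK : IsFieldSubalgebra r K)
    (hadj : ∀ k ∈ K, D.adj k ∈ K) : (∀ k ∈ K, D.adj k = k) ∨ r = 2 := by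
  classical
  refine or_iff_not_imp_left.mpr fun hne => ?_
  push_neg at hne
  obtain ⟨k₀, hk₀, hne⟩ := hne
  letI : Field K := (fieldSub_isField hK).toField
  haveI : Finite K := Module.finite_of_finite F
  let θ : K ≃ₐ[F] K :=
    { toFun := fun k => ⟨D.adj k.1, hadj k.1 k.2⟩
      invFun := fun k => ⟨D.adj k.1, hadj k.1 k.2⟩
      left_inv := fun k => Subtype.ext (D.adj_adj k.1)
      right_inv := fun k => Subtype.ext (D.adj_adj k.1)
      map_mul' := fun a b => Subtype.ext (by
        show D.adj (a.1 * b.1) = D.adj a.1 * D.adj b.1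
        rw [hK.comm a.1 a.2 b.1 b.2, D.adj_mul])
      map_add' := fun a b => Subtype.ext (D.adj_add a.1 b.1)
      commutes' := fun c => Subtype.ext (by
        show D.adj (algebraMap F (Matrix ι ι F) c) = algebraMap F (Matrix ι ι F) c
        rw [Algebra.algebraMap_eq_smul_one, D.adj_smul, D.adj_one, hσ]; rfl) }
  have h2 : orderOf θ = 2 := by
    refine orderOf_eq_prime (AlgEquiv.ext fun k => Subtype.ext (D.adj_adj k.1)) fun h1 => hne ?_
    exact congrArg Subtype.val (AlgEquiv.congr_fun h1 ⟨k₀, hk₀⟩)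
  have h3 : (2 : ℕ) ∣ Nat.card (K ≃ₐ[F] K) := h2 ▸ orderOf_dvd_natCard θ
  rw [IsGalois.card_aut_eq_finrank, hK.finrank_eq] at h3
  exact ((Nat.prime_dvd_prime_iff_eq Nat.prime_two hr).mp h3).symm

set_option backward.isDefEq.respectTransparency false in
/-- hermitian case: the degree is odd -/
theorem ne_two_of_adjoint (hσ : D.σ ≠ RingHom.id F) (hK : IsFieldSubalgebra r K)
    (hadj : ∀ k ∈ K, D.adj k ∈ K) : r ≠ 2 := by
  classical
  rintro rfl
  cases nonempty_fintype F
  obtain ⟨p, f, hp, hchar, hf, hcard⟩ := exists_prime_pow (F := F)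
  haveI := Fact.mk hp
  letI : Field K := (fieldSub_isField hK).toField
  haveI : Finite K := Module.finite_of_finite F
  haveI : CharP K p := charP_of_injective_algebraMap (algebraMap F K).injective p
  letI : Algebra (ZMod p) K := ZMod.algebra K p
  haveI : Fintype K := Fintype.ofFinite K
  have hKcard : Fintype.card K = Fintype.card F ^ 2 := by
    rw [← Nat.card_eq_fintype_card, Module.natCard_eq_pow_finrank (K := F), hK.finrank_eq, Nat.card_eq_fintype_card]
  let θ : K ≃+* K :=
    { toFun := fun k => ⟨D.adj k.1, hadj k.1 k.2⟩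
      invFun := fun k => ⟨D.adj k.1, hadj k.1 k.2⟩
      left_inv := fun k => Subtype.ext (D.adj_adj k.1)
      right_inv := fun k => Subtype.ext (D.adj_adj k.1)
      map_mul' := fun a b => Subtype.ext (by
        show D.adj (a.1 * b.1) = D.adj a.1 * D.adj b.1
        rw [hK.comm a.1 a.2 b.1 b.2, D.adj_mul])
      map_add' := fun a b => Subtype.ext (D.adj_add a.1 b.1) }
  let ψ : K ≃+* K := RingEquiv.ofBijective (iterateFrobenius K p f)
    (Finite.injective_iff_bijective.mp (iterateFrobenius K p f).injective)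
  have hψa : ∀ a : K, ψ a = a ^ Fintype.card F := fun a => by
    rw [hcard]; exact iterateFrobenius_def p f a
  let toAlg : (K ≃+* K) → (K ≃ₐ[ZMod p] K) := fun e =>
    AlgEquiv.ofRingEquiv (f := e) fun c => RingHom.congr_fun
      (Subsingleton.elim (e.toRingHom.comp (algebraMap (ZMod p) K)) (algebraMap (ZMod p) K)) c
  have hθ2 : orderOf (toAlg θ) = 2 := by
    refine orderOf_eq_prime (AlgEquiv.ext fun k => Subtype.ext (D.adj_adj k.1)) fun h1 => hσ ?_
    ext c
    have h4 := congrArg Subtype.val (AlgEquiv.congr_fun h1 (algebraMap F K c))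
    change D.adj (algebraMap F (Matrix ι ι F) c) = algebraMap F (Matrix ι ι F) c at h4
    rw [Algebra.algebraMap_eq_smul_one, D.adj_smul, D.adj_one] at h4
    have := congrFun (congrFun h4 (Classical.arbitrary ι)) (Classical.arbitrary ι)
    simpa using this
  have hψ2 : orderOf (toAlg ψ) = 2 := by
    refine orderOf_eq_prime (AlgEquiv.ext fun k => ?_) fun h1 => ?_
    · show ψ (ψ k) = k
      rw [hψa, hψa, ← pow_mul, ← sq, ← hKcard, FiniteField.pow_card]
    · obtain ⟨g₀, hg₀⟩ := IsCyclic.exists_ofOrder_eq_natCard (α := Kˣ)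
      have h4 : ψ (g₀ : K) = g₀ := AlgEquiv.congr_fun h1 (g₀ : K)
      rw [hψa] at h4
      have hpos : 1 < Fintype.card F := Fintype.one_lt_card
      have h5 : g₀ ^ (Fintype.card F - 1) = 1 := by
        refine Units.ext (mul_right_cancel₀ g₀.ne_zero ?_)
        rw [Units.val_pow_eq_pow_val, ← pow_succ, Nat.sub_add_cancel (by omega), h4, Units.val_one, one_mul]
      have h6 : Nat.card Kˣ ∣ Fintype.card F - 1 := hg₀ ▸ orderOf_dvd_of_pow_eq_one h5
      rw [Nat.card_units, Nat.card_eq_fintype_card, hKcard] at h6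
      have h7 := Nat.le_of_dvd (by omega) h6
      have h8 : Fintype.card F * 2 ≤ Fintype.card F ^ 2 := by rw [sq]; exact Nat.mul_le_mul_left _ hpos
      omega
  haveI : Fintype (K ≃ₐ[ZMod p] K) := Fintype.ofFinite _
  have huniq : toAlg θ = toAlg ψ := by
    by_contra hne
    have h1 := IsCyclic.card_orderOf_eq_totient (α := K ≃ₐ[ZMod p] K) (d := 2)
      (hθ2 ▸ orderOf_dvd_card)
    rw [Nat.totient_two] at h1
    exact hne (Finset.card_le_one.mp h1.le _ (by simp [hθ2]) _ (by simp [hψ2]))
  refine hσ (RingHom.ext fun c => ?_)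
  have h4 : θ (algebraMap F K c) = ψ (algebraMap F K c) := AlgEquiv.congr_fun huniq _
  rw [hψa, ← map_pow, FiniteField.pow_card] at h4
  have h5 := congrArg Subtype.val h4
  change D.adj (algebraMap F (Matrix ι ι F) c) = algebraMap F (Matrix ι ι F) c at h5
  rw [Algebra.algebraMap_eq_smul_one, D.adj_smul, D.adj_one] at h5
  have := congrFun (congrFun h5 (Classical.arbitrary ι)) (Classical.arbitrary ι)
  simpa using this

omit [Nonempty ι] [Finite F] in
/-- skewness from alternation -/
lemma skew_of_alt (halt : ∀ v, D.form v v = 0) (u v : ι → F) : D.form u v = - D.form v u := by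
  have h := halt (u + v)
  rw [D.form_add_left, D.form_add_right, D.form_add_right, halt, halt, zero_add, add_zero] at h
  exact eq_neg_of_add_eq_zero_left h

set_option backward.isDefEq.respectTransparency false in
/-- alternating case: a self-adjoint field is totally skew -/
theorem form_self_eq_zero (halt : ∀ v, D.form v v = 0) (hK : IsFieldSubalgebra r K)
    (hadj : ∀ k ∈ K, D.adj k = k) {k : Matrix ι ι F} (hk : k ∈ K) (v : ι → F) :
    D.form (k *ᵥ v) v = 0 := by
  by_cases h2 : (2 : F) = 0
  · letI : Field K := (fieldSub_isField hK).toField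
    haveI : Finite K := Module.finite_of_finite F
    haveI : CharP F 2 := CharTwo.of_one_ne_zero_of_two_eq_zero one_ne_zero h2
    haveI : CharP K 2 := charP_of_injective_algebraMap (algebraMap F K).injective 2
    obtain ⟨l, hl⟩ := (bijective_frobenius K 2).2 ⟨k, hk⟩
    have hl' : k = l.1 * l.1 := by
      have := congrArg Subtype.val hl
      rw [frobenius_def, sq] at this
      exact this.symm
    rw [hl', ← mulVec_mulVec, D.form_adj, hadj _ l.2]
    exact halt _
  · have h1 : D.form (k *ᵥ v) v = - D.form (k *ᵥ v) v := by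
      conv_lhs => rw [D.form_adj, hadj k hk, D.skew_of_alt halt]
    have h3 : (2 : F) * D.form (k *ᵥ v) v = 0 := by linear_combination h1
    exact (mul_eq_zero.mp h3).resolve_left h2

set_option backward.isDefEq.respectTransparency false in
omit [Finite F] in
/-- alternating case: a totally skew self-adjoint field has degree dividing half the dimension -/
theorem dvd_half_of_skew (halt : ∀ v, D.form v v = 0) (hK : IsFieldSubalgebra r K)
    (hadj : ∀ k ∈ K, D.adj k = k) (hskew : ∀ k ∈ K, ∀ v, D.form (k *ᵥ v) v = 0)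
    {m : ℕ} (hm : Fintype.card ι = 2 * m) : r ∣ m := by
  classical
  let P : Submodule F (ι → F) → Prop := fun W =>
    (∀ k ∈ K, ∀ w ∈ W, k *ᵥ w ∈ W) ∧ ∀ u ∈ W, ∀ v ∈ W, D.form u v = 0
  obtain ⟨W, hWP, hmax⟩ := exists_maximalFor_of_wellFoundedGT P id
    ⟨⊥, fun k _ w hw => by simp [(Submodule.mem_bot F).mp hw],
      fun u hu v _ => by rw [(Submodule.mem_bot F).mp hu, D.form_zero_left]⟩
  obtain ⟨hWK, hWs⟩ := hWP
  have hperp : D.orth W = W := by
    refine le_antisymm (fun v hv => ?_) (fun v hv w hw => hWs v hv w hw)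
    let L : K →ₗ[F] (ι → F) :=
      { toFun := fun k => (k : Matrix ι ι F) *ᵥ v
        map_add' := fun a b => by simp [add_mulVec]
        map_smul' := fun c a => by simp [smul_mulVec] }
    have hvW : ∀ w ∈ W, ∀ k : K, D.form (L k) w = 0 := fun w hw k => by
      show D.form ((k : Matrix ι ι F) *ᵥ v) w = 0
      rw [D.form_adj, hadj _ k.2]
      exact hv _ (hWK _ k.2 w hw)
    have hP : P (W ⊔ LinearMap.range L) := by
      refine ⟨fun k hk w hw => ?_, fun u hu u' hu' => ?_⟩
      · obtain ⟨a, ha, b, ⟨l, rfl⟩, rfl⟩ := Submodule.mem_sup.mp hw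
        rw [mulVec_add]
        refine Submodule.add_mem_sup (hWK k hk a ha) ⟨⟨k, hk⟩ * l, ?_⟩
        show (k * (l : Matrix ι ι F)) *ᵥ v = k *ᵥ ((l : Matrix ι ι F) *ᵥ v)
        rw [mulVec_mulVec]
      · obtain ⟨a, ha, b, ⟨l, rfl⟩, rfl⟩ := Submodule.mem_sup.mp hu
        obtain ⟨a', ha', b', ⟨l', rfl⟩, rfl⟩ := Submodule.mem_sup.mp hu'
        have h1 : D.form (L l) (L l') = 0 := by
          show D.form ((l : Matrix ι ι F) *ᵥ v) ((l' : Matrix ι ι F) *ᵥ v) = 0
          conv_lhs => rw [← hadj _ l'.2, ← D.form_adj, mulVec_mulVec]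
          exact hskew _ (mul_mem l'.2 l.2) v
        rw [D.form_add_left, D.form_add_right, D.form_add_right, hWs a ha a' ha', h1, hvW a' ha' l,
          D.form_eq_zero_comm.mpr (hvW a ha l')]
        simp
    exact hmax hP le_sup_left (Submodule.mem_sup_right ⟨1, by simp [L]⟩)
  have hdim : Module.finrank F W = m := by
    have h1 := D.finrank_add_orth W
    rw [hperp, hm] at h1
    omega
  letI : Field K := (fieldSub_isField hK).toField
  letI : Module K W :=
    { smul := fun k w => ⟨(k : Matrix ι ι F) *ᵥ (w : ι → F), hWK _ k.2 _ w.2⟩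
      one_smul := fun w => Subtype.ext (one_mulVec _)
      mul_smul := fun a b w => Subtype.ext (mulVec_mulVec _ _ _).symm
      smul_zero := fun a => Subtype.ext (mulVec_zero _)
      smul_add := fun a u v => Subtype.ext (mulVec_add _ _ _)
      add_smul := fun a b w => Subtype.ext (add_mulVec _ _ _)
      zero_smul := fun w => Subtype.ext (zero_mulVec _) }
  haveI : IsScalarTower F K W := ⟨fun c k w => Subtype.ext (smul_mulVec c (k : Matrix ι ι F) (w : ι → F))⟩
  refine ⟨Module.finrank K W, ?_⟩
  have h := Module.finrank_mul_finrank F K W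
  rw [hK.finrank_eq, hdim] at h
  exact h.symm

end FData

end CfsgLib.Asch
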