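import Cfsg.Agent.Lib.Aschbacher.FormKron
import Cfsg.Agent.Lib.Aschbacher.FormField

/-!
# Alternating tensor products: symmetric planes and characteristic two
-/

set_option autoImplicit false

namespace CfsgLib.Asch

open Matrix Cfsg.Geo
open scoped MatrixGroups Kronecker

variable {ι : Type} [Fintype ι] [DecidableEq ι] [Nonempty ι] {F : Type*} [Field F] [Finite F]

omit [Nonempty ι] [Finite F] in
lemma tens_inj_right {X Y : Type} [Fintype X] [DecidableEq X] [Fintype Y] [DecidableEq Y] [Nonempty X]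
    {e : ι ≃ X × Y} {P : GL ι F} {B B' : Matrix Y Y F}
    (h : tens e P (1 : Matrix X X F) B = tens e P 1 B') : B = B' := by
  rw [tens_swap, tens_swap e P 1] at h
  exact tens_left_injective h

/-- the right factor of an irreducible group of Kronecker products is irreducible -/
theorem factor_irred {G : Subgroup (GL ι F)} (hirr : ActsIrreducibly (matrixSet G)) {X Y : Type}
    [Fintype X] [DecidableEq X] [Fintype Y] [DecidableEq Y] [Nonempty X] (e : ι ≃ X × Y) (P : GL ι F)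
    (S : Subgroup (GL Y F))
    (h : ∀ g ∈ G, ∃ (a : Matrix X X F) (b : GL Y F), b ∈ S ∧
      (g : Matrix ι ι F) = tens e P a (b : Matrix Y Y F)) :
    ActsIrreducibly (matrixSet S) := by
  intro U hU
  obtain ⟨U', hU'⟩ := Submodule.exists_isCompl U
  set pr : Matrix Y Y F := LinearMap.toMatrix' (U.subtype ∘ₗ U.linearProjOfIsCompl U' hU')
  have hpr : ∀ v, pr *ᵥ v = (U.linearProjOfIsCompl U' hU' v : Y → F) := fun v => by
    simp [pr, LinearMap.toMatrix'_mulVec]
  have hprU : ∀ v ∈ U, pr *ᵥ v = v := fun v hv => by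
    rw [hpr]; exact congrArg Subtype.val (Submodule.linearProjOfIsCompl_apply_left hU' ⟨v, hv⟩)
  have hpp : pr * pr = pr := Matrix.ext_of_mulVec_single fun i => by
    rw [← mulVec_mulVec]; exact hprU _ (by rw [hpr]; exact Subtype.coe_prop _)
  set T := tens e P (1 : Matrix X X F) pr
  have hTT : T * T = T := by rw [tens_mul, hpp, mul_one]
  rcases irred_apply hirr (W := LinearMap.range (Matrix.toLin' T)) (fun g hg w hw => by
      obtain ⟨v, rfl⟩ := hw
      obtain ⟨a, b, hb, hgab⟩ := h g hg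
      refine ⟨tens e P a ((b : Matrix Y Y F) * pr) *ᵥ v, ?_⟩
      have hb' : pr * ((b : Matrix Y Y F) * pr) = (b : Matrix Y Y F) * pr :=
        Matrix.ext_of_mulVec_single fun i => by
          rw [← mulVec_mulVec, ← mulVec_mulVec]
          refine hprU _ (map_le_iff_mulVec.mp (hU _ (coe_mem_matrixSet hb)) _ ?_)
          rw [hpr]; exact Subtype.coe_prop _
      simp only [Matrix.toLin'_apply, mulVec_mulVec, T, hgab, tens_mul, hb', one_mul, mul_one]) with hb | ht
  · left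
    have hT0 : T = 0 := Matrix.toLin'.injective (by rw [map_zero]; exact LinearMap.range_eq_bot.mp hb)
    have hpr0 : pr = 0 := tens_inj_right (hT0.trans (by simp [tens]))
    rw [Submodule.eq_bot_iff]
    intro v hv
    rw [← hprU v hv, hpr0, zero_mulVec]
  · right
    have hT1 : T = 1 := Matrix.ext_of_mulVec_single fun i => by
      obtain ⟨u, hu⟩ := (ht ▸ Submodule.mem_top : Pi.single i 1 ∈ LinearMap.range (Matrix.toLin' T))
      rw [one_mulVec, ← hu, Matrix.toLin'_apply, mulVec_mulVec, hTT]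
    have hpr1 : pr = 1 := tens_inj_right (hT1.trans tens_one.symm)
    rw [eq_top_iff]
    intro v _
    rw [← one_mulVec v, ← hpr1, hpr]
    exact Subtype.coe_prop _

omit [Nonempty ι] [DecidableEq ι] [Finite F] in
lemma sform_self_eq_zero (h2 : (2 : F) = 0) {S : Matrix ι ι F} (hS : Sᵀ = S) (hd : ∀ i, S i i = 0)
    (v : ι → F) : sform (RingHom.id F) S v v = 0 := by
  classical
  simp only [sform, RingHom.id_apply, dotProduct, Matrix.mulVec, Finset.mul_sum]
  rw [← Fintype.sum_prod_type']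
  refine Finset.sum_involution (fun p _ => (p.2, p.1)) (fun p _ => ?_) (fun p _ hne heq => ?_)
    (fun p _ => Finset.mem_univ _) (fun p _ => rfl)
  · have h1 : S p.2 p.1 = S p.1 p.2 := congrFun (congrFun hS p.1) p.2
    rw [h1]
    linear_combination (v p.1 * S p.1 p.2 * v p.2) * h2
  · obtain ⟨a, b⟩ := p
    simp only [Prod.mk.injEq] at heq
    obtain ⟨rfl, -⟩ := heq
    exact hne (by simp [hd])

omit [Nonempty ι] [Finite F] in
lemma diag_eq_form (D : FData ι F) (i : ι) : (D.B : Matrix ι ι F) i i = D.form (Pi.single i 1) (Pi.single i 1) :=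
  (sform_single D.σ _ i i).symm

omit [Nonempty ι] [Finite F] in
/-- a matrix whose symmetrisation is a given alternating matrix -/
lemma exists_halving {w : ℕ} {G₁ : Matrix (Fin w) (Fin w) F} (hs : G₁ᵀ = G₁) (hd : ∀ i, G₁ i i = 0) :
    ∃ T : Matrix (Fin w) (Fin w) F, T + Tᵀ = G₁ := by
  refine ⟨Matrix.of fun i j => if i < j then G₁ i j else 0, ?_⟩
  ext i j
  have hsij : G₁ j i = G₁ i j := congrFun (congrFun hs i) j
  rcases lt_trichotomy i j with h | h | h
  · simp [h, h.not_gt]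
  · subst h; simp [hd]
  · simp [h, h.not_gt, hsij]

omit [Nonempty ι] [Finite F] in
lemma exists_scalar_of_mem_similarity {S : Matrix ι ι F} {g : GL ι F}
    (hg : g ∈ similarityGroup (sform (RingHom.id F) S)) :
    ∃ c : F, (g : Matrix ι ι F)ᵀ * S * (g : Matrix ι ι F) = c • S := by
  obtain ⟨c, hc⟩ := hg
  refine ⟨c, sform_injective (σ := RingHom.id F) (funext₂ fun u v => ?_)⟩
  have h := sform_mulVec (RingHom.id F) S (g : Matrix ι ι F) u v
  rw [show (g : Matrix ι ι F).map (RingHom.id F) = (g : Matrix ι ι F) by ext; simp] at h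
  rw [← h, hc u v, sform_smul_matrix]

namespace FData

variable (D : FData ι F)

omit [Finite F] in
lemma alt_trans {κ : Type} [Fintype κ] [DecidableEq κ] (e : ι ≃ κ) (P : GL ι F)
    (halt : ∀ v, D.form v v = 0) (x : κ → F) : (D.trans e P).form x x = 0 := by
  rw [← D.trans_form]; exact halt _

set_option maxHeartbeats 400000 in
/-- characteristic two: an alternating tensor product carries an invariant quadratic form -/
theorem inEvenQuad_of_kron (hσ : D.σ = RingHom.id F) (halt : ∀ v, D.form v v = 0) (h2 : (2 : F) = 0)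
    {G : Subgroup (GL ι F)} (hirr : ActsIrreducibly (matrixSet G)) (hG : G ≤ D.isom) {w k : ℕ}
    (hw : 2 ≤ w) (hk : 2 ≤ k) (e : ι ≃ Fin w × Fin k) (P : GL ι F)
    {G₁ : GL (Fin w) F} {G₂ : GL (Fin k) F}
    (hB : ((D.trans e P).B : Matrix (Fin w × Fin k) (Fin w × Fin k) F)
      = (G₁ : Matrix _ _ F) ⊗ₖ (G₂ : Matrix _ _ F))
    (hs1 : (G₁ : Matrix (Fin w) (Fin w) F)ᵀ = (G₁ : Matrix (Fin w) (Fin w) F))
    (hs2 : (G₂ : Matrix (Fin k) (Fin k) F)ᵀ = (G₂ : Matrix (Fin k) (Fin k) F))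
    (hdec : ∀ g ∈ G, ∃ (a : GL (Fin w) F) (b : GL (Fin k) F),
      (g : Matrix ι ι F) = tens e P (a : Matrix _ _ F) (b : Matrix _ _ F)) :
    D.InEvenQuad G := by
  haveI : Nonempty (Fin w) := ⟨⟨0, by omega⟩⟩
  haveI : Nonempty (Fin k) := ⟨⟨0, by omega⟩⟩
  set D' := D.trans e P with hD'
  have hσ' : D'.σ = RingHom.id F := hσ
  have hid : ∀ {Z : Type} (M : Matrix Z Z F), M.map D'.σ = M := fun M => by rw [hσ']; ext; simp
  have hsim : ∀ g ∈ G, ∀ (a : GL (Fin w) F) (b : GL (Fin k) F), (g : Matrix ι ι F) = tens e P (a : Matrix _ _ F) (b : Matrix _ _ F) →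
      ∃ μ : F, μ ≠ 0 ∧ (a : Matrix _ _ F)ᵀ * (G₁ : Matrix _ _ F) * (a : Matrix (Fin w) (Fin w) F) = μ • (G₁ : Matrix _ _ F) ∧
        (b : Matrix _ _ F)ᵀ * (G₂ : Matrix _ _ F) * (b : Matrix (Fin k) (Fin k) F) = μ⁻¹ • (G₂ : Matrix _ _ F) := by
    intro g hg a b hab
    have h := D'.similitude_factors hB (D.pull_mem_isom e P (hG hg)) (pull_of_tens e P hab)
    simpa only [hid] using h
  have hprod : ∀ i j, (G₁ : Matrix _ _ F) i i * (G₂ : Matrix _ _ F) j j = 0 := fun i j => by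
    have h := diag_eq_form D' (i, j)
    rw [hB, D.alt_trans e P halt] at h
    exact h
  have hirr1 : ∀ (S : Subgroup (GL (Fin w) F)),
      (∀ g ∈ G, ∀ (a : GL (Fin w) F) (b : GL (Fin k) F),
        (g : Matrix ι ι F) = tens e P (a : Matrix _ _ F) (b : Matrix _ _ F) → a ∈ S) →
      ActsIrreducibly (matrixSet S) := fun S hS =>
    factor_irred hirr (e.trans (Equiv.prodComm _ _)) P S fun g hg => by
      obtain ⟨a, b, hab⟩ := hdec g hg
      exact ⟨b, a, hS g hg a b hab, hab.trans (tens_swap e P _ _)⟩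
  have hirr2 : ∀ (S : Subgroup (GL (Fin k) F)),
      (∀ g ∈ G, ∀ (a : GL (Fin w) F) (b : GL (Fin k) F),
        (g : Matrix ι ι F) = tens e P (a : Matrix _ _ F) (b : Matrix _ _ F) → b ∈ S) →
      ActsIrreducibly (matrixSet S) := fun S hS =>
    factor_irred hirr e P S fun g hg => by
      obtain ⟨a, b, hab⟩ := hdec g hg
      exact ⟨a, b, hS g hg a b hab, hab⟩
  have halt1 : ∀ i, (G₁ : Matrix (Fin w) (Fin w) F) i i = 0 := by
    refine diag_eq_zero_of_symmetric h2 (by simpa using hw)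
      (hirr1 (Subgroup.closure {a | ∃ g ∈ G, ∃ b : GL (Fin k) F,
        (g : Matrix ι ι F) = tens e P (a : Matrix _ _ F) (b : Matrix _ _ F)})
        (fun g hg a b hab => Subgroup.subset_closure ⟨g, hg, b, hab⟩)) hs1 ?_
    intro a ha
    refine exists_scalar_of_mem_similarity ((Subgroup.closure_le _).mpr ?_ ha)
    rintro a ⟨g, hg, b, hab⟩
    obtain ⟨μ, hμ, h, -⟩ := hsim g hg a b hab
    refine mem_similarity_sform (c := Units.mk0 μ hμ) ?_
    rw [show (a : Matrix (Fin w) (Fin w) F).map (RingHom.id F) = (a : Matrix (Fin w) (Fin w) F) by ext; simp]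
    exact h
  have halt2 : ∀ j, (G₂ : Matrix (Fin k) (Fin k) F) j j = 0 := by
    refine diag_eq_zero_of_symmetric h2 (by simpa using hk)
      (hirr2 (Subgroup.closure {b | ∃ g ∈ G, ∃ a : GL (Fin w) F,
        (g : Matrix ι ι F) = tens e P (a : Matrix _ _ F) (b : Matrix _ _ F)})
        (fun g hg a b hab => Subgroup.subset_closure ⟨g, hg, a, hab⟩)) hs2 ?_
    intro b hb
    refine exists_scalar_of_mem_similarity ((Subgroup.closure_le _).mpr ?_ hb)
    rintro b ⟨g, hg, a, hab⟩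
    obtain ⟨μ, hμ, -, h⟩ := hsim g hg a b hab
    refine mem_similarity_sform (c := Units.mk0 μ⁻¹ (inv_ne_zero hμ)) ?_
    rw [show (b : Matrix (Fin k) (Fin k) F).map (RingHom.id F) = (b : Matrix (Fin k) (Fin k) F) by ext; simp]
    exact h
  obtain ⟨T, hT⟩ := exists_halving hs1 halt1
  set M : Matrix (Fin w × Fin k) (Fin w × Fin k) F := T ⊗ₖ (G₂ : Matrix _ _ F)
  let cd : (ι → F) → (Fin w × Fin k → F) := fun v => (((P⁻¹ : GL ι F) : Matrix ι ι F) *ᵥ v) ∘ e.symm
  have hcd : ∀ v, (P : Matrix ι ι F) *ᵥ (cd v ∘ e) = v := fun v => by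
    have : cd v ∘ e = ((P⁻¹ : GL ι F) : Matrix ι ι F) *ᵥ v := by funext i; simp [cd]
    rw [this, mulVec_mulVec, Units.mul_inv, one_mulVec]
  set Q : (ι → F) → F := fun v => sform (RingHom.id F) M (cd v) (cd v) with hQ
  have hMB : M + Mᵀ = (D'.B : Matrix _ _ F) := by
    rw [hB, transpose_kron, hs2, ← Matrix.add_kronecker, hT]
  have hpol : ∀ u v, QuadraticMap.polar Q u v = D.form u v := by
    intro u v
    conv_rhs => rw [← hcd u, ← hcd v, D.trans_form]
    have hadd : cd (u + v) = cd u + cd v := by funext i; simp [cd, mulVec_add]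
    have hform : D'.form (cd u) (cd v) = sform (RingHom.id F) (M + Mᵀ) (cd u) (cd v) := by
      rw [hMB, FData.form, hσ']
    rw [← hD', hform]
    have hsplit : sform (RingHom.id F) (M + Mᵀ) (cd u) (cd v)
        = sform (RingHom.id F) M (cd u) (cd v) + sform (RingHom.id F) M (cd v) (cd u) := by
      rw [← sform_flip M (cd u) (cd v)]
      simp [sform, Matrix.add_mulVec, dotProduct_add]
    rw [hsplit]
    simp only [QuadraticMap.polar, hQ, hadd, sform_add_left, sform_add_right]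
    ring
  refine ⟨h2, Q, D.quad_nondegenerate hσ (fun c v => ?_) hpol, hpol, fun g hg => ⟨1, fun v => ?_⟩⟩
  · have : cd (c • v) = c • cd v := by funext i; simp [cd, mulVec_smul]
    simp only [hQ, this, sform_smul_left, sform_smul_right, RingHom.id_apply]; ring
  · rw [Units.val_one, one_mul]
    obtain ⟨a, b, hab⟩ := hdec g hg
    obtain ⟨μ, hμ, ha, hb⟩ := hsim g hg a b hab
    have hcdg : cd ((g : Matrix ι ι F) *ᵥ v)
        = ((a : Matrix _ _ F) ⊗ₖ (b : Matrix _ _ F)) *ᵥ cd v := by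
      rw [← pull_of_tens e P hab, coe_pull, pullMat, Matrix.coe_reindexAlgEquiv, Matrix.reindex_apply,
        Matrix.submatrix_mulVec_equiv, Equiv.symm_symm]
      have h2' : cd v ∘ e = ((P⁻¹ : GL ι F) : Matrix ι ι F) *ᵥ v := by funext i; simp [cd]
      rw [h2', cj_mulVec]
    simp only [hQ, hcdg, sform_mulVec]
    have hid' : ((a : Matrix (Fin w) (Fin w) F) ⊗ₖ (b : Matrix (Fin k) (Fin k) F)).map (RingHom.id F)
        = (a : Matrix (Fin w) (Fin w) F) ⊗ₖ (b : Matrix (Fin k) (Fin k) F) := by ext; simp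
    rw [hid', transpose_kron, ← Matrix.mul_kronecker_mul, ← Matrix.mul_kronecker_mul, hb, kronecker_smul]
    set E : Matrix (Fin w) (Fin w) F := μ⁻¹ • ((a : Matrix _ _ F)ᵀ * T * (a : Matrix _ _ F)) - T with hE
    have hEs : Eᵀ = E := by
      have h1 : ((a : Matrix _ _ F)ᵀ * T * (a : Matrix _ _ F)) + ((a : Matrix _ _ F)ᵀ * T * (a : Matrix _ _ F))ᵀ
          = μ • (G₁ : Matrix _ _ F) := by
        rw [← ha, ← hT, transpose_mul, transpose_mul, transpose_transpose, mul_add, add_mul, mul_assoc, mul_assoc]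
      have h3 : E + Eᵀ = 0 := by
        rw [hE, transpose_sub, transpose_smul]
        calc _ = μ⁻¹ • (((a : Matrix _ _ F)ᵀ * T * (a : Matrix _ _ F))
              + ((a : Matrix _ _ F)ᵀ * T * (a : Matrix _ _ F))ᵀ) - (T + Tᵀ) := by rw [smul_add]; abel
          _ = 0 := by rw [h1, hT, smul_smul, inv_mul_cancel₀ hμ, one_smul, sub_self]
      rw [eq_neg_of_add_eq_zero_right h3]
      ext i j
      rw [Matrix.neg_apply]
      linear_combination (-(E i j)) * h2
    have hzero : sform (RingHom.id F) (E ⊗ₖ (G₂ : Matrix (Fin k) (Fin k) F)) (cd v) (cd v) = 0 :=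
      sform_self_eq_zero h2 (by rw [transpose_kron, hEs, hs2]) (fun p => by simp [halt2]) _
    have hsum : μ⁻¹ • (((a : Matrix _ _ F)ᵀ * T * (a : Matrix _ _ F)) ⊗ₖ (G₂ : Matrix (Fin k) (Fin k) F))
        = E ⊗ₖ (G₂ : Matrix (Fin k) (Fin k) F) + T ⊗ₖ (G₂ : Matrix (Fin k) (Fin k) F) := by
      rw [← Matrix.add_kronecker, hE, sub_add_cancel, smul_kronecker]
    rw [hsum]
    simp only [sform, Matrix.add_mulVec, dotProduct_add] at hzero ⊢
    rw [hzero, zero_add]

/-- an orthogonal plane as tensor factor gives a skew generator scaled by the group -/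
theorem exists_plane_generator (hσ : D.σ = RingHom.id F) (h2 : (2 : F) ≠ 0)
    {G : Subgroup (GL ι F)} (hG : G ≤ D.isom) {w : ℕ}
    (hw : 0 < w) (e : ι ≃ Fin w × Fin 2) (P : GL ι F) {G₁ : GL (Fin w) F} {G₂ : GL (Fin 2) F}
    (hB : ((D.trans e P).B : Matrix (Fin w × Fin 2) (Fin w × Fin 2) F)
      = (G₁ : Matrix _ _ F) ⊗ₖ (G₂ : Matrix _ _ F))
    (hs2 : (G₂ : Matrix (Fin 2) (Fin 2) F)ᵀ = (G₂ : Matrix (Fin 2) (Fin 2) F))
    (hdec : ∀ g ∈ G, ∃ (a : GL (Fin w) F) (b : GL (Fin 2) F),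
      (g : Matrix ι ι F) = tens e P (a : Matrix _ _ F) (b : Matrix _ _ F)) :
    ∃ M : Matrix ι ι F, D.adj M = (-1 : F) • M ∧ ¬ IsScalarMat M ∧ (∀ g ∈ G, ∃ c : F, cj g M = c • M) ∧
      ∃ d : F, M * M = d • 1 := by
  classical
  haveI : Nonempty (Fin w) := ⟨⟨0, hw⟩⟩
  set A : Matrix (Fin 2) (Fin 2) F := !![0, 1; -1, 0] with hA
  set S : Matrix (Fin 2) (Fin 2) F := ((G₂⁻¹ : GL (Fin 2) F) : Matrix (Fin 2) (Fin 2) F) with hS
  set J : Matrix (Fin 2) (Fin 2) F := S * A with hJ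
  set M : Matrix ι ι F := tens e P (1 : Matrix (Fin w) (Fin w) F) J with hM
  set D' := D.trans e P
  have hid : ∀ {Z : Type} (X : Matrix Z Z F), X.map D'.σ = X := fun X => by
    rw [show D'.σ = RingHom.id F from hσ]; ext; simp
  have hSt : Sᵀ = S := by rw [hS, Matrix.coe_units_inv, Matrix.transpose_nonsing_inv, hs2]
  have hAt : Aᵀ = -A := by ext a b; fin_cases a <;> fin_cases b <;> simp [A]
  -- the adjoint of the generator
  have hadjM : D.adj M = (-1 : F) • M := by
    have h1 : D'.adj ((1 : Matrix (Fin w) (Fin w) F) ⊗ₖ J) = (-1 : F) • ((1 : Matrix (Fin w) (Fin w) F) ⊗ₖ J) := by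
      have hinv : ((D'.B⁻¹ : GL (Fin w × Fin 2) F) : Matrix _ _ F)
          = ((G₁⁻¹ : GL (Fin w) F) : Matrix (Fin w) (Fin w) F) ⊗ₖ S := by
        have : D'.B = kronUnit G₁ G₂ := Units.ext hB
        rw [this]; rfl
      rw [adj, hid, hinv, hB, transpose_kron, transpose_one, ← Matrix.mul_kronecker_mul,
        ← Matrix.mul_kronecker_mul, mul_one, Units.inv_mul, hJ, transpose_mul, hSt, hAt, ← kronecker_smul]
      congr 1
      simp only [hS, mul_assoc, Matrix.neg_mul, Matrix.mul_neg, neg_smul, one_smul, Units.inv_mul, mul_one]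
    have h3 := congrArg (pushMat e P) h1
    rw [show (1 : Matrix (Fin w) (Fin w) F) ⊗ₖ J = pullMat e P M by rw [hM, tens_eq_push, pullMat_pushMat],
      D.trans_adj, pushMat_pullMat] at h3
    rw [h3, pushMat, map_smul, cj_smul]
    congr 1
    exact pushMat_pullMat e P M
  -- conjugation scales the generator
  have hcjM : ∀ g ∈ G, ∃ c : F, cj g M = c • M := by
    intro g hg
    obtain ⟨a, b, hab⟩ := hdec g hg
    obtain ⟨μ, hμ, -, hb⟩ := D'.similitude_factors hB (D.pull_mem_isom e P (hG hg)) (pull_of_tens e P hab)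
    rw [hid] at hb
    have hbA : (b : Matrix (Fin 2) (Fin 2) F)ᵀ * A * (b : Matrix (Fin 2) (Fin 2) F) = (b : Matrix (Fin 2) (Fin 2) F).det • A := by
      rw [Matrix.det_fin_two]
      ext p q
      fin_cases p <;> fin_cases q <;> simp [A, Matrix.mul_apply] <;> ring
    -- `J b = (det b * μ) • b J`
    have hbt : IsUnit (b : Matrix (Fin 2) (Fin 2) F)ᵀ := (Matrix.isUnit_transpose _).mpr b.isUnit
    have hGJ : (G₂ : Matrix _ _ F) * J = A := by rw [hJ, hS]; simp [← mul_assoc]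
    have hJb : J * (b : Matrix (Fin 2) (Fin 2) F) = ((b : Matrix (Fin 2) (Fin 2) F).det * μ) • ((b : Matrix (Fin 2) (Fin 2) F) * J) := by
      refine (hbt.mul G₂.isUnit).mul_left_cancel ?_
      calc (b : Matrix (Fin 2) (Fin 2) F)ᵀ * (G₂ : Matrix _ _ F) * (J * (b : Matrix (Fin 2) (Fin 2) F))
          = (b : Matrix (Fin 2) (Fin 2) F)ᵀ * ((G₂ : Matrix _ _ F) * J) * (b : Matrix (Fin 2) (Fin 2) F) := by
            simp only [mul_assoc]
        _ = (b : Matrix (Fin 2) (Fin 2) F).det • A := by rw [hGJ, hbA]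
        _ = _ := by
          rw [Matrix.mul_smul, ← mul_assoc, hb, smul_mul_assoc, smul_smul, hGJ, mul_assoc, mul_inv_cancel₀ hμ, mul_one]
    set c := (b : Matrix (Fin 2) (Fin 2) F).det * μ
    have hc0 : c ≠ 0 := mul_ne_zero ((Matrix.isUnit_iff_isUnit_det _).mp b.isUnit).ne_zero hμ
    refine ⟨c⁻¹, ?_⟩
    have h4 : M * (g : Matrix ι ι F) = c • ((g : Matrix ι ι F) * M) := by
      rw [hab, hM, tens_mul, tens_mul, hJb, one_mul, mul_one, tens_smul_right]
    calc cj g M = c⁻¹ • ((c • ((g : Matrix ι ι F) * M)) * ((g⁻¹ : GL ι F) : Matrix ι ι F)) := by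
          rw [smul_mul_assoc, smul_smul, inv_mul_cancel₀ hc0, one_smul]; rfl
      _ = c⁻¹ • M := by rw [← h4, mul_assoc, Units.mul_inv, mul_one]
  have hJJ : ∃ d : F, J * J = d • 1 := by
    refine ⟨S 0 1 * S 0 1 - S 0 0 * S 1 1, ?_⟩
    have h10 : S 1 0 = S 0 1 := congrFun (congrFun hSt 0) 1
    ext p q
    fin_cases p <;> fin_cases q <;>
      simp [hJ, A, Matrix.mul_apply, Fin.sum_univ_two, h10] <;> ring
  have hMs : ¬ IsScalarMat M := by
    rintro ⟨c, hc⟩
    have h4 : J = c • 1 := tens_inj_right (X := Fin w) (e := e) (P := P) (by rw [← hM, hc, tens_smul_right, tens_one])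
    have h5 : A = c • (G₂ : Matrix _ _ F) := by
      calc A = (G₂ : Matrix _ _ F) * J := by rw [hJ, hS]; simp [← mul_assoc]
        _ = _ := by rw [h4, Matrix.mul_smul, mul_one]
    have h01 := congrFun (congrFun h5 0) 1
    have h10 := congrFun (congrFun h5 1) 0
    simp [A] at h01 h10
    have hsym : (G₂ : Matrix (Fin 2) (Fin 2) F) 1 0 = (G₂ : Matrix (Fin 2) (Fin 2) F) 0 1 := congrFun (congrFun hs2 0) 1
    rw [hsym, ← h01] at h10
    exact h2 (by linear_combination -h10)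
  refine ⟨M, hadjM, hMs, hcjM, ?_⟩
  obtain ⟨d, hd⟩ := hJJ
  exact ⟨d, by rw [hM, tens_mul, hd, mul_one, tens_smul_right, tens_one]⟩

set_option backward.isDefEq.respectTransparency false in
/-- an orthogonal plane as tensor factor: a decomposition, a pair, or a quadratic field -/
theorem cases_of_symmetric_plane (hσ : D.σ = RingHom.id F) (h2 : (2 : F) ≠ 0)
    {G : Subgroup (GL ι F)} (hirr : ActsIrreducibly (matrixSet G)) (hG : G ≤ D.isom) {w : ℕ}
    (hw : 0 < w) (e : ι ≃ Fin w × Fin 2) (P : GL ι F) {G₁ : GL (Fin w) F} {G₂ : GL (Fin 2) F}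
    (hB : ((D.trans e P).B : Matrix (Fin w × Fin 2) (Fin w × Fin 2) F)
      = (G₁ : Matrix _ _ F) ⊗ₖ (G₂ : Matrix _ _ F))
    (hs2 : (G₂ : Matrix (Fin 2) (Fin 2) F)ᵀ = (G₂ : Matrix (Fin 2) (Fin 2) F))
    (hdec : ∀ g ∈ G, ∃ (a : GL (Fin w) F) (b : GL (Fin 2) F),
      (g : Matrix ι ι F) = tens e P (a : Matrix _ _ F) (b : Matrix _ _ F)) :
    D.InNondegDecomp G ∨ D.InSingularPair G ∨
      ∃ K : Subalgebra F (Matrix ι ι F), IsFieldSubalgebra 2 K ∧ (∀ k ∈ K, D.adj k ∈ K) ∧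
        (∃ k ∈ K, D.adj k ≠ k) ∧ G ≤ subalgebraNormalizer K := by
  classical
  obtain ⟨M, hadjM, hMs, hcjM, hMM'⟩ := D.exists_plane_generator hσ h2 hG hw e P hB hs2 hdec
  let Z : Subalgebra F (Matrix ι ι F) := Algebra.adjoin F {M}
  have hMZ : M ∈ Z := Algebra.subset_adjoin rfl
  have hlin : ∀ z ∈ Z, ∃ a b : F, z = a • 1 + b • M := by
    obtain ⟨d, hMM⟩ := hMM' 
    intro z hz
    induction hz using Algebra.adjoin_induction with
    | mem z hz => exact ⟨0, 1, by simp [Set.mem_singleton_iff.mp hz]⟩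
    | algebraMap c => exact ⟨c, 0, by simp [Algebra.algebraMap_eq_smul_one]⟩
    | add x y _ _ hx hy =>
      obtain ⟨a, b, rfl⟩ := hx; obtain ⟨a', b', rfl⟩ := hy
      exact ⟨a + a', b + b', by rw [add_smul, add_smul]; abel⟩
    | mul x y _ _ hx hy =>
      obtain ⟨a, b, rfl⟩ := hx; obtain ⟨a', b', rfl⟩ := hy
      refine ⟨a * a' + b * b' * d, a * b' + b * a', ?_⟩
      simp only [add_mul, mul_add, smul_mul_assoc, mul_smul_comm, one_mul, mul_one, hMM, smul_smul, add_smul]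
      module
  have hmemZ : ∀ a b : F, a • 1 + b • M ∈ Z := fun a b =>
    add_mem (Subalgebra.smul_mem _ (one_mem _) a) (Subalgebra.smul_mem _ hMZ b)
  have hZ : InvComm G Z := by
    refine ⟨fun x hx y hy => ?_, fun g hg z hz => ?_⟩
    · obtain ⟨a, b, rfl⟩ := hlin x hx; obtain ⟨a', b', rfl⟩ := hlin y hy
      simp only [add_mul, mul_add, smul_mul_assoc, mul_smul_comm, one_mul, mul_one]
      module
    · obtain ⟨a, b, rfl⟩ := hlin z hz
      obtain ⟨c, hc⟩ := hcjM g hg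
      simp only [cj_add, cj_smul, cj_one, hc, smul_smul]
      exact hmemZ _ _
  have hadjlin : ∀ a b : F, D.adj (a • 1 + b • M) = a • 1 + (-b) • M := fun a b => by
    rw [D.adj_add, D.adj_smul, D.adj_smul, D.adj_one, hadjM, hσ, smul_smul]
    simp
  have hadjZ : ∀ z ∈ Z, D.adj z ∈ Z := by
    intro z hz
    obtain ⟨a, b, rfl⟩ := hlin z hz
    rw [hadjlin]; exact hmemZ _ _
  rcases D.invComm_cases hirr hG hZ hadjZ ⟨M, hMZ, hMs⟩ with h | h | ⟨r, K, hr, hK, -, hGK, hKadj, hKZ⟩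
  · exact Or.inl h
  · exact Or.inr (Or.inl h)
  obtain ⟨k, hk, hks⟩ := exists_nonscalar_of_finrank hK hr.two_le
  have hkne : D.adj k ≠ k := by
    obtain ⟨a, b, rfl⟩ := hlin k (hKZ hk)
    rw [hadjlin]
    intro h0
    have hb : b ≠ 0 := fun hb => hks ⟨a, by rw [hb, zero_smul, add_zero]⟩
    have h6 : (b + b) • M = 0 := by
      rw [add_left_cancel_iff, neg_smul, neg_eq_iff_add_eq_zero] at h0
      rw [add_smul]; exact h0
    rcases smul_eq_zero.mp h6 with h7 | h7
    · exact mul_ne_zero h2 hb (by linear_combination h7)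
    · exact hMs ⟨0, by rw [h7, zero_smul]⟩
  rcases D.selfAdjoint_or_two hσ hr hK hKadj with h | rfl
  · exact absurd (h k hk) hkne
  · exact Or.inr (Or.inr ⟨K, hK, hKadj, ⟨k, hk, hkne⟩, hGK⟩)

end FData

end CfsgLib.Asch
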