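import Cfsg.Agent.Lib.Aschbacher.FormBasic

/-!
# Quadratic forms polarising to an alternating form in characteristic two
-/

set_option autoImplicit false

namespace CfsgLib.Asch

open Matrix Cfsg.Geo
open scoped MatrixGroups

variable {ι : Type} [Fintype ι] [DecidableEq ι] {F : Type*} [Field F] [Finite F]

/-- an additive map twisted by squaring whose zeros are preserved vanishes -/
theorem sq_semilinear_eq_zero (h2 : (2 : F) = 0) (hn : 2 ≤ Fintype.card ι) {G : Subgroup (GL ι F)}
    (hirr : ActsIrreducibly (matrixSet G)) (d : (ι → F) → F) (hadd : ∀ u v, d (u + v) = d u + d v)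
    (hsmul : ∀ (c : F) v, d (c • v) = c ^ 2 * d v)
    (hG : ∀ g ∈ G, ∀ v, d v = 0 → d ((g : Matrix ι ι F) *ᵥ v) = 0) (v : ι → F) : d v = 0 := by
  classical
  let U : Submodule F (ι → F) :=
  { carrier := {v | d v = 0}
    add_mem' := fun {a b} ha hb => by simp only [Set.mem_setOf_eq] at *; rw [hadd, ha, hb, add_zero]
    zero_mem' := by simpa using hsmul 0 0
    smul_mem' := fun c a ha => by simp only [Set.mem_setOf_eq] at *; rw [hsmul, ha, mul_zero] }
  rcases irred_apply hirr (W := U) hG with hb | ht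
  · exfalso
    haveI : CharP F 2 := CharTwo.of_one_ne_zero_of_two_eq_zero one_ne_zero h2
    obtain ⟨i, j, hij⟩ := Fintype.one_lt_card_iff.mp hn
    set u : ι → F := Pi.single i 1
    set w : ι → F := Pi.single j 1
    have hne : ∀ x : ι → F, x ≠ 0 → d x ≠ 0 := fun x hx h0 =>
      hx ((Submodule.mem_bot F).mp (hb ▸ (h0 : x ∈ U)))
    have hw : d w ≠ 0 := hne w fun h => by simpa [w] using congrFun h j
    obtain ⟨c, hc⟩ := (bijective_frobenius F 2).2 (d u / d w)
    refine hne (u + c • w) (fun h => ?_) ?_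
    · simpa [u, w, hij] using congrFun h i
    · rw [hadd, hsmul, show c ^ 2 = d u / d w from hc, div_mul_cancel₀ _ hw, ← two_mul, h2, zero_mul]
  · exact (ht ▸ Submodule.mem_top : v ∈ U)

/-- in characteristic two a symmetric form fixed up to scalars by an irreducible group is alternating -/
theorem diag_eq_zero_of_symmetric (h2 : (2 : F) = 0) (hn : 2 ≤ Fintype.card ι) {G : Subgroup (GL ι F)}
    (hirr : ActsIrreducibly (matrixSet G)) {S : Matrix ι ι F} (hS : Sᵀ = S)
    (hfix : ∀ g ∈ G, ∃ c : F, (g : Matrix ι ι F)ᵀ * S * (g : Matrix ι ι F) = c • S) (i : ι) : S i i = 0 := by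
  have hsym : ∀ u v, sform (RingHom.id F) S u v = sform (RingHom.id F) S v u := fun u v => by
    have := sform_flip S u v
    rwa [hS] at this
  have hd := sq_semilinear_eq_zero h2 hn hirr (fun v => sform (RingHom.id F) S v v)
    (fun u v => by
      simp only [sform_add_left, sform_add_right]
      rw [hsym v u]
      linear_combination sform (RingHom.id F) S u v * h2)
    (fun c v => by simp [sform_smul_left, sform_smul_right]; ring)
    (fun g hg v hv => by
      obtain ⟨c, hc⟩ := hfix g hg
      show sform (RingHom.id F) S _ _ = 0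
      rw [sform_mulVec, show (g : Matrix ι ι F).map (RingHom.id F) = (g : Matrix ι ι F) by ext; simp, hc,
        sform_smul_matrix, hv, mul_zero]) (Pi.single i 1)
  simpa [sform_single] using hd

namespace FData

variable (D : FData ι F)

/-- contained in the isometry group of a quadratic form polarising to the form, characteristic two -/
def InEvenQuad (G : Subgroup (GL ι F)) : Prop :=
  (2 : F) = 0 ∧ ∃ Q : (ι → F) → F, IsNondegenerateQuadraticForm Q ∧
    (∀ u v, QuadraticMap.polar Q u v = D.form u v) ∧ G ≤ quadSimilarityGroup Q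

omit [Finite F] in
lemma quad_nondegenerate (hσ : D.σ = RingHom.id F) {Q : (ι → F) → F}
    (hsmul : ∀ (c : F) v, Q (c • v) = c ^ 2 * Q v) (hpol : ∀ u v, QuadraticMap.polar Q u v = D.form u v) :
    IsNondegenerateQuadraticForm Q := by
  have h : QuadraticMap.polar Q = D.form := funext₂ hpol
  refine ⟨hsmul, ?_, h ▸ D.nondeg⟩
  rw [h]
  exact ⟨D.form_add_left, D.form_smul_left, D.form_add_right, fun c v x => by rw [D.form_smul_right, hσ]; rfl⟩

omit [Finite F] in
/-- an element `k` with `k + adj k = 1` permuted with its adjoint gives a quadratic form -/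
theorem inEvenQuad_of_split (hσ : D.σ = RingHom.id F) (halt : ∀ v, D.form v v = 0) (h2 : (2 : F) = 0)
    {G : Subgroup (GL ι F)} (hG : G ≤ D.isom) {k : Matrix ι ι F} (hk : D.adj k + k = 1)
    (hperm : ∀ g ∈ G, cj g k = k ∨ cj g k = D.adj k) : D.InEvenQuad G := by
  have hsk : ∀ u v, D.form u v = D.form v u := fun u v => by
    have hflip := D.flip v u
    have h := halt (u + v)
    rw [D.form_add_left, D.form_add_right, D.form_add_right, halt, halt, zero_add, add_zero] at h
    linear_combination h - D.form v u * h2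
  have hk' : ∀ v, D.form (D.adj k *ᵥ v) v = D.form (k *ᵥ v) v := fun v => by
    rw [hsk (D.adj k *ᵥ v), ← D.form_adj]
  set Q : (ι → F) → F := fun v => D.form (k *ᵥ v) v with hQ
  have hpol : ∀ u v, QuadraticMap.polar Q u v = D.form u v := by
    intro u v
    have h1 : D.form (k *ᵥ v) u = D.form (D.adj k *ᵥ u) v := by rw [D.form_adj, hsk]
    have h3 : D.form (D.adj k *ᵥ u) v + D.form (k *ᵥ u) v = D.form u v := by
      rw [← D.form_add_left, ← add_mulVec, hk, one_mulVec]
    simp only [QuadraticMap.polar, hQ, mulVec_add, D.form_add_left, D.form_add_right]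
    linear_combination h1 + h3
  refine ⟨h2, Q, D.quad_nondegenerate hσ (fun c v => ?_) hpol, hpol, fun g hg => ⟨1, fun v => ?_⟩⟩
  · simp only [hQ, mulVec_smul, D.form_smul_left, D.form_smul_right, hσ, RingHom.id_apply]; ring
  · rw [Units.val_one, one_mul]
    have hgi := G.inv_mem hg
    have h1 : k *ᵥ ((g : Matrix ι ι F) *ᵥ v) = (g : Matrix ι ι F) *ᵥ (cj g⁻¹ k *ᵥ v) := by
      rw [← cj_mulVec, cj_cj, mul_inv_cancel, cj_one_left]
    show D.form (k *ᵥ ((g : Matrix ι ι F) *ᵥ v)) ((g : Matrix ι ι F) *ᵥ v) = D.form (k *ᵥ v) v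
    rw [h1]
    refine (hG hg _ v).trans ?_
    rcases hperm _ hgi with h0 | h0 <;> rw [h0]
    exact hk' v

/-- a quadratic form fixed by an irreducible normal subgroup is fixed by the whole group -/
theorem inEvenQuad_of_fixed (hσ : D.σ = RingHom.id F) (h2 : (2 : F) = 0) (hn : 2 ≤ Fintype.card ι)
    {G P : Subgroup (GL ι F)} (hG : G ≤ D.isom) (hP : ActsIrreducibly (matrixSet P)) (hPn : Norms G P)
    {Q : (ι → F) → F} (hsmul : ∀ (c : F) v, Q (c • v) = c ^ 2 * Q v)
    (hpol : ∀ u v, QuadraticMap.polar Q u v = D.form u v) (hfix : FixesQuadForm (matrixSet P) Q) :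
    D.InEvenQuad G := by
  refine ⟨h2, Q, D.quad_nondegenerate hσ hsmul hpol, hpol, fun g hg => ⟨1, fun v => ?_⟩⟩
  rw [Units.val_one, one_mul]
  set gm := (g : Matrix ι ι F)
  have hQadd : ∀ u v, Q (u + v) = Q u + Q v + D.form u v := fun u v => by
    rw [← hpol]; simp [QuadraticMap.polar]
  have hd := sq_semilinear_eq_zero h2 hn hP (fun v => Q (gm *ᵥ v) - Q v)
    (fun u v => by
      simp only [mulVec_add, hQadd, show D.form (gm *ᵥ u) (gm *ᵥ v) = D.form u v from hG hg u v]; ring)
    (fun c v => by simp only [mulVec_smul, hsmul]; ring)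
    (fun x hx v hv => by
      have hy := hfix _ (coe_mem_matrixSet (hPn g hg x hx)) (gm *ᵥ v)
      have h1 : ((g * x * g⁻¹ : GL ι F) : Matrix ι ι F) *ᵥ (gm *ᵥ v) = gm *ᵥ ((x : Matrix ι ι F) *ᵥ v) := by
        rw [← cj_coe]; exact cj_mulVec g _ v
      rw [h1] at hy
      show Q _ - Q _ = 0
      rw [hy, hfix _ (coe_mem_matrixSet hx), hv]) v
  exact sub_eq_zero.mp hd

end FData

end CfsgLib.Asch
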