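import Cfsg.Agent.Lib.Aschbacher.Fields
import Cfsg.Agent.Lib.Classical.Herm.Field

/-!
# An involutory automorphism of a finite field
-/

set_option autoImplicit false

namespace CfsgLib.Asch

open Matrix Cfsg.Geo
open scoped MatrixGroups

variable {F : Type*} [Field F] [Fintype F]

/-- a subfield is cut out by the power map of its order -/
lemma mem_subfield_iff_pow (K : Subfield F) (x : F) : x ∈ K ↔ x ^ Nat.card K = x := by
  classical
  have hfin : ∀ y : K, y ^ Nat.card K = y := fun y => by
    haveI : Fintype K := Fintype.ofFinite K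
    rw [Nat.card_eq_fintype_card]
    exact FiniteField.pow_card y
  refine ⟨fun hx => by simpa using congrArg Subtype.val (hfin ⟨x, hx⟩), fun hx => ?_⟩
  let S : Set F := {y | y ^ Nat.card K = y}
  have hsub : (K : Set F) ⊆ S := fun y hy => by simpa [S] using congrArg Subtype.val (hfin ⟨y, hy⟩)
  have hq : 2 ≤ Nat.card K := Finite.one_lt_card
  have hd : Nat.card F = Nat.card K ^ Module.finrank K F := Module.natCard_eq_pow_finrank
  have hS : Nat.card S = Nat.card K := by
    have h1 := natCard_pow_fixed (F := F) hq hd (one_dvd _) one_ne_zero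
    rw [pow_one] at h1
    exact h1
  have := Set.eq_of_subset_of_ncard_le hsub (by
    rw [← Nat.card_coe_set_eq, ← Nat.card_coe_set_eq, hS]; exact le_rfl) (Set.toFinite S)
  exact (this.symm ▸ hx : x ∈ (K : Set F))

/-- the fixed field of an endomorphism -/
abbrev fixedField (σ : F →+* F) : Subfield F := RingHom.eqLocusField σ (RingHom.id F)

omit [Fintype F] in
lemma mem_fixedField {σ : F →+* F} {x : F} : x ∈ fixedField σ ↔ σ x = x := Iff.rfl

omit [Fintype F] in
lemma fixedField_ne_top {σ : F →+* F} (hσ : σ ≠ RingHom.id F) : fixedField σ ≠ ⊤ := fun h =>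
  hσ (RingHom.ext fun x => mem_fixedField.mp (h ▸ Subfield.mem_top x))

variable {σ : F →+* F} (hinv : ∀ a, σ (σ a) = a) (hσ : σ ≠ RingHom.id F)
include hinv hσ

lemma card_eq_sq_fixedField : Fintype.card F = Nat.card (fixedField σ) ^ 2 := by
  classical
  obtain ⟨x, hx⟩ : ∃ x, σ x ≠ x := by
    by_contra hc
    push_neg at hc
    exact hσ (RingHom.ext hc)
  set y₀ := x - σ x
  have hy₀ : y₀ ≠ 0 := sub_ne_zero.mpr (Ne.symm hx)
  have hσy₀ : σ y₀ = -y₀ := by simp [y₀, hinv]
  set K := fixedField σ
  let L : F →ₗ[K] F :=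
  { toFun := fun a => (a - σ a) / y₀
    map_add' := fun a b => by rw [map_add]; ring
    map_smul' := fun c a => by
      have hc : σ (c : F) = (c : F) := c.2
      simp only [Subfield.smul_def, smul_eq_mul, map_mul, hc, RingHom.id_apply]; ring }
  have hker : LinearMap.ker L = Submodule.span K {(1 : F)} := by
    ext a
    rw [LinearMap.mem_ker, Submodule.mem_span_singleton]
    refine ⟨fun h => ?_, ?_⟩
    · have h1 : σ a = a := by
        have h2 : a - σ a = 0 := (div_eq_zero_iff.mp h).resolve_right hy₀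
        exact (sub_eq_zero.mp h2).symm
      exact ⟨⟨a, h1⟩, by simp [Subfield.smul_def]⟩
    · rintro ⟨c, rfl⟩
      show ((c • (1 : F)) - σ (c • (1 : F))) / y₀ = 0
      have hc : σ (c : F) = (c : F) := c.2
      simp [Subfield.smul_def, hc]
  have hran : LinearMap.range L ≤ Submodule.span K {(1 : F)} := by
    rintro _ ⟨a, rfl⟩
    rw [Submodule.mem_span_singleton]
    refine ⟨⟨(a - σ a) / y₀, ?_⟩, by simp [Subfield.smul_def, L]⟩
    show σ ((a - σ a) / y₀) = (a - σ a) / y₀
    rw [map_div₀, map_sub, hinv, hσy₀, div_neg, ← neg_div, neg_sub]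
  have h1 := L.finrank_range_add_finrank_ker
  have h2 := Submodule.finrank_mono hran
  rw [hker, finrank_span_singleton (one_ne_zero : (1 : F) ≠ 0)] at h1
  rw [finrank_span_singleton (one_ne_zero : (1 : F) ≠ 0)] at h2
  have hne : Module.finrank K F ≠ 1 := by
    intro h
    obtain ⟨c, hc⟩ := exists_smul_eq_of_finrank_eq_one h (one_ne_zero : (1 : F) ≠ 0) x
    refine hx ?_
    rw [← hc]
    simp [Subfield.smul_def, show σ (c : F) = (c : F) from c.2]
  have hd : Module.finrank K F = 2 := by omega
  rw [← Nat.card_eq_fintype_card, Module.natCard_eq_pow_finrank (K := K), hd]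

lemma eq_pow_card_fixedField (a : F) : σ a = a ^ Nat.card (fixedField σ) := by
  classical
  set K := fixedField σ
  haveI : Fintype K := Fintype.ofFinite K
  have hF := card_eq_sq_fixedField hinv hσ
  let ψ : F →+* F := Classical.Herm.qPow hF
  let toAlg : ∀ φ : F →+* F, (∀ c : K, φ (c : F) = c) → (F ≃ₐ[K] F) := fun φ h =>
    AlgEquiv.ofBijective ({ φ with commutes' := h } : F →ₐ[K] F)
      (Finite.injective_iff_bijective.mp φ.injective)
  let s := toAlg σ (fun c => c.2)
  let t := toAlg ψ (fun c => (mem_subfield_iff_pow K c).mp c.2)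
  have hd : Module.finrank K F = 2 := by
    have h := Module.natCard_eq_pow_finrank (K := K) (V := F)
    rw [Nat.card_eq_fintype_card (α := F), hF] at h
    exact (Nat.pow_right_injective Finite.one_lt_card h).symm
  have hcard : Nat.card (F ≃ₐ[K] F) = 2 := (IsGalois.card_aut_eq_finrank K F).trans hd
  have hs : s ≠ 1 := fun h => hσ (RingHom.ext fun a => AlgEquiv.congr_fun h a)
  have ht : t ≠ 1 := fun h => by
    obtain ⟨b, hb⟩ := Classical.Herm.exists_qPow_ne hF
    exact hb (AlgEquiv.congr_fun h b)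
  obtain ⟨u, -, huniq⟩ := (Nat.card_eq_two_iff' (1 : F ≃ₐ[K] F)).mp hcard
  exact AlgEquiv.congr_fun ((huniq s hs).trans (huniq t ht).symm) a

lemma exists_norm {c : F} (hc : σ c = c) : ∃ t, t * σ t = c := by
  have hF := card_eq_sq_fixedField hinv hσ
  obtain ⟨t, ht⟩ := Classical.Herm.exists_norm_eq hF c (by
    rw [Classical.Herm.qPow_apply, ← eq_pow_card_fixedField hinv hσ, hc])
  exact ⟨t, by rw [eq_pow_card_fixedField hinv hσ]; exact ht⟩

/-- Hilbert's theorem 90 for matrices -/
lemma exists_eq_mul_map {ι : Type} [Fintype ι] [DecidableEq ι] {C : Matrix ι ι F}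
    (hC : C * C.map σ = 1) : ∃ P : GL ι F, C * (P : Matrix ι ι F).map σ = (P : Matrix ι ι F) := by
  classical
  set J : (ι → F) → (ι → F) := fun v => C *ᵥ fun i => σ (v i) with hJ
  have hJs : ∀ (a : F) v, J (a • v) = σ a • J v := fun a v => by
    rw [hJ]; simp only [Pi.smul_apply, smul_eq_mul, map_mul]
    rw [show (fun i => σ a * σ (v i)) = σ a • fun i => σ (v i) from rfl, mulVec_smul]
  have hJJ : ∀ v, J (J v) = v := fun v => by
    have h1 : (fun i => σ ((C *ᵥ fun i => σ (v i)) i)) = C.map σ *ᵥ v := by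
      funext i
      rw [RingHom.map_mulVec]
      congr 2
      funext k
      exact hinv _
    show C *ᵥ (fun i => σ ((C *ᵥ fun i => σ (v i)) i)) = v
    rw [h1, mulVec_mulVec, hC, one_mulVec]
  have hJa : ∀ u v, J (u + v) = J u + J v := fun u v => by
    rw [hJ]; simp only [Pi.add_apply, map_add]
    rw [show (fun i => σ (u i) + σ (v i)) = (fun i => σ (u i)) + fun i => σ (v i) from rfl, mulVec_add]
  obtain ⟨a, ha⟩ : ∃ a, σ a ≠ a := by
    by_contra hc
    push_neg at hc
    exact hσ (RingHom.ext hc)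
  have hspan : ⊤ ≤ Submodule.span F {v : ι → F | J v = v} := by
    intro v _
    have h1 : v + J v ∈ Submodule.span F {v : ι → F | J v = v} :=
      Submodule.subset_span (by show J _ = _; rw [hJa, hJJ, add_comm])
    have h2 : a • v + σ a • J v ∈ Submodule.span F {v : ι → F | J v = v} :=
      Submodule.subset_span (by show J _ = _; rw [hJa, hJs, hJs, hJJ, hinv, add_comm])
    have h3 : (a - σ a) • v = (a • v + σ a • J v) - σ a • (v + J v) := by
      rw [sub_smul, smul_add]; abel
    have hne : a - σ a ≠ 0 := sub_ne_zero.mpr (Ne.symm ha)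
    rw [← inv_smul_smul₀ hne v, h3]
    exact Submodule.smul_mem _ _ (Submodule.sub_mem _ h2 (Submodule.smul_mem _ _ h1))
  obtain ⟨b, hb, hsp, hli⟩ := exists_linearIndependent F {v : ι → F | J v = v}
  rw [eq_top_iff.mpr hspan] at hsp
  let B := Module.Basis.mk hli (by rw [Subtype.range_coe]; exact hsp.ge)
  haveI : Fintype b := Fintype.ofFinite b
  let e : ι ≃ b := Fintype.equivOfCardEq (by
    rw [← Module.finrank_eq_card_basis B, Module.finrank_fintype_fun_eq_card])
  let B' := B.reindex e.symm
  let Pm : Matrix ι ι F := (Pi.basisFun F ι).toMatrix B'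
  have hP : IsUnit Pm := isUnit_iff_exists_inv.mpr ⟨_, Module.Basis.toMatrix_mul_toMatrix_flip _ _⟩
  refine ⟨hP.unit, ?_⟩
  ext r i
  have hcol : ∀ r, Pm r i = (e i : ι → F) r := fun r => by
    simp [Pm, B', B, Module.Basis.toMatrix_apply]
  have hfix := congrFun (show J (e i : ι → F) = (e i : ι → F) from hb (e i).2) r
  rw [IsUnit.unit_spec, hcol, Matrix.mul_apply]
  rw [← hfix]
  simp [hJ, Matrix.mulVec, dotProduct, hcol]

end CfsgLib.Asch
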