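import Cfsg.Agent.Lib.Aschbacher.Basic

/-!
# Systems of matrix units, tensor coordinates and inner automorphisms
-/

set_option autoImplicit false

namespace CfsgLib.Asch

open Matrix Cfsg.Geo
open scoped MatrixGroups Kronecker

variable {ι : Type} [Fintype ι] [DecidableEq ι] {F : Type*} [Field F]

/-- a system of matrix units indexed by `X` -/
structure MUnits {X : Type} [Fintype X] (ε : X → X → Matrix ι ι F) : Prop where
  mul_same : ∀ x y w, ε x y * ε y w = ε x w
  mul_ne : ∀ x y z w, y ≠ z → ε x y * ε z w = 0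
  sum_one : ∑ x, ε x x = 1

section tens

variable {X Y : Type} [Fintype X] [DecidableEq X] [Fintype Y] [DecidableEq Y]

/-- the matrix `A ⊗ B` transported by `e` and conjugated by `P` -/
def tens (e : ι ≃ X × Y) (P : GL ι F) (A : Matrix X X F) (B : Matrix Y Y F) : Matrix ι ι F :=
  cj P (Matrix.reindexAlgEquiv F F e.symm (A ⊗ₖ B))

variable {e : ι ≃ X × Y} {P : GL ι F}

lemma tens_mul (A A' : Matrix X X F) (B B' : Matrix Y Y F) :
    tens e P A B * tens e P A' B' = tens e P (A * A') (B * B') := by
  simp only [tens, ← cj_mul, ← map_mul, ← Matrix.mul_kronecker_mul]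

@[simp] lemma tens_one : tens e P (1 : Matrix X X F) (1 : Matrix Y Y F) = 1 := by
  simp only [tens, one_kronecker_one, map_one, cj_one]

lemma tens_add_left (A A' : Matrix X X F) (B : Matrix Y Y F) :
    tens e P (A + A') B = tens e P A B + tens e P A' B := by
  simp only [tens, add_kronecker, map_add, cj_add]

lemma tens_smul_left (c : F) (A : Matrix X X F) (B : Matrix Y Y F) :
    tens e P (c • A) B = c • tens e P A B := by
  simp only [tens, smul_kronecker, map_smul, cj_smul]

lemma tens_smul_right (c : F) (A : Matrix X X F) (B : Matrix Y Y F) :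
    tens e P A (c • B) = c • tens e P A B := by
  simp only [tens, kronecker_smul, map_smul, cj_smul]

@[simp] lemma tens_zero_left (B : Matrix Y Y F) : tens e P (0 : Matrix X X F) B = 0 := by
  simp [tens]

lemma tens_left_injective [Nonempty Y] {A A' : Matrix X X F}
    (h : tens e P A (1 : Matrix Y Y F) = tens e P A' 1) : A = A' := by
  obtain ⟨y⟩ := (inferInstance : Nonempty Y)
  ext a b
  have h' := (Matrix.reindexAlgEquiv F F e.symm).injective (cj_injective P h)
  simpa using congrFun (congrFun h' (a, y)) (b, y)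

lemma commute_tens (A : Matrix X X F) (B : Matrix Y Y F) :
    tens e P A 1 * tens e P 1 B = tens e P 1 B * tens e P A 1 := by
  simp [tens_mul]

/-- the centraliser of `A ⊗ 1` is `1 ⊗ B` -/
lemma exists_tens_right [Nonempty X] {M : Matrix ι ι F}
    (h : ∀ x y : X, M * tens e P (single x y 1) 1 = tens e P (single x y 1) 1 * M) :
    ∃ B : Matrix Y Y F, M = tens e P 1 B := by
  obtain ⟨x₀⟩ := (inferInstance : Nonempty X)
  obtain ⟨M', rfl⟩ : ∃ M' : Matrix (X × Y) (X × Y) F,
      cj P (Matrix.reindexAlgEquiv F F e.symm M') = M := by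
    refine ⟨(Matrix.reindexAlgEquiv F F e.symm).symm (cj P⁻¹ M), ?_⟩
    rw [AlgEquiv.apply_symm_apply, cj_cj, mul_inv_cancel, cj_one_left]
  have h' : ∀ x y : X, M' * (single x y 1 ⊗ₖ (1 : Matrix Y Y F))
      = (single x y 1 ⊗ₖ (1 : Matrix Y Y F)) * M' := by
    intro x y
    have hh := h x y
    simp only [tens, ← cj_mul, ← map_mul] at hh
    exact (Matrix.reindexAlgEquiv F F e.symm).injective (cj_injective P hh)
  have key : ∀ (x y a b : X) (i j : Y),
      (if y = b then M' (a, i) (x, j) else 0) = (if x = a then M' (y, i) (b, j) else 0) := by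
    intro x y a b i j
    have := congrFun (congrFun (h' x y) (a, i)) (b, j)
    simpa [Matrix.mul_apply, Fintype.sum_prod_type, Matrix.single_apply, Matrix.one_apply,
      ite_and] using this
  refine ⟨Matrix.of fun i j => M' (x₀, i) (x₀, j), ?_⟩
  unfold tens
  refine congrArg (fun T => cj P (Matrix.reindexAlgEquiv F F e.symm T)) ?_
  ext ⟨a, i⟩ ⟨b, j⟩
  rw [kroneckerMap_apply, Matrix.of_apply]
  by_cases hab : a = b
  · subst hab
    have := key x₀ a x₀ a i j
    simp only [if_true] at this
    simp [this]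
  · have := key a a a b i j
    simp only [if_true, if_neg hab] at this
    simp [one_apply_ne hab, ← this]

end tens

/-- matrix units give tensor coordinates -/
theorem MUnits.exists_coord {X : Type} [Fintype X] [DecidableEq X] {ε : X → X → Matrix ι ι F}
    (h : MUnits ε) (x₀ : X) :
    ∃ (k : ℕ) (e : ι ≃ X × Fin k) (P : GL ι F),
      ∀ x y, ε x y = tens e P (single x y 1) 1 := by
  classical
  set U : Submodule F (ι → F) := LinearMap.range (Matrix.toLin' (ε x₀ x₀))
  set b := Module.finBasis F U
  have hU : ∀ u ∈ U, ε x₀ x₀ *ᵥ u = u := by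
    rintro _ ⟨v, rfl⟩
    rw [Matrix.toLin'_apply, mulVec_mulVec, h.mul_same]
  have hmem : ∀ x v, ε x₀ x *ᵥ v ∈ U := fun x v =>
    ⟨ε x₀ x *ᵥ v, by rw [Matrix.toLin'_apply, mulVec_mulVec, h.mul_same]⟩
  let w : X × Fin (Module.finrank F U) → (ι → F) := fun p => ε p.1 x₀ *ᵥ (b p.2 : ι → F)
  have hli : LinearIndependent F w := by
    rw [Fintype.linearIndependent_iff]
    rintro c hc ⟨x, j⟩
    have hc' := congrArg (fun v => ε x₀ x *ᵥ v) hc
    simp only [Matrix.mulVec_sum, Matrix.mulVec_zero, Matrix.mulVec_smul, w, mulVec_mulVec] at hc'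
    rw [Fintype.sum_prod_type, Finset.sum_eq_single x] at hc'
    · simp only [h.mul_same, hU _ (b _).2] at hc'
      have : ∑ i, c (x, i) • b i = 0 := Subtype.ext (by simpa using hc')
      exact Fintype.linearIndependent_iff.mp b.linearIndependent _ this j
    · intro y _ hy
      simp [h.mul_ne _ _ _ _ (Ne.symm hy)]
    · simp
  have hsp : ⊤ ≤ Submodule.span F (Set.range w) := by
    intro v _
    have hv : v = ∑ x, ε x x₀ *ᵥ (ε x₀ x *ᵥ v) := by
      simp only [mulVec_mulVec, h.mul_same]
      rw [← Matrix.sum_mulVec, h.sum_one, one_mulVec]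
    rw [hv]
    refine sum_mem fun x _ => ?_
    have hr := b.sum_repr ⟨_, hmem x v⟩
    have hr' : ∑ j, b.repr ⟨_, hmem x v⟩ j • (b j : ι → F) = ε x₀ x *ᵥ v := by
      have h2 := congrArg (U.subtype) hr
      simp only [map_sum, map_smul, Submodule.subtype_apply] at h2
      exact h2
    rw [← hr', Matrix.mulVec_sum]
    refine sum_mem fun j _ => ?_
    rw [Matrix.mulVec_smul]
    exact Submodule.smul_mem _ _ (Submodule.subset_span ⟨(x, j), rfl⟩)
  let B := Module.Basis.mk hli hsp
  let e : ι ≃ X × Fin (Module.finrank F U) :=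
    Fintype.equivOfCardEq (by
      rw [← Module.finrank_eq_card_basis B, Module.finrank_fintype_fun_eq_card])
  let B' := B.reindex e.symm
  let Pm : Matrix ι ι F := (Pi.basisFun F ι).toMatrix B'
  have hP : IsUnit Pm := by
    have h1 : Pm * B'.toMatrix (Pi.basisFun F ι) = 1 :=
      Module.Basis.toMatrix_mul_toMatrix_flip _ _
    exact isUnit_iff_exists_inv.mpr ⟨_, h1⟩
  have hcol : ∀ i r, Pm r i = w (e i) r := by
    intro i r
    simp [Pm, B', B, Module.Basis.toMatrix_apply]
  refine ⟨_, e, hP.unit, fun x y => ?_⟩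
  have key : ε x y * Pm = Pm * Matrix.reindexAlgEquiv F F e.symm
      (single x y 1 ⊗ₖ (1 : Matrix (Fin (Module.finrank F U)) (Fin (Module.finrank F U)) F)) := by
    ext r i
    obtain ⟨p, rfl⟩ := e.symm.surjective i
    obtain ⟨z, j⟩ := p
    have hl : (ε x y * Pm) r (e.symm (z, j)) = (ε x y *ᵥ w (z, j)) r := by
      simp [Matrix.mul_apply, Matrix.mulVec, dotProduct, hcol]
    rw [hl, Matrix.mul_apply, ← Equiv.sum_comp e.symm]
    simp only [hcol, Equiv.apply_symm_apply, Matrix.reindexAlgEquiv_apply, Matrix.reindex_apply,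
      Matrix.submatrix_apply, Equiv.symm_symm, kroneckerMap_apply, Fintype.sum_prod_type]
    by_cases hz : y = z
    · subst hz
      simp [w, mulVec_mulVec, h.mul_same, Matrix.single_apply, Matrix.one_apply, ite_and]
    · simp [w, mulVec_mulVec, h.mul_ne _ _ _ _ hz, Matrix.single_apply, Matrix.one_apply,
        ite_and, hz, Ne.symm hz]
  calc ε x y = ε x y * ((hP.unit : Matrix ι ι F) * ((hP.unit⁻¹ : GL ι F) : Matrix ι ι F)) := by
        rw [hP.unit.mul_inv, mul_one]
    _ = _ := by
        rw [← mul_assoc, IsUnit.unit_spec, key]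
        rfl

lemma munits_of_ringHom {A : Type*} [Ring A]
    {X : Type} [Fintype X] [DecidableEq X] (φ : Matrix X X A →+* Matrix ι ι F) :
    MUnits (fun x y => φ (single x y 1)) where
  mul_same x y w := by rw [← map_mul]; simp
  mul_ne x y z w hyz := by rw [← map_mul]; simp [hyz]
  sum_one := by
    rw [← map_sum, ← map_one φ]
    congr 1
    ext a b
    simp [Matrix.sum_apply, Matrix.single_apply, Matrix.one_apply, ite_and]

/-- Skolem–Noether for full matrix algebras -/
theorem exists_conj_of_algEquiv {K : Type*} [Field K] {X : Type} [Fintype X] [DecidableEq X]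
    (f : Matrix X X K ≃ₐ[K] Matrix X X K) :
    ∃ a : GL X K, ∀ M, f M = (a : Matrix X X K) * M * ((a⁻¹ : GL X K) : Matrix X X K) := by
  let τ : Matrix X X K ≃ₐ[K] Module.End K (X → K) := Matrix.toLinAlgEquiv'
  obtain ⟨T, hT⟩ := AlgEquiv.eq_linearEquivConjAlgEquiv ((τ.symm.trans f).trans τ)
  let a : Matrix X X K := τ.symm (T : (X → K) →ₗ[K] (X → K))
  let b : Matrix X X K := τ.symm (T.symm : (X → K) →ₗ[K] (X → K))
  have hab : a * b = 1 := by
    rw [← map_mul, ← map_one τ.symm]; congr 1; ext; simp
  have hba : b * a = 1 := by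
    rw [← map_mul, ← map_one τ.symm]; congr 1; ext; simp
  refine ⟨⟨a, b, hab, hba⟩, fun M => ?_⟩
  have h := congrArg τ.symm (AlgEquiv.congr_fun hT (τ M))
  simp only [AlgEquiv.trans_apply, AlgEquiv.symm_apply_apply] at h
  rw [h]
  show _ = a * M * b
  rw [LinearEquiv.conjAlgEquiv_apply]
  conv_rhs => rw [← τ.symm_apply_apply M, ← map_mul, ← map_mul]
  rfl

/-- the automorphism of the left factor induced by an element normalising it is inner -/
theorem exists_tens_of_normalizes {X Y : Type} [Fintype X] [DecidableEq X] [Fintype Y]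
    [DecidableEq Y] [Nonempty X] [Nonempty Y] {e : ι ≃ X × Y} {P : GL ι F} {g : GL ι F}
    (h : ∀ A : Matrix X X F, ∃ A', cj g (tens e P A 1) = tens e P A' 1) :
    ∃ (a : GL X F) (b : GL Y F),
      (g : Matrix ι ι F) = tens e P (a : Matrix X X F) (b : Matrix Y Y F) := by
  classical
  choose θ hθ using h
  have hone : θ 1 = 1 := tens_left_injective (e := e) (P := P) (by rw [← hθ]; simp)
  have hmul : ∀ A B, θ (A * B) = θ A * θ B := fun A B => tens_left_injective (e := e) (P := P) (by
    rw [← hθ, show tens e P (A * B) (1 : Matrix Y Y F) = tens e P A 1 * tens e P B 1 by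
      simp [tens_mul], cj_mul, hθ, hθ, tens_mul, one_mul])
  have hadd : ∀ A B, θ (A + B) = θ A + θ B := fun A B => tens_left_injective (e := e) (P := P) (by
    rw [← hθ, tens_add_left, tens_add_left, cj_add, hθ, hθ])
  have hsmul : ∀ (c : F) A, θ (c • A) = c • θ A := fun c A =>
    tens_left_injective (e := e) (P := P) (by
      rw [← hθ, tens_smul_left, tens_smul_left, cj_smul, hθ])
  let L : Matrix X X F →ₗ[F] Matrix X X F := { toFun := θ, map_add' := hadd, map_smul' := hsmul }
  let Φ : Matrix X X F →ₐ[F] Matrix X X F := AlgHom.ofLinearMap L hone hmul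
  have hinj : Function.Injective Φ := by
    intro A B hAB
    have h1 : cj g (tens e P A (1 : Matrix Y Y F)) = cj g (tens e P B 1) := by
      rw [hθ, hθ]; exact congrArg (fun T => tens e P T (1 : Matrix Y Y F)) hAB
    exact tens_left_injective (cj_injective g h1)
  obtain ⟨a, ha⟩ := exists_conj_of_algEquiv
    (AlgEquiv.ofBijective Φ ⟨hinj, (LinearMap.injective_iff_surjective (f := Φ.toLinearMap)).mp hinj⟩)
  set T : Matrix ι ι F := tens e P ((a⁻¹ : GL X F) : Matrix X X F) 1 * (g : Matrix ι ι F)
  have hT : ∀ x y : X, T * tens e P (single x y 1) 1 = tens e P (single x y 1) 1 * T := by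
    intro x y
    have hg : (g : Matrix ι ι F) * tens e P (single x y 1) 1
        = tens e P (θ (single x y 1)) 1 * (g : Matrix ι ι F) := by
      rw [← hθ]; simp [cj, mul_assoc]
    have hθ' : θ (single x y 1) = (a : Matrix X X F) * single x y 1 * ((a⁻¹ : GL X F) : Matrix X X F) :=
      ha _
    calc T * tens e P (single x y 1) 1
        = tens e P ((a⁻¹ : GL X F) : Matrix X X F) 1
            * (tens e P (θ (single x y 1)) 1 * (g : Matrix ι ι F)) := by
          rw [← hg]; simp [T, mul_assoc]
      _ = tens e P (((a⁻¹ : GL X F) : Matrix X X F) * θ (single x y 1)) 1 * (g : Matrix ι ι F) := by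
          rw [← mul_assoc, tens_mul, one_mul]
      _ = tens e P (single x y 1 * ((a⁻¹ : GL X F) : Matrix X X F)) 1 * (g : Matrix ι ι F) := by
          rw [hθ']; simp [← mul_assoc]
      _ = _ := by
          simp [T, ← mul_assoc, tens_mul]
  obtain ⟨B, hB⟩ := exists_tens_right hT
  have hgB : (g : Matrix ι ι F) = tens e P (a : Matrix X X F) B := by
    calc (g : Matrix ι ι F) = tens e P (a : Matrix X X F) 1 * T := by
          rw [show T = tens e P ((a⁻¹ : GL X F) : Matrix X X F) 1 * (g : Matrix ι ι F) from rfl,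
            ← mul_assoc, tens_mul]
          simp
      _ = _ := by rw [hB, tens_mul, mul_one, one_mul]
  have hBu : IsUnit B := by
    have hd : IsUnit (g : Matrix ι ι F).det := (Matrix.isUnit_iff_isUnit_det _).mp g.isUnit
    rw [hgB, tens, cj, Matrix.det_mul, Matrix.det_mul, Matrix.det_reindexAlgEquiv,
      Matrix.det_kronecker] at hd
    rw [Matrix.isUnit_iff_isUnit_det]
    have := (IsUnit.mul_iff.mp (IsUnit.mul_iff.mp hd).1).2
    exact (isUnit_pow_iff Fintype.card_pos.ne').mp (IsUnit.mul_iff.mp this).2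
  exact ⟨a, hBu.unit, hgB⟩

end CfsgLib.Asch
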