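import Cfsg.Agent.Lib.Aschbacher.Fields
import Cfsg.Agent.Lib.Aschbacher.MatrixUnits

/-!
# Normalisers of a realisation over a subfield
-/

set_option autoImplicit false

namespace CfsgLib.Asch

open Matrix Cfsg.Geo
open scoped MatrixGroups

variable {ι : Type} [Fintype ι] [DecidableEq ι] {F : Type*} [Field F]

/-- contained in a subfield group -/
def InSubfield [Fintype F] (G : Subgroup (GL ι F)) : Prop :=
  ∃ (F₀ : Subfield F) (r : ℕ) (P : GL ι F), r.Prime ∧ Fintype.card F = Nat.card F₀ ^ r ∧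
    G ≤ subfieldSubgroup F₀ P

lemma mem_scalar_sup_of_normalizes [Nonempty ι] (F₀ : Subfield F) {g : GL ι F}
    (h : ∀ A : Matrix ι ι F₀, ∃ A' : Matrix ι ι F₀, cj g (A.map F₀.subtype) = A'.map F₀.subtype) :
    g ∈ (Matrix.GeneralLinearGroup.map (F₀.subtype : F₀ →+* F)).range ⊔ scalars ι F := by
  classical
  choose θ hθ using h
  have hmapinj : Function.Injective fun A : Matrix ι ι F₀ => A.map F₀.subtype :=
    Matrix.map_injective F₀.subtype_injective
  have hone : θ 1 = 1 := hmapinj (by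
    show (θ 1).map F₀.subtype = (1 : Matrix ι ι F₀).map F₀.subtype
    rw [← hθ]; simp)
  have hadd : ∀ A B, θ (A + B) = θ A + θ B := fun A B => hmapinj (by
    show (θ (A + B)).map F₀.subtype = (θ A + θ B).map F₀.subtype
    rw [← hθ, Matrix.map_add _ (map_add F₀.subtype), cj_add, hθ, hθ, Matrix.map_add _ (map_add F₀.subtype)])
  have hmul : ∀ A B, θ (A * B) = θ A * θ B := fun A B => hmapinj (by
    show (θ (A * B)).map F₀.subtype = (θ A * θ B).map F₀.subtype
    rw [← hθ, Matrix.map_mul, cj_mul, hθ, hθ, Matrix.map_mul])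
  have hsmul : ∀ (c : F₀) A, θ (c • A) = c • θ A := fun c A => hmapinj (by
    show (θ (c • A)).map F₀.subtype = (c • θ A).map F₀.subtype
    have hm : ∀ X : Matrix ι ι F₀, (c • X).map F₀.subtype = (c : F) • X.map F₀.subtype := fun X => by
      ext i j; simp
    rw [← hθ, hm, cj_smul, hθ, hm])
  let Φ : Matrix ι ι F₀ →ₐ[F₀] Matrix ι ι F₀ :=
    AlgHom.ofLinearMap { toFun := θ, map_add' := hadd, map_smul' := hsmul } hone hmul
  have hinj : Function.Injective Φ := fun A B hAB => hmapinj (cj_injective g (by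
    rw [hθ, hθ]
    exact congrArg (fun X : Matrix ι ι F₀ => X.map F₀.subtype) hAB))
  obtain ⟨a, ha⟩ := exists_conj_of_algEquiv
    (AlgEquiv.ofBijective Φ ⟨hinj, (LinearMap.injective_iff_surjective (f := Φ.toLinearMap)).mp hinj⟩)
  set a' : GL ι F := Matrix.GeneralLinearGroup.map (F₀.subtype : F₀ →+* F) a
  have hs : a'⁻¹ * g ∈ scalars ι F := by
    rw [mem_scalars_iff_isScalarMat]
    refine isScalarMat_of_commute_all fun M => ?_
    have hcomm : ∀ A : Matrix ι ι F₀, cj (a'⁻¹ * g) (A.map F₀.subtype) = A.map F₀.subtype := by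
      intro A
      have h1 : θ A = (a : Matrix ι ι F₀) * A * ((a⁻¹ : GL ι F₀) : Matrix ι ι F₀) := ha A
      have h2 : cj a' (A.map F₀.subtype) = (θ A).map F₀.subtype := by
        rw [h1, Matrix.map_mul, Matrix.map_mul]
        rfl
      rw [← cj_cj, hθ, ← h2, cj_cj, inv_mul_cancel, cj_one_left]
    induction M using Matrix.induction_on' with
    | h_zero => simp
    | h_add p q hp hq => rw [mul_add, add_mul, hp, hq]
    | h_std_basis i j c =>
      have h1 := cj_eq_iff_commute.mp (hcomm (Matrix.single i j 1))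
      rw [show (Matrix.single i j (1 : F₀)).map F₀.subtype = Matrix.single i j (1 : F) by
        ext k l; simp [Matrix.single_apply]; split <;> simp] at h1
      rw [show Matrix.single i j c = c • Matrix.single i j (1 : F) by simp [Matrix.smul_single]]
      rw [mul_smul_comm, smul_mul_assoc, h1]
  rw [show g = a' * (a'⁻¹ * g) by group]
  exact Subgroup.mul_mem_sup ⟨a, rfl⟩ hs

/-- a realisation over a subfield of a spanning normal subgroup, with the realisation -/
theorem subfield_of_realisable [Fintype F] [Nonempty ι] {G N : Subgroup (GL ι F)}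
    (hN : Spans (matrixSet N)) (hn : Norms G N) {F₀ : Subfield F} (hF₀ : F₀ ≠ ⊤)
    (hreal : RealisableOver F₀ (matrixSet N)) :
    ∃ (F₁ : Subfield F) (r : ℕ) (P : GL ι F), r.Prime ∧ Fintype.card F = Nat.card F₁ ^ r ∧
      G ≤ subfieldSubgroup F₁ P ∧ ∀ x ∈ N, ∀ i j, cj P⁻¹ (x : Matrix ι ι F) i j ∈ F₁ := by
  classical
  obtain ⟨F₁, r, hr, hcard, hle⟩ := exists_prime_index_subfield hF₀
  obtain ⟨B, hB⟩ := hreal
  refine ⟨F₁, r, B⁻¹, hr, hcard, fun g hg => ?_,
    fun x hx i j => by rw [inv_inv]; exact hle (hB _ (coe_mem_matrixSet hx) i j)⟩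
  refine ⟨B * g * B⁻¹, ?_, by simp [mul_assoc]⟩
  let S : Submodule F₁ (Matrix ι ι F₁) :=
    Submodule.span F₁ {A | ∃ x ∈ N, A.map F₁.subtype = cj B (x : Matrix ι ι F)}
  have hlift : ∀ x ∈ N, ∃ A : Matrix ι ι F₁, A.map F₁.subtype = cj B (x : Matrix ι ι F) := fun x hx =>
    ⟨Matrix.of fun i j => ⟨cj B (x : Matrix ι ι F) i j, hle (hB _ (coe_mem_matrixSet hx) i j)⟩, by ext i j; rfl⟩
  -- the span over the small field is everything
  have hS : S = ⊤ := by
    refine Submodule.eq_top_of_finrank_eq (le_antisymm (Submodule.finrank_le _) ?_)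
    set b := Module.finBasis F₁ S
    let v : Fin (Module.finrank F₁ S) → Matrix ι ι F := fun i => ((b i : S) : Matrix ι ι F₁).map F₁.subtype
    have htop : (⊤ : Submodule F (Matrix ι ι F)) ≤ Submodule.span F (Set.range v) := by
      intro M _
      have hM : cj B⁻¹ M ∈ Submodule.span F (matrixSet N) := hN ▸ Submodule.mem_top
      have key := mem_span_image_induction (fun X => cj B X ∈ Submodule.span F (Set.range v)) ?_ (by simp)
        (fun x y hx hy => by simpa using add_mem hx hy)
        (fun c x hx => by simpa using Submodule.smul_mem _ c hx) hM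
      · rwa [cj_cj, mul_inv_cancel, cj_one_left] at key
      rintro _ ⟨x, hx, rfl⟩
      obtain ⟨A, hA⟩ := hlift x hx
      have hAS : A ∈ S := Submodule.subset_span ⟨x, hx, hA⟩
      have hr' : ∑ i, b.repr ⟨A, hAS⟩ i • ((b i : S) : Matrix ι ι F₁) = A := by
        have h2 := congrArg S.subtype (b.sum_repr ⟨A, hAS⟩)
        simp only [map_sum, map_smul, Submodule.subtype_apply] at h2
        exact h2
      rw [← hA, ← hr']
      have hmap : (∑ i, b.repr ⟨A, hAS⟩ i • ((b i : S) : Matrix ι ι F₁)).map F₁.subtype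
          = ∑ i, ((b.repr ⟨A, hAS⟩ i : F₁) : F) • v i := by
        ext k l
        simp [v, Matrix.sum_apply]
      rw [hmap]
      exact sum_mem fun i _ => Submodule.smul_mem _ _ (Submodule.subset_span ⟨i, rfl⟩)
    have h1 := Submodule.finrank_mono htop
    rw [finrank_top] at h1
    have h2 := h1.trans (finrank_range_le_card v)
    simpa [Module.finrank_matrix, Fintype.card_fin] using h2
  refine mem_scalar_sup_of_normalizes F₁ fun A => ?_
  have hA : A ∈ S := hS ▸ Submodule.mem_top
  induction hA using Submodule.span_induction with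
  | mem A hA =>
    obtain ⟨x, hx, hx'⟩ := hA
    obtain ⟨A', hA'⟩ := hlift _ (hn g hg x hx)
    refine ⟨A', ?_⟩
    rw [hx', hA', cj_coe, cj_coe, cj_coe]
    congr 1
    group
  | zero => exact ⟨0, by simp⟩
  | add X Y _ _ hX hY =>
    obtain ⟨X', hX'⟩ := hX
    obtain ⟨Y', hY'⟩ := hY
    exact ⟨X' + Y', by rw [Matrix.map_add _ (map_add F₁.subtype), cj_add, hX', hY', Matrix.map_add _ (map_add F₁.subtype)]⟩
  | smul c X _ hX =>
    obtain ⟨X', hX'⟩ := hX
    have hm : ∀ Z : Matrix ι ι F₁, (c • Z).map F₁.subtype = (c : F) • Z.map F₁.subtype := fun Z => by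
      ext i j; simp
    exact ⟨c • X', by rw [hm, hm, cj_smul, hX']⟩

/-- a realisation over a subfield of a spanning normal subgroup: subfield case -/
theorem inSubfield_of_realisable [Fintype F] [Nonempty ι] {G N : Subgroup (GL ι F)}
    (hN : Spans (matrixSet N)) (hn : Norms G N) {F₀ : Subfield F} (hF₀ : F₀ ≠ ⊤)
    (hreal : RealisableOver F₀ (matrixSet N)) : InSubfield G := by
  obtain ⟨F₁, r, P, h1, h2, h3, -⟩ := subfield_of_realisable hN hn hF₀ hreal
  exact ⟨F₁, r, P, h1, h2, h3⟩

end CfsgLib.Asch
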