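import Cfsg.Agent.Lib.Aschbacher.FormBasic
import Cfsg.Agent.Lib.Aschbacher.FormInvol
import Cfsg.Agent.Lib.Aschbacher.Subfield

/-!
# Subfield groups compatible with a form
-/

set_option autoImplicit false

namespace CfsgLib.Asch

open Matrix Cfsg.Geo
open scoped MatrixGroups

variable {ι : Type} [Fintype ι] [DecidableEq ι] [Nonempty ι] {F : Type*} [Field F] [Fintype F]

/-- a group spanning the matrices and fixing a bilinear and a sesquilinear form is realisable over the fixed field -/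
theorem realisable_of_two_forms {σ : F →+* F} (hinv : ∀ a, σ (σ a) = a) (hσ : σ ≠ RingHom.id F)
    {N : Subgroup (GL ι F)} (hN : Spans (matrixSet N)) (B S : GL ι F)
    (hB : ∀ x ∈ N, (x : Matrix ι ι F)ᵀ * (B : Matrix ι ι F) * (x : Matrix ι ι F).map σ = (B : Matrix ι ι F))
    (hS : ∀ x ∈ N, (x : Matrix ι ι F)ᵀ * (S : Matrix ι ι F) * (x : Matrix ι ι F) = (S : Matrix ι ι F)) :
    RealisableOver (fixedField σ) (matrixSet N) := by
  set C : Matrix ι ι F := (((S⁻¹ * B : GL ι F)) : Matrix ι ι F) with hCdef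
  have hCu : IsUnit C := (S⁻¹ * B).isUnit
  have hC : ∀ x ∈ N, (x : Matrix ι ι F) * C = C * (x : Matrix ι ι F).map σ := by
    intro x hx
    have hSC : (S : Matrix ι ι F) * C = (B : Matrix ι ι F) := by rw [hCdef, Units.val_mul]; simp
    have hxt : IsUnit (x : Matrix ι ι F)ᵀ := (Matrix.isUnit_transpose _).mpr x.isUnit
    refine (hxt.mul S.isUnit).mul_left_cancel ?_
    calc (x : Matrix ι ι F)ᵀ * (S : Matrix ι ι F) * ((x : Matrix ι ι F) * C)
        = (S : Matrix ι ι F) * C := by rw [← mul_assoc, hS x hx]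
      _ = (x : Matrix ι ι F)ᵀ * (S : Matrix ι ι F) * (C * (x : Matrix ι ι F).map σ) := by
          rw [hSC, mul_assoc (x : Matrix ι ι F)ᵀ, ← mul_assoc (S : Matrix ι ι F), hSC, ← mul_assoc, hB x hx]
  have hmm : ∀ M : Matrix ι ι F, (M.map σ).map σ = M := fun M => by ext i j; exact hinv _
  obtain ⟨l, hl⟩ : IsScalarMat (C * C.map σ) := by
    refine hN.scalar_of_commute fun x hx => ?_
    have h1 := congrArg (fun M : Matrix ι ι F => M.map σ) (hC x hx)
    simp only [Matrix.map_mul, hmm] at h1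
    rw [mul_assoc, ← h1, ← mul_assoc, ← hC x hx, mul_assoc]
  have hCσ : IsUnit (C.map σ) := hCu.map σ.mapMatrix
  have hl0 : l ≠ 0 := by
    rintro rfl
    rw [zero_smul] at hl
    exact not_isUnit_zero (hl ▸ hCu.mul hCσ)
  have hlσ : σ l = l := by
    -- `C` commutes with its conjugate since the product is scalar
    have h2 : C.map σ * C = l • (1 : Matrix ι ι F) := by
      refine hCu.mul_left_cancel ?_
      rw [← mul_assoc, hl, smul_mul_assoc, one_mul, mul_smul_comm, mul_one]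
    have h3 := congrArg (fun M : Matrix ι ι F => M.map σ) hl
    simp only [Matrix.map_mul, hmm] at h3
    rw [h2] at h3
    have := congrFun (congrFun h3 (Classical.arbitrary ι)) (Classical.arbitrary ι)
    simpa using this.symm
  obtain ⟨t, ht⟩ := exists_norm hinv hσ (c := l⁻¹) (by rw [map_inv₀, hlσ])
  obtain ⟨P, hP⟩ := exists_eq_mul_map hinv hσ (C := t • C) (by
    rw [show (t • C).map σ = σ t • C.map σ by ext i j; simp, smul_mul_smul_comm, ht, hl, smul_smul,
      inv_mul_cancel₀ hl0, one_smul])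
  refine ⟨P⁻¹, ?_⟩
  rintro _ ⟨x, hx, rfl⟩ i j
  rw [inv_inv, mem_fixedField]
  have hkey : (((P⁻¹ : GL ι F) : Matrix ι ι F) * (x : Matrix ι ι F) * (P : Matrix ι ι F)).map σ
      = ((P⁻¹ : GL ι F) : Matrix ι ι F) * (x : Matrix ι ι F) * (P : Matrix ι ι F) := by
    have hPC : (P : Matrix ι ι F).map σ * ((P⁻¹ : GL ι F) : Matrix ι ι F).map σ = 1 := by
      rw [← Matrix.map_mul, Units.mul_inv, Matrix.map_one σ (map_zero σ) (map_one σ)]
    refine P.isUnit.mul_left_cancel ?_
    conv_rhs => rw [← mul_assoc, ← mul_assoc, Units.mul_inv, one_mul]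
    rw [Matrix.map_mul, Matrix.map_mul]
    nth_rw 1 [← hP]
    calc t • C * (P : Matrix ι ι F).map σ * (((P⁻¹ : GL ι F) : Matrix ι ι F).map σ
          * (x : Matrix ι ι F).map σ * (P : Matrix ι ι F).map σ)
        = t • C * ((P : Matrix ι ι F).map σ * ((P⁻¹ : GL ι F) : Matrix ι ι F).map σ)
            * (x : Matrix ι ι F).map σ * (P : Matrix ι ι F).map σ := by simp only [mul_assoc]
      _ = (x : Matrix ι ι F) * (t • C * (P : Matrix ι ι F).map σ) := by
          rw [hPC, mul_one, smul_mul_assoc t C, ← hC x hx]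
          simp only [smul_mul_assoc, mul_smul_comm, mul_assoc]
      _ = _ := by rw [hP]
  exact congrFun (congrFun hkey i) j

namespace FData

variable (D : FData ι F)

/-- contained in a subfield group whose rational structure carries a multiple of the form -/
def InSubfieldForm (G : Subgroup (GL ι F)) : Prop :=
  ∃ (F₁ : Subfield F) (r : ℕ) (P : GL ι F) (B₀ : Matrix ι ι F) (l : F), r.Prime ∧
    Fintype.card F = Nat.card F₁ ^ r ∧ (∀ i j, B₀ i j ∈ F₁) ∧ IsUnit B₀ ∧ l ≠ 0 ∧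
    (P : Matrix ι ι F)ᵀ * (D.B : Matrix ι ι F) * (P : Matrix ι ι F).map D.σ = l • B₀ ∧
    G ≤ subfieldSubgroup F₁ P

omit [Nonempty ι] [Fintype F] in
lemma form_mulVec_of_eq {P : GL ι F} {B₀ : Matrix ι ι F} {l : F}
    (h : (P : Matrix ι ι F)ᵀ * (D.B : Matrix ι ι F) * (P : Matrix ι ι F).map D.σ = l • B₀) (u v : ι → F) :
    D.form ((P : Matrix ι ι F) *ᵥ u) ((P : Matrix ι ι F) *ᵥ v) = l * sform D.σ B₀ u v := by
  rw [form, sform_mulVec, h, sform_smul_matrix]

omit [Nonempty ι] in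
lemma σ_mem_subfield (K : Subfield F) {x : F} (hx : x ∈ K) : D.σ x ∈ K := by
  rw [mem_subfield_iff_pow, ← map_pow, (mem_subfield_iff_pow K x).mp hx]

omit [Nonempty ι] in
lemma sform_mem_subfield (K : Subfield F) {B₀ : Matrix ι ι F} (hB₀ : ∀ i j, B₀ i j ∈ K) {u v : ι → F}
    (hu : ∀ i, u i ∈ K) (hv : ∀ i, v i ∈ K) : sform D.σ B₀ u v ∈ K := by
  simp only [sform, dotProduct, Matrix.mulVec]
  exact K.sum_mem fun i _ => K.mul_mem (hu i)
    (K.sum_mem fun j _ => K.mul_mem (hB₀ i j) (D.σ_mem_subfield K (hv j)))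

/-- a spanning normal subgroup realisable over a proper subfield -/
theorem inSubfieldForm_of_realisable {G N : Subgroup (GL ι F)} (hN : Spans (matrixSet N))
    (hn : Norms G N) (hNI : N ≤ D.isom) {F₀ : Subfield F} (hF₀ : F₀ ≠ ⊤)
    (hreal : RealisableOver F₀ (matrixSet N)) : D.InSubfieldForm G := by
  classical
  obtain ⟨F₁, r, P, hr, hcard, hGP, hent⟩ := subfield_of_realisable hN hn hF₀ hreal
  set B' : Matrix ι ι F := (P : Matrix ι ι F)ᵀ * (D.B : Matrix ι ι F) * (P : Matrix ι ι F).map D.σ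
  have hB'u : IsUnit B' :=
    (((Matrix.isUnit_transpose _).mpr P.isUnit).mul D.B.isUnit).mul (P.isUnit.map D.σ.mapMatrix)
  let P' : GL ι F := hB'u.unit
  let N' : Subgroup (GL ι F) := N.map (MulAut.conj P⁻¹).toMonoidHom
  have hval : ∀ x : GL ι F, (((MulAut.conj P⁻¹).toMonoidHom x : GL ι F) : Matrix ι ι F) = cj P⁻¹ (x : Matrix ι ι F) :=
    fun x => by rw [cj_coe]; rfl
  have hN' : Spans (matrixSet N') := by
    refine spans_of_alg_eq_top fun M => ?_
    have key := alg_induction (fun X => cj P⁻¹ X ∈ alg N') ?_ (by simp)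
      (fun a b ha hb => by rw [cj_add]; exact add_mem ha hb)
      (fun c a ha => by rw [cj_smul]; exact Subalgebra.smul_mem _ ha c) (hN.mem_alg (cj P M))
    · rwa [cj_cj, inv_mul_cancel, cj_one_left] at key
    · intro g hg
      rw [← hval]
      exact coe_mem_alg ⟨g, hg, rfl⟩
  have hfix : ∀ y ∈ N', (y : Matrix ι ι F)ᵀ * B' * (y : Matrix ι ι F).map D.σ = B' := by
    rintro _ ⟨x, hx, rfl⟩
    rw [hval]
    have h1 : (P : Matrix ι ι F) * cj P⁻¹ (x : Matrix ι ι F) = (x : Matrix ι ι F) * (P : Matrix ι ι F) := by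
      simp [cj, ← mul_assoc]
    calc (cj P⁻¹ (x : Matrix ι ι F))ᵀ * B' * (cj P⁻¹ (x : Matrix ι ι F)).map D.σ
        = ((P : Matrix ι ι F) * cj P⁻¹ (x : Matrix ι ι F))ᵀ * (D.B : Matrix ι ι F)
            * ((P : Matrix ι ι F) * cj P⁻¹ (x : Matrix ι ι F)).map D.σ := by
          simp only [B', transpose_mul, Matrix.map_mul, mul_assoc]
      _ = (P : Matrix ι ι F)ᵀ * ((x : Matrix ι ι F)ᵀ * (D.B : Matrix ι ι F) * (x : Matrix ι ι F).map D.σ)
            * (P : Matrix ι ι F).map D.σ := by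
          rw [h1]; simp only [transpose_mul, Matrix.map_mul, mul_assoc]
      _ = B' := by rw [D.mem_isom.mp (hNI hx)]
  obtain ⟨i₀, j₀, hij⟩ : ∃ i j, B' i j ≠ 0 := by
    by_contra hc
    push_neg at hc
    refine hB'u.ne_zero ?_
    ext i j; exact hc i j
  set l := B' i₀ j₀
  set B₀ : Matrix ι ι F := l⁻¹ • B'
  obtain ⟨p, f, hp, hchar, -, -⟩ := exists_prime_pow (F := F)
  haveI := Fact.mk hp
  haveI := hchar
  haveI : CharP F₁ p := (RingHom.charP_iff_charP F₁.subtype p).mpr hchar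
  haveI : Fintype F₁ := Fintype.ofFinite F₁
  obtain ⟨⟨d, hd⟩, -, hd'⟩ := FiniteField.card F₁ p
  simp only [PNat.mk_coe] at hd'
  let φ : F →+* F := iterateFrobenius F p d
  have hφmem : ∀ a, a ∈ F₁ ↔ φ a = a := fun a => by
    rw [mem_subfield_iff_pow, Nat.card_eq_fintype_card, hd', iterateFrobenius_def]
  have hφσ : ∀ a, φ (D.σ a) = D.σ (φ a) := fun a => (RingHom.map_iterateFrobenius D.σ p a d).symm
  have hB₀ : ∀ i j, B₀ i j ∈ F₁ := by
    intro i j
    rw [hφmem]
    have hfix₀ : ∀ y ∈ N', (y : Matrix ι ι F)ᵀ * B₀.map φ * (y : Matrix ι ι F).map D.σ = B₀.map φ := by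
      intro y hy
      have hy' : (y : Matrix ι ι F).map φ = (y : Matrix ι ι F) := by
        obtain ⟨x, hx, rfl⟩ := hy
        rw [hval]
        ext a b
        exact (hφmem _).mp (hent x hx a b)
      have hyσ : ((y : Matrix ι ι F).map D.σ).map φ = (y : Matrix ι ι F).map D.σ := by
        conv_rhs => rw [← hy']
        ext a b
        exact hφσ _
      have h0 : (y : Matrix ι ι F)ᵀ * B₀ * (y : Matrix ι ι F).map D.σ = B₀ := by
        simp only [B₀, Matrix.mul_smul, Matrix.smul_mul, hfix y hy]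
      have h := congrArg (fun M : Matrix ι ι F => M.map φ) h0
      simp only [Matrix.map_mul, transpose_map, hy', hyσ] at h
      exact h
    obtain ⟨c, hc⟩ := fixed_forms_proportional (U := P') hN' hfix hfix₀
    have hc1 := congrFun (congrFun hc i₀) j₀
    rw [Matrix.map_apply, Matrix.smul_apply, show B₀ i₀ j₀ = 1 from inv_mul_cancel₀ hij, map_one,
      smul_eq_mul] at hc1
    have hc' : c = l⁻¹ := eq_inv_of_mul_eq_one_left hc1.symm
    have := congrFun (congrFun hc i) j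
    rw [hc'] at this
    exact this
  refine ⟨F₁, r, P, B₀, l, hr, hcard, hB₀, ?_, hij, ?_, hGP⟩
  · rw [show B₀ = (l⁻¹ • (1 : Matrix ι ι F)) * B' by simp [B₀]]
    refine IsUnit.mul ?_ hB'u
    exact isUnit_iff_exists_inv.mpr ⟨l • 1, by simp [smul_smul, inv_mul_cancel₀ hij, mul_inv_cancel₀ hij]⟩
  · rw [smul_smul, mul_inv_cancel₀ hij, one_smul]

end FData

end CfsgLib.Asch
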