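import Cfsg.Agent.Lib.Aschbacher.Components
import Cfsg.Agent.Lib.Aschbacher.FormSubfield
import Cfsg.Agent.Lib.Aschbacher.FormQuad
import Cfsg.Agent.Lib.Aschbacher.FormField

/-!
# A simple-modulo-scalars spanning normal subgroup of a group of isometries
-/

set_option autoImplicit false

namespace CfsgLib.Asch

open Matrix Cfsg.Geo
open scoped MatrixGroups

variable {ι : Type} [Fintype ι] [DecidableEq ι] [Nonempty ι] {F : Type*} [Field F] [Fintype F]

omit [Nonempty ι] [Fintype F] in
lemma map_refl_id (M : Matrix ι ι F) : M.map (RingHom.id F) = M := by ext; simp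

omit [Nonempty ι] in
/-- the Gram matrix of the polar form of a fixed quadratic form -/
lemma gram_of_fixed_quad {P : Subgroup (GL ι F)} {Q : (ι → F) → F} (hQ : IsNondegenerateQuadraticForm Q)
    (hfix : FixesQuadForm (matrixSet P) Q) :
    ∃ S : GL ι F, QuadraticMap.polar Q = sform (RingHom.id F) (S : Matrix ι ι F) ∧
      (S : Matrix ι ι F)ᵀ = (S : Matrix ι ι F) ∧
      ∀ x ∈ P, (x : Matrix ι ι F)ᵀ * (S : Matrix ι ι F) * (x : Matrix ι ι F) = (S : Matrix ι ι F) := by
  set B := gramMatrix (QuadraticMap.polar Q)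
  have hf : QuadraticMap.polar Q = sform (RingHom.id F) B := bilinear_eq_sform hQ.polar_bilinear
  have hB : IsUnit B :=
    isUnit_of_nondegenerate (σ := RingHom.id F) Function.surjective_id (hf ▸ hQ.nondegenerate)
  refine ⟨hB.unit, hf, ?_, fun x hx => sform_injective (σ := RingHom.id F) (funext₂ fun u v => ?_)⟩
  · ext i j
    exact QuadraticMap.polar_comm Q _ _
  · rw [IsUnit.unit_spec]
    have h := sform_mulVec (RingHom.id F) B (x : Matrix ι ι F) u v
    rw [map_refl_id] at h
    rw [← h, ← hf]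
    simp only [QuadraticMap.polar, ← mulVec_add]
    rw [hfix _ (coe_mem_matrixSet hx), hfix _ (coe_mem_matrixSet hx), hfix _ (coe_mem_matrixSet hx)]

omit [Nonempty ι] in
/-- the Gram matrix of a fixed alternating form -/
lemma gram_of_fixed_symp {P : Subgroup (GL ι F)} {f : (ι → F) → (ι → F) → F} (hf : IsSymplecticForm f)
    (hfix : FixesForm (matrixSet P) f) :
    ∃ S : GL ι F, ∀ x ∈ P, (x : Matrix ι ι F)ᵀ * (S : Matrix ι ι F) * (x : Matrix ι ι F) = (S : Matrix ι ι F) := by
  have hfB := bilinear_eq_sform hf.bilinear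
  have hB : IsUnit (gramMatrix f) :=
    isUnit_of_nondegenerate (σ := RingHom.id F) Function.surjective_id (hfB ▸ hf.nondegenerate)
  refine ⟨hB.unit, fun x hx => sform_injective (σ := RingHom.id F) (funext₂ fun u v => ?_)⟩
  rw [IsUnit.unit_spec]
  have h := sform_mulVec (RingHom.id F) (gramMatrix f) (x : Matrix ι ι F) u v
  rw [map_refl_id] at h
  rw [← h, ← hfB]
  exact hfix _ (coe_mem_matrixSet hx) u v

namespace FData

variable (D : FData ι F) {G P : Subgroup (GL ι F)}

omit [Nonempty ι] [Fintype F] in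
lemma isom_fix (hσ : D.σ = RingHom.id F) {x : GL ι F} (hx : x ∈ D.isom) :
    (x : Matrix ι ι F)ᵀ * (D.B : Matrix ι ι F) * (x : Matrix ι ι F) = (D.B : Matrix ι ι F) := by
  have := D.mem_isom.mp hx
  rwa [hσ, map_refl_id] at this

/-- the residual core, unless realisable over a subfield -/
theorem residualCore_or_subfield (hGI : G ≤ D.isom) (hPG : P ≤ G) (hn : Norms G P) (hperf : ⁅P, P⁆ = P)
    (hD : ¬ P ≤ scalars ι F) (hsimp : IsSimpleGroup (P ⧸ (scalars ι F).subgroupOf P))
    (hsp : Spans (matrixSet P)) : D.InSubfieldForm G ∨ IsResidualCore G P := by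
  by_cases hr : ∃ F₀ : Subfield F, F₀ ≠ ⊤ ∧ RealisableOver F₀ (matrixSet P)
  · obtain ⟨F₀, h1, h2⟩ := hr
    exact Or.inl (D.inSubfieldForm_of_realisable hsp hn (hPG.trans hGI) h1 h2)
  push_neg at hr
  refine Or.inr ⟨hPG, hn, hperf, hsimp, fun hcomm => hD ?_,
    fun g _ hc => hsp.mem_scalars_of_commute fun x hx => commute_of_comm_scalar hperf hc hx, hsp.absIrred, hr⟩
  rw [← hperf, Subgroup.commutator_le]
  intro a ha b hb
  have h1 := hcomm.is_comm.comm (QuotientGroup.mk (⟨a, ha⟩ : P)) (QuotientGroup.mk ⟨b, hb⟩)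
  rw [← QuotientGroup.mk_mul, ← QuotientGroup.mk_mul, eq_comm, QuotientGroup.eq_iff_div_mem] at h1
  simpa [Subgroup.mem_subgroupOf, mul_assoc, div_eq_mul_inv, commutatorElement_def] using Subgroup.inv_mem _ h1

/-- hermitian case: a fixed bilinear form gives a subfield -/
theorem subfield_of_fixed_bilinear (hσ : D.σ ≠ RingHom.id F) (hGI : G ≤ D.isom) (hPG : P ≤ G) (hn : Norms G P)
    (hsp : Spans (matrixSet P)) (S : GL ι F)
    (hS : ∀ x ∈ P, (x : Matrix ι ι F)ᵀ * (S : Matrix ι ι F) * (x : Matrix ι ι F) = (S : Matrix ι ι F)) :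
    D.InSubfieldForm G := by
  refine D.inSubfieldForm_of_realisable hsp hn (hPG.trans hGI) (fun h0 => hσ (RingHom.ext fun a => ?_))
    (realisable_of_two_forms D.σσ hσ hsp D.B S (fun x hx => D.mem_isom.mp (hGI (hPG hx))) hS)
  exact mem_fixedField.mp (h0 ▸ Subfield.mem_top a)

/-- bilinear case: a fixed hermitian form gives a subfield -/
theorem subfield_of_fixed_unitary (hσ : D.σ = RingHom.id F) (hGI : G ≤ D.isom) (hPG : P ≤ G) (hn : Norms G P)
    (hsp : Spans (matrixSet P)) {τ : F ≃+* F} {f : (ι → F) → (ι → F) → F} (hf : IsUnitaryForm τ f)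
    (hfix : FixesForm (matrixSet P) f) : D.InSubfieldForm G := by
  have hfB := unitary_eq_sform hf
  have hB : IsUnit (gramMatrix f) :=
    isUnit_of_nondegenerate (σ := τ.toRingHom) τ.surjective (hfB ▸ hf.nondegenerate)
  have hτ : τ.toRingHom ≠ RingHom.id F := fun h0 => hf.ne_refl (RingEquiv.ext fun a => RingHom.congr_fun h0 a)
  refine D.inSubfieldForm_of_realisable hsp hn (hPG.trans hGI) (fun h0 => hτ (RingHom.ext fun a => ?_))
    (realisable_of_two_forms hf.involutive hτ hsp hB.unit D.B (fun x hx => ?_)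
      (fun x hx => D.isom_fix hσ (hGI (hPG hx))))
  · exact mem_fixedField.mp (h0 ▸ Subfield.mem_top a)
  · rw [IsUnit.unit_spec]
    refine sform_injective (σ := τ.toRingHom) (funext₂ fun u v => ?_)
    rw [← sform_mulVec, ← hfB]
    exact hfix _ (coe_mem_matrixSet hx) u v

/-- alternating case: a fixed quadratic form -/
theorem inEvenQuad_of_fixed_quad (hσ : D.σ = RingHom.id F) (halt : ∀ v, D.form v v = 0)
    (hn2 : 2 ≤ Fintype.card ι) (hGI : G ≤ D.isom) (hPG : P ≤ G) (hn : Norms G P)
    (hsp : Spans (matrixSet P)) {Q : (ι → F) → F} (hQ : IsNondegenerateQuadraticForm Q)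
    (hfix : FixesQuadForm (matrixSet P) Q) : D.InEvenQuad G := by
  obtain ⟨S, hS, hsym, hSfix⟩ := gram_of_fixed_quad hQ hfix
  obtain ⟨c, hc⟩ := fixed_forms_proportional (σ := RingHom.id F) (U := D.B) hsp
    (fun x hx => by rw [map_refl_id]; exact D.isom_fix hσ (hGI (hPG hx)))
    (fun x hx => by rw [map_refl_id]; exact hSfix x hx)
  have hc0 : c ≠ 0 := by
    rintro rfl
    rw [zero_smul] at hc
    exact S.ne_zero hc
  have hform : D.form = sform (RingHom.id F) (D.B : Matrix ι ι F) := by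
    funext u v; rw [form, hσ]
  have hpol : ∀ u v, QuadraticMap.polar Q u v = c * D.form u v := fun u v => by
    rw [hS, hc, sform_smul_matrix, hform]
  by_cases h2 : (2 : F) = 0
  · refine D.inEvenQuad_of_fixed hσ h2 hn2 hGI hsp.irred hn (Q := fun v => c⁻¹ * Q v)
      (fun a v => by rw [hQ.smul]; ring) (fun u v => ?_) (fun s hs v => by simp only [hfix s hs v])
    have h1 := hpol u v
    simp only [QuadraticMap.polar] at h1 ⊢
    rw [← mul_sub, ← mul_sub, h1, ← mul_assoc, inv_mul_cancel₀ hc0, one_mul]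
  · exfalso
    obtain ⟨i⟩ := (inferInstance : Nonempty ι)
    obtain ⟨x, hx⟩ := (D.nondeg (Pi.single i 1) (by simp)).2
    refine hx ?_
    have h1 := hpol (Pi.single i 1) x
    rw [QuadraticMap.polar_comm, hpol, D.skew_of_alt halt] at h1
    have h3 : (2 : F) * (c * D.form (Pi.single i 1) x) = 0 := by linear_combination (-1 : F) * h1
    exact (mul_eq_zero.mp ((mul_eq_zero.mp h3).resolve_left h2)).resolve_left hc0

end FData

end CfsgLib.Asch
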