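import Cfsg.Agent.Lib.Aschbacher.EvenType
import Cfsg.Agent.Lib.Aschbacher.FormKronSymp
import Cfsg.Agent.Lib.Aschbacher.FormResidual

/-!
# The data of an even-dimensional quadratic form; invariant forms, fields, pairs, reducible groups
-/

set_option autoImplicit false

namespace CfsgLib.Asch.Even

open Matrix Cfsg.Geo QuadraticMap Module
open CfsgLib.Classical.Quad (NDPolar polar_singular_self polar_self')
open scoped MatrixGroups

variable {ι : Type} [Fintype ι] [DecidableEq ι] {F : Type*} [Field F]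

lemma bilinear_polar (Q : QuadraticForm F (ι → F)) : IsBilinearForm (polar ⇑Q) where
  add_left x y v := polar_add_left Q x y v
  smul_left c x v := (polar_smul_left Q c x v).trans (smul_eq_mul c _)
  add_right v x y := polar_add_right Q v x y
  smul_right c v x := (polar_smul_right Q c v x).trans (smul_eq_mul c _)

lemma nondegenerate_polar {Q : QuadraticForm F (ι → F)} (hnd : NDPolar Q) : IsNondegenerateForm (polar ⇑Q) := by
  intro v hv
  obtain ⟨x, hx⟩ : ∃ x, polar Q v x ≠ 0 := by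
    by_contra hc
    push Not at hc
    exact hv (hnd v hc)
  exact ⟨⟨x, by rw [polar_comm]; exact hx⟩, x, hx⟩

/-- the polar form of a quadratic form with its data -/
noncomputable def evenData (Q : QuadraticForm F (ι → F)) (hnd : NDPolar Q) : FData ι F where
  σ := RingHom.id F
  σσ := fun _ => rfl
  B := (isUnit_of_nondegenerate (σ := RingHom.id F) Function.surjective_id
    (bilinear_eq_sform (bilinear_polar Q) ▸ nondegenerate_polar hnd)).unit
  ε := 1
  herm := by
    ext i j
    simpa [gramMatrix] using QuadraticMap.polar_comm (⇑Q) (Pi.single j 1) (Pi.single i 1)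

variable {Q : QuadraticForm F (ι → F)} {hnd : NDPolar Q}

lemma form_eq : (evenData Q hnd).form = polar ⇑Q :=
  (bilinear_eq_sform (bilinear_polar Q)).symm

lemma form_self (v : ι → F) : (evenData Q hnd).form v v = 2 * Q v := by
  rw [form_eq]; exact polar_self' v

lemma form_alt (h2 : (2 : F) = 0) (v : ι → F) : (evenData Q hnd).form v v = 0 := by
  rw [form_self, h2, zero_mul]

lemma σ_eq : (evenData Q hnd).σ = RingHom.id F := rfl

/-- the group fixes the quadratic form -/
def Fixes (Q : QuadraticForm F (ι → F)) (G : Subgroup (GL ι F)) : Prop :=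
  ∀ g ∈ G, ∀ v, Q ((g : Matrix ι ι F) *ᵥ v) = Q v

lemma Fixes.isom {G : Subgroup (GL ι F)} (h : Fixes Q G) : G ≤ (evenData Q hnd).isom := by
  intro g hg u v
  show (evenData Q hnd).form _ _ = (evenData Q hnd).form u v
  rw [form_eq]
  show polar (⇑Q) ((g : Matrix ι ι F) *ᵥ u) ((g : Matrix ι ι F) *ᵥ v) = polar (⇑Q) u v
  simp only [polar, ← mulVec_add, h g hg]

lemma fixes_omega {H : Subgroup (GL ι F)} (hH : H ≤ omegaGL ⇑Q) : Fixes Q H := by
  intro g hg v
  obtain ⟨g', -, rfl⟩ := hH hg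
  exact g'.2 v v

lemma fixes_sup_scalars [Nonempty ι] {H : Subgroup (GL ι F)} (hH : Fixes Q H) :
    Fixes Q (H ⊔ (scalars ι F ⊓ (evenData Q hnd).isom)) := by
  let S : Subgroup (GL ι F) :=
  { carrier := {g | ∀ v, Q ((g : Matrix ι ι F) *ᵥ v) = Q v}
    one_mem' := fun v => by simp
    mul_mem' := fun {a b} ha hb v => by rw [Units.val_mul, ← mulVec_mulVec, ha, hb]
    inv_mem' := fun {a} ha v => by
      have h := ha (((a⁻¹ : GL ι F) : Matrix ι ι F) *ᵥ v)
      rw [mulVec_mulVec, ← Units.val_mul, mul_inv_cancel, Units.val_one, one_mulVec] at h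
      exact h.symm }
  suffices h : H ⊔ (scalars ι F ⊓ (evenData Q hnd).isom) ≤ S from fun g hg => h hg
  refine sup_le hH ?_
  rintro g ⟨hgs, hgI⟩ v
  obtain ⟨c, hc⟩ := (mem_scalars_iff g).mp hgs
  have h1 := (evenData Q hnd).norm_of_scalar_mem_isom hc hgI
  rw [σ_eq, RingHom.id_apply] at h1
  rw [hc, smul_mulVec, one_mulVec, QuadraticMap.map_smul, h1, one_smul]

lemma cj_sub' (g : GL ι F) (A B : Matrix ι ι F) : cj g (A - B) = cj g A - cj g B := by
  simp [cj, mul_sub, sub_mul]

variable [Fintype F]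

/-- characteristic two: an invariant square-semilinear function of an irreducible group vanishes -/
lemma sq_zero (h2 : (2 : F) = 0) (hn : 2 ≤ Fintype.card ι) {G : Subgroup (GL ι F)}
    (hirr : ActsIrreducibly (matrixSet G)) (d : (ι → F) → F) (hadd : ∀ u v, d (u + v) = d u + d v)
    (hsmul : ∀ (c : F) v, d (c • v) = c ^ 2 * d v)
    (hG : ∀ g ∈ G, ∀ v, d ((g : Matrix ι ι F) *ᵥ v) = d v) (v : ι → F) : d v = 0 :=
  sq_semilinear_eq_zero h2 hn hirr d hadd hsmul (fun g hg v hv => (hG g hg v).trans hv) v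

omit [Fintype F] in
/-- self-adjoint members of a non-self-adjoint quadratic field are scalars -/
theorem self_scalar (D : FData ι F) (hσ : D.σ = RingHom.id F) {K : Subalgebra F (Matrix ι ι F)}
    (hK : IsFieldSubalgebra 2 K) (hne : ∃ k ∈ K, D.adj k ≠ k) {z : Matrix ι ι F} (hz : z ∈ K)
    (hzz : D.adj z = z) : IsScalarMat z := by
  obtain ⟨k₀, hk₀, hk₀ne⟩ := hne
  by_contra hns
  let v : Fin 2 → K := ![1, ⟨z, hz⟩]
  have hli : LinearIndependent F v := by
    rw [Fintype.linearIndependent_iff]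
    intro c hc
    have hc' := congrArg Subtype.val hc
    simp [Fin.sum_univ_two, v] at hc'
    have h1 : c 1 = 0 := by
      by_contra h1
      refine hns ⟨-(c 1)⁻¹ * c 0, ?_⟩
      have h3 : c 1 • z = -(c 0 • (1 : Matrix ι ι F)) := eq_neg_of_add_eq_zero_right hc'
      calc z = (c 1)⁻¹ • (c 1 • z) := by rw [smul_smul, inv_mul_cancel₀ h1, one_smul]
        _ = _ := by rw [h3, smul_neg, smul_smul, neg_mul, neg_smul]
    haveI : Nonempty ι := by
      by_contra hι
      rw [not_nonempty_iff] at hι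
      exact hns ⟨0, Matrix.ext fun i => isEmptyElim i⟩
    rw [h1, zero_smul, add_zero, smul_eq_zero] at hc'
    intro i
    fin_cases i
    · exact hc'.resolve_right one_ne_zero
    · exact h1
  have hspan := hli.span_eq_top_of_card_eq_finrank (by rw [Fintype.card_fin, hK.finrank_eq])
  refine hk₀ne ?_
  obtain ⟨c, hc⟩ := (Submodule.mem_span_range_iff_exists_fun F).mp
    (show (⟨k₀, hk₀⟩ : K) ∈ Submodule.span F (Set.range v) by rw [hspan]; trivial)
  have hc' : c 0 • (1 : Matrix ι ι F) + c 1 • z = k₀ := by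
    have := congrArg Subtype.val hc
    simpa [Fin.sum_univ_two, v] using this
  rw [← hc', D.adj_add, D.adj_smul, D.adj_smul, D.adj_one, hzz, hσ]
  rfl

/-- a non-self-adjoint quadratic field normalised by an irreducible group acts by similarities -/
theorem quad_similar_of_field [Nonempty ι] (hn : 2 ≤ Fintype.card ι) {G : Subgroup (GL ι F)} (hG : Fixes Q G)
    (hirr : ActsIrreducibly (matrixSet G)) {K : Subalgebra F (Matrix ι ι F)} (hK : IsFieldSubalgebra 2 K)
    (hadj : ∀ k ∈ K, (evenData Q hnd).adj k ∈ K) (hne : ∃ k ∈ K, (evenData Q hnd).adj k ≠ k)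
    (hle : G ≤ subalgebraNormalizer K) {k : Matrix ι ι F} (hk : k ∈ K) :
    ∃ c : F, ∀ v, Q (k *ᵥ v) = c * Q v := by
  set D := evenData Q hnd with hD
  have hf : D.form = polar ⇑Q := form_eq
  obtain ⟨N, hN⟩ := self_scalar D σ_eq hK hne (mul_mem (hadj _ hk) hk) (by rw [D.adj_mul, D.adj_adj])
  obtain ⟨T, hT⟩ := self_scalar D σ_eq hK hne (add_mem hk (hadj _ hk)) (by rw [D.adj_add, D.adj_adj, add_comm])
  refine ⟨N, ?_⟩
  have hform : ∀ u v, polar Q (k *ᵥ u) (k *ᵥ v) = N * polar Q u v := fun u v => by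
    rw [← hf, D.form_adj, mulVec_mulVec, hN, smul_mulVec, one_mulVec, D.form_smul_right, σ_eq]; rfl
  by_cases h2 : (2 : F) = 0
  swap
  · intro v
    have := hform v v
    rw [polar_self', polar_self'] at this
    exact mul_left_cancel₀ h2 (by linear_combination this)
  -- characteristic two
  have hk' : k * D.adj k = N • 1 := by rw [hK.comm _ hk _ (hadj _ hk), hN]
  have hform' : ∀ u v, polar Q (D.adj k *ᵥ u) (D.adj k *ᵥ v) = N * polar Q u v := fun u v => by
    rw [← hf, D.form_adj, D.adj_adj, mulVec_mulVec, hk', smul_mulVec, one_mulVec, D.form_smul_right, σ_eq]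
    rfl
  have hmove : ∀ g ∈ G, cj g⁻¹ k = k ∨ cj g⁻¹ k = D.adj k := by
    intro g hg
    set y := cj g⁻¹ k with hy
    have hyK : y ∈ K := (hle (G.inv_mem hg) k).mp hk
    have hkk : k * k = T • k - N • 1 := by
      rw [eq_sub_iff_add_eq, ← hk', ← mul_add, hT, mul_smul_comm, mul_one]
    have hyy : y * y = T • y - N • 1 := by rw [hy, ← cj_mul, hkk, cj_sub', cj_smul, cj_smul, cj_one]
    have h0 : (y - k) * (y - D.adj k) = 0 := by
      have hsum : y * D.adj k + k * y = T • y := by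
        rw [hK.comm k hk y hyK, ← mul_add, add_comm, hT, mul_smul_comm, mul_one]
      rw [sub_mul, mul_sub, mul_sub, hyy, hk']
      linear_combination (norm := abel) -hsum
    by_cases hyk : y - k = 0
    · exact Or.inl (sub_eq_zero.mp hyk)
    obtain ⟨x, hx, hxy⟩ := hK.inv _ (sub_mem hyK hk) hyk
    refine Or.inr (sub_eq_zero.mp ?_)
    calc y - D.adj k = ((y - k) * x) * (y - D.adj k) := by rw [hxy, one_mul]
      _ = x * ((y - k) * (y - D.adj k)) := by rw [hK.comm _ (sub_mem hyK hk) x hx, mul_assoc]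
      _ = 0 := by rw [h0, mul_zero]
  have hadd : ∀ x y, Q (x + y) = Q x + Q y + polar Q x y := fun x y => QuadraticMap.map_add (⇑Q) x y
  have hmv : ∀ g ∈ G, ∀ (M : Matrix ι ι F) (v : ι → F),
      Q (M *ᵥ ((g : Matrix ι ι F) *ᵥ v)) = Q (cj g⁻¹ M *ᵥ v) := fun g hg M v => by
    rw [← hG g hg (cj g⁻¹ M *ᵥ v), ← cj_mulVec, cj_cj, mul_inv_cancel, cj_one_left]
  -- the two conjugates take the same values
  have hswap : ∀ v, Q (k *ᵥ v) + Q (D.adj k *ᵥ v) = 0 := by
    refine sq_zero h2 hn hirr _ (fun u v => ?_) (fun c v => ?_) (fun g hg v => ?_)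
    · simp only [mulVec_add, hadd, hform, hform']
      linear_combination (N * polar Q u v) * h2
    · simp only [mulVec_smul, QuadraticMap.map_smul, smul_eq_mul]; ring
    · rw [hmv g hg, hmv g hg, ← D.adj_cj (hG.isom (G.inv_mem hg))]
      rcases hmove g hg with h | h
      · rw [h]
      · rw [h, D.adj_adj, add_comm]
  have heq : ∀ v, Q (D.adj k *ᵥ v) = Q (k *ᵥ v) := fun v => by
    linear_combination hswap v - Q (k *ᵥ v) * h2
  intro v
  have := sq_zero h2 hn hirr (fun v => Q (k *ᵥ v) + N * Q v) (fun u v => by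
      simp only [mulVec_add, hadd, hform]
      linear_combination (N * polar Q u v) * h2) (fun c v => by
      simp only [mulVec_smul, QuadraticMap.map_smul, smul_eq_mul]; ring) (fun g hg v => by
      show Q (k *ᵥ _) + N * Q _ = _
      rw [hG g hg, hmv g hg]
      rcases hmove g hg with h | h <;> rw [h]
      rw [heq]) v
  linear_combination this - N * Q v * h2

/-- totally singular halves permuted by an irreducible group: `Q` vanishes on them -/
theorem pair_singular [Nonempty ι] {G : Subgroup (GL ι F)} (hG : Fixes Q G) (hirr : ActsIrreducibly (matrixSet G))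
    {m : ℕ} (hm : 2 ≤ m) {V : Fin 2 → Submodule F (ι → F)} (hV : IsMDecomposition m V)
    (hs : ∀ i, IsTotallySingularFor (evenData Q hnd).form (V i)) (hle : G ≤ decompositionStabilizer V) (i : Fin 2) :
    IsTotallySingularQuad ⇑Q (V i) := by
  have hpol : ∀ i, ∀ u ∈ V i, ∀ v ∈ V i, polar Q u v = 0 := fun i u hu v hv => by
    rw [← form_eq (hnd := hnd)]; exact hs i u hu v hv
  by_cases h2 : (2 : F) = 0
  swap
  · intro v hv
    have := hpol i v hv v hv
    rw [polar_self'] at this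
    exact (mul_eq_zero.mp this).resolve_left h2
  have hadd : ∀ i, ∀ u ∈ V i, ∀ v ∈ V i, Q (u + v) = Q u + Q v := fun i u hu v hv => by
    rw [QuadraticMap.map_add (⇑Q), hpol i u hu v hv, add_zero]
  let Z : Fin 2 → Submodule F (ι → F) := fun i =>
  { carrier := {v | v ∈ V i ∧ Q v = 0}
    add_mem' := fun {a b} ha hb => ⟨(V i).add_mem ha.1 hb.1, by rw [hadd i a ha.1 b hb.1, ha.2, hb.2, add_zero]⟩
    zero_mem' := ⟨(V i).zero_mem, map_zero Q⟩
    smul_mem' := fun c a ha => ⟨(V i).smul_mem c ha.1, by rw [QuadraticMap.map_smul, ha.2, smul_zero]⟩ }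
  have hUinv : ∀ g ∈ G, ∀ v ∈ Z 0 ⊔ Z 1, (g : Matrix ι ι F) *ᵥ v ∈ Z 0 ⊔ Z 1 := by
    intro g hg v hv
    obtain ⟨π, hπ⟩ := hle hg
    have key : ∀ i, ∀ a ∈ Z i, (g : Matrix ι ι F) *ᵥ a ∈ Z (π i) := fun i a ha =>
      ⟨hπ i ▸ ⟨a, ha.1, Matrix.toLin'_apply _ _⟩, by rw [hG g hg]; exact ha.2⟩
    have hZ : ∀ j, Z j ≤ Z 0 ⊔ Z 1 := fun j => by
      obtain rfl | rfl : j = 0 ∨ j = 1 := by omega
      exacts [le_sup_left, le_sup_right]
    obtain ⟨a, ha, b, hb, rfl⟩ := Submodule.mem_sup.mp hv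
    rw [mulVec_add]
    exact add_mem (hZ _ (key 0 a ha)) (hZ _ (key 1 b hb))
  rcases irred_apply hirr hUinv with hb | ht
  · exfalso
    haveI : CharP F 2 := CharTwo.of_one_ne_zero_of_two_eq_zero one_ne_zero h2
    have hne : ∀ a ∈ V 0, Q a = 0 → a = 0 := fun a ha hQ =>
      (Submodule.mem_bot F).mp (hb ▸ Submodule.mem_sup_left (show a ∈ Z 0 from ⟨ha, hQ⟩))
    haveI : Nontrivial (V 0) := Module.nontrivial_of_finrank_pos (R := F) (by rw [hV.finrank_eq]; omega)
    obtain ⟨⟨u, hu⟩, hu0⟩ := exists_ne (0 : V 0)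
    have hu0' : u ≠ 0 := fun h => hu0 (Subtype.ext h)
    obtain ⟨w, hw, hwu⟩ : ∃ w ∈ V 0, w ∉ Submodule.span F {u} := by
      by_contra hc
      push Not at hc
      have := (Submodule.finrank_mono (show V 0 ≤ Submodule.span F {u} from hc)).trans_eq (finrank_span_singleton hu0')
      rw [hV.finrank_eq] at this
      omega
    have hQu : Q u ≠ 0 := fun h => hu0' (hne u hu h)
    obtain ⟨c, hc⟩ := (bijective_frobenius F 2).2 (Q w / Q u)
    have hcu : w + c • u = 0 := hne _ ((V 0).add_mem hw ((V 0).smul_mem c hu)) (by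
      rw [hadd 0 w hw _ ((V 0).smul_mem c hu), QuadraticMap.map_smul, smul_eq_mul, ← _root_.sq,
        show c ^ 2 = Q w / Q u from hc, div_mul_cancel₀ _ hQu, ← two_mul, h2, zero_mul])
    exact hwu (by rw [eq_neg_of_add_eq_zero_left hcu]; exact neg_mem (Submodule.smul_mem _ _ (Submodule.mem_span_singleton_self u)))
  · intro v hv
    obtain ⟨a, ha, b, hb, hab⟩ := Submodule.mem_sup.mp (ht ▸ (Submodule.mem_top : v ∈ (⊤ : Submodule F (ι → F))))
    have hdis : Disjoint (V 0) (V 1) := hV.indep.pairwiseDisjoint (by decide)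
    obtain rfl | rfl : i = 0 ∨ i = 1 := by omega
    · have hb0 : b = 0 := Submodule.disjoint_def.mp hdis b (by
        rw [show b = v - a by rw [← hab, add_sub_cancel_left]]; exact sub_mem hv ha.1) hb.1
      rw [← hab, hb0, add_zero]; exact ha.2
    · have ha0 : a = 0 := Submodule.disjoint_def.mp hdis a ha.1 (by
        rw [show a = v - b by rw [← hab, add_sub_cancel_right]]; exact sub_mem hv hb.1)
      rw [← hab, ha0, zero_add]; exact hb.2

/-- a stable subspace where the polar form vanishes gives a singular one or a non-singular point -/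
theorem singular_or_point {G : Subgroup (GL ι F)} (hG : Fixes Q G) {W : Submodule F (ι → F)} (h0 : W ≠ ⊥)
    (hs : IsTotallySingularFor (evenData Q hnd).form W) (hle : G ≤ subspaceStabilizer W) :
    (∃ U : Submodule F (ι → F), U ≠ ⊥ ∧ IsTotallySingularQuad ⇑Q U ∧ G ≤ subspaceStabilizer U) ∨
    ((2 : F) = 0 ∧ ∃ v, Q v ≠ 0 ∧ G ≤ subspaceStabilizer (Submodule.span F {v})) := by
  have hpol : ∀ u ∈ W, ∀ v ∈ W, polar Q u v = 0 := fun u hu v hv => by
    rw [← form_eq (hnd := hnd)]; exact hs u hu v hv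
  by_cases h2 : (2 : F) = 0
  swap
  · refine Or.inl ⟨W, h0, fun v hv => ?_, hle⟩
    have := hpol v hv v hv
    rw [polar_self'] at this
    exact (mul_eq_zero.mp this).resolve_left h2
  let U : Submodule F (ι → F) :=
  { carrier := {v | v ∈ W ∧ Q v = 0}
    add_mem' := fun {a b} ha hb => ⟨W.add_mem ha.1 hb.1, by
      rw [QuadraticMap.map_add (⇑Q), hpol a ha.1 b hb.1, ha.2, hb.2, add_zero, add_zero]⟩
    zero_mem' := ⟨W.zero_mem, map_zero Q⟩
    smul_mem' := fun c a ha => ⟨W.smul_mem c ha.1, by rw [QuadraticMap.map_smul, ha.2, smul_zero]⟩ }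
  have hWinv : ∀ g ∈ G, ∀ w ∈ W, (g : Matrix ι ι F) *ᵥ w ∈ W := fun g hg w hw =>
    (mem_subspaceStabilizer.mp (hle hg) w).mp hw
  by_cases hU : U = ⊥
  swap
  · exact Or.inl ⟨U, hU, fun v hv => hv.2, le_subspaceStabilizer fun g hg w hw =>
      ⟨hWinv g hg w hw.1, by rw [hG g hg]; exact hw.2⟩⟩
  haveI : CharP F 2 := CharTwo.of_one_ne_zero_of_two_eq_zero one_ne_zero h2
  obtain ⟨v, hv, hv0⟩ := (Submodule.ne_bot_iff W).mp h0
  have hne : ∀ a ∈ W, Q a = 0 → a = 0 := fun a ha hQ => (Submodule.mem_bot F).mp (hU ▸ (show a ∈ U from ⟨ha, hQ⟩))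
  have hQv : Q v ≠ 0 := fun h => hv0 (hne v hv h)
  refine Or.inr ⟨h2, v, hQv, ?_⟩
  have hW : W = Submodule.span F {v} := by
    refine le_antisymm (fun w hw => ?_) ((Submodule.span_singleton_le_iff_mem _ _).mpr hv)
    obtain ⟨c, hc⟩ := (bijective_frobenius F 2).2 (Q w / Q v)
    have hcv : w + c • v = 0 := hne _ (W.add_mem hw (W.smul_mem c hv)) (by
      rw [QuadraticMap.map_add (⇑Q), hpol w hw _ (W.smul_mem c hv), add_zero, QuadraticMap.map_smul, smul_eq_mul,
        ← _root_.sq, show c ^ 2 = Q w / Q v from hc, div_mul_cancel₀ _ hQv, ← two_mul, h2, zero_mul])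
    rw [eq_neg_of_add_eq_zero_left hcv]
    exact neg_mem (Submodule.smul_mem _ _ (Submodule.mem_span_singleton_self v))
  exact hW ▸ hle

end CfsgLib.Asch.Even
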