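import Cfsg.Agent.Lib.Aschbacher.Center
import Cfsg.Agent.Lib.Aschbacher.Fields

/-!
# The structure of the enveloping algebra of a normal subgroup
-/

set_option autoImplicit false

namespace CfsgLib.Asch

open Matrix Cfsg.Geo
open scoped MatrixGroups Kronecker

variable {ι : Type} [Fintype ι] [DecidableEq ι] [Nonempty ι] {F : Type*} [Field F] [Finite F]

set_option backward.isDefEq.respectTransparency false in
/-- a commutative subalgebra which is a field contains a subfield of prime degree, cut out by a power map -/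
theorem exists_primeField_of_field {G : Subgroup (GL ι F)} {Z : Subalgebra F (Matrix ι ι F)}
    (hcomm : ∀ x ∈ Z, ∀ y ∈ Z, x * y = y * x) (hinv : ∀ x ∈ Z, x ≠ 0 → ∃ y ∈ Z, x * y = 1)
    (hne : ∃ z ∈ Z, ¬ IsScalarMat z) (hcj : ∀ g ∈ G, ∀ z ∈ Z, cj g z ∈ Z) :
    ∃ (r : ℕ) (K : Subalgebra F (Matrix ι ι F)), r.Prime ∧ IsFieldSubalgebra r K ∧
      r ∣ Fintype.card ι ∧ G ≤ subalgebraNormalizer K ∧
      ∃ N : ℕ, ∀ x, x ∈ K ↔ x ∈ Z ∧ x ^ N = x := by
  classical
  cases nonempty_fintype F
  have hZF : IsField Z :=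
    { exists_pair_ne := ⟨0, 1, fun h => zero_ne_one (congrArg Subtype.val h)⟩
      mul_comm := fun a b => Subtype.ext (hcomm a.1 a.2 b.1 b.2)
      mul_inv_cancel := fun {a} ha => by
        obtain ⟨y, hy, hxy⟩ := hinv a.1 a.2 (fun h => ha (Subtype.ext h))
        exact ⟨⟨y, hy⟩, Subtype.ext hxy⟩ }
  obtain ⟨p, f, hp, hchar, hf, hcard⟩ := exists_prime_pow (F := F)
  haveI := Fact.mk hp
  haveI := hchar
  haveI : CharP (Matrix ι ι F) p := charP_of_injective_algebraMap (algebraMap F _).injective p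
  set d := Module.finrank F Z
  have hd : d ≠ 1 := by
    intro h1
    obtain ⟨z, hz, hzs⟩ := hne
    have hne1 : (1 : Z) ≠ 0 := fun h => one_ne_zero (congrArg Subtype.val h)
    obtain ⟨c, hc⟩ := exists_smul_eq_of_finrank_eq_one h1 hne1 ⟨z, hz⟩
    exact hzs ⟨c, (congrArg Subtype.val hc).symm⟩
  obtain ⟨r, hr, hrd⟩ := Nat.exists_prime_and_dvd hd
  have hpw : (Fintype.card F) ^ r = p ^ (f * r) := by rw [hcard, ← pow_mul]
  let K : Subalgebra F (Matrix ι ι F) :=
  { carrier := {x | x ∈ Z ∧ x ^ p ^ (f * r) = x}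
    mul_mem' := fun {x y} hx hy => ⟨mul_mem hx.1 hy.1, by
      rw [(show Commute x y from hcomm x hx.1 y hy.1).mul_pow, hx.2, hy.2]⟩
    one_mem' := ⟨one_mem _, one_pow _⟩
    add_mem' := fun {x y} hx hy => ⟨add_mem hx.1 hy.1, by
      rw [add_pow_char_pow_of_commute p (f * r) (hcomm x hx.1 y hy.1), hx.2, hy.2]⟩
    zero_mem' := ⟨zero_mem _, zero_pow (pow_ne_zero _ hp.ne_zero)⟩
    algebraMap_mem' := fun c => ⟨Subalgebra.algebraMap_mem _ c, by
      rw [← map_pow, ← hpw, FiniteField.pow_card_pow]⟩ }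
  have hK : ∀ x, x ∈ K ↔ x ∈ Z ∧ x ^ p ^ (f * r) = x := fun x => Iff.rfl
  have hfr : Module.finrank F K = r := by
    letI : Field Z := hZF.toField
    have h1 : Nat.card Z = Fintype.card F ^ d := by
      rw [Module.natCard_eq_pow_finrank (K := F), Nat.card_eq_fintype_card]
    have h2 := natCard_pow_fixed (F := Z) (Fintype.one_lt_card (α := F)) h1 hrd hr.ne_zero
    have h3 : Nat.card K = Fintype.card F ^ r := by
      rw [← h2]
      refine Nat.card_congr
        { toFun := fun x => ⟨⟨x.1, ((hK _).mp x.2).1⟩, Subtype.ext ?_⟩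
          invFun := fun x => ⟨x.1.1, (hK _).mpr ⟨x.1.2, ?_⟩⟩
          left_inv := fun x => rfl
          right_inv := fun x => rfl }
      · rw [hpw]
        simpa using ((hK _).mp x.2).2
      · obtain ⟨z, hz⟩ := x
        have h5 : ((z ^ Fintype.card F ^ r : Z) : Matrix ι ι F) = (z : Matrix ι ι F) := congrArg Subtype.val hz
        rw [← hpw]
        simpa using h5
    rw [Module.natCard_eq_pow_finrank (K := F), Nat.card_eq_fintype_card] at h3
    exact Nat.pow_right_injective (Fintype.one_lt_card (α := F)) h3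
  have hKinv : ∀ x ∈ K, x ≠ 0 → ∃ y ∈ K, x * y = 1 := by
    intro x hx hx0
    obtain ⟨y, hy, hxy⟩ := hinv x hx.1 hx0
    refine ⟨y, (hK y).mpr ⟨hy, ?_⟩, hxy⟩
    have hc : Commute x y := hcomm x hx.1 y hy
    have h1 : x * y ^ p ^ (f * r) = 1 := by
      rw [← hx.2, ← hc.mul_pow, hxy, one_pow]
    calc y ^ p ^ (f * r) = (y * x) * y ^ p ^ (f * r) := by rw [← hc.eq, hxy, one_mul]
      _ = y := by rw [mul_assoc, h1, mul_one]
  have hfield : IsFieldSubalgebra r K :=
    ⟨fun x hx y hy => hcomm x hx.1 y hy.1, hKinv, hfr⟩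
  refine ⟨r, K, hr, hfield, ?_, ?_, _, hK⟩
  · have hKF : IsField K :=
      { exists_pair_ne := ⟨0, 1, fun h => zero_ne_one (congrArg Subtype.val h)⟩
        mul_comm := fun a b => Subtype.ext (hfield.comm a.1 a.2 b.1 b.2)
        mul_inv_cancel := fun {a} ha => by
          obtain ⟨y, hy, hxy⟩ := hKinv a.1 a.2 (fun h => ha (Subtype.ext h))
          exact ⟨⟨y, hy⟩, Subtype.ext hxy⟩ }
    letI : Field K := hKF.toField
    letI : Module K (ι → F) :=
      Module.compHom (ι → F) ((Matrix.toLinAlgEquiv' : Matrix ι ι F ≃ₐ[F] _).toAlgHom.comp K.val).toRingHom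
    haveI hT : IsScalarTower F K (ι → F) := by
      refine ⟨fun c k v => ?_⟩
      show Matrix.toLinAlgEquiv' ((c • k : K) : Matrix ι ι F) v = c • Matrix.toLinAlgEquiv' (k : Matrix ι ι F) v
      simp
    refine ⟨Module.finrank K (ι → F), ?_⟩
    have h := Module.finrank_mul_finrank F K (ι → F)
    rw [hfr, Module.finrank_fintype_fun_eq_card] at h
    exact h.symm
  · intro g hg k
    have hstep : ∀ g ∈ G, ∀ k ∈ K, cj g k ∈ K := fun g hg k hk =>
      (hK _).mpr ⟨hcj g hg k hk.1, by rw [← cj_pow, hk.2]⟩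
    refine ⟨hstep g hg k, fun h => ?_⟩
    have := hstep g⁻¹ (G.inv_mem hg) _ h
    change cj g⁻¹ (cj g k) ∈ K at this
    rwa [cj_cj, inv_mul_cancel, cj_one_left] at this

/-- a commutative subalgebra which is a field, larger than the scalars and normalised by `G` -/
theorem inExtField_of_field {G : Subgroup (GL ι F)} {Z : Subalgebra F (Matrix ι ι F)}
    (hcomm : ∀ x ∈ Z, ∀ y ∈ Z, x * y = y * x) (hinv : ∀ x ∈ Z, x ≠ 0 → ∃ y ∈ Z, x * y = 1)
    (hne : ∃ z ∈ Z, ¬ IsScalarMat z) (hcj : ∀ g ∈ G, ∀ z ∈ Z, cj g z ∈ Z) : InExtField G := by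
  obtain ⟨r, K, h1, h2, h3, h4, -⟩ := exists_primeField_of_field hcomm hinv hne hcj
  exact ⟨r, K, h1, h2, h3, h4⟩

/-- `alg N` consists of the matrices `A ⊗ 1` in suitable coordinates -/
def IsTensorAlg (N : Subgroup (GL ι F)) {w k : ℕ} (e : ι ≃ Fin w × Fin k) (P : GL ι F) : Prop :=
  ∀ M, M ∈ alg N ↔ ∃ A, M = tens e P A 1

/-- scalar centre: the enveloping algebra is a full matrix algebra -/
theorem exists_tensorAlg {G N : Subgroup (GL ι F)} (hG : ActsIrreducibly (matrixSet G))
    (hn : Norms G N) (hz : ∀ z ∈ ctr N, IsScalarMat z) :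
    ∃ (w k : ℕ) (e : ι ≃ Fin w × Fin k) (P : GL ι F), 0 < w ∧ 0 < k ∧ IsTensorAlg N e P := by
  classical
  cases nonempty_fintype F
  let A := alg N
  haveI : Module.Finite F A := inferInstance
  haveI : IsArtinianRing A := IsArtinianRing.of_finite F A
  haveI : Nontrivial A := ⟨⟨0, 1, fun h => zero_ne_one (congrArg Subtype.val h)⟩⟩
  -- the radical vanishes
  have hJ : Ring.jacobson A = ⊥ := by
    let S : Set (Matrix ι ι F) := Subtype.val '' (Ring.jacobson A : Set A)
    have hS0 : ∀ s ∈ S, s = 0 := by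
      refine eq_zero_of_common_kernel hG ?_ ?_
      · rintro g hg _ ⟨x, hx, rfl⟩
        let θ : A →+* A :=
          { toFun := fun x => ⟨cj g x.1, cj_mem_alg hn hg x.2⟩
            map_one' := Subtype.ext (cj_one g)
            map_mul' := fun x y => Subtype.ext (cj_mul g x.1 y.1)
            map_zero' := Subtype.ext (cj_zero g)
            map_add' := fun x y => Subtype.ext (cj_add g x.1 y.1) }
        haveI : RingHomSurjective θ := ⟨fun y => ⟨⟨cj g⁻¹ y.1, cj_mem_alg hn (G.inv_mem hg) y.2⟩,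
          Subtype.ext (by show cj g (cj g⁻¹ y.1) = y.1; rw [cj_cj, mul_inv_cancel, cj_one_left])⟩⟩
        exact ⟨θ x, Ring.le_comap_jacobson θ hx, rfl⟩
      · obtain ⟨m, hm⟩ := IsSemiprimaryRing.isNilpotent (R := A)
        have hex : ∃ k, Ring.jacobson A ^ k = ⊥ := ⟨m, hm⟩
        have hpos : Nat.find hex ≠ 0 := by
          intro h0
          have h1 := Nat.find_spec hex
          rw [h0, Submodule.pow_zero, Ideal.one_eq_top] at h1
          exact top_ne_bot h1
        obtain ⟨k, hk⟩ := Nat.exists_eq_succ_of_ne_zero hpos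
        obtain ⟨j, hj, hj0⟩ := (Submodule.ne_bot_iff _).mp (Nat.find_min hex (m := k) (by omega))
        have hj0' : (j : Matrix ι ι F) ≠ 0 := fun h => hj0 (Subtype.ext h)
        obtain ⟨v, hv⟩ : ∃ v, (j : Matrix ι ι F) *ᵥ v ≠ 0 := by
          by_contra hc
          refine hj0' (Matrix.ext_of_mulVec_single fun i => ?_)
          rw [Matrix.zero_mulVec]
          exact not_not.mp fun h => hc ⟨_, h⟩
        refine ⟨_, hv, ?_⟩
        rintro _ ⟨x, hx, rfl⟩
        have hxj : x * j ∈ Ring.jacobson A ^ k.succ := by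
          rw [Ideal.IsTwoSided.pow_succ]
          exact Ideal.mul_mem_mul hx hj
        rw [← hk, Nat.find_spec hex, Submodule.mem_bot] at hxj
        rw [mulVec_mulVec, show (x : Matrix ι ι F) * (j : Matrix ι ι F) = 0 from congrArg Subtype.val hxj,
          zero_mulVec]
    refine (Submodule.eq_bot_iff _).mpr fun x hx => Subtype.ext (hS0 _ ⟨x, hx, rfl⟩)
  haveI : IsSemisimpleRing A := IsArtinianRing.isSemisimpleRing_iff_jacobson.mpr hJ
  obtain ⟨n, D, d, iD, iA, iM, hd, ⟨e⟩⟩ :=
    IsSemisimpleRing.exists_algEquiv_pi_matrix_divisionRing_finite F A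
  have hscal : ∀ x : (Π i, Matrix (Fin (d i)) (Fin (d i)) (D i)), (∀ y, x * y = y * x) →
      ∃ c : F, x = c • 1 := by
    intro x hx
    have hmem : ((e.symm x : A) : Matrix ι ι F) ∈ ctr N := by
      refine mem_ctr.mpr ⟨(e.symm x).2, fun g hg => ?_⟩
      have h1 : e.symm x * ⟨_, coe_mem_alg hg⟩ = ⟨_, coe_mem_alg hg⟩ * e.symm x := by
        refine e.injective ?_
        rw [map_mul, map_mul, e.apply_symm_apply]
        exact hx _
      exact congrArg Subtype.val h1
    obtain ⟨c, hc⟩ := hz _ hmem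
    refine ⟨c, ?_⟩
    have : e.symm x = c • 1 := Subtype.ext hc
    simpa using congrArg e this
  have hn1 : n = 1 := by
    match n, D, d, iD, iA, hd, e, hscal with
    | 0, D, d, iD, iA, hd, e, _ =>
      exact absurd (e.injective (Subsingleton.elim (e 0) (e 1))) zero_ne_one
    | 1, _, _, _, _, _, _, _ => rfl
    | n + 2, D, d, iD, iA, hd, e, hscal =>
      obtain ⟨c, hc⟩ := hscal (Pi.single 0 1) (fun y => by
        funext i
        rcases eq_or_ne i 0 with rfl | hi
        · simp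
        · simp [hi])
      haveI := hd 0
      haveI := hd 1
      have h0 := congrFun hc 0
      have h1 := congrFun hc 1
      simp only [Pi.single_eq_same, Pi.smul_apply, Pi.one_apply] at h0
      rw [Pi.single_eq_of_ne (by simp)] at h1
      simp only [Pi.smul_apply, Pi.one_apply] at h1
      rcases eq_or_ne c 0 with hc0 | hc0
      · rw [hc0, zero_smul] at h0
        exact absurd h0 one_ne_zero
      · exact absurd ((smul_eq_zero.mp h1.symm).resolve_left hc0) one_ne_zero
  subst hn1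
  haveI := hd 0
  haveI : Finite (D 0) := Module.finite_of_finite F
  letI := littleWedderburn (D 0)
  have hsurj : Function.Surjective (algebraMap F (D 0)) := by
    intro z
    obtain ⟨c, hc⟩ := hscal (Pi.single 0 (Matrix.scalar (Fin (d 0)) z)) (fun y => by
      funext i
      obtain rfl : i = 0 := Subsingleton.elim _ _
      simp only [Pi.mul_apply, Pi.single_eq_same]
      exact (Matrix.scalar_commute z (fun r' => Commute.all z r') _).eq)
    refine ⟨c, ?_⟩
    have h0 := congrFun (congrFun (congrFun hc 0) 0) 0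
    simpa [Algebra.algebraMap_eq_smul_one] using h0.symm
  let toPi : Matrix (Fin (d 0)) (Fin (d 0)) (D 0) →+* Π i, Matrix (Fin (d i)) (Fin (d i)) (D i) :=
    { toFun := fun X i => (Subsingleton.elim 0 i : (0 : Fin 1) = i) ▸ X
      map_one' := by funext i; obtain rfl : i = 0 := Subsingleton.elim _ _; rfl
      map_mul' := fun _ _ => by funext i; obtain rfl : i = 0 := Subsingleton.elim _ _; rfl
      map_zero' := by funext i; obtain rfl : i = 0 := Subsingleton.elim _ _; rfl
      map_add' := fun _ _ => by funext i; obtain rfl : i = 0 := Subsingleton.elim _ _; rfl }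
  let φ : Matrix (Fin (d 0)) (Fin (d 0)) F →+* Matrix ι ι F :=
    A.val.toRingHom.comp ((e.symm.toRingEquiv.toRingHom.comp toPi).comp (algebraMap F (D 0)).mapMatrix)
  have hφsmul : ∀ (c : F) X, φ (c • X) = c • φ X := by
    intro c X
    have h1 : toPi ((algebraMap F (D 0)).mapMatrix (c • X))
        = c • toPi ((algebraMap F (D 0)).mapMatrix X) := by
      funext i
      obtain rfl : i = 0 := Subsingleton.elim _ _
      ext a b
      simp [toPi, Algebra.smul_def, Matrix.algebraMap_eq_diagonal, Matrix.diagonal_mul]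
    show ((e.symm (toPi ((algebraMap F (D 0)).mapMatrix (c • X))) : A) : Matrix ι ι F) = _
    rw [h1, map_smul]
    rfl
  have hrange : ∀ M, M ∈ alg N ↔ ∃ X, φ X = M := by
    intro M
    refine ⟨fun hM => ?_, fun ⟨X, hX⟩ => hX ▸ Subtype.coe_prop _⟩
    choose pre hpre using hsurj
    refine ⟨((e ⟨M, hM⟩) 0).map pre, ?_⟩
    have h1 : toPi ((algebraMap F (D 0)).mapMatrix (((e ⟨M, hM⟩) 0).map pre)) = e ⟨M, hM⟩ := by
      funext i
      obtain rfl : i = 0 := Subsingleton.elim _ _
      ext a b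
      simp [toPi, hpre]
    show ((e.symm (toPi _) : A) : Matrix ι ι F) = M
    rw [h1, e.symm_apply_apply]
  obtain ⟨k, c, P, hcP⟩ := (munits_of_ringHom φ).exists_coord (0 : Fin (d 0))
  have hk : 0 < k := by
    obtain ⟨i⟩ := (inferInstance : Nonempty ι)
    exact Fin.pos (c i).2
  refine ⟨d 0, k, c, P, Nat.pos_of_ne_zero (NeZero.ne _), hk, fun M => ?_⟩
  have hφ : ∀ X, φ X = tens c P X 1 := by
    intro X
    induction X using Matrix.induction_on' with
    | h_zero => simp
    | h_add p q hp hq => rw [map_add, hp, hq, tens_add_left]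
    | h_std_basis i j x =>
      have : Matrix.single i j x = x • Matrix.single i j (1 : F) := by simp [Matrix.smul_single]
      rw [this, hφsmul, tens_smul_left]
      congr 1
      exact hcP i j
  rw [hrange]
  simp only [hφ]
  exact ⟨fun ⟨X, h⟩ => ⟨X, h.symm⟩, fun ⟨X, h⟩ => ⟨X, h.symm⟩⟩

/-- full enveloping algebra as soon as one tensor factor is trivial -/
lemma IsTensorAlg.spans {N : Subgroup (GL ι F)} {w : ℕ} {e : ι ≃ Fin w × Fin 1} {P : GL ι F}
    (h : IsTensorAlg N e P) : Spans (matrixSet N) := by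
  have hw : 0 < w := Fin.pos (e (Classical.arbitrary ι)).1
  haveI : Nonempty (Fin w) := ⟨⟨0, hw⟩⟩
  refine spans_of_alg_eq_top fun M => (h M).mpr ?_
  let A : Matrix (Fin w) (Fin w) F := Matrix.of fun a b =>
    (Matrix.reindexAlgEquiv F F e.symm).symm (cj P⁻¹ M) (a, 0) (b, 0)
  refine ⟨A, ?_⟩
  have : (Matrix.reindexAlgEquiv F F e.symm).symm (cj P⁻¹ M) = A ⊗ₖ (1 : Matrix (Fin 1) (Fin 1) F) := by
    ext ⟨a, i⟩ ⟨b, j⟩
    obtain rfl : i = 0 := Subsingleton.elim _ _
    obtain rfl : j = 0 := Subsingleton.elim _ _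
    simp [A]
  rw [tens, ← this, AlgEquiv.apply_symm_apply, cj_cj, mul_inv_cancel, cj_one_left]

/-- a group acting with a non-trivial tensor centraliser is reducible -/
lemma not_irred_of_tensorAlg {N : Subgroup (GL ι F)} {w k : ℕ} {e : ι ≃ Fin w × Fin k}
    {P : GL ι F} (hw : 0 < w) (hk : 2 ≤ k) (h : IsTensorAlg N e P) :
    ¬ ActsIrreducibly (matrixSet N) := by
  intro hirr
  haveI : Nonempty (Fin w) := ⟨⟨0, hw⟩⟩
  let j₀ : Fin k := ⟨0, by omega⟩
  let j₁ : Fin k := ⟨1, by omega⟩
  let f : Matrix ι ι F := tens e P 1 (Matrix.single j₀ j₀ 1)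
  have hff : f * f = f := by simp [f, tens_mul]
  have hcomm : ∀ g ∈ N, f * (g : Matrix ι ι F) = (g : Matrix ι ι F) * f := by
    intro g hg
    obtain ⟨A, hA⟩ := (h _).mp (coe_mem_alg hg)
    rw [hA]; exact (commute_tens A _).symm
  have hinj : ∀ (B B' : Matrix (Fin k) (Fin k) F), tens e P 1 B = tens e P 1 B' → B = B' := by
    intro B B' hBB
    ext a b
    have h' := (Matrix.reindexAlgEquiv F F e.symm).injective (cj_injective P hBB)
    simpa using congrFun (congrFun h' (⟨0, hw⟩, a)) (⟨0, hw⟩, b)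
  rcases irred_apply hirr (W := LinearMap.range (Matrix.toLin' f)) (fun g hg w' hw' => by
      obtain ⟨v, rfl⟩ := hw'
      refine ⟨(g : Matrix ι ι F) *ᵥ v, ?_⟩
      simp [Matrix.toLin'_apply, mulVec_mulVec, hcomm g hg]) with hb | ht
  · have hf0 : f = 0 := Matrix.toLin'.injective (by rw [map_zero]; exact LinearMap.range_eq_bot.mp hb)
    have := hinj (Matrix.single j₀ j₀ 1) 0 (hf0.trans (by simp [tens]))
    simpa using congrFun (congrFun this j₀) j₀
  · have hf1 : f = 1 := by
      refine Matrix.ext_of_mulVec_single fun i => ?_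
      obtain ⟨u, hu⟩ := (ht ▸ Submodule.mem_top : Pi.single i 1 ∈ LinearMap.range (Matrix.toLin' f))
      rw [one_mulVec, ← hu, Matrix.toLin'_apply, mulVec_mulVec, hff]
    have := hinj (Matrix.single j₀ j₀ 1) 1 (hf1.trans tens_one.symm)
    have hne : j₀ ≠ j₁ := by simp [j₀, j₁, Fin.ext_iff]
    simpa [hne] using congrFun (congrFun this j₁) j₁

/-- trichotomy for a normal subgroup of an irreducible group -/
theorem normal_trichotomy {G N : Subgroup (GL ι F)} (hG : ActsIrreducibly (matrixSet G))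
    (hn : Norms G N) :
    InImprim G ∨ InExtField G ∨
      ∃ (w k : ℕ) (e : ι ≃ Fin w × Fin k) (P : GL ι F), 0 < w ∧ 0 < k ∧ IsTensorAlg N e P := by
  by_cases hi : ∃ f, IsCIdem N f ∧ f ≠ 0 ∧ f ≠ 1
  · exact Or.inl (inImprim_of_idem hG hn hi)
  by_cases hz : ∀ z ∈ ctr N, IsScalarMat z
  · exact Or.inr (Or.inr (exists_tensorAlg hG hn hz))
  push_neg at hz
  refine Or.inr (Or.inl (inExtField_of_field (Z := ctr N) (fun x hx y hy => ctr_comm hx hy) ?_ hz
    (fun g hg z hz' => cj_mem_ctr hn hg hz')))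
  intro x hx hx0
  refine ctr_inv hG hn (fun f hf => ?_) hx hx0
  by_contra hc
  exact hi ⟨f, hf, fun h => hc (Or.inl h), fun h => hc (Or.inr h)⟩

/-- an irreducible group spans the matrix algebra or normalises a field extension -/
theorem spans_or_extField {G : Subgroup (GL ι F)} (hG : ActsIrreducibly (matrixSet G)) :
    InExtField G ∨ Spans (matrixSet G) := by
  have hn : Norms G G := fun g hg x hx => G.mul_mem (G.mul_mem hg hx) (G.inv_mem hg)
  by_cases hz : ∀ z ∈ ctr G, IsScalarMat z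
  · obtain ⟨w, k, e, P, hw, hk, h⟩ := exists_tensorAlg hG hn hz
    rcases Nat.lt_or_ge k 2 with hk2 | hk2
    · obtain rfl : k = 1 := by omega
      exact Or.inr h.spans
    · exact absurd hG (not_irred_of_tensorAlg hw hk2 h)
  push_neg at hz
  refine Or.inl (inExtField_of_field (Z := ctr G) (fun x hx y hy => ctr_comm hx hy) ?_ hz
    (fun g hg z hz' => cj_mem_ctr hn hg hz'))
  intro x hx hx0
  refine ctr_inv hG hn (fun f hf => ?_) hx hx0
  rcases irred_apply hG (W := LinearMap.range (Matrix.toLin' f)) (fun g hg w' hw' => by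
      obtain ⟨v, rfl⟩ := hw'
      refine ⟨(g : Matrix ι ι F) *ᵥ v, ?_⟩
      simp [Matrix.toLin'_apply, mulVec_mulVec, (mem_ctr.mp hf.1).2 g hg]) with hb | ht
  · exact Or.inl (Matrix.toLin'.injective (by rw [map_zero]; exact LinearMap.range_eq_bot.mp hb))
  · right
    refine Matrix.ext_of_mulVec_single fun i => ?_
    obtain ⟨u, hu⟩ := (ht ▸ Submodule.mem_top : Pi.single i 1 ∈ LinearMap.range (Matrix.toLin' f))
    rw [one_mulVec, ← hu, Matrix.toLin'_apply, mulVec_mulVec, hf.2]

/-- absolute irreducibility gives a spanning set -/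
theorem spans_of_absIrred {G : Subgroup (GL ι F)} (hG : ActsAbsolutelyIrreducibly (matrixSet G)) :
    Spans (matrixSet G) := by
  have hn : Norms G G := fun g hg x hx => G.mul_mem (G.mul_mem hg hx) (G.inv_mem hg)
  have hz : ∀ z ∈ ctr G, IsScalarMat z := fun z hz => hG.2 z (by
    rintro _ ⟨g, hg, rfl⟩
    exact (mem_ctr.mp hz).2 g hg)
  obtain ⟨w, k, e, P, hw, hk, h⟩ := exists_tensorAlg hG.1 hn hz
  rcases Nat.lt_or_ge k 2 with hk2 | hk2
  · obtain rfl : k = 1 := by omega
    exact h.spans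
  · exact absurd hG.1 (not_irred_of_tensorAlg hw hk2 h)

end CfsgLib.Asch
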