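import Cfsg.Agent.Lib.Aschbacher.FormBasic
import Cfsg.Agent.Lib.Aschbacher.Structure

/-!
# An invariant commutative algebra closed under adjoints: decompositions and field extensions
-/

set_option autoImplicit false

namespace CfsgLib.Asch

open Matrix Cfsg.Geo
open scoped MatrixGroups

variable {ι : Type} [Fintype ι] [DecidableEq ι] [Nonempty ι] {F : Type*} [Field F] [Finite F]

namespace FData

variable (D : FData ι F)

omit [Finite F] [Nonempty ι] in
lemma form_orth_of_idems {E E' : Matrix ι ι F} (h : D.adj E * E' = 0) {u v : ι → F}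
    (hu : E *ᵥ u = u) (hv : E' *ᵥ v = v) : D.form u v = 0 := by
  rw [← hu, ← hv, D.form_adj, mulVec_mulVec, h, zero_mulVec, D.form_zero_right]

omit [Finite F] [Nonempty ι] in
lemma adj_injective [Nonempty ι] : Function.Injective D.adj := fun x y h => by
  rw [← D.adj_adj x, h, D.adj_adj]

omit [Finite F] in
/-- an orbit of self-adjoint orthogonal idempotents: an orthogonal decomposition -/
theorem nondegDecomp_of_orbit {G : Subgroup (GL ι F)} (hG : G ≤ D.isom) {e : Matrix ι ι F}
    (O : OrbitDecomp G e) (he : D.adj e = e) (he1 : e ≠ 1) :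
    IsNondegenerateMDecomposition D.form O.m O.space := by
  have hadj : ∀ i, D.adj (O.E i) = O.E i := fun i => by
    obtain ⟨g, hg, hgi⟩ := O.mem i
    rw [← hgi, D.adj_cj (hG hg), he]
  have horth : ∀ i j, i ≠ j → AreOrthogonalFor D.form (O.space i) (O.space j) := fun i j hij u hu v hv =>
    D.form_orth_of_idems (by rw [hadj, O.orth i j hij]) (O.mulVec_eq_self hu) (O.mulVec_eq_self hv)
  refine ⟨O.isMDecomposition he1, fun i => D.nondegenerateOn_of_disjoint ?_, horth⟩
  refine (Submodule.eq_bot_iff _).mpr fun w hw => ?_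
  by_contra hw0
  obtain ⟨-, x, hx⟩ := D.nondeg w hw0
  refine hx ?_
  have key : ∀ y ∈ ⨆ j, O.space j, D.form w y = 0 := by
    intro y hy
    induction hy using Submodule.iSup_induction' with
    | mem j y hy =>
      rcases eq_or_ne i j with rfl | hij
      · exact hw.2 y hy
      · exact horth i j hij w hw.1 y hy
    | zero => exact D.form_zero_right w
    | add a b _ _ ha hb => rw [D.form_add_right, ha, hb, add_zero]
  exact key x (O.top.symm ▸ Submodule.mem_top)

omit [Finite F] in
/-- `G` permutes the two summands of a split idempotent -/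
def IsSplit (G : Subgroup (GL ι F)) (k : Matrix ι ι F) : Prop :=
  k * k = k ∧ D.adj k + k = 1 ∧ ∀ g ∈ G, cj g k = k ∨ cj g k = D.adj k

/-- contained in the stabiliser of an orthogonal decomposition -/
def InNondegDecomp (G : Subgroup (GL ι F)) : Prop :=
  ∃ (t m : ℕ) (V : Fin t → Submodule F (ι → F)), IsNondegenerateMDecomposition D.form m V ∧
    t * m = Fintype.card ι ∧ G ≤ decompositionStabilizer V

/-- contained in the stabiliser of a pair of totally singular halves -/
def InSingularPair (G : Subgroup (GL ι F)) : Prop :=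
  ∃ (m : ℕ) (V : Fin 2 → Submodule F (ι → F)) (k : Matrix ι ι F), IsMDecomposition m V ∧
    (∀ i, IsTotallySingularFor D.form (V i)) ∧ 2 * m = Fintype.card ι ∧
    G ≤ decompositionStabilizer V ∧ D.IsSplit G k

/-- contained in the normaliser of a field of prime degree closed under adjoints -/
def InAdjField (G : Subgroup (GL ι F)) (Z : Subalgebra F (Matrix ι ι F)) : Prop :=
  ∃ (r : ℕ) (K : Subalgebra F (Matrix ι ι F)), r.Prime ∧ IsFieldSubalgebra r K ∧
    r ∣ Fintype.card ι ∧ G ≤ subalgebraNormalizer K ∧ (∀ k ∈ K, D.adj k ∈ K) ∧ K ≤ Z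

omit [Finite F] in
lemma adj_pow (X : Matrix ι ι F) : ∀ k : ℕ, D.adj (X ^ k) = D.adj X ^ k
  | 0 => by simp
  | k + 1 => by rw [pow_succ', D.adj_mul, adj_pow X k, pow_succ]

/-- a commutative algebra normalised by an irreducible group of isometries and closed under adjoints -/
theorem invComm_cases {G : Subgroup (GL ι F)} (hirr : ActsIrreducibly (matrixSet G)) (hG : G ≤ D.isom)
    {Z : Subalgebra F (Matrix ι ι F)} (h : InvComm G Z) (hadj : ∀ z ∈ Z, D.adj z ∈ Z)
    (hne : ∃ z ∈ Z, ¬ IsScalarMat z) :
    D.InNondegDecomp G ∨ D.InSingularPair G ∨ D.InAdjField G Z := by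
  classical
  by_cases htriv : ∀ f, IdemIn Z f → f = 0 ∨ f = 1
  · refine Or.inr (Or.inr ?_)
    obtain ⟨r, K, hr, hK, hrn, hGK, N, hN⟩ := exists_primeField_of_field (G := G) h.comm
      (fun x hx hx0 => h.inv hirr htriv hx hx0) hne h.cj_mem
    refine ⟨r, K, hr, hK, hrn, hGK, fun k hk => ?_, fun k hk => ((hN k).mp hk).1⟩
    obtain ⟨h1, h2⟩ := (hN k).mp hk
    exact (hN _).mpr ⟨hadj k h1, by rw [← D.adj_pow, h2]⟩
  push_neg at htriv
  obtain ⟨f, hf, hf0, hf1⟩ := htriv
  obtain ⟨e, he, he0, hmin⟩ := exists_atom Z h.comm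
  have he1 : e ≠ 1 := by
    rintro rfl
    exact (hmin f hf (one_mul f)).elim hf0 hf1
  have horth : ∀ g ∈ G, cj g e ≠ e → e * cj g e = 0 := fun g hg hne' => h.atom_orth he hmin hg hne'
  have hadje : IdemIn Z (D.adj e) := ⟨hadj e he.1, by rw [← D.adj_mul, he.2]⟩
  by_cases hfix : D.adj e = e
  · obtain ⟨O⟩ := exists_orbitDecomp hirr he0 he.2 horth
    exact Or.inl ⟨O.t, O.m, O.space, D.nondegDecomp_of_orbit hG O hfix he1, O.card, O.le_stab⟩
  -- otherwise `e` and its adjoint are orthogonal
  have hadjmin : ∀ f, IdemIn Z f → D.adj e * f = f → f = 0 ∨ f = D.adj e := by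
    intro f hf hef
    rcases hmin (D.adj f) ⟨hadj f hf.1, by rw [← D.adj_mul, hf.2]⟩ (by
        rw [h.comm _ he.1 _ (hadj f hf.1)]
        conv_lhs => rw [← D.adj_adj e, ← D.adj_mul, hef]) with h0 | h0
    · exact Or.inl (D.adj_injective (h0.trans D.adj_zero.symm))
    · exact Or.inr (by rw [← h0, D.adj_adj])
  have hee : e * D.adj e = 0 := by
    have hi : IdemIn Z (e * D.adj e) := ⟨mul_mem he.1 hadje.1, by
      rw [mul_assoc e, ← mul_assoc (D.adj e) e, ← h.comm _ he.1 _ hadje.1, mul_assoc e (D.adj e),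
        hadje.2, ← mul_assoc, he.2]⟩
    rcases hmin _ hi (by rw [← mul_assoc, he.2]) with h0 | h1
    · exact h0
    rcases hadjmin _ hi (by rw [h.comm _ he.1 _ hadje.1, ← mul_assoc, hadje.2]) with h0 | h2
    · exact h0
    · exact absurd (h2.symm.trans h1) hfix
  have hee' : D.adj e * e = 0 := by rw [h.comm _ hadje.1 _ he.1, hee]
  obtain ⟨O⟩ := exists_orbitDecomp hirr he0 he.2 horth
  set s := e + D.adj e with hs
  have hsZ : s ∈ Z := add_mem he.1 hadje.1
  have hss : s * s = s := by
    rw [hs, mul_add, add_mul, add_mul, he.2, hadje.2, hee, hee']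
    abel
  have hadjs : D.adj s = s := by rw [hs, D.adj_add, D.adj_adj, add_comm]
  have hes : e * s = e := by rw [hs, mul_add, he.2, hee, add_zero]
  by_cases hs1 : s = 1
  · refine Or.inr (Or.inl ?_)
    have hsum : D.adj e + e = 1 := by rw [add_comm]; exact hs1
    have hsplit : ∀ g ∈ G, cj g e = e ∨ cj g e = D.adj e := by
      intro g hg
      by_cases hge : cj g e = e
      · exact Or.inl hge
      right
      have h1 : D.adj e * cj g e = cj g e := by
        calc D.adj e * cj g e = (D.adj e + e) * cj g e - e * cj g e := by rw [add_mul]; abel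
          _ = _ := by rw [hsum, one_mul, horth g hg hge, sub_zero]
      exact (hadjmin _ (h.cj_idem hg he) h1).resolve_left
        (fun h0 => he0 (cj_injective g (h0.trans (cj_zero g).symm)))
    have hmem : ∀ i, O.E i = e ∨ O.E i = D.adj e := fun i => by
      obtain ⟨g, hg, hgi⟩ := O.mem i
      rw [← hgi]; exact hsplit g hg
    have ht2 : O.t = 2 := by
      refine le_antisymm ?_ (O.two_le he1)
      have hc : Finset.univ.image O.E ⊆ {e, D.adj e} := fun x hx => by
        obtain ⟨i, -, rfl⟩ := Finset.mem_image.mp hx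
        simpa using hmem i
      have h1 := (Finset.card_le_card hc).trans Finset.card_le_two
      rwa [Finset.card_image_of_injective _ O.inj, Finset.card_univ, Fintype.card_fin] at h1
    let c : Fin 2 ≃ Fin O.t := finCongr ht2.symm
    have hV := O.isMDecomposition he1
    refine ⟨O.m, fun i => O.space (c i), e, ⟨le_rfl, hV.pos, fun i => hV.finrank_eq _,
      hV.indep.comp c.injective, ?_⟩, fun i u hu v hv => ?_, ?_, fun g hg => ?_, he.2, hsum, hsplit⟩
    · rw [← hV.iSup_eq_top]
      exact c.surjective.iSup_comp O.space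
    · refine D.form_orth_of_idems ?_ (O.mulVec_eq_self hu) (O.mulVec_eq_self hv)
      rcases hmem (c i) with h0 | h0 <;> rw [h0]
      · exact hee'
      · rw [D.adj_adj]; exact hee
    · have := O.card; rwa [ht2] at this
    · obtain ⟨σ, hσ⟩ := O.le_stab hg
      refine ⟨(c.trans σ).trans c.symm, fun i => ?_⟩
      simp only [Equiv.trans_apply, Equiv.apply_symm_apply]
      exact hσ (c i)
  · refine Or.inl ?_
    have horths : ∀ g ∈ G, cj g s ≠ s → s * cj g s = 0 := by
      intro g hg hne'
      have hge : cj g e ≠ e := by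
        intro h0
        refine hne' ?_
        rw [hs, cj_add, ← D.adj_cj (hG hg), h0]
      have hge' : cj g e ≠ D.adj e := by
        intro h0
        refine hne' ?_
        rw [hs, cj_add, ← D.adj_cj (hG hg), h0, D.adj_adj, add_comm]
      have h1 : e * cj g e = 0 := horth g hg hge
      have hcg := (h.cj_idem hg he)
      have h2 : D.adj e * cj g e = 0 := by
        have hi : IdemIn Z (D.adj e * cj g e) := ⟨mul_mem hadje.1 hcg.1, by
          rw [mul_assoc (D.adj e), ← mul_assoc (cj g e) (D.adj e), h.comm _ hcg.1 _ hadje.1,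
            mul_assoc (D.adj e) (cj g e), hcg.2, ← mul_assoc, hadje.2]⟩
        rcases hadjmin _ hi (by rw [← mul_assoc, hadje.2]) with h0 | h3
        · exact h0
        exfalso
        refine hge' ?_
        -- the conjugate of an atom is an atom
        have h4 : cj g⁻¹ (D.adj e) = e * cj g⁻¹ (D.adj e) := by
          have := congrArg (cj g⁻¹) h3
          rw [cj_mul, cj_cj, inv_mul_cancel, cj_one_left,
            h.comm _ (h.cj_mem _ (G.inv_mem hg) _ hadje.1) _ he.1] at this
          exact this.symm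
        rcases hmin _ (h.cj_idem (G.inv_mem hg) hadje) h4.symm with h5 | h5
        · exact absurd (cj_injective g⁻¹ (h5.trans (cj_zero _).symm))
            (fun h6 => he0 (by rw [← D.adj_adj e, h6, D.adj_zero]))
        · calc cj g e = cj g (cj g⁻¹ (D.adj e)) := by rw [h5]
            _ = D.adj e := by rw [cj_cj, mul_inv_cancel, cj_one_left]
      have hcga : cj g (D.adj e) = D.adj (cj g e) := (D.adj_cj (hG hg) e).symm
      have h6 : e * cj g (D.adj e) = 0 := by
        refine D.adj_injective ?_
        rw [D.adj_zero, hcga, D.adj_mul, D.adj_adj, h.comm _ hcg.1 _ hadje.1, h2]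
      have h7 : D.adj e * cj g (D.adj e) = 0 := by
        refine D.adj_injective ?_
        rw [D.adj_zero, hcga, D.adj_mul, D.adj_adj, D.adj_adj, h.comm _ hcg.1 _ he.1, h1]
      rw [hs, cj_add, add_mul, mul_add, mul_add, h1, h2, h6, h7]
      simp
    obtain ⟨O'⟩ := exists_orbitDecomp hirr (e := s) (fun h0 => he0 (by rw [← hes, h0, mul_zero])) hss horths
    exact ⟨O'.t, O'.m, O'.space, D.nondegDecomp_of_orbit hG O' hadjs hs1, O'.card, O'.le_stab⟩

end FData

end CfsgLib.Asch
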