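import Cfsg.Agent.Lib.Aschbacher.EvenBasic
import Cfsg.Agent.Lib.Aschbacher.FormImprim
import Cfsg.Agent.Lib.Aschbacher.FormField
import Cfsg.Agent.Lib.Aschbacher.FormInvol

/-!
# The normaliser of a field of degree five in dimension ten
-/

set_option autoImplicit false

namespace CfsgLib.Asch.Even

open Matrix Cfsg.Geo QuadraticMap Module
open CfsgLib.Classical.Quad (NDPolar polar_self')
open scoped MatrixGroups

variable {ι : Type} [Fintype ι] [DecidableEq ι] {F : Type*} [Field F] [Fintype F] [Nonempty ι]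

/-- an invariant quadratic algebra: a decomposition, a pair, or a quadratic field -/
theorem cases_of_generator (D : FData ι F) {G : Subgroup (GL ι F)} (hirr : ActsIrreducibly (matrixSet G))
    (hG : G ≤ D.isom) {M : Matrix ι ι F} (hMs : ¬ IsScalarMat M) (hMM : ∃ a b : F, M * M = a • 1 + b • M)
    (hadjM : ∃ a b : F, D.adj M = a • 1 + b • M) (hcjM : ∀ g ∈ G, ∃ a b : F, cj g M = a • 1 + b • M) :
    D.InNondegDecomp G ∨ D.InSingularPair G ∨
      ∃ K : Subalgebra F (Matrix ι ι F), IsFieldSubalgebra 2 K ∧ (∀ k ∈ K, D.adj k ∈ K) ∧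
        G ≤ subalgebraNormalizer K := by
  classical
  let Z : Subalgebra F (Matrix ι ι F) := Algebra.adjoin F {M}
  have hMZ : M ∈ Z := Algebra.subset_adjoin rfl
  obtain ⟨u, v, hMM'⟩ := hMM
  have hlin : ∀ z ∈ Z, ∃ a b : F, z = a • 1 + b • M := by
    intro z hz
    induction hz using Algebra.adjoin_induction with
    | mem z hz => exact ⟨0, 1, by simp [Set.mem_singleton_iff.mp hz]⟩
    | algebraMap c => exact ⟨c, 0, by simp [Algebra.algebraMap_eq_smul_one]⟩
    | add x y _ _ hx hy =>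
      obtain ⟨a, b, rfl⟩ := hx; obtain ⟨a', b', rfl⟩ := hy
      exact ⟨a + a', b + b', by rw [add_smul, add_smul]; abel⟩
    | mul x y _ _ hx hy =>
      obtain ⟨a, b, rfl⟩ := hx; obtain ⟨a', b', rfl⟩ := hy
      refine ⟨a * a' + b * b' * u, a * b' + b * a' + b * b' * v, ?_⟩
      simp only [add_mul, mul_add, smul_mul_assoc, mul_smul_comm, one_mul, mul_one, hMM', smul_smul, add_smul,
        smul_add]
      module
  have hmemZ : ∀ a b : F, a • 1 + b • M ∈ Z := fun a b =>
    add_mem (Subalgebra.smul_mem _ (one_mem _) a) (Subalgebra.smul_mem _ hMZ b)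
  have hZ : InvComm G Z := by
    refine ⟨fun x hx y hy => ?_, fun g hg z hz => ?_⟩
    · obtain ⟨a, b, rfl⟩ := hlin x hx; obtain ⟨a', b', rfl⟩ := hlin y hy
      simp only [add_mul, mul_add, smul_mul_assoc, mul_smul_comm, one_mul, mul_one]
      module
    · obtain ⟨a, b, rfl⟩ := hlin z hz
      obtain ⟨c, d, hc⟩ := hcjM g hg
      simp only [cj_add, cj_smul, cj_one, hc]
      exact add_mem (Subalgebra.smul_mem _ (one_mem _) a) (Subalgebra.smul_mem _ (hmemZ c d) b)
  have hadjZ : ∀ z ∈ Z, D.adj z ∈ Z := by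
    intro z hz
    obtain ⟨a, b, rfl⟩ := hlin z hz
    obtain ⟨c, d, hc⟩ := hadjM
    rw [D.adj_add, D.adj_smul, D.adj_smul, D.adj_one, hc]
    exact add_mem (Subalgebra.smul_mem _ (one_mem _) _) (Subalgebra.smul_mem _ (hmemZ c d) _)
  rcases D.invComm_cases hirr hG hZ hadjZ ⟨M, hMZ, hMs⟩ with h | h | ⟨r, K, hr, hK, -, hGK, hKadj, hKZ⟩
  · exact Or.inl h
  · exact Or.inr (Or.inl h)
  have hsub : Subalgebra.toSubmodule K ≤ Submodule.span F (Set.range ![(1 : Matrix ι ι F), M]) := by
    intro k hk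
    obtain ⟨a, b, rfl⟩ := hlin k (hKZ hk)
    exact add_mem (Submodule.smul_mem _ _ (Submodule.subset_span ⟨0, rfl⟩))
      (Submodule.smul_mem _ _ (Submodule.subset_span ⟨1, rfl⟩))
  have h2 := (Submodule.finrank_mono hsub).trans ((finrank_range_le_card _).trans_eq (Fintype.card_fin 2))
  change finrank F K ≤ 2 at h2
  rw [hK.finrank_eq] at h2
  obtain rfl : r = 2 := le_antisymm h2 hr.two_le
  exact Or.inr (Or.inr ⟨K, hK, hKadj, hGK⟩)

section five

variable {K : Subalgebra F (Matrix ι ι F)} {e f : ι → F}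

omit [Fintype F] [Nonempty ι] in
/-- coordinates over the field in a basis of two vectors -/
lemma field_basis (hι : Fintype.card ι = 10) (hK : IsFieldSubalgebra 5 K)
    (hind : ∀ a b : K, (a : Matrix ι ι F) *ᵥ e + (b : Matrix ι ι F) *ᵥ f = 0 → a = 0 ∧ b = 0) :
    (∀ v : ι → F, ∃ a b : K, v = (a : Matrix ι ι F) *ᵥ e + (b : Matrix ι ι F) *ᵥ f) ∧
    ∀ e' f' : ι → F, ∃ X : Matrix ι ι F, (∀ k ∈ K, X * k = k * X) ∧ X *ᵥ e = e' ∧ X *ᵥ f = f' := by
  classical
  let Φ : (ι → F) → (ι → F) → (K × K) →ₗ[F] (ι → F) := fun e f =>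
    { toFun := fun p => (p.1 : Matrix ι ι F) *ᵥ e + (p.2 : Matrix ι ι F) *ᵥ f
      map_add' := fun p q => by simp [add_mulVec]; abel
      map_smul' := fun c p => by simp [smul_mulVec] }
  haveI : Module.Finite F K := FiniteDimensional.finiteDimensional_subalgebra K
  have hinj : Function.Injective (Φ e f) := by
    rw [injective_iff_map_eq_zero]
    rintro ⟨a, b⟩ h
    obtain ⟨rfl, rfl⟩ := hind a b h
    rfl
  have hdim : finrank F (K × K) = finrank F (ι → F) := by
    rw [finrank_prod, hK.finrank_eq, finrank_fintype_fun_eq_card, hι]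
  let E : (K × K) ≃ₗ[F] (ι → F) := LinearEquiv.ofBijective (Φ e f)
    ⟨hinj, (LinearMap.injective_iff_surjective_of_finrank_eq_finrank hdim).mp hinj⟩
  refine ⟨fun v => ⟨(E.symm v).1, (E.symm v).2, (E.apply_symm_apply v).symm⟩, fun e' f' => ?_⟩
  let L : (ι → F) →ₗ[F] (ι → F) := (Φ e' f').comp E.symm.toLinearMap
  have hL : ∀ a b : K, LinearMap.toMatrix' L *ᵥ ((a : Matrix ι ι F) *ᵥ e + (b : Matrix ι ι F) *ᵥ f)
      = (a : Matrix ι ι F) *ᵥ e' + (b : Matrix ι ι F) *ᵥ f' := fun a b => by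
    rw [LinearMap.toMatrix'_mulVec]
    show Φ e' f' (E.symm (E (a, b))) = _
    rw [E.symm_apply_apply]
    rfl
  refine ⟨LinearMap.toMatrix' L, fun k hk => Matrix.toLin'.injective (LinearMap.ext fun v => ?_),
    by simpa using hL 1 0, by simpa using hL 0 1⟩
  obtain ⟨⟨a, b⟩, rfl⟩ := E.surjective v
  have hE : E (a, b) = (a : Matrix ι ι F) *ᵥ e + (b : Matrix ι ι F) *ᵥ f := rfl
  have h1 := hL (⟨k, hk⟩ * a) (⟨k, hk⟩ * b)
  simp only [Subalgebra.coe_mul, ← mulVec_mulVec, ← mulVec_add] at h1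
  rw [Matrix.toLin'_apply, Matrix.toLin'_apply, ← mulVec_mulVec, ← mulVec_mulVec, hE, h1, hL, mulVec_add]

omit [Fintype F] [Nonempty ι] in
/-- matrices commuting with the field and agreeing on the basis -/
lemma comm_ext (hspan : ∀ v : ι → F, ∃ a b : K, v = (a : Matrix ι ι F) *ᵥ e + (b : Matrix ι ι F) *ᵥ f)
    {X Y : Matrix ι ι F} (hX : ∀ k ∈ K, X * k = k * X) (hY : ∀ k ∈ K, Y * k = k * Y)
    (he : X *ᵥ e = Y *ᵥ e) (hf : X *ᵥ f = Y *ᵥ f) : X = Y := by
  refine Matrix.toLin'.injective (LinearMap.ext fun v => ?_)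
  obtain ⟨a, b, rfl⟩ := hspan v
  simp only [Matrix.toLin'_apply, mulVec_add, mulVec_mulVec, hX _ a.2, hX _ b.2, hY _ a.2, hY _ b.2]
  simp only [← mulVec_mulVec, he, hf]

omit [Fintype F] [Nonempty ι] in
/-- a non-zero functional represents all functionals on a field -/
lemma exists_rep (hK : IsFieldSubalgebra 5 K) {η : K →ₗ[F] F} (hη : η ≠ 0) (φ : K →ₗ[F] F) :
    ∃ α : K, ∀ x : K, φ x = η (α * x) := by
  haveI : Module.Finite F K := FiniteDimensional.finiteDimensional_subalgebra K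
  let M : K →ₗ[F] (K →ₗ[F] F) :=
    { toFun := fun α => η.comp (LinearMap.mulLeft F α)
      map_add' := fun a b => by ext x; simp [add_mul]
      map_smul' := fun c a => by ext x; simp }
  have hinj : Function.Injective M := by
    rw [injective_iff_map_eq_zero]
    intro α hα
    by_contra hα0
    obtain ⟨y, hy, hxy⟩ := hK.inv α α.2 (fun h => hα0 (Subtype.ext h))
    refine hη (LinearMap.ext fun x => ?_)
    have h := LinearMap.congr_fun hα (⟨y, hy⟩ * x)
    have h1 : α * (⟨y, hy⟩ * x) = x := Subtype.ext (by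
      simp only [Subalgebra.coe_mul, ← mul_assoc, hxy, one_mul])
    simpa [M, h1] using h
  obtain ⟨α, hα⟩ := (LinearMap.injective_iff_surjective_of_finrank_eq_finrank
    (Subspace.dual_finrank_eq (K := F) (V := K)).symm).mp hinj φ
  exact ⟨α, fun x => (LinearMap.congr_fun hα x).symm⟩

/-- conjugates of the commutant commute with the field -/
lemma cj_comm {G : Subgroup (GL ι F)} (hle : G ≤ subalgebraNormalizer K) {g : GL ι F} (hg : g ∈ G)
    {X : Matrix ι ι F} (hX : ∀ k ∈ K, X * k = k * X) (k : Matrix ι ι F) (hk : k ∈ K) :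
    cj g X * k = k * cj g X := by
  have hk' : cj g⁻¹ k ∈ K := (hle (G.inv_mem hg) k).mp hk
  have h := congrArg (cj g) (hX _ hk')
  rw [cj_mul, cj_mul, cj_cj, mul_inv_cancel, cj_one_left] at h
  exact h

variable {D : FData ι F}

set_option backward.isDefEq.respectTransparency false in
set_option maxHeartbeats 1000000 in
/-- odd characteristic: the skew part of the commutant gives an invariant quadratic algebra -/
theorem exists_generator_odd (hσ : D.σ = RingHom.id F) (hsym : ∀ u v, D.form u v = D.form v u)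
    (h2 : (2 : F) ≠ 0) (hι : Fintype.card ι = 10) {G : Subgroup (GL ι F)}
    (hG : G ≤ D.isom) (hK : IsFieldSubalgebra 5 K)
    (hadj : ∀ k ∈ K, D.adj k = k) (hle : G ≤ subalgebraNormalizer K) :
    ∃ M : Matrix ι ι F, ¬ IsScalarMat M ∧ (∃ a b : F, M * M = a • 1 + b • M) ∧
      (∃ a b : F, D.adj M = a • 1 + b • M) ∧ ∀ g ∈ G, ∃ a b : F, cj g M = a • 1 + b • M := by
  classical
  have hself : ∀ k ∈ K, ∀ u v, D.form (k *ᵥ u) v = D.form u (k *ᵥ v) := fun k hk u v => by
    rw [D.form_adj, hadj k hk]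
  obtain ⟨e, he⟩ : ∃ e, D.form e e ≠ 0 := by
    by_contra hc
    push Not at hc
    haveI : Nonempty ι := inferInstance
    obtain ⟨i⟩ := (inferInstance : Nonempty ι)
    obtain ⟨-, x, hx⟩ := D.nondeg (Pi.single i 1) (by simp)
    refine hx ?_
    have h := hc (Pi.single i 1 + x)
    rw [D.form_add_left, D.form_add_right, D.form_add_right, hc, hc, hsym x, zero_add, add_zero, ← two_mul] at h
    exact (mul_eq_zero.mp h).resolve_left h2
  let ev : (ι → F) → K →ₗ[F] (ι → F) := fun v =>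
    { toFun := fun k => (k : Matrix ι ι F) *ᵥ v
      map_add' := fun a b => by simp [add_mulVec]
      map_smul' := fun c a => by simp [smul_mulVec] }
  haveI : Module.Finite F K := FiniteDimensional.finiteDimensional_subalgebra K
  obtain ⟨f, hfW, hf0⟩ := (Submodule.ne_bot_iff (D.orth (LinearMap.range (ev e)))).mp fun h => by
    have h1 := D.finrank_add_orth (LinearMap.range (ev e))
    have h3 := (LinearMap.finrank_range_le (ev e)).trans_eq hK.finrank_eq
    rw [h, finrank_bot, hι] at h1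
    omega
  have hfe : ∀ k : K, D.form ((k : Matrix ι ι F) *ᵥ f) e = 0 := fun k => by
    rw [hself _ k.2]; exact hfW _ ⟨k, rfl⟩
  have hef : ∀ k : K, D.form ((k : Matrix ι ι F) *ᵥ e) f = 0 := fun k => by
    rw [hself _ k.2, hsym]; exact hfe k
  have hind : ∀ a b : K, (a : Matrix ι ι F) *ᵥ e + (b : Matrix ι ι F) *ᵥ f = 0 → a = 0 ∧ b = 0 := by
    intro a b h
    have ha : a = 0 := by
      by_contra ha0
      obtain ⟨y, hy, hay⟩ := hK.inv a a.2 (fun h => ha0 (Subtype.ext h))
      have h1 := congrArg (fun v => D.form (y *ᵥ v) e) h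
      simp only [mulVec_add, mulVec_mulVec, hK.comm y hy a a.2, hay, one_mulVec, mulVec_zero, D.form_zero_left,
        D.form_add_left] at h1
      have h2 := hfe (⟨y, hy⟩ * b)
      rw [Subalgebra.coe_mul] at h2
      simp only at h2
      rw [h2, add_zero] at h1
      exact he h1
    refine ⟨ha, by_contra fun hb0 => ?_⟩
    obtain ⟨y, hy, hby⟩ := hK.inv b b.2 (fun h => hb0 (Subtype.ext h))
    have h1 := congrArg (fun v => y *ᵥ v) h
    simp only [ha, ZeroMemClass.coe_zero, zero_mulVec, zero_add, mulVec_mulVec, hK.comm y hy b b.2, hby, one_mulVec,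
      mulVec_zero] at h1
    exact hf0 h1
  obtain ⟨hspan, hmk⟩ := field_basis hι hK hind
  let η : K →ₗ[F] F :=
    { toFun := fun k => D.form ((k : Matrix ι ι F) *ᵥ e) e
      map_add' := fun a b => by simp [add_mulVec, D.form_add_left]
      map_smul' := fun c a => by simp [smul_mulVec, D.form_smul_left] }
  let θ : K →ₗ[F] F :=
    { toFun := fun k => D.form ((k : Matrix ι ι F) *ᵥ f) f
      map_add' := fun a b => by simp [add_mulVec, D.form_add_left]
      map_smul' := fun c a => by simp [smul_mulVec, D.form_smul_left] }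
  have hη : η ≠ 0 := fun h => he (by simpa [η] using LinearMap.congr_fun h 1)
  have hθ : θ ≠ 0 := fun h => by
    obtain ⟨⟨x, hx⟩, -⟩ := D.nondeg f hf0
    obtain ⟨a, b, rfl⟩ := hspan x
    refine hx ?_
    rw [D.form_add_left, hef a, show D.form ((b : Matrix ι ι F) *ᵥ f) f = 0 from LinearMap.congr_fun h b, add_zero]
  obtain ⟨γ, hγ⟩ := exists_rep hK hη (-θ)
  have hγ0 : γ ≠ 0 := fun h => hθ (LinearMap.ext fun x => by
    have := hγ x
    rw [h, zero_mul, map_zero, LinearMap.neg_apply, neg_eq_zero] at this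
    exact this)
  obtain ⟨j, hjK, hje, hjf⟩ := hmk f ((γ : Matrix ι ι F) *ᵥ e)
  have hjv : ∀ a b : K, j *ᵥ ((a : Matrix ι ι F) *ᵥ e + (b : Matrix ι ι F) *ᵥ f)
      = (a : Matrix ι ι F) *ᵥ f + ((b * γ : K) : Matrix ι ι F) *ᵥ e := fun a b => by
    rw [mulVec_add, mulVec_mulVec, mulVec_mulVec, hjK _ a.2, hjK _ b.2, ← mulVec_mulVec, ← mulVec_mulVec, hje, hjf,
      mulVec_mulVec]
    rfl
  -- values of the form
  have hB : ∀ a b c d : K, D.form ((a : Matrix ι ι F) *ᵥ e + (b : Matrix ι ι F) *ᵥ f)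
      ((c : Matrix ι ι F) *ᵥ e + (d : Matrix ι ι F) *ᵥ f) = η (c * a) + θ (d * b) := fun a b c d => by
    have t1 : ∀ (x y : K) (u v : ι → F), D.form ((x : Matrix ι ι F) *ᵥ u) ((y : Matrix ι ι F) *ᵥ v)
        = D.form (((y * x : K) : Matrix ι ι F) *ᵥ u) v := fun x y u v => by
      rw [← hself _ y.2, mulVec_mulVec, Subalgebra.coe_mul]
    simp only [D.form_add_left, D.form_add_right, t1, hfe, hef, add_zero, zero_add]
    rfl
  have hjskew : D.adj j = -j := by
    refine D.eq_of_form_eq fun u v => ?_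
    rw [← D.form_adj, Matrix.neg_mulVec, ← neg_one_smul F, D.form_smul_right, map_neg, map_one]
    obtain ⟨a, b, rfl⟩ := hspan u
    obtain ⟨c, d, rfl⟩ := hspan v
    rw [hjv, hjv, add_comm ((a : Matrix ι ι F) *ᵥ f), add_comm ((c : Matrix ι ι F) *ᵥ f), hB, hB]
    have e1 : θ (d * a) = -η (γ * (d * a)) := by rw [← hγ, LinearMap.neg_apply, neg_neg]
    have e2 : θ (c * b) = -η (γ * (c * b)) := by rw [← hγ, LinearMap.neg_apply, neg_neg]
    rw [e1, e2]
    have hc : ∀ x y : K, x * y = y * x := fun x y => Subtype.ext (hK.comm x x.2 y y.2)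
    have q1 : c * (b * γ) = γ * (c * b) := by rw [hc b γ, ← mul_assoc, hc c γ, mul_assoc]
    have q2 : d * γ * a = γ * (d * a) := by rw [hc d γ, mul_assoc]
    rw [q1, q2]
    ring
  have hjj : j * j = (γ : Matrix ι ι F) := by
    refine comm_ext hspan (fun k hk => by rw [mul_assoc, hjK k hk, ← mul_assoc, hjK k hk, mul_assoc])
      (fun k hk => hK.comm _ γ.2 k hk) ?_ ?_
    · rw [← mulVec_mulVec, hje, hjf]
    · rw [← mulVec_mulVec, hjf, mulVec_mulVec, hjK _ γ.2, ← mulVec_mulVec, hje]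
  -- scale the square into the ground field
  letI : Field K := (fieldSub_isField hK).toField
  haveI : Finite K := Module.finite_of_finite F
  haveI : Fintype K := Fintype.ofFinite K
  set q := Fintype.card F with hq
  have hcardK : Fintype.card K = q ^ 5 := by rw [Module.card_eq_pow_finrank (K := F), hK.finrank_eq]
  obtain ⟨n, hn⟩ : ∃ n, q + q ^ 2 + q ^ 3 + q ^ 4 = 2 * n := by
    have hodd : Odd q := Asch.two_ne_zero_iff_odd.mp h2
    obtain ⟨m, hm⟩ := hodd.add_odd (hodd.pow (n := 2))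
    obtain ⟨m', hm'⟩ := (hodd.pow (n := 3)).add_odd (hodd.pow (n := 4))
    exact ⟨m + m', by omega⟩
  set a : K := γ ^ n with ha
  have ha0 : a ≠ 0 := pow_ne_zero _ hγ0
  obtain ⟨u, hu⟩ : ∃ u : F, a * a * γ = algebraMap F K u := by
    have h1 : a * a * γ = γ ^ (1 + q + q ^ 2 + q ^ 3 + q ^ 4) := by
      rw [ha, ← pow_add, ← pow_succ]; congr 1; omega
    have hfix : (a * a * γ) ^ q = a * a * γ := by
      rw [h1, ← pow_mul,
        show (1 + q + q ^ 2 + q ^ 3 + q ^ 4) * q = (q + q ^ 2 + q ^ 3 + q ^ 4) + q ^ 5 by ring, pow_add,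
        show γ ^ (q ^ 5) = γ by rw [← hcardK]; exact FiniteField.pow_card γ, ← pow_succ]
      congr 1
      omega
    have hcard : Nat.card (algebraMap F K).fieldRange = q := by
      rw [hq, ← Nat.card_eq_fintype_card]
      exact (Nat.card_congr (Equiv.ofInjective _ (algebraMap F K).injective)).symm
    obtain ⟨u, hu⟩ := (mem_subfield_iff_pow (algebraMap F K).fieldRange (a * a * γ)).mpr (by rw [hcard]; exact hfix)
    exact ⟨u, hu.symm⟩
  set M := (a : Matrix ι ι F) * j with hM
  have hMM : M * M = u • (1 : Matrix ι ι F) := by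
    have h1 : M * M = ((a * a * γ : K) : Matrix ι ι F) := by
      show (a : Matrix ι ι F) * j * ((a : Matrix ι ι F) * j) = (a : Matrix ι ι F) * (a : Matrix ι ι F) * (γ : Matrix ι ι F)
      rw [mul_assoc, ← mul_assoc j, hjK _ a.2, mul_assoc (a : Matrix ι ι F) j, hjj, mul_assoc]
    rw [h1, hu, ← Algebra.algebraMap_eq_smul_one]
    rfl
  have hu0 : u ≠ 0 := fun h => by
    rw [h, map_zero] at hu
    exact mul_ne_zero (mul_ne_zero ha0 ha0) hγ0 hu
  have hMK : ∀ k ∈ K, M * k = k * M := fun k hk => by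
    rw [hM, mul_assoc, hjK k hk, ← mul_assoc, hK.comm _ a.2 k hk, mul_assoc]
  have hMadj : D.adj M = -M := by rw [hM, D.adj_mul, hadj _ a.2, hjskew, neg_mul, hjK _ a.2]
  refine ⟨M, fun ⟨c, hc⟩ => ?_, ⟨u, 0, by rw [hMM, zero_smul, add_zero]⟩,
    ⟨0, -1, by rw [hMadj, zero_smul, zero_add, neg_one_smul]⟩, fun g hg => ?_⟩
  · have h1 : M + M = 0 := by
      conv_lhs => arg 1; rw [show M = D.adj M by rw [hc, D.adj_smul, D.adj_one, hσ]; rfl, hMadj]
      exact neg_add_cancel M
    have h3 : M = 0 := by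
      rw [← two_smul F M] at h1
      exact (smul_eq_zero.mp h1).resolve_left h2
    rw [h3, zero_mul, eq_comm, smul_eq_zero] at hMM
    exact hMM.elim hu0 one_ne_zero
  -- the conjugate is again skew in the commutant
  set Y := cj g M with hY
  have hYK := cj_comm hle hg hMK
  have hYadj : D.adj Y = -Y := by
    rw [hY, D.adj_cj (hG hg), hMadj, cj, cj, Matrix.mul_neg, Matrix.neg_mul]
  obtain ⟨α, β, hYe⟩ := hspan (Y *ᵥ e)
  obtain ⟨γ', δ, hYf⟩ := hspan (Y *ᵥ f)
  have hYv : ∀ x y : K, Y *ᵥ ((x : Matrix ι ι F) *ᵥ e + (y : Matrix ι ι F) *ᵥ f)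
      = ((x * α + y * γ' : K) : Matrix ι ι F) *ᵥ e + ((x * β + y * δ : K) : Matrix ι ι F) *ᵥ f := fun x y => by
    rw [mulVec_add, mulVec_mulVec, mulVec_mulVec, hYK _ x.2, hYK _ y.2, ← mulVec_mulVec, ← mulVec_mulVec, hYe,
      hYf]
    simp only [mulVec_add, mulVec_mulVec, Subalgebra.coe_add, Subalgebra.coe_mul, add_mulVec]
    abel
  have hskew : ∀ x y z w : K, η (z * (x * α + y * γ')) + θ (w * (x * β + y * δ))
      + (η ((z * α + w * γ') * x) + θ ((z * β + w * δ) * y)) = 0 := fun x y z w => by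
    have h := D.form_adj Y ((x : Matrix ι ι F) *ᵥ e + (y : Matrix ι ι F) *ᵥ f)
      ((z : Matrix ι ι F) *ᵥ e + (w : Matrix ι ι F) *ᵥ f)
    rw [hYadj, Matrix.neg_mulVec, ← neg_one_smul F, D.form_smul_right, hσ, RingHom.id_apply, hYv, hYv, hB, hB] at h
    linear_combination h
  have hKz : ∀ (φ : K →ₗ[F] F), φ ≠ 0 → ∀ z : K, (∀ x, φ (z * x) = 0) → z = 0 := fun φ hφ z hz => by
    by_contra hz0
    exact hφ (LinearMap.ext fun x => by simpa [← mul_assoc, mul_inv_cancel₀ hz0] using hz (z⁻¹ * x))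
  have hα : α = 0 := hKz η hη α fun x => by
    have h := hskew x 0 1 0
    simp only [one_mul, zero_mul, add_zero, map_zero, mul_zero] at h
    rw [mul_comm x α, ← two_mul, mul_eq_zero] at h
    exact h.resolve_left h2
  have hδ : δ = 0 := hKz θ hθ δ fun x => by
    have h := hskew 0 x 0 1
    simp only [one_mul, zero_mul, zero_add, map_zero, mul_zero] at h
    rw [mul_comm x δ, ← two_mul, mul_eq_zero] at h
    exact h.resolve_left h2
  have hγ' : γ' = γ * β := by
    refine sub_eq_zero.mp (hKz η hη _ fun x => ?_)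
    have h := hskew x 0 0 1
    simp only [one_mul, zero_mul, zero_add, add_zero, map_zero, mul_zero] at h
    have e1 : θ (x * β) = -η (γ * (x * β)) := by rw [← hγ, LinearMap.neg_apply, neg_neg]
    rw [e1] at h
    rw [sub_mul, map_sub, sub_eq_zero, show γ * β * x = γ * (x * β) by ring]
    linear_combination h
  set t : K := β / a with ht
  have hYM : Y = (t : Matrix ι ι F) * M := by
    refine comm_ext hspan hYK (fun k hk => by rw [mul_assoc, hMK k hk, ← mul_assoc, hK.comm _ t.2 k hk, mul_assoc])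
      ?_ ?_ <;> rw [← mulVec_mulVec, hM, ← mulVec_mulVec]
    · rw [hje, hYe, hα, mulVec_mulVec, ← Subalgebra.coe_mul, ZeroMemClass.coe_zero, zero_mulVec, zero_add,
        ht, div_mul_cancel₀ β ha0]
    · rw [hjf, hYf, hδ, hγ', mulVec_mulVec, mulVec_mulVec, ← Subalgebra.coe_mul, ← Subalgebra.coe_mul,
        ZeroMemClass.coe_zero, zero_mulVec, add_zero, ht, div_mul_cancel₀ β ha0, mul_comm β γ]
  have htt : t * t = 1 := by
    have h1 : Y * Y = u • (1 : Matrix ι ι F) := by rw [hY, ← cj_mul, hMM, cj_smul, cj_one]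
    rw [hYM, mul_assoc, ← mul_assoc M, hMK _ t.2, mul_assoc (t : Matrix ι ι F) M, hMM, mul_smul_comm, mul_one,
      mul_smul_comm] at h1
    refine Subtype.ext ?_
    exact (smul_right_inj hu0).mp h1
  rcases mul_self_eq_one_iff.mp htt with h | h
  · exact ⟨0, 1, by rw [hYM, h, OneMemClass.coe_one, one_mul, zero_smul, zero_add, one_smul]⟩
  · exact ⟨0, -1, by rw [hYM, h, NegMemClass.coe_neg, OneMemClass.coe_one, neg_mul, one_mul, zero_smul,
      zero_add, neg_one_smul]⟩

omit [Fintype ι] [DecidableEq ι] [Nonempty ι] in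
/-- a telescope of squares -/
lemma sum_sq_telescope {R : Type*} [CommRing R] (h2 : (2 : R) = 0) (u : R) (n : ℕ) :
    (∑ i ∈ Finset.range n, u ^ 2 ^ i) ^ 2 + ∑ i ∈ Finset.range n, u ^ 2 ^ i = u ^ 2 ^ n + u := by
  induction n with
  | zero => simp; linear_combination (-u) * h2
  | succ n ih =>
    rw [Finset.sum_range_succ, pow_succ 2 n, pow_mul]
    linear_combination ih + ((∑ i ∈ Finset.range n, u ^ 2 ^ i) * u ^ 2 ^ n + u ^ 2 ^ n) * h2

variable {Q : QuadraticForm F (ι → F)}

set_option backward.isDefEq.respectTransparency false in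
set_option maxHeartbeats 1000000 in
/-- characteristic two: a generator of the refinement of the form gives an invariant quadratic algebra -/
theorem exists_generator_two (hσ : D.σ = RingHom.id F) (hf : D.form = polar ⇑Q) (h2 : (2 : F) = 0)
    (hι : Fintype.card ι = 10) {G : Subgroup (GL ι F)} (hG : G ≤ D.isom) (hGQ : Fixes Q G)
    (hK : IsFieldSubalgebra 5 K) (hadj : ∀ k ∈ K, D.adj k = k) (hle : G ≤ subalgebraNormalizer K) :
    ∃ M : Matrix ι ι F, ¬ IsScalarMat M ∧ (∃ a b : F, M * M = a • 1 + b • M) ∧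
      (∃ a b : F, D.adj M = a • 1 + b • M) ∧ ∀ g ∈ G, ∃ a b : F, cj g M = a • 1 + b • M := by
  classical
  have hsym : ∀ u v, D.form u v = D.form v u := fun u v => by rw [hf]; exact polar_comm _ _ _
  have halt : ∀ v, D.form v v = 0 := fun v => by rw [hf, polar_self', h2, zero_mul]
  have hskew0 : ∀ k ∈ K, ∀ v, D.form (k *ᵥ v) v = 0 := fun k hk v => D.form_self_eq_zero halt hK hadj hk v
  have hself : ∀ k ∈ K, ∀ u v, D.form (k *ᵥ u) v = D.form u (k *ᵥ v) := fun k hk u v => by
    rw [D.form_adj, hadj k hk]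
  obtain ⟨i⟩ := (inferInstance : Nonempty ι)
  set e : ι → F := Pi.single i 1 with he
  have he0 : e ≠ 0 := by simp [he]
  obtain ⟨⟨f, hf0⟩, -⟩ := D.nondeg e he0
  rw [hsym] at hf0
  have hind : ∀ a b : K, (a : Matrix ι ι F) *ᵥ e + (b : Matrix ι ι F) *ᵥ f = 0 → a = 0 ∧ b = 0 := by
    intro a b h
    have hb : b = 0 := by
      by_contra hb0
      obtain ⟨y, hy, hby⟩ := hK.inv b b.2 (fun h => hb0 (Subtype.ext h))
      have h1 := congrArg (fun v => D.form (y *ᵥ v) e) h
      simp only [mulVec_add, mulVec_mulVec, hK.comm y hy b b.2, hby, one_mulVec, mulVec_zero, D.form_zero_left,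
        D.form_add_left] at h1
      rw [hskew0 _ (mul_mem hy a.2) e, zero_add, hsym] at h1
      exact hf0 h1
    refine ⟨by_contra fun ha0 => ?_, hb⟩
    obtain ⟨y, hy, hay⟩ := hK.inv a a.2 (fun h => ha0 (Subtype.ext h))
    have h1 := congrArg (fun v => y *ᵥ v) h
    simp only [hb, ZeroMemClass.coe_zero, zero_mulVec, add_zero, mulVec_mulVec, hK.comm y hy a a.2, hay, one_mulVec,
      mulVec_zero] at h1
    exact he0 h1
  obtain ⟨hspan, hmk⟩ := field_basis hι hK hind
  let η : K →ₗ[F] F :=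
    { toFun := fun k => D.form ((k : Matrix ι ι F) *ᵥ e) f
      map_add' := fun a b => by simp [add_mulVec, D.form_add_left]
      map_smul' := fun c a => by simp [smul_mulVec, D.form_smul_left] }
  have hη1 : ∀ x y : K, D.form ((x : Matrix ι ι F) *ᵥ e) ((y : Matrix ι ι F) *ᵥ f) = η (y * x) := fun x y => by
    rw [← hself _ y.2, mulVec_mulVec, ← Subalgebra.coe_mul]
    rfl
  have hη : η ≠ 0 := fun h => hf0 (by simpa [η] using LinearMap.congr_fun h 1)
  have hB : ∀ a b c d : K, D.form ((a : Matrix ι ι F) *ᵥ e + (b : Matrix ι ι F) *ᵥ f)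
      ((c : Matrix ι ι F) *ᵥ e + (d : Matrix ι ι F) *ᵥ f) = η (d * a) + η (b * c) := fun a b c d => by
    have t1 : ∀ (x y : K) (u : ι → F), D.form ((x : Matrix ι ι F) *ᵥ u) ((y : Matrix ι ι F) *ᵥ u) = 0 :=
      fun x y u => by rw [← hself _ y.2, mulVec_mulVec]; exact hskew0 _ (mul_mem y.2 x.2) u
    rw [D.form_add_left, D.form_add_right, D.form_add_right, t1, t1, hη1, hsym, hη1, zero_add, add_zero]
  letI : Field K := (fieldSub_isField hK).toField
  haveI : Finite K := Module.finite_of_finite F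
  haveI : Fintype K := Fintype.ofFinite K
  haveI hF2 : CharP F 2 := CharTwo.of_one_ne_zero_of_two_eq_zero one_ne_zero h2
  haveI : CharP K 2 := charP_of_injective_algebraMap (algebraMap F K).injective 2
  have hK2 : (2 : K) = 0 := by
    have := CharP.cast_eq_zero K 2
    exact_mod_cast this
  let fK : K ≃+* K := frobeniusEquiv K 2
  have hfK : ∀ x : K, fK.symm x * fK.symm x = x := fun x => by
    have := fK.apply_symm_apply x
    rwa [frobeniusEquiv_apply, frobenius_def, _root_.sq] at this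
  have hinjsq : ∀ x y : K, x * x = y * y → x = y := fun x y h => by
    apply fK.injective
    rw [frobeniusEquiv_apply, frobeniusEquiv_apply, frobenius_def, frobenius_def, _root_.sq, _root_.sq]
    exact h
  -- the values of the form along one line
  have hline : ∀ v : ι → F, ∃ α : K, ∀ k : K, Q ((k : Matrix ι ι F) *ᵥ v) = η (α * (k * k)) := by
    intro v
    let φ : K →ₗ[F] F :=
      { toFun := fun x => Q (((fK.symm x : K) : Matrix ι ι F) *ᵥ v)
        map_add' := fun x y => by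
          show Q _ = Q _ + Q _
          rw [map_add, Subalgebra.coe_add, add_mulVec, QuadraticMap.map_add (⇑Q), ← hf, ← hself _ (fK.symm y).2,
            mulVec_mulVec, hskew0 _ (mul_mem (fK.symm y).2 (fK.symm x).2) v, add_zero]
        map_smul' := fun c x => by
          obtain ⟨d, hd⟩ := (bijective_frobenius F 2).2 c
          rw [frobenius_def] at hd
          have h1 : fK.symm (c • x) = d • fK.symm x := hinjsq _ _ (by
            rw [hfK, smul_mul_smul_comm, hfK, ← hd, _root_.sq])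
          show Q _ = c * Q _
          rw [h1, Subalgebra.coe_smul, smul_mulVec, QuadraticMap.map_smul, smul_eq_mul, ← hd, _root_.sq] }
    obtain ⟨α, hα⟩ := exists_rep hK hη φ
    refine ⟨α, fun k => ?_⟩
    rw [← hα]
    show Q _ = Q (((fK.symm (k * k) : K) : Matrix ι ι F) *ᵥ v)
    rw [hinjsq (fK.symm (k * k)) k (hfK _)]
  obtain ⟨α, hα⟩ := hline e
  obtain ⟨β, hβ⟩ := hline f
  obtain ⟨X, hXK, hXe, hXf⟩ := hmk ((α : Matrix ι ι F) *ᵥ f) ((β : Matrix ι ι F) *ᵥ e + f)
  have hXv : ∀ a b : K, X *ᵥ ((a : Matrix ι ι F) *ᵥ e + (b : Matrix ι ι F) *ᵥ f)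
      = ((b * β : K) : Matrix ι ι F) *ᵥ e + ((a * α + b : K) : Matrix ι ι F) *ᵥ f := fun a b => by
    rw [mulVec_add, mulVec_mulVec, mulVec_mulVec, hXK _ a.2, hXK _ b.2, ← mulVec_mulVec, ← mulVec_mulVec, hXe, hXf]
    simp only [mulVec_add, mulVec_mulVec, Subalgebra.coe_add, Subalgebra.coe_mul, add_mulVec]
    abel
  -- the refinement property
  have hXQ : ∀ v, D.form (X *ᵥ v) v = Q v := by
    intro v
    obtain ⟨a, b, rfl⟩ := hspan v
    rw [hXv, hB, QuadraticMap.map_add (⇑Q), ← hf, hη1, hα, hβ, add_mul, map_add]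
    rw [show b * (b * β) = β * (b * b) by ring, show a * α * a = α * (a * a) by ring]
    ring
  -- the square
  have hXX : X * X = X + ((α * β : K) : Matrix ι ι F) := by
    refine comm_ext hspan (fun k hk => by rw [mul_assoc, hXK k hk, ← mul_assoc, hXK k hk, mul_assoc])
      (fun k hk => by rw [add_mul, mul_add, hXK k hk, hK.comm _ (α * β).2 k hk]) ?_ ?_
    · rw [← mulVec_mulVec, hXe, mulVec_mulVec, hXK _ α.2, ← mulVec_mulVec, hXf, add_mulVec, hXe, mulVec_add,
        mulVec_mulVec, Subalgebra.coe_mul, add_comm]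
    · rw [← mulVec_mulVec, hXf, mulVec_add, mulVec_mulVec, hXK _ β.2, ← mulVec_mulVec, hXe, hXf, add_mulVec, hXf,
        mulVec_mulVec, Subalgebra.coe_mul, hK.comm _ β.2 _ α.2, add_comm]
  -- adjust into the ground field
  obtain ⟨p, n, hp, hchar, -, hcard⟩ := exists_prime_pow (F := F)
  obtain rfl : p = 2 := CharP.eq F hchar hF2
  set q := Fintype.card F with hq
  have hcardK : Fintype.card K = q ^ 5 := by rw [Module.card_eq_pow_finrank (K := F), hK.finrank_eq]
  set u : K := α * β with hu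
  let T : ℕ → K := fun l => ∑ i ∈ Finset.range (n * l), u ^ 2 ^ i
  have hT : ∀ l, T l ^ 2 + T l = u ^ q ^ l + u := fun l => by
    show _ = u ^ (q ^ l) + u
    rw [hcard, ← pow_mul]
    exact sum_sq_telescope hK2 u _
  set t : K := T 1 + T 2 + T 3 + T 4 with ht
  set w : K := u + t ^ 2 + t with hw
  have hwfix : w ^ q = w := by
    have hw' : w = u + u ^ q ^ 1 + u ^ q ^ 2 + u ^ q ^ 3 + u ^ q ^ 4 := by
      rw [hw, ht]
      linear_combination hT 1 + hT 2 + hT 3 + hT 4
        + (T 1 * T 2 + T 1 * T 3 + T 1 * T 4 + T 2 * T 3 + T 2 * T 4 + T 3 * T 4 + 2 * u) * hK2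
    have hadd : ∀ x y : K, (x + y) ^ q = x ^ q + y ^ q := fun x y => by rw [hcard]; exact add_pow_char_pow x y 2 n
    have h5 : u ^ q ^ 5 = u := by rw [← hcardK]; exact FiniteField.pow_card u
    rw [hw', hadd, hadd, hadd, hadd, ← pow_mul, ← pow_succ, ← pow_mul, ← pow_succ, ← pow_mul, ← pow_succ,
      ← pow_mul, ← pow_succ, h5, pow_one]
    ring
  obtain ⟨c, hc⟩ : ∃ c : F, algebraMap F K c = w := by
    have hcardr : Nat.card (algebraMap F K).fieldRange = q := by
      rw [hq, ← Nat.card_eq_fintype_card]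
      exact (Nat.card_congr (Equiv.ofInjective _ (algebraMap F K).injective)).symm
    exact (mem_subfield_iff_pow (algebraMap F K).fieldRange w).mpr (by rw [hcardr]; exact hwfix)
  set M := X + (t : Matrix ι ι F) with hM
  have hM2 : ∀ k : Matrix ι ι F, k + k = 0 := fun k => by
    rw [← two_smul F k, h2, zero_smul]
  have hMK : ∀ k ∈ K, M * k = k * M := fun k hk => by rw [hM, add_mul, mul_add, hXK k hk, hK.comm _ t.2 k hk]
  have hMM : M * M = M + c • (1 : Matrix ι ι F) := by
    have h1 : c • (1 : Matrix ι ι F) = ((α * β + t * t + t : K) : Matrix ι ι F) := by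
      rw [show (α * β + t * t + t : K) = algebraMap F K c by rw [hc, hw, hu, _root_.sq], ← Algebra.algebraMap_eq_smul_one]
      rfl
    rw [h1, hM, add_mul, mul_add, mul_add, hXX, hXK _ t.2]
    simp only [hu, Subalgebra.coe_add, Subalgebra.coe_mul]
    linear_combination (norm := abel) hM2 ((t : Matrix ι ι F) * X) - hM2 (t : Matrix ι ι F)
  have hMQ : ∀ v, D.form (M *ᵥ v) v = Q v := fun v => by
    rw [hM, add_mulVec, D.form_add_left, hXQ, hskew0 _ t.2, add_zero]
  clear_value M
  have hMadj : D.adj M = 1 + M := by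
    refine D.eq_of_form_eq fun u v => ?_
    rw [← D.form_adj, add_mulVec, one_mulVec, D.form_add_right]
    have h := hMQ (u + v)
    rw [mulVec_add, D.form_add_left, D.form_add_right, D.form_add_right, hMQ, hMQ, QuadraticMap.map_add (⇑Q),
      ← hf, hsym (M *ᵥ v) u] at h
    linear_combination h - D.form u (M *ᵥ v) * h2
  refine ⟨M, fun ⟨a, ha⟩ => ?_, ⟨c, 1, by rw [hMM, one_smul, add_comm]⟩,
    ⟨1, 1, by rw [hMadj, one_smul, one_smul]⟩, fun g hg => ?_⟩
  · rw [ha, D.adj_smul, D.adj_one, hσ] at hMadj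
    exact one_ne_zero (add_eq_right.mp hMadj.symm)
  -- the conjugate differs by zero or one
  set Y := cj g M with hY
  have hYK := cj_comm hle hg hMK
  have hYQ : ∀ v, D.form (Y *ᵥ v) v = Q v := fun v => by
    set v' := ((g⁻¹ : GL ι F) : Matrix ι ι F) *ᵥ v with hv'
    have hv : v = (g : Matrix ι ι F) *ᵥ v' := by rw [hv', mulVec_mulVec, Units.mul_inv, one_mulVec]
    rw [hv, hY, cj_mulVec]
    exact (hG hg _ _).trans ((hMQ _).trans (hGQ g hg _).symm)
  set E := Y - M with hE
  have hEK : ∀ k ∈ K, E * k = k * E := fun k hk => by rw [hE, sub_mul, mul_sub, hYK k hk, hMK k hk]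
  have hEv : ∀ v, D.form (E *ᵥ v) v = 0 := fun v => by
    rw [hE, sub_mulVec, sub_eq_add_neg, ← neg_one_smul F (M *ᵥ v), D.form_add_left, D.form_smul_left, hYQ, hMQ]
    ring
  obtain ⟨a, b, hEe⟩ := hspan (E *ᵥ e)
  obtain ⟨a', b', hEf⟩ := hspan (E *ᵥ f)
  have hEab : ∀ x y : K, E *ᵥ ((x : Matrix ι ι F) *ᵥ e + (y : Matrix ι ι F) *ᵥ f)
      = ((x * a + y * a' : K) : Matrix ι ι F) *ᵥ e + ((x * b + y * b' : K) : Matrix ι ι F) *ᵥ f := fun x y => by
    rw [mulVec_add, mulVec_mulVec, mulVec_mulVec, hEK _ x.2, hEK _ y.2, ← mulVec_mulVec, ← mulVec_mulVec, hEe,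
      hEf]
    simp only [mulVec_add, mulVec_mulVec, Subalgebra.coe_add, Subalgebra.coe_mul, add_mulVec]
    abel
  have hzero : ∀ x y : K, η (y * (x * a + y * a')) + η ((x * b + y * b') * x) = 0 := fun x y => by
    have h := hEv ((x : Matrix ι ι F) *ᵥ e + (y : Matrix ι ι F) *ᵥ f)
    rwa [hEab, hB] at h
  have hKz : ∀ z : K, (∀ x, η (z * x) = 0) → z = 0 := fun z hz => by
    by_contra hz0
    exact hη (LinearMap.ext fun x => by simpa [← mul_assoc, mul_inv_cancel₀ hz0] using hz (z⁻¹ * x))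
  have hb : b = 0 := hKz b fun x => by
    have h := hzero (fK.symm x) 0
    simp only [zero_mul, add_zero, map_zero, zero_add] at h
    rwa [mul_comm (fK.symm x) b, mul_assoc, hfK] at h
  have ha' : a' = 0 := hKz a' fun x => by
    have h := hzero 0 (fK.symm x)
    simp only [zero_mul, zero_add, mul_zero, map_zero, add_zero] at h
    rwa [← mul_assoc, hfK, mul_comm] at h
  have hbb : a + b' = 0 := hKz _ fun x => by
    have h := hzero x 1
    rw [hb, ha'] at h
    simp only [one_mul, mul_zero, add_zero, zero_add] at h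
    rw [add_mul, map_add, mul_comm a x]
    exact h
  have hbe : b' = a := by linear_combination hbb - a * hK2
  have hEa : E = (a : Matrix ι ι F) := by
    refine comm_ext hspan hEK (fun k hk => hK.comm _ a.2 k hk) ?_ ?_
    · rw [hEe, hb]; simp
    · rw [hEf, ha', hbe]; simp
  have hYM : Y = M + (a : Matrix ι ι F) := by rw [← hEa, hE, add_sub_cancel]
  have hYY : Y * Y = Y + c • (1 : Matrix ι ι F) := by rw [hY, ← cj_mul, hMM, cj_add, cj_smul, cj_one]
  have haa : a * a = a := by
    refine Subtype.ext ?_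
    rw [hYM, add_mul, mul_add, mul_add, hMM, hMK _ a.2] at hYY
    rw [Subalgebra.coe_mul]
    linear_combination (norm := abel) hYY - hM2 ((a : Matrix ι ι F) * M)
  rcases (mul_eq_zero.mp (show a * (a - 1) = 0 by rw [mul_sub, haa, mul_one, sub_self])) with h | h
  · exact ⟨0, 1, by rw [hYM, h, ZeroMemClass.coe_zero, add_zero, zero_smul, zero_add, one_smul]⟩
  · exact ⟨1, 1, by rw [hYM, sub_eq_zero.mp h, OneMemClass.coe_one, one_smul, one_smul, add_comm]⟩

end five

/-- a field of degree five reduces to a decomposition, a pair or a quadratic field -/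
theorem five_cases {Q : QuadraticForm F (ι → F)} {hnd : NDPolar Q} (hι : Fintype.card ι = 10)
    {G : Subgroup (GL ι F)} (hG : Fixes Q G) (hirr : ActsIrreducibly (matrixSet G))
    {K : Subalgebra F (Matrix ι ι F)} (hK : IsFieldSubalgebra 5 K)
    (hadj : ∀ k ∈ K, (evenData Q hnd).adj k ∈ K) (hle : G ≤ subalgebraNormalizer K) :
    (evenData Q hnd).InNondegDecomp G ∨ (evenData Q hnd).InSingularPair G ∨
      ∃ K : Subalgebra F (Matrix ι ι F), IsFieldSubalgebra 2 K ∧ (∀ k ∈ K, (evenData Q hnd).adj k ∈ K) ∧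
        G ≤ subalgebraNormalizer K := by
  have hself := ((evenData Q hnd).selfAdjoint_or_two σ_eq Nat.prime_five hK hadj).resolve_right (by norm_num)
  obtain ⟨M, hMs, hMM, hadjM, hcjM⟩ : ∃ M : Matrix ι ι F, ¬ IsScalarMat M ∧
      (∃ a b : F, M * M = a • 1 + b • M) ∧ (∃ a b : F, (evenData Q hnd).adj M = a • 1 + b • M) ∧
      ∀ g ∈ G, ∃ a b : F, cj g M = a • 1 + b • M := by
    by_cases h2 : (2 : F) = 0
    · exact exists_generator_two σ_eq form_eq h2 hι hG.isom hG hK hself hle
    · exact exists_generator_odd σ_eq (fun u v => by rw [form_eq]; exact polar_comm _ _ _) h2 hι hG.isom hK hself hle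
  exact cases_of_generator _ hirr hG.isom hMs hMM hadjM hcjM

end CfsgLib.Asch.Even
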