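import Cfsg.Agent.Lib.Aschbacher.EvenBasic

/-!
# Subfield structures of a quadratic space
-/

set_option autoImplicit false

namespace CfsgLib.Asch.Even

open Matrix Cfsg.Geo QuadraticMap Module
open CfsgLib.Classical.Quad (NDPolar polar_self')
open scoped MatrixGroups

variable {ι : Type} [Fintype ι] [DecidableEq ι] [Nonempty ι] {F : Type*} [Field F] [Fintype F]
  {Q : QuadraticForm F (ι → F)} {hnd : NDPolar Q}

set_option backward.isDefEq.respectTransparency false in
/-- a subfield structure carries a multiple of `Q` -/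
theorem rational_of_subfield (hn : 2 ≤ Fintype.card ι) {G : Subgroup (GL ι F)} (hG : Fixes Q G)
    (hirr : (2 : F) = 0 → ActsIrreducibly (matrixSet G)) (h : (evenData Q hnd).InSubfieldForm G) :
    ∃ (F₀ : Subfield F) (r : ℕ) (P : GL ι F) (ζ : F), r.Prime ∧ Fintype.card F = Nat.card F₀ ^ r ∧ ζ ≠ 0 ∧
      IsQuadFormRationalStructure (fun v => ζ * Q v) F₀ P ∧ G ≤ subfieldSubgroup F₀ P := by
  classical
  obtain ⟨F₁, r, P, B₀, l, hr, hc, hB₀, hu, hl, hPB, hle⟩ := h
  set D := evenData Q hnd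
  refine ⟨F₁, r, P, l⁻¹, hr, hc, inv_ne_zero hl, ?_, hle⟩
  have hpol : ∀ u v, polar Q ((P : Matrix ι ι F) *ᵥ u) ((P : Matrix ι ι F) *ᵥ v)
      = l * sform (RingHom.id F) B₀ u v := fun u v => by
    rw [← form_eq (hnd := hnd), D.form_mulVec_of_eq hPB, σ_eq]
  by_cases h2 : (2 : F) = 0
  swap
  · intro u hu
    show l⁻¹ * Q _ ∈ F₁
    have h1 : l⁻¹ * Q ((P : Matrix ι ι F) *ᵥ u) = (2 : F)⁻¹ * sform (RingHom.id F) B₀ u u := by
      have := hpol u u
      rw [polar_self'] at this
      field_simp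
      linear_combination this
    rw [h1]
    refine F₁.mul_mem (F₁.inv_mem ?_) (D.sform_mem_subfield F₁ hB₀ hu hu)
    rw [show (2 : F) = 1 + 1 by norm_num]
    exact F₁.add_mem F₁.one_mem F₁.one_mem
  -- characteristic two
  obtain ⟨p, e, hp, hchar, -, -⟩ := exists_prime_pow (F := F)
  haveI := Fact.mk hp
  haveI := hchar
  haveI : CharP F₁ p := (RingHom.charP_iff_charP F₁.subtype p).mpr hchar
  haveI : Fintype F₁ := Fintype.ofFinite F₁
  obtain ⟨⟨d, hd⟩, -, hd'⟩ := FiniteField.card F₁ p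
  simp only [PNat.mk_coe] at hd'
  let φ : F ≃+* F := RingEquiv.ofBijective (iterateFrobenius F p d) (bijective_iterateFrobenius F p d)
  have hφmem : ∀ a, a ∈ F₁ ↔ φ a = a := fun a => by
    rw [mem_subfield_iff_pow, Nat.card_eq_fintype_card, hd']
    exact Iff.of_eq (congrArg (· = a) (iterateFrobenius_def p d a).symm)
  set f : (ι → F) → F := fun u => l⁻¹ * Q ((P : Matrix ι ι F) *ᵥ u) with hf
  set f' : (ι → F) → F := fun u => φ (f fun i => φ.symm (u i)) with hf'
  have hfadd : ∀ u v, f (u + v) = f u + f v + sform (RingHom.id F) B₀ u v := fun u v => by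
    simp only [hf, mulVec_add, QuadraticMap.map_add (⇑Q), hpol]
    field_simp
  have hfsmul : ∀ (c : F) u, f (c • u) = c ^ 2 * f u := fun c u => by
    simp only [hf, mulVec_smul, QuadraticMap.map_smul, smul_eq_mul]; ring
  have hBφ : ∀ u v, φ (sform (RingHom.id F) B₀ (fun i => φ.symm (u i)) fun i => φ.symm (v i))
      = sform (RingHom.id F) B₀ u v := fun u v => by
    simp only [sform, dotProduct, Matrix.mulVec, RingHom.id_apply, map_sum, map_mul, RingEquiv.apply_symm_apply]
    refine Finset.sum_congr rfl fun i _ => ?_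
    congr 1
    exact Finset.sum_congr rfl fun j _ => by rw [(hφmem _).mp (hB₀ i j)]
  have hd0 : ∀ u, f' u - f u = 0 := by
    intro u
    have key := sq_zero h2 hn (hirr h2)
      (fun v => f' (((P⁻¹ : GL ι F) : Matrix ι ι F) *ᵥ v) - f (((P⁻¹ : GL ι F) : Matrix ι ι F) *ᵥ v))
      (fun a b => by
        simp only [mulVec_add, hf']
        rw [show (fun i => φ.symm ((((P⁻¹ : GL ι F) : Matrix ι ι F) *ᵥ a + ((P⁻¹ : GL ι F) : Matrix ι ι F) *ᵥ b) i))
          = (fun i => φ.symm ((((P⁻¹ : GL ι F) : Matrix ι ι F) *ᵥ a) i))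
            + fun i => φ.symm ((((P⁻¹ : GL ι F) : Matrix ι ι F) *ᵥ b) i) by funext i; simp]
        rw [hfadd, hfadd, map_add, map_add, hBφ]
        ring)
      (fun c a => by
        simp only [mulVec_smul, hf']
        rw [show (fun i => φ.symm ((c • (((P⁻¹ : GL ι F) : Matrix ι ι F) *ᵥ a)) i))
          = φ.symm c • fun i => φ.symm ((((P⁻¹ : GL ι F) : Matrix ι ι F) *ᵥ a) i) by funext i; simp]
        rw [hfsmul, hfsmul, map_mul, map_pow, RingEquiv.apply_symm_apply]
        ring)
      ?_ ((P : Matrix ι ι F) *ᵥ u)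
    · simpa [mulVec_mulVec] using key
    intro g hg a
    obtain ⟨x, hx, hxg⟩ := hle hg
    obtain ⟨_, ⟨y, rfl⟩, z, hz, hyz⟩ := Subgroup.mem_sup_of_normal_right.mp hx
    obtain ⟨c, hcz⟩ := mem_scalars_iff_isScalarMat.mp hz
    set Y : Matrix ι ι F :=
      ((Matrix.GeneralLinearGroup.map (F₁.subtype : F₁ →+* F) y : GL ι F) : Matrix ι ι F) with hY
    have hYmem : ∀ i j, Y i j ∈ F₁ := fun i j => (y i j).2
    have hxm : (x : Matrix ι ι F) = c • Y := by
      rw [← hyz, Units.val_mul, hcz, mul_smul_comm, mul_one]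
    have hgv : ∀ v, (g : Matrix ι ι F) *ᵥ ((P : Matrix ι ι F) *ᵥ v)
        = (P : Matrix ι ι F) *ᵥ ((x : Matrix ι ι F) *ᵥ v) := fun v => by
      rw [← hxg]
      simp [mulVec_mulVec, mul_assoc]
    have hxpol : ∀ u v, sform (RingHom.id F) B₀ ((x : Matrix ι ι F) *ᵥ u) ((x : Matrix ι ι F) *ᵥ v)
        = sform (RingHom.id F) B₀ u v := fun u v => by
      refine mul_left_cancel₀ hl ?_
      rw [← hpol, ← hpol, ← hgv, ← hgv]
      simp only [polar, ← mulVec_add, hG g hg]
    obtain ⟨i₀, j₀, hij⟩ : ∃ i j, B₀ i j ≠ 0 := by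
      by_contra hall
      push Not at hall
      exact hu.ne_zero (Matrix.ext hall)
    have hc2 : c ^ 2 ∈ F₁ := by
      have h1 := hxpol (Pi.single i₀ 1) (Pi.single j₀ 1)
      simp only [hxm, smul_mulVec, sform_smul_left, sform_smul_right, RingHom.id_apply, sform_single] at h1
      set s := sform (RingHom.id F) B₀ (Y *ᵥ Pi.single i₀ 1) (Y *ᵥ Pi.single j₀ 1) with hs
      have hsne : s ≠ 0 := fun h0 => hij (by rw [← h1, h0, mul_zero, mul_zero])
      rw [show c ^ 2 = B₀ i₀ j₀ * s⁻¹ by field_simp; linear_combination h1]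
      refine F₁.mul_mem (hB₀ _ _) (F₁.inv_mem (D.sform_mem_subfield F₁ hB₀ ?_ ?_)) <;>
        exact fun i => by simpa [Matrix.mulVec_single] using hYmem i _
    have hcφ : φ c = c := by
      have h1 := (hφmem _).mp hc2
      rw [map_pow] at h1
      have h3 : (φ c - c) * (φ c - c) = 0 := by linear_combination h1 + (c * c - φ c * c) * h2
      exact sub_eq_zero.mp (mul_self_eq_zero.mp h3)
    have hxφ : ∀ i j, φ.symm ((x : Matrix ι ι F) i j) = (x : Matrix ι ι F) i j := fun i j => by
      conv_lhs => rw [hxm, Matrix.smul_apply, smul_eq_mul, ← hcφ, ← (hφmem _).mp (hYmem i j), ← map_mul,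
        RingEquiv.symm_apply_apply]
      rw [hxm]; rfl
    have hfx : ∀ v, f ((x : Matrix ι ι F) *ᵥ v) = f v := fun v => by
      simp only [hf, ← hgv, hG g hg]
    have hPg : ((P⁻¹ : GL ι F) : Matrix ι ι F) *ᵥ ((g : Matrix ι ι F) *ᵥ a)
        = (x : Matrix ι ι F) *ᵥ (((P⁻¹ : GL ι F) : Matrix ι ι F) *ᵥ a) := by
      have h1 := hgv (((P⁻¹ : GL ι F) : Matrix ι ι F) *ᵥ a)
      rw [mulVec_mulVec _ (P : Matrix ι ι F), Units.mul_inv, one_mulVec] at h1
      rw [h1, mulVec_mulVec, Units.inv_mul, one_mulVec]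
    show f' _ - f _ = f' _ - f _
    rw [hPg, hfx]
    congr 1
    simp only [hf']
    congr 1
    rw [show (fun i => φ.symm (((x : Matrix ι ι F) *ᵥ (((P⁻¹ : GL ι F) : Matrix ι ι F) *ᵥ a)) i))
      = (x : Matrix ι ι F) *ᵥ fun i => φ.symm ((((P⁻¹ : GL ι F) : Matrix ι ι F) *ᵥ a) i) by
        funext i
        simp only [Matrix.mulVec, dotProduct, map_sum, map_mul, hxφ]]
    exact hfx _
  intro u hu
  show f u ∈ F₁
  rw [hφmem]
  have := hd0 u
  simp only [hf'] at this
  rw [show (fun i => φ.symm (u i)) = u from funext fun i => by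
    conv_lhs => rw [← (hφmem _).mp (hu i), RingEquiv.symm_apply_apply]] at this
  exact sub_eq_zero.mp this

set_option backward.isDefEq.respectTransparency false in
/-- a rational structure over a subfield of index two forces plus type -/
theorem plus_of_index_two (hnd : NDPolar Q) {j : ℕ} (hι : Fintype.card ι = 2 * j) {F₀ : Subfield F} {P : GL ι F}
    {ζ : F} (hc : Fintype.card F = Nat.card F₀ ^ 2) (hζ : ζ ≠ 0)
    (hrat : IsQuadFormRationalStructure (fun v => ζ * Q v) F₀ P) : IsPlusTypeOn ⇑Q ⊤ := by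
  classical
  haveI : Fintype F₀ := Fintype.ofFinite F₀
  rw [Nat.card_eq_fintype_card] at hc
  let up : (ι → F₀) →ₗ[F₀] (ι → F) :=
    { toFun := fun u i => (u i : F)
      map_add' := fun u v => rfl
      map_smul' := fun c u => rfl }
  let T : (ι → F₀) → (ι → F) := fun u => (P : Matrix ι ι F) *ᵥ up u
  have hTadd : ∀ u v, T (u + v) = T u + T v := fun u v => by simp only [T, map_add, mulVec_add]
  have hTsmul : ∀ (c : F₀) u, T (c • u) = (c : F) • T u := fun c u => by
    simp only [T, map_smul]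
    rw [← mulVec_smul]
    rfl
  let q : (ι → F₀) → F₀ := fun u => ⟨ζ * Q (T u), hrat (up u) fun i => (u i).2⟩
  have hq : ∀ u, (q u : F) = ζ * Q (T u) := fun u => rfl
  have hqpol : ∀ u v, ((polar q u v : F₀) : F) = ζ * polar Q (T u) (T v) := fun u v => by
    simp only [polar, Subfield.coe_sub, hq, hTadd]
    ring
  let Q₀ : QuadraticForm F₀ (ι → F₀) := QuadraticMap.ofPolar q
    (fun a x => Subtype.ext (by
      simp only [hq, hTsmul, QuadraticMap.map_smul, smul_eq_mul, Subfield.coe_mul]; ring))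
    (fun x x' y => Subtype.ext (by
      simp only [Subfield.coe_add, hqpol, hTadd, polar_add_left]; ring))
    (fun a x y => Subtype.ext (by
      simp only [smul_eq_mul, Subfield.coe_mul, hqpol, hTsmul, polar_smul_left]; ring))
  have hQ₀ : ∀ u, (Q₀ u : F) = ζ * Q (T u) := fun u => rfl
  have hpol₀ : ∀ u v, ((polar Q₀ u v : F₀) : F) = ζ * polar Q (T u) (T v) := hqpol
  have hTinj : ∀ u, T u = 0 → u = 0 := fun u hu => by
    have h1 := ClassicalMax.gl_mulVec_injective P (hu.trans (mulVec_zero _).symm)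
    exact funext fun i => Subtype.ext (congrFun h1 i)
  have hnd₀ : NDPolar Q₀ := by
    intro u hu
    refine hTinj u (hnd _ fun y => ?_)
    obtain ⟨y', rfl⟩ : ∃ y', (P : Matrix ι ι F) *ᵥ y' = y :=
      ⟨((P⁻¹ : GL ι F) : Matrix ι ι F) *ᵥ y, by simp [mulVec_mulVec]⟩
    have hbasis : ∀ i, polar Q (T u) ((P : Matrix ι ι F) *ᵥ Pi.single i 1) = 0 := fun i => by
      have h1 := congrArg (Subtype.val : F₀ → F) (hu (Pi.single i 1))
      rw [hpol₀] at h1
      have h2 : T (Pi.single i 1) = (P : Matrix ι ι F) *ᵥ Pi.single i 1 := by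
        simp only [T]
        congr 1
        funext k
        show ((Pi.single i (1 : F₀) : ι → F₀) k : F) = _
        rw [Pi.single_apply, Pi.single_apply]
        split_ifs <;> rfl
      rw [h2] at h1
      exact (mul_eq_zero.mp h1).resolve_left hζ
    rw [pi_eq_sum_univ' y', mulVec_sum, ← polarBilin_apply_apply, map_sum]
    refine Finset.sum_eq_zero fun i _ => ?_
    rw [mulVec_smul, map_smul, polarBilin_apply_apply, hbasis, smul_zero]
  have hdim : finrank F₀ (ι → F₀) = Fintype.card ι := finrank_fintype_fun_eq_card F₀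
  obtain ⟨k, r, e, f, R, hn, hr, hfam, hR, hani, horth, hndR⟩ :=
    FormsDisc.exists_decomp (finrank F₀ (ι → F₀)) Q₀ hnd₀ rfl
  -- transported vectors
  have hsing : ∀ i, Q (T (e i)) = 0 := fun i => by
    have h1 := congrArg (Subtype.val : F₀ → F) (hfam.sing i).1
    rw [hQ₀] at h1
    exact (mul_eq_zero.mp h1).resolve_left hζ
  have hee : ∀ i l, polar Q (T (e i)) (T (e l)) = 0 := fun i l => by
    have h1 := congrArg (Subtype.val : F₀ → F) (hfam.iso i l).1
    rw [hpol₀] at h1
    exact (mul_eq_zero.mp h1).resolve_left hζ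
  have hfe : ∀ i l, ζ * polar Q (T (f i)) (T (e l)) = if i = l then 1 else 0 := fun i l => by
    rw [← hpol₀, QuadraticMap.polar_comm, hfam.pair]
    split_ifs with h1 h2 <;> simp_all
  set E := Submodule.span F (Set.range fun i => T (e i))
  have hE : IsTotallySingularQuad ⇑Q E := by
    intro x hx
    obtain ⟨c, rfl⟩ := (Submodule.mem_span_range_iff_exists_fun F).1 hx
    exact RootCount.Q_sum_singular Q _ c _ hsing hee
  have hEd : finrank F E = k := by
    rw [finrank_span_eq_card, Fintype.card_fin]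
    rw [Fintype.linearIndependent_iff]
    intro c hc i
    have h1 := congrArg (fun v => ζ * polar Q (T (f i)) v) hc
    simp only [polar_zero_right, mul_zero] at h1
    rw [← polarBilin_apply_apply, map_sum, Finset.mul_sum, Finset.sum_eq_single i] at h1
    · rw [map_smul, smul_eq_mul, polarBilin_apply_apply, mul_left_comm, hfe, if_pos rfl, mul_one] at h1
      exact h1
    · intro b _ hb
      rw [map_smul, smul_eq_mul, polarBilin_apply_apply, mul_left_comm, hfe, if_neg (Ne.symm hb), mul_zero]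
    · simp
  rcases (by omega : r = 0 ∨ r = 2) with rfl | rfl
  · exact plus_top hE (by rw [hEd]; omega)
  obtain ⟨a, b, v₁, w₁, hab, hv₁, hw₁, hli, hQ⟩ := RootCount.exists_plane_basis Q₀ R hR hani hndR
  obtain ⟨θ, hθ, -, -⟩ := CfsgLib.UnitaryEmb.exists_root_quadratic (F := F₀) (K := F) hc rfl a b hab.no_root
  set z : ι → F := (-θ) • T v₁ + T w₁ with hz
  have hQv : ∀ (x y : F₀), ζ * Q ((x : F) • T v₁ + (y : F) • T w₁)
      = (x : F) ^ 2 + (a : F) * x * y + (b : F) * (y : F) ^ 2 := fun x y => by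
    rw [← hTsmul, ← hTsmul, ← hTadd, ← hQ₀, hQ]
    simp
  have hzQ : Q z = 0 := by
    have e1 : ζ * Q (T v₁) = 1 := by simpa using hQv 1 0
    have e2 : ζ * Q (T w₁) = b := by simpa using hQv 0 1
    have e3 : ζ * (Q (T v₁) + Q (T w₁) + polar Q (T v₁) (T w₁)) = 1 + a + b := by
      have h3 := hQv 1 1
      simp only [OneMemClass.coe_one, one_smul, QuadraticMap.map_add (⇑Q)] at h3
      linear_combination h3
    refine (mul_eq_zero.mp (show ζ * Q z = 0 from ?_)).resolve_left hζ
    rw [hz, QuadraticMap.map_add (⇑Q), QuadraticMap.map_smul, polar_smul_left, smul_eq_mul, smul_eq_mul]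
    have hθ' : θ ^ 2 - (a : F) * θ + (b : F) = 0 := hθ
    linear_combination (θ ^ 2 + θ) * e1 + (1 + θ) * e2 - θ * e3 + hθ'
  have hzo : ∀ i, polar Q (T (f i)) z = 0 ∧ polar Q (T (e i)) z = 0 := fun i => by
    have h1 : ∀ u ∈ R, polar Q (T (f i)) (T u) = 0 ∧ polar Q (T (e i)) (T u) = 0 := fun u hu => by
      have ha := congrArg (Subtype.val : F₀ → F) (horth u hu i).2
      have hb := congrArg (Subtype.val : F₀ → F) (horth u hu i).1
      rw [hpol₀] at ha hb
      exact ⟨(mul_eq_zero.mp ha).resolve_left hζ, (mul_eq_zero.mp hb).resolve_left hζ⟩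
    simp only [hz, polar_add_right, polar_smul_right, (h1 v₁ hv₁).1, (h1 v₁ hv₁).2, (h1 w₁ hw₁).1,
      (h1 w₁ hw₁).2, smul_zero, add_zero, and_self]
  have hz0 : z ≠ 0 := by
    intro h0
    have hv0 : v₁ ≠ 0 := hli.ne_zero 0
    obtain ⟨i, hi⟩ := Function.ne_iff.mp hv0
    have h1 : (-θ) • up v₁ + up w₁ = 0 := ClassicalMax.gl_mulVec_injective P (by
      simp only [mulVec_add, mulVec_smul, mulVec_zero]; exact h0)
    have h2 : -θ * (v₁ i : F) + (w₁ i : F) = 0 := congrFun h1 i
    have hvi : (v₁ i : F) ≠ 0 := fun h => hi (Subtype.ext h)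
    have ht : θ = ((w₁ i / v₁ i : F₀) : F) := by
      rw [Subfield.coe_div, eq_div_iff hvi]
      linear_combination -h2
    refine hab.no_root (w₁ i / v₁ i) (Subtype.ext ?_)
    show ((w₁ i / v₁ i : F₀) : F) ^ 2 - (a : F) * ((w₁ i / v₁ i : F₀) : F) + (b : F) = 0
    rw [← ht]
    exact hθ
  refine plus_top (U := E ⊔ Submodule.span F {z}) (singular_sup hE (fun x hx => ?_) ?_) ?_
  · obtain ⟨c, rfl⟩ := Submodule.mem_span_singleton.mp hx
    rw [QuadraticMap.map_smul, hzQ, smul_zero]
  · intro u hu x hx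
    obtain ⟨c, rfl⟩ := Submodule.mem_span_singleton.mp hx
    obtain ⟨d, rfl⟩ := (Submodule.mem_span_range_iff_exists_fun F).1 hu
    rw [← polarBilin_apply_apply, map_sum, LinearMap.sum_apply]
    refine Finset.sum_eq_zero fun i _ => ?_
    simp [(hzo i).2]
  · rw [finrank_sup_disjoint, hEd, finrank_span_singleton hz0]
    · omega
    rw [Submodule.disjoint_span_singleton' hz0]
    intro hzE
    obtain ⟨d, hd⟩ := (Submodule.mem_span_range_iff_exists_fun F).1 hzE
    refine hz0 (hd.symm.trans (Finset.sum_eq_zero fun i _ => ?_))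
    have h1 := congrArg (fun v => ζ * polar Q (T (f i)) v) hd
    simp only [(hzo i).1, mul_zero] at h1
    rw [← polarBilin_apply_apply, map_sum, Finset.mul_sum, Finset.sum_eq_single i] at h1
    · rw [map_smul, smul_eq_mul, polarBilin_apply_apply, mul_left_comm, hfe, if_pos rfl, mul_one] at h1
      rw [h1, zero_smul]
    · intro b _ hb
      rw [map_smul, smul_eq_mul, polarBilin_apply_apply, mul_left_comm, hfe, if_neg (Ne.symm hb), mul_zero]
    · simp

end CfsgLib.Asch.Even
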