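import Cfsg.Agent.Lib.Aschbacher.Forms
import Cfsg.Agent.Lib.Aschbacher.Subfield
import Cfsg.Agent.Lib.Aschbacher.Structure

/-!
# A spanning normal subgroup which is abelian modulo scalars
-/

set_option autoImplicit false

namespace CfsgLib.Asch

open Matrix Cfsg.Geo
open scoped MatrixGroups

variable {ι : Type} [Fintype ι] [DecidableEq ι] {F : Type*} [Field F] [Fintype F]

/-- contained in the normaliser of a symplectic-type group -/
def InSympType (G : Subgroup (GL ι F)) : Prop :=
  ∃ (r : ℕ) (R : Subgroup (GL ι F)), IsLinearSymplecticTypeData r R ∧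
    (∃ k : ℕ, 1 ≤ k ∧ r ^ k = Fintype.card ι) ∧ G ≤ subgroupNormalizer R

lemma mul_pow_class_two {H : Type*} [Group H] {a b c : H} (hc : ∀ h : H, c * h = h * c)
    (hba : b * a = c * (a * b)) : ∀ k : ℕ, (a * b) ^ k = c ^ (k.choose 2) * (a ^ k * b ^ k) := by
  have hck : ∀ (i : ℕ) (h : H), c ^ i * h = h * c ^ i := fun i h =>
    ((show Commute c h from hc h).pow_left i).eq
  have hbk : ∀ k : ℕ, b ^ k * a = c ^ k * (a * b ^ k) := by
    intro k
    induction k with
    | zero => simp
    | succ k ih =>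
      calc b ^ (k + 1) * a = b ^ k * (b * a) := by rw [pow_succ, mul_assoc]
        _ = c * (b ^ k * a * b) := by rw [hba, ← mul_assoc, ← hc, mul_assoc c, ← mul_assoc (b ^ k)]
        _ = c * (c ^ k * (a * b ^ k) * b) := by rw [ih]
        _ = _ := by simp only [pow_succ', mul_assoc]; rw [← pow_succ, ← pow_succ']
  intro k
  induction k with
  | zero => simp
  | succ k ih =>
    calc (a * b) ^ (k + 1) = c ^ (k.choose 2) * (a ^ k * (b ^ k * a) * b) := by
          rw [pow_succ, ih]; simp only [mul_assoc]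
      _ = c ^ (k.choose 2) * (c ^ k * (a ^ k * a) * (b ^ k * b)) := by
          rw [hbk k, ← mul_assoc (a ^ k) (c ^ k), ← hck k (a ^ k)]; simp only [mul_assoc]
      _ = _ := by
          have h2 : (k + 1).choose 2 = k.choose 2 + k := by
            rw [Nat.choose_succ_succ, Nat.choose_one_right, Nat.add_comm]
          rw [← pow_succ, ← pow_succ, mul_assoc (c ^ k), ← mul_assoc, ← pow_add, h2]

/-- the group of scalars as units of the field -/
lemma scalar_pow_eq_one_iff [Nonempty ι] {z : GL ι F} {c : F}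
    (hz : (z : Matrix ι ι F) = c • (1 : Matrix ι ι F)) (k : ℕ) : z ^ k = 1 ↔ c ^ k = 1 := by
  rw [← Units.val_inj, Units.val_pow_eq_pow_val, hz, smul_pow, one_pow, Units.val_one]
  refine ⟨fun h => ?_, fun h => by rw [h, one_smul]⟩
  have := congrFun (congrFun h (Classical.arbitrary ι)) (Classical.arbitrary ι)
  simpa using this

section twisted

variable {N : Subgroup (GL ι F)}

/-- linear independence from separating multipliers -/
lemma indep_of_separated {V C : Type*} [AddCommGroup V] [Module F V] [DecidableEq C] {ι' : Type*}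
    (v : C → V) (hv : ∀ c, v c ≠ 0) (T : ι' → V →ₗ[F] V) (χ : ι' → C → F)
    (hT : ∀ i c, T i (v c) = χ i c • v c) (hsep : ∀ c c', c ≠ c' → ∃ i, χ i c ≠ χ i c') :
    LinearIndependent F v := by
  rw [linearIndependent_iff']
  intro s
  induction s using Finset.induction with
  | empty => simp
  | @insert c' s hc' ih =>
    intro a ha
    have hs : ∀ c ∈ s, a c = 0 := by
      intro c hc
      obtain ⟨i, hi⟩ := hsep c c' (fun h => hc' (h ▸ hc))
      have h1 : ∑ d ∈ s, (a d * (χ i d - χ i c')) • v d = 0 := by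
        rw [Finset.sum_insert hc'] at ha
        calc ∑ d ∈ s, (a d * (χ i d - χ i c')) • v d
            = T i (a c' • v c' + ∑ d ∈ s, a d • v d) - χ i c' • (a c' • v c' + ∑ d ∈ s, a d • v d) := by
              simp only [map_add, map_sum, map_smul, hT, smul_add, Finset.smul_sum, smul_smul, mul_sub,
                sub_smul, Finset.sum_sub_distrib, mul_comm (χ i c')]
              abel
          _ = 0 := by rw [ha]; simp
      exact (mul_eq_zero.mp (ih _ h1 c hc)).resolve_right (sub_ne_zero.mpr hi)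
    intro d hd
    rcases Finset.mem_insert.mp hd with rfl | hd
    · rw [Finset.sum_insert hc', Finset.sum_eq_zero (fun c hc => by simp [hs c hc]), add_zero,
        smul_eq_zero] at ha
      exact ha.resolve_right (hv _)
    · exact hs d hd

end twisted

/-- the hypotheses on `R`: spanning, commutators scalar of order dividing `r`, exponent dividing `e` -/
structure RData (r e : ℕ) (R : Subgroup (GL ι F)) : Prop where
  spans : Spans (matrixSet R)
  comm_scalar : ∀ x ∈ R, ∀ y ∈ R, x * y * x⁻¹ * y⁻¹ ∈ scalars ι F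
  pow_eq : ∀ x ∈ R, x ^ e = 1

namespace RData

variable {r e : ℕ} {R : Subgroup (GL ι F)} (h : RData r e R)
include h

lemma center_iff {x : R} : x ∈ Subgroup.center R ↔ (x : GL ι F) ∈ scalars ι F := by
  rw [Subgroup.mem_center_iff]
  refine ⟨fun hx => h.spans.mem_scalars_of_commute fun y hy => ?_, fun hx y => ?_⟩
  · exact (congrArg Subtype.val (hx ⟨y, hy⟩)).symm
  · exact Subtype.ext (scalar_commute hx (y : GL ι F)).symm

lemma card_center [Nonempty ι] (hs : ∀ z ∈ scalars ι F, z ^ e = 1 → z ∈ R) :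
    Nat.card (Subgroup.center R) = Nat.gcd (Nat.card Fˣ) e := by
  rw [← IsCyclic.card_powMonoidHom_ker (G := Fˣ) e]
  symm
  refine Nat.card_congr (Equiv.ofBijective
    (fun c => (⟨⟨Units.map (Matrix.scalar ι : F →+* Matrix ι ι F).toMonoidHom c.1, ?_⟩, ?_⟩ :
      Subgroup.center R)) ⟨?_, ?_⟩)
  · refine hs _ ⟨_, rfl⟩ ?_
    rw [← map_pow]
    have hc := c.2
    rw [MonoidHom.mem_ker, powMonoidHom_apply] at hc
    rw [hc, map_one]
  · exact h.center_iff.mpr ⟨_, rfl⟩
  · intro c c' hcc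
    have h1 := congrArg (fun x : Subgroup.center R => ((x : R) : GL ι F).val
      (Classical.arbitrary ι) (Classical.arbitrary ι)) hcc
    exact Subtype.ext (Units.ext (by simpa using h1))
  · rintro ⟨⟨x, hx⟩, hxc⟩
    obtain ⟨c, rfl⟩ := h.center_iff.mp hxc
    refine ⟨⟨c, ?_⟩, rfl⟩
    rw [MonoidHom.mem_ker, powMonoidHom_apply]
    have h1 := h.pow_eq _ hx
    rw [← map_pow] at h1
    have h2 := congrArg (fun x : GL ι F => x.val (Classical.arbitrary ι) (Classical.arbitrary ι)) h1
    exact Units.ext (by simpa [Matrix.diagonal_pow] using h2)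

/-- the multiplier by which `y` conjugates `x` -/
lemma exists_mult {x y : GL ι F} (hx : x ∈ R) (hy : y ∈ R) :
    ∃ c : F, cj y (x : Matrix ι ι F) = c • (x : Matrix ι ι F) := by
  obtain ⟨c, hc⟩ := mem_scalars_iff_isScalarMat.mp (h.comm_scalar y hy x hx)
  refine ⟨c, ?_⟩
  rw [cj_coe, show y * x * y⁻¹ = (y * x * y⁻¹ * x⁻¹) * x by group, Units.val_mul, hc]
  simp

/-- representatives of the cosets of the centre form a basis -/
lemma exists_basis [Nonempty ι] :
    ∃ (x : R ⧸ Subgroup.center R → GL ι F), (∀ c, x c ∈ R) ∧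
      (∀ y ∈ R, ∃ c, ∃ z ∈ scalars ι F, z ^ e = 1 ∧ y = z * x c) ∧
      LinearIndependent F (fun c => (x c : Matrix ι ι F)) ∧
      ⊤ ≤ Submodule.span F (Set.range fun c => (x c : Matrix ι ι F)) := by
  classical
  let x : R ⧸ Subgroup.center R → GL ι F := fun c => ((c.out : R) : GL ι F)
  have hx : ∀ c, x c ∈ R := fun c => (c.out : R).2
  have hcov : ∀ y ∈ R, ∃ c, ∃ z ∈ scalars ι F, z ^ e = 1 ∧ y = z * x c := by
    intro y hy
    obtain ⟨n, hn⟩ := QuotientGroup.mk_out_eq_mul (Subgroup.center R) (⟨y, hy⟩ : R)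
    have hs : ((n : R) : GL ι F) ∈ scalars ι F := h.center_iff.mp n.2
    refine ⟨QuotientGroup.mk (⟨y, hy⟩ : R), ((n : R) : GL ι F)⁻¹, inv_mem hs, ?_, ?_⟩
    · rw [inv_pow, h.pow_eq _ (n : R).2, inv_one]
    · show y = _ * (((QuotientGroup.mk (⟨y, hy⟩ : R) : R ⧸ Subgroup.center R).out : R) : GL ι F)
      rw [hn]
      simp only [Subgroup.coe_mul]
      rw [← scalar_commute hs y]
      simp
  refine ⟨x, hx, hcov, ?_, ?_⟩
  · choose μ hμ using fun (y : R) c => h.exists_mult (hx c) y.2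
    refine indep_of_separated (fun c => (x c : Matrix ι ι F)) (fun c => (x c).ne_zero)
      (fun y : R => { toFun := cj (y : GL ι F), map_add' := cj_add _, map_smul' := cj_smul _ })
      μ hμ ?_
    intro c c' hne
    by_contra hall
    push_neg at hall
    refine hne ?_
    have hs : (x c)⁻¹ * x c' ∈ scalars ι F := by
      refine h.spans.mem_scalars_of_commute fun y hy => ?_
      have h1 := hμ ⟨y, hy⟩ c
      have h2 := hμ ⟨y, hy⟩ c'
      rw [← hall ⟨y, hy⟩] at h2
      -- conjugation by `y` fixes the quotient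
      have hne0 : μ ⟨y, hy⟩ c ≠ 0 := by
        intro h0
        rw [h0, zero_smul, ← cj_zero y] at h1
        exact (x c).ne_zero (cj_injective y h1)
      have h3 : cj y (((x c)⁻¹ * x c' : GL ι F) : Matrix ι ι F) = (((x c)⁻¹ * x c' : GL ι F) : Matrix ι ι F) := by
        have h4 : (x c : Matrix ι ι F) * (((x c)⁻¹ * x c' : GL ι F) : Matrix ι ι F) = (x c' : Matrix ι ι F) := by
          rw [← Units.val_mul]; simp
        have h5 := congrArg (cj y) h4
        simp only [cj_mul] at h5
        rw [h1, h2, smul_mul_assoc] at h5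
        have h6 : (x c : Matrix ι ι F) * cj y (((x c)⁻¹ * x c' : GL ι F) : Matrix ι ι F)
            = (x c : Matrix ι ι F) * (((x c)⁻¹ * x c' : GL ι F) : Matrix ι ι F) :=
          (smul_right_injective (Matrix ι ι F) hne0 h5).trans h4.symm
        exact (x c).isUnit.mul_left_cancel h6
      exact Units.ext (by simpa using (cj_eq_iff_commute.mp h3).symm)
    have hcc : (⟨(x c)⁻¹ * x c', R.mul_mem (R.inv_mem (hx c)) (hx c')⟩ : R) ∈ Subgroup.center R :=
      h.center_iff.mpr hs
    rw [← c.out_eq', ← c'.out_eq', QuotientGroup.eq]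
    exact hcc
  · rw [← h.spans]
    refine Submodule.span_le.mpr ?_
    rintro _ ⟨y, hy, rfl⟩
    obtain ⟨c, z, hz, -, rfl⟩ := hcov y hy
    obtain ⟨a, ha⟩ := mem_scalars_iff_isScalarMat.mp hz
    show ((z * x c : GL ι F) : Matrix ι ι F) ∈ _
    rw [Units.val_mul, ha, smul_mul_assoc, one_mul]
    exact Submodule.smul_mem _ _ (Submodule.subset_span ⟨c, rfl⟩)

lemma card_eq [Nonempty ι] :
    Nat.card R = Nat.card (Subgroup.center R) * Fintype.card ι ^ 2 := by
  classical
  obtain ⟨x, -, -, hli, hsp⟩ := h.exists_basis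
  have hc : Nat.card (R ⧸ Subgroup.center R) = Fintype.card ι ^ 2 := by
    cases nonempty_fintype (R ⧸ Subgroup.center R)
    rw [Nat.card_eq_fintype_card, ← Module.finrank_eq_card_basis (Module.Basis.mk hli hsp),
      Module.finrank_matrix, Module.finrank_self]
    ring
  rw [Subgroup.card_eq_card_quotient_mul_card_subgroup (Subgroup.center R), hc, mul_comm]

/-- an invariant form twisted by an automorphism inverting the central roots of unity -/
theorem exists_form [Nonempty ι] {G : Subgroup (GL ι F)} (hn : Norms G R) (σ : F ≃+* F)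
    (hinv : ∀ a, σ (σ a) = a) (hσ : ∀ ζ : F, ζ ^ e = 1 → σ ζ * ζ = 1)
    (h2 : σ = RingEquiv.refl F → (2 : F) ≠ 0) : InQuad G ∨ InSymp G ∨ InUnit G := by
  classical
  obtain ⟨x, hxR, hcov, hli, hsp⟩ := h.exists_basis
  cases nonempty_fintype (R ⧸ Subgroup.center R)
  let mσ : Matrix ι ι F →+* Matrix ι ι F := σ.toRingHom.mapMatrix
  have hmσ : ∀ M, mσ (mσ M) = M := fun M => by ext i j; exact hinv _
  have hmσs : ∀ (c : F) M, mσ (c • M) = σ c • mσ M := fun c M => by ext i j; simp [mσ]
  let B := Module.Basis.mk hli hsp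
  have hli' : LinearIndependent F (fun c => mσ (x c : Matrix ι ι F)) := by
    rw [Fintype.linearIndependent_iff]
    intro a ha c
    have h1 := congrArg mσ ha
    simp only [map_sum, hmσs, hmσ, map_zero] at h1
    have := Fintype.linearIndependent_iff.mp hli _ h1 c
    simpa using congrArg σ this
  have hsp' : ⊤ ≤ Submodule.span F (Set.range fun c => mσ (x c : Matrix ι ι F)) := by
    intro M _
    rw [← hmσ M, ← B.sum_repr (mσ M), map_sum]
    refine sum_mem fun c _ => ?_
    rw [hmσs]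
    simp only [B, Module.Basis.mk_apply]
    exact Submodule.smul_mem _ _ (Submodule.subset_span ⟨c, rfl⟩)
  let B' := Module.Basis.mk hli' hsp'
  let Θ : Matrix ι ι F →ₗ[F] Matrix ι ι F :=
    B'.constr F fun c => (((x c)⁻¹ : GL ι F) : Matrix ι ι F)ᵀ
  have hΘ : ∀ y ∈ R, Θ (mσ (y : Matrix ι ι F)) = ((y⁻¹ : GL ι F) : Matrix ι ι F)ᵀ := by
    intro y hy
    obtain ⟨c, z, hz, hze, rfl⟩ := hcov y hy
    obtain ⟨a, ha⟩ := mem_scalars_iff_isScalarMat.mp hz
    have hae : a ^ e = 1 := (scalar_pow_eq_one_iff ha e).mp hze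
    have hinva : σ a * a = 1 := hσ a hae
    have hzi : ((z⁻¹ : GL ι F) : Matrix ι ι F) = σ a • 1 := by
      refine Units.inv_eq_of_mul_eq_one_right ?_
      rw [ha, smul_mul_assoc, one_mul, smul_smul, mul_comm, hinva, one_smul]
    rw [_root_.mul_inv_rev, Units.val_mul, Units.val_mul, ha, hzi]
    rw [smul_mul_assoc, one_mul, hmσs, map_smul,
      show mσ (x c : Matrix ι ι F) = B' c by simp [B'], Module.Basis.constr_basis]
    simp [Matrix.mul_smul]
  have hspan : ∀ (q : Matrix ι ι F → Prop), (∀ y ∈ R, q (mσ (y : Matrix ι ι F))) → q 0 →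
      (∀ a b, q a → q b → q (a + b)) → (∀ (c : F) a, q a → q (c • a)) → ∀ M, q M := by
    intro q hy h0 ha hs M
    rw [← hmσ M]
    refine alg_induction (fun M => q (mσ M)) hy (by simpa) (fun a b h1 h2 => by simpa using ha _ _ h1 h2)
      (fun c a h1 => by rw [hmσs]; exact hs _ _ h1) (h.spans.mem_alg (mσ M))
  have hmul : ∀ M M', Θ (M * M') = Θ M * Θ M' := by
    intro M
    refine hspan (fun M => ∀ M', Θ (M * M') = Θ M * Θ M') ?_ (by simp) ?_ ?_ M
    · intro y hy M'
      refine hspan (fun M' => Θ (mσ (y : Matrix ι ι F) * M') = Θ (mσ (y : Matrix ι ι F)) * Θ M') ?_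
        (by simp) (fun a b h1 h2 => by simp [mul_add, h1, h2]) (fun c a h1 => by simp [h1]) M'
      intro y' hy'
      rw [← map_mul, ← Units.val_mul, hΘ _ (R.mul_mem hy hy'), hΘ _ hy, hΘ _ hy', ← transpose_mul,
        ← Units.val_mul, _root_.mul_inv_rev]
    · intro a b h1 h2 M'; simp [add_mul, h1, h2]
    · intro c a h1 M'; simp [h1]
  have hone : Θ 1 = 1 := by simpa using hΘ 1 R.one_mem
  have hsurj : Function.Surjective Θ := by
    rw [← LinearMap.range_eq_top, eq_top_iff]
    intro M _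
    rw [← transpose_transpose M]
    refine alg_induction (fun X => Xᵀ ∈ LinearMap.range Θ) (fun y hy => ?_) (by simp)
      (fun a b h1 h2 => by simpa using add_mem h1 h2) (fun c a h1 => by simpa using Submodule.smul_mem _ c h1)
      (h.spans.mem_alg Mᵀ)
    exact ⟨mσ ((y⁻¹ : GL ι F) : Matrix ι ι F), by rw [hΘ _ (R.inv_mem hy), inv_inv]⟩
  let Θ' : Matrix ι ι F ≃ₐ[F] Matrix ι ι F :=
    AlgEquiv.ofBijective (AlgHom.ofLinearMap Θ hone hmul)
      ⟨(LinearMap.injective_iff_surjective (f := Θ)).mpr hsurj, hsurj⟩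
  obtain ⟨U, hU⟩ := exists_conj_of_algEquiv Θ'
  have hfix : ∀ y ∈ R, (y : Matrix ι ι F)ᵀ * (U : Matrix ι ι F) * (y : Matrix ι ι F).map σ.toRingHom
      = (U : Matrix ι ι F) := by
    intro y hy
    have h1 : (U : Matrix ι ι F) * mσ (y : Matrix ι ι F) * ((U⁻¹ : GL ι F) : Matrix ι ι F)
        = ((y⁻¹ : GL ι F) : Matrix ι ι F)ᵀ := (hU _).symm.trans (hΘ y hy)
    have h2 : (y : Matrix ι ι F)ᵀ * ((U : Matrix ι ι F) * mσ (y : Matrix ι ι F) * ((U⁻¹ : GL ι F) : Matrix ι ι F)) = 1 := by
      rw [h1, ← transpose_mul, ← Units.val_mul, inv_mul_cancel, Units.val_one, transpose_one]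
    calc (y : Matrix ι ι F)ᵀ * (U : Matrix ι ι F) * (y : Matrix ι ι F).map σ.toRingHom
        = (y : Matrix ι ι F)ᵀ * ((U : Matrix ι ι F) * mσ (y : Matrix ι ι F) * ((U⁻¹ : GL ι F) : Matrix ι ι F))
            * (U : Matrix ι ι F) := by
          simp only [mul_assoc, Units.inv_mul, mul_one]; rfl
      _ = _ := by rw [h2, one_mul]
  set T : Matrix ι ι F := (mσ (U : Matrix ι ι F))ᵀ
  have hfixT : ∀ y ∈ R, (y : Matrix ι ι F)ᵀ * T * (y : Matrix ι ι F).map σ.toRingHom = T := by
    intro y hy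
    have h1 := congrArg (fun X => (mσ X)ᵀ) (hfix y hy)
    simp only [map_mul, transpose_mul] at h1
    rw [show (y : Matrix ι ι F).map σ.toRingHom = mσ (y : Matrix ι ι F) from rfl] at h1 ⊢
    rw [hmσ] at h1
    rw [show (mσ (y : Matrix ι ι F)ᵀ)ᵀ = mσ (y : Matrix ι ι F) by ext i j; rfl, ← mul_assoc] at h1
    exact h1
  obtain ⟨c, hc⟩ := fixed_forms_proportional h.spans hfix hfixT
  have hcc : σ c * c = 1 := by
    have h1 : mσ (mσ (U : Matrix ι ι F))ᵀᵀ = (U : Matrix ι ι F) := by rw [transpose_transpose, hmσ]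
    have hT2 : (mσ T)ᵀ = (U : Matrix ι ι F) := by
      ext i j; exact hinv _
    rw [hc, hmσs, transpose_smul, show (mσ (U : Matrix ι ι F))ᵀ = T from rfl, hc, smul_smul] at hT2
    have h3 : (σ c * c - 1) • (U : Matrix ι ι F) = 0 := by rw [sub_smul, hT2, one_smul, sub_self]
    exact sub_eq_zero.mp ((smul_eq_zero.mp h3).resolve_right U.ne_zero)
  by_cases hid : σ = RingEquiv.refl F
  · subst hid
    have hc2 : c = 1 ∨ c = -1 := mul_self_eq_one_iff.mp hcc
    have hsim := similar_of_spans (σ := RingHom.id F) h.spans hn U.isUnit (fun y hy => hfix y hy)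
    refine (inForm_of_sign U.isUnit (ε := c) ?_ hc2 (fun h0 => absurd h0 (h2 rfl)) hsim).elim Or.inl
      fun h' => Or.inr (Or.inl h')
    calc (U : Matrix ι ι F)ᵀ = T := by ext i j; rfl
      _ = _ := hc
  · obtain ⟨μ, hμ0, hμ⟩ : ∃ μ : F, μ ≠ 0 ∧ σ μ * c = μ := by
      by_cases h1 : c + 1 = 0
      · obtain ⟨a, ha⟩ : ∃ a, σ a ≠ a := by
          by_contra hall
          push_neg at hall
          exact hid (RingEquiv.ext hall)
        refine ⟨a - σ a, sub_ne_zero.mpr (Ne.symm ha), ?_⟩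
        rw [map_sub, hinv, eq_neg_of_add_eq_zero_left h1]
        ring
      · refine ⟨c + 1, h1, ?_⟩
        rw [map_add, map_one, add_mul, hcc, one_mul, add_comm]
    let μU : GL ι F := Units.map (Matrix.scalar ι : F →+* Matrix ι ι F).toMonoidHom (Units.mk0 μ hμ0) * U
    have hμU : (μU : Matrix ι ι F) = μ • (U : Matrix ι ι F) := by
      simp [μU, Matrix.smul_eq_diagonal_mul]
    have hfixμ : ∀ y ∈ R, (y : Matrix ι ι F)ᵀ * (μU : Matrix ι ι F) * (y : Matrix ι ι F).map σ.toRingHom
        = (μU : Matrix ι ι F) := fun y hy => by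
      rw [hμU, Matrix.mul_smul, Matrix.smul_mul, hfix y hy]
    refine Or.inr (Or.inr ⟨σ, sform σ.toRingHom (μU : Matrix ι ι F), ⟨hid, hinv, sform_add_left _ _,
      sform_smul_left _ _, fun v w => ?_, sform_nondegenerate μU.isUnit⟩,
      similar_of_spans h.spans hn μU.isUnit hfixμ⟩)
    have hherm : (mσ (μU : Matrix ι ι F))ᵀ = (μU : Matrix ι ι F) := by
      rw [hμU, hmσs, transpose_smul, show (mσ (U : Matrix ι ι F))ᵀ = T from rfl, hc, smul_smul, hμ]
    have hij : ∀ i j, σ ((μU : Matrix ι ι F) j i) = (μU : Matrix ι ι F) i j := fun i j =>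
      congrFun (congrFun hherm i) j
    simp only [sform, dotProduct, Matrix.mulVec, Finset.mul_sum, map_sum, map_mul,
      RingEquiv.toRingHom_eq_coe, RingHom.coe_coe, hinv, hij]
    rw [Finset.sum_comm]
    refine Finset.sum_congr rfl fun j _ => Finset.sum_congr rfl fun i _ => ?_
    ring

/-- realisation over a subfield containing the central roots of unity -/
theorem realisable [Nonempty ι] {F₀ : Subfield F} (he : e ∣ Nat.card Fˣ) (he0 : e ≠ 0)
    (hroots : ∀ ζ : F, ζ ^ e = 1 → ζ ∈ F₀) : RealisableOver F₀ (matrixSet R) := by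
  classical
  -- a maximal abelian subgroup
  obtain ⟨A, hAab, hAmax⟩ : ∃ A : Subgroup R, (∀ a ∈ A, ∀ b ∈ A, a * b = b * a) ∧
      ∀ A' : Subgroup R, (∀ a ∈ A', ∀ b ∈ A', a * b = b * a) → A ≤ A' → A' = A := by
    obtain ⟨A, hA⟩ := exists_maximalFor_of_wellFoundedGT
      (fun A : Subgroup R => ∀ a ∈ A, ∀ b ∈ A, a * b = b * a) id
      ⟨⊥, fun a ha b hb => by rw [Subgroup.mem_bot.mp ha, Subgroup.mem_bot.mp hb]⟩
    exact ⟨A, hA.1, fun A' hA' hle => le_antisymm (hA.2 hA' hle) hle⟩
  have hcent : ∀ y : R, (∀ a ∈ A, a * y = y * a) → y ∈ A := by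
    intro y hy
    have hgen : ∀ a ∈ (A : Set R) ∪ {y}, ∀ b ∈ (A : Set R) ∪ {y}, a * b = b * a := by
      rintro a (ha | rfl) b (hb | rfl)
      · exact hAab a ha b hb
      · exact hy a ha
      · exact (hy b hb).symm
      · rfl
    have hab : ∀ a ∈ Subgroup.closure ((A : Set R) ∪ {y}), ∀ b ∈ Subgroup.closure ((A : Set R) ∪ {y}),
        a * b = b * a := by
      intro a ha b hb
      have := (Subgroup.isMulCommutative_closure hgen).is_comm.comm ⟨a, ha⟩ ⟨b, hb⟩
      exact congrArg Subtype.val this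
    rw [← hAmax _ hab (fun a ha => Subgroup.subset_closure (Or.inl ha))]
    exact Subgroup.subset_closure (Or.inr rfl)
  -- a common eigenvector
  obtain ⟨g₀, hg₀⟩ := IsCyclic.exists_ofOrder_eq_natCard (α := Fˣ)
  obtain ⟨d, hd⟩ := he
  have hprim : IsPrimitiveRoot ((g₀ ^ d : Fˣ) : F) e := by
    refine IsPrimitiveRoot.coe_units_iff.mpr ?_
    have hp := IsPrimitiveRoot.orderOf g₀
    rw [hg₀] at hp
    exact hp.pow Nat.card_pos (by rw [hd, mul_comm])
  set roots := Polynomial.nthRootsFinset e (1 : F)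
  have hprod : ∀ a ∈ R, ∀ (l : List F), (∀ ζ ∈ l, ζ ^ e = 1) → ∀ (S : Finset (GL ι F)), (∀ b ∈ S, a * b = b * a) →
      ∀ (χ : GL ι F → F) (w : ι → F), w ≠ 0 → (∀ b ∈ S, (b : Matrix ι ι F) *ᵥ w = χ b • w) →
      (l.map fun ζ => (a : Matrix ι ι F) - ζ • 1).prod *ᵥ w = 0 →
      ∃ (u : ι → F) (ζ : F), u ≠ 0 ∧ ζ ^ e = 1 ∧ (a : Matrix ι ι F) *ᵥ u = ζ • u ∧
        ∀ b ∈ S, (b : Matrix ι ι F) *ᵥ u = χ b • u := by
    intro a _ l
    induction l with
    | nil => intro _ S _ χ w hw _ h0; simp at h0; exact absurd h0 hw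
    | cons ζ l ih =>
      intro hl S hS χ w hw hSw h0
      rw [List.map_cons, List.prod_cons, ← mulVec_mulVec] at h0
      set u := (l.map fun ζ => (a : Matrix ι ι F) - ζ • 1).prod *ᵥ w
      by_cases hu : u = 0
      · exact ih (fun ζ' h' => hl ζ' (List.mem_cons_of_mem _ h')) S hS χ w hw hSw hu
      refine ⟨u, ζ, hu, hl ζ (List.mem_cons_self ..), ?_, fun b hb => ?_⟩
      · rwa [sub_mulVec, smul_mulVec, one_mulVec, sub_eq_zero] at h0
      · have hab : Commute (b : Matrix ι ι F) (a : Matrix ι ι F) := by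
          have := congrArg Units.val (hS b hb)
          simpa [Commute, SemiconjBy] using this.symm
        have hcomm : Commute (b : Matrix ι ι F) (l.map fun ζ => (a : Matrix ι ι F) - ζ • 1).prod := by
          refine Commute.list_prod_right _ _ fun x hx => ?_
          obtain ⟨η, -, rfl⟩ := List.mem_map.mp hx
          exact hab.sub_right ((Commute.one_right _).smul_right η)
        rw [show (b : Matrix ι ι F) *ᵥ u = (l.map fun ζ => (a : Matrix ι ι F) - ζ • 1).prod *ᵥ ((b : Matrix ι ι F) *ᵥ w) by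
          simp only [u, mulVec_mulVec, hcomm.eq], hSw b hb, mulVec_smul]
  have hannih : ∀ a ∈ R, (roots.toList.map fun ζ => (a : Matrix ι ι F) - ζ • 1).prod = 0 := by
    intro a ha
    have hpoly := congrArg (Polynomial.aeval (a : Matrix ι ι F))
      (Polynomial.X_pow_sub_one_eq_prod (Nat.pos_of_ne_zero he0) hprim)
    rw [map_sub, map_pow, Polynomial.aeval_X, map_one, ← Units.val_pow_eq_pow_val, h.pow_eq a ha,
      Units.val_one, sub_self, ← Finset.prod_map_toList, map_list_prod, List.map_map] at hpoly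
    refine Eq.trans ?_ hpoly.symm
    congr 1
    refine List.map_congr_left fun ζ _ => ?_
    simp [Algebra.algebraMap_eq_smul_one]
  obtain ⟨v, χ, hv, hχv, hχ⟩ : ∃ (v : ι → F) (χ : GL ι F → F), v ≠ 0 ∧
      (∀ a ∈ A, ((a : GL ι F) : Matrix ι ι F) *ᵥ v = χ a • v) ∧ ∀ a ∈ A, χ (a : GL ι F) ^ e = 1 := by
    cases nonempty_fintype R
    have key : ∀ S : Finset (GL ι F), (∀ a ∈ S, ∃ h' : a ∈ R, (⟨a, h'⟩ : R) ∈ A) →
        ∃ (v : ι → F) (χ : GL ι F → F), v ≠ 0 ∧ (∀ a ∈ S, (a : Matrix ι ι F) *ᵥ v = χ a • v) ∧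
          ∀ a ∈ S, χ a ^ e = 1 := by
      intro S
      induction S using Finset.induction with
      | empty => exact fun _ => ⟨1, 1, one_ne_zero, by simp, by simp⟩
      | @insert a S haS ih =>
        intro hmem
        obtain ⟨w, χ, hw, hSw, hSe⟩ := ih fun b hb => hmem b (Finset.mem_insert_of_mem hb)
        obtain ⟨haR, haA⟩ := hmem a (Finset.mem_insert_self a S)
        obtain ⟨u, ζ, hu, hζ, hau, hbu⟩ := hprod a haR roots.toList
          (fun ζ hζ => (Polynomial.mem_nthRootsFinset (Nat.pos_of_ne_zero he0) 1).mp (Finset.mem_toList.mp hζ))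
          S (fun b hb => by
            obtain ⟨hbR, hbA⟩ := hmem b (Finset.mem_insert_of_mem hb)
            exact congrArg Subtype.val (hAab _ haA _ hbA))
          χ w hw hSw (by rw [hannih a haR, zero_mulVec])
        refine ⟨u, Function.update χ a ζ, hu, fun b hb => ?_, fun b hb => ?_⟩
        · rcases Finset.mem_insert.mp hb with rfl | hb
          · simpa using hau
          · rw [Function.update_of_ne (fun h' : b = a => haS (by rwa [← h']))]; exact hbu b hb
        · rcases Finset.mem_insert.mp hb with rfl | hb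
          · simpa using hζ
          · rw [Function.update_of_ne (fun h' : b = a => haS (by rwa [← h']))]; exact hSe b hb
    obtain ⟨v, χ, hv, h1, h2⟩ := key ((Set.toFinite (A : Set R)).toFinset.image Subtype.val) (fun a ha => by
      obtain ⟨b, hb, rfl⟩ := Finset.mem_image.mp ha
      exact ⟨b.2, (Set.Finite.mem_toFinset _).mp hb⟩)
    exact ⟨v, χ, hv, fun a ha => h1 _ (Finset.mem_image_of_mem _ ((Set.Finite.mem_toFinset _).mpr ha)),
      fun a ha => h2 _ (Finset.mem_image_of_mem _ ((Set.Finite.mem_toFinset _).mpr ha))⟩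
  -- the translates of the eigenvector form a basis
  let w : R ⧸ A → (ι → F) := fun q => ((q.out : R) : GL ι F).val *ᵥ v
  choose μ hμ using fun (a : A) (y : R) => h.exists_mult y.2 ((a : R).2)
  have haw : ∀ (a : A) (y : R), (((a : R) : GL ι F) : Matrix ι ι F) *ᵥ ((y : GL ι F).val *ᵥ v)
      = (μ a y * χ (a : R)) • ((y : GL ι F).val *ᵥ v) := by
    intro a y
    rw [← cj_mulVec, hχv _ a.2, hμ a y, smul_mulVec, mulVec_smul, smul_smul]
  have hcast : ∀ (y : R), ((y : GL ι F).val *ᵥ v) ≠ 0 := by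
    intro y h0
    refine hv ?_
    have := congrArg (fun u => ((y : GL ι F)⁻¹).val *ᵥ u) h0
    simpa [mulVec_mulVec] using this
  have hli : LinearIndependent F w := by
    refine indep_of_separated w (fun q => hcast _) (fun a : A => Matrix.toLin' (((a : R) : GL ι F) : Matrix ι ι F))
      (fun a q => μ a q.out * χ (a : R)) (fun a q => by rw [Matrix.toLin'_apply]; exact haw a q.out) ?_
    intro q q' hne
    by_contra hall
    push_neg at hall
    refine hne ?_
    have hmem : (q.out)⁻¹ * q'.out ∈ A := by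
      refine hcent _ fun a ha => ?_
      have hχ0 : χ (a : GL ι F) ≠ 0 := by
        intro h0
        have := hχ a ha
        rw [h0, zero_pow he0] at this
        exact zero_ne_one this
      have hμe : μ ⟨a, ha⟩ q.out = μ ⟨a, ha⟩ q'.out := mul_right_cancel₀ hχ0 (hall ⟨a, ha⟩)
      set y := q.out
      set y' := q'.out
      have hc1 := hμ ⟨a, ha⟩ y
      have hc2 := hμ ⟨a, ha⟩ y'
      rw [← hμe] at hc2
      set c := μ ⟨a, ha⟩ y
      have hc0 : c ≠ 0 := by
        intro h0
        rw [h0, zero_smul, ← cj_zero ((a : R) : GL ι F)] at hc1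
        exact (y : GL ι F).ne_zero (cj_injective _ hc1)
      have h4 : ((y : GL ι F) : Matrix ι ι F) * (((y⁻¹ * y' : R) : GL ι F) : Matrix ι ι F) = ((y' : GL ι F) : Matrix ι ι F) := by
        rw [← Units.val_mul]; simp
      have h5 := congrArg (cj (a : GL ι F)) h4
      rw [cj_mul, hc1, hc2, smul_mul_assoc] at h5
      have h6 : ((y : GL ι F) : Matrix ι ι F) * cj (a : GL ι F) (((y⁻¹ * y' : R) : GL ι F) : Matrix ι ι F)
          = ((y : GL ι F) : Matrix ι ι F) * (((y⁻¹ * y' : R) : GL ι F) : Matrix ι ι F) :=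
        (smul_right_injective (Matrix ι ι F) hc0 h5).trans h4.symm
      have h7 := cj_eq_iff_commute.mp ((y : GL ι F).isUnit.mul_left_cancel h6)
      exact Subtype.ext (Units.ext h7)
    rw [← q.out_eq', ← q'.out_eq', QuotientGroup.eq]
    exact hmem
  have hact : ∀ (y : R) (q : R ⧸ A), ∃ (q' : R ⧸ A) (c : F), c ∈ F₀ ∧ (y : GL ι F).val *ᵥ w q = c • w q' := by
    intro y q
    obtain ⟨a, ha⟩ := QuotientGroup.mk_out_eq_mul A (y * q.out)
    refine ⟨QuotientGroup.mk (y * q.out), χ (((a⁻¹ : A) : R) : GL ι F), hroots _ (hχ _ (a⁻¹).2), ?_⟩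
    show (y : GL ι F).val *ᵥ ((q.out : R) : GL ι F).val *ᵥ v = _ • (((QuotientGroup.mk (y * q.out) : R ⧸ A).out : R) : GL ι F).val *ᵥ v
    rw [mulVec_mulVec, ← Units.val_mul, ← Subgroup.coe_mul, ← mulVec_smul, ← hχv _ (a⁻¹).2, mulVec_mulVec,
      ← Units.val_mul, ← Subgroup.coe_mul, ha]
    simp
  have hsp : ⊤ ≤ Submodule.span F (Set.range w) := by
    cases nonempty_fintype (R ⧸ A)
    rcases irred_apply h.spans.irred (W := Submodule.span F (Set.range w)) (fun g hg u hu => by
        induction hu using Submodule.span_induction with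
        | mem u hu =>
          obtain ⟨q, rfl⟩ := hu
          obtain ⟨q', c, -, hq'⟩ := hact ⟨g, hg⟩ q
          rw [hq']
          exact Submodule.smul_mem _ _ (Submodule.subset_span ⟨q', rfl⟩)
        | zero => simp
        | add a b _ _ ha hb => rw [mulVec_add]; exact add_mem ha hb
        | smul c a _ ha => rw [mulVec_smul]; exact Submodule.smul_mem _ _ ha) with hb | ht
    · exfalso
      exact hcast (QuotientGroup.mk (1 : R) : R ⧸ A).out
        ((Submodule.mem_bot F).mp (hb ▸ Submodule.subset_span ⟨_, rfl⟩))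
    · exact ht.ge
  cases nonempty_fintype (R ⧸ A)
  let B := Module.Basis.mk hli hsp
  let eι : ι ≃ R ⧸ A := Fintype.equivOfCardEq (by
    rw [← Module.finrank_eq_card_basis B, Module.finrank_fintype_fun_eq_card])
  let B' := B.reindex eι.symm
  let Pm : Matrix ι ι F := (Pi.basisFun F ι).toMatrix B'
  have hP : IsUnit Pm := isUnit_iff_exists_inv.mpr ⟨_, Module.Basis.toMatrix_mul_toMatrix_flip _ _⟩
  refine ⟨hP.unit⁻¹, ?_⟩
  rintro _ ⟨g, hg, rfl⟩ i j
  rw [inv_inv, IsUnit.unit_spec, mul_assoc]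
  obtain ⟨q', c, hc, hq'⟩ := hact ⟨g, hg⟩ (eι j)
  have hcol : ∀ k, (fun m => Pm m k) = w (eι k) := fun k => by
    funext m; simp [Pm, B', B, Module.Basis.toMatrix_apply]
  have hgP : (fun m => ((g : Matrix ι ι F) * Pm) m j) = c • fun m => Pm m (eι.symm q') := by
    rw [hcol, Equiv.apply_symm_apply, ← hq']
    funext m
    simp [Matrix.mul_apply, Matrix.mulVec, dotProduct, ← hcol]
  have hres : (((hP.unit⁻¹ : GL ι F) : Matrix ι ι F) * ((g : Matrix ι ι F) * Pm)) i j
      = c * (if i = eι.symm q' then 1 else 0) := by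
    have h1 : (((hP.unit⁻¹ : GL ι F) : Matrix ι ι F) * Pm) i (eι.symm q') = if i = eι.symm q' then 1 else 0 := by
      rw [hP.val_inv_mul]; simp [Matrix.one_apply]
    rw [← h1, Matrix.mul_apply, Matrix.mul_apply, Finset.mul_sum]
    refine Finset.sum_congr rfl fun m _ => ?_
    have h2 := congrFun hgP m
    simp only [Pi.smul_apply, smul_eq_mul] at h2
    rw [h2]; ring
  rw [hres]
  split
  · simpa using hc
  · simp

end RData

end CfsgLib.Asch
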