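import Cfsg.Agent.Lib.Aschbacher.FormBasic
import Cfsg.Agent.Lib.Aschbacher.SymplecticType

/-!
# Normalisers of symplectic-type groups of isometries
-/

set_option autoImplicit false

namespace CfsgLib.Asch

open Matrix Cfsg.Geo
open scoped MatrixGroups

variable {ι : Type} [Fintype ι] [DecidableEq ι] {F : Type*} [Field F] [Fintype F]

namespace FData

variable (D : FData ι F)

/-- contained in the normaliser of a symplectic-type group of isometries -/
def InSympTypeForm (G : Subgroup (GL ι F)) : Prop :=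
  ∃ (r : ℕ) (R : Subgroup (GL ι F)) (p f k : ℕ), IsSymplecticTypeGroup r R ∧ Spans (matrixSet R) ∧
    R ≤ D.isom ∧ G ≤ subgroupNormalizer R ∧ r ≠ p ∧
    IsMinimalFieldFor (Nat.card (Subgroup.center R)) p f F ∧ 1 ≤ k ∧ r ^ k = Fintype.card ι ∧
    ((D.σ ≠ RingHom.id F ∧ Odd r ∧ Nat.card (Subgroup.center R) = r ∧ Nat.card R = r ^ (1 + 2 * k)) ∨
     (D.σ ≠ RingHom.id F ∧ r = 2 ∧ f = 2 ∧ Nat.card (Subgroup.center R) = 4 ∧ Nat.card R = 2 ^ (2 + 2 * k)) ∨
     (D.σ = RingHom.id F ∧ r = 2 ∧ f = 1 ∧ Nat.card (Subgroup.center R) = 2 ∧ Nat.card R = 2 ^ (1 + 2 * k) ∧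
       ((∀ v, D.form v v = 0) → IsOfMinusType k R) ∧
       ∀ x ∈ R, ∀ y ∈ R, x * y * x⁻¹ * y⁻¹ ∈ scalars ι F))

end FData

end CfsgLib.Asch
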