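import Cfsg.Agent.Lib.Aschbacher.EvenBasic
import Cfsg.Agent.Lib.Aschbacher.FormAbelianDef

/-!
# An extraspecial group of order `2^7` in dimension eight forces plus type
-/

set_option autoImplicit false

namespace CfsgLib.Asch.Even

open Matrix Cfsg.Geo QuadraticMap Module
open CfsgLib.Classical.Quad (NDPolar polar_self')
open scoped MatrixGroups

/-- two commuting non-central involutions with elements separating them -/
theorem exists_pair_of_extraspecial {R : Type*} [Group R] [Finite R] (hz : Nat.card (Subgroup.center R) = 2)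
    (hc : ∀ x y : R, x * y * x⁻¹ * y⁻¹ ∈ Subgroup.center R) (hR : Nat.card R = 128) :
    ∃ z s t a b : R, z ∈ Subgroup.center R ∧ z ≠ 1 ∧ s * s = 1 ∧ t * t = 1 ∧ s * t = t * s ∧
      a * s * a⁻¹ = z * s ∧ a * t * a⁻¹ = t ∧ b * s * b⁻¹ = s ∧ b * t * b⁻¹ = z * t := by
  classical
  cases nonempty_fintype R
  obtain ⟨z, hz1, hzc, hz2, hcases⟩ : ∃ z : R, z ≠ 1 ∧ z ∈ Subgroup.center R ∧ z * z = 1 ∧
      ∀ x ∈ Subgroup.center R, x = 1 ∨ x = z := by
    haveI : Nontrivial (Subgroup.center R) := Finite.one_lt_card_iff_nontrivial.mp (by omega)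
    obtain ⟨z, hz1⟩ := exists_ne (1 : Subgroup.center R)
    have hu : ∀ x : Subgroup.center R, x = 1 ∨ x = z := fun x => by
      by_contra hne
      push Not at hne
      cases nonempty_fintype (Subgroup.center R)
      have h3 : ({1, z, x} : Finset (Subgroup.center R)).card = 3 :=
        Finset.card_eq_three.mpr ⟨1, z, x, hz1.symm, hne.1.symm, hne.2.symm, rfl⟩
      have := Finset.card_le_univ ({1, z, x} : Finset (Subgroup.center R))
      rw [Nat.card_eq_fintype_card] at hz
      omega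
    refine ⟨z, fun h => hz1 (Subtype.ext h), z.2, ?_, fun x hx => ?_⟩
    · rcases hu (z * z) with h | h
      · exact congrArg Subtype.val h
      · exact absurd (mul_eq_left.mp h) hz1
    · exact (hu ⟨x, hx⟩).imp (congrArg Subtype.val) (congrArg Subtype.val)
  have hzx : ∀ x : R, z * x = x * z := fun x => (Subgroup.mem_center_iff.mp hzc x).symm
  have hconj : ∀ x y : R, y * x * y⁻¹ = x ∨ y * x * y⁻¹ = z * x := fun x y => by
    rcases hcases _ (hc y x) with h | h
    · exact Or.inl (mul_inv_eq_one.mp h)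
    · exact Or.inr (mul_inv_eq_iff_eq_mul.mp h)
  have hsq : ∀ x : R, x * x = 1 ∨ x * x = z := fun x => hcases _ (Subgroup.mem_center_iff.mpr fun y => by
    have h1 : y * (x * x) * y⁻¹ = x * x := by
      rw [show y * (x * x) * y⁻¹ = (y * x * y⁻¹) * (y * x * y⁻¹) by group]
      rcases hconj x y with h | h <;> rw [h]
      rw [show z * x * (z * x) = z * (x * z) * x by group, ← hzx, ← mul_assoc, hz2, one_mul]
    exact mul_inv_eq_iff_eq_mul.mp h1)
  -- commutator characters
  let χ : R → R → R := fun x y => y * x * y⁻¹ * x⁻¹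
  have hχc : ∀ x y, χ x y ∈ Subgroup.center R := fun x y => hc y x
  let χ' : R → (R →* Subgroup.center R) := fun x =>
    { toFun := fun y => ⟨χ x y, hχc x y⟩
      map_one' := Subtype.ext (by simp [χ])
      map_mul' := fun y y' => Subtype.ext (by
        show χ x (y * y') = χ x y * χ x y'
        have h1 := Subgroup.mem_center_iff.mp (hχc x y') y
        calc χ x (y * y') = y * χ x y' * (x * y⁻¹ * x⁻¹) := by simp only [χ]; group
          _ = χ x y' * (y * (x * y⁻¹ * x⁻¹)) := by rw [h1, mul_assoc]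
          _ = χ x y' * χ x y := by simp only [χ]; group
          _ = χ x y * χ x y' := (Subgroup.mem_center_iff.mp (hχc x y') _).symm) }
  have hbig : ∀ C : Subgroup R, ∀ S : Finset R, S.card < Nat.card C → ∃ y ∈ C, y ∉ S := by
    intro C S hlt
    by_contra hall
    push Not at hall
    have h1 : Nat.card C ≤ S.card := by
      rw [Nat.card_eq_fintype_card, ← Fintype.card_coe]
      exact Fintype.card_le_of_injective (fun y : C => (⟨(y : R), hall y y.2⟩ : S))
        fun a b h => Subtype.ext (by simpa using h)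
    omega
  have hker : ∀ (C : Subgroup R) (x : R), Nat.card C ≤ 2 * Nat.card ↥(C ⊓ (χ' x).ker) := by
    intro C x
    have h1 := Subgroup.card_mul_index ((χ' x).comp C.subtype).ker
    rw [Subgroup.index_ker] at h1
    have h2 : Nat.card ((χ' x).comp C.subtype).range ≤ 2 := hz ▸ Subgroup.card_le_card_group _
    have h3 : Nat.card ((χ' x).comp C.subtype).ker = Nat.card ↥(C ⊓ (χ' x).ker) := by
      refine Nat.card_congr
        { toFun := fun y => ⟨(y.1 : R), y.1.2, y.2⟩
          invFun := fun y => ⟨⟨y.1, y.2.1⟩, y.2.2⟩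
          left_inv := fun y => rfl
          right_inv := fun y => rfl }
    rw [← h1, h3, mul_comm]
    exact Nat.mul_le_mul_right _ h2
  have hcomm : ∀ x y, y ∈ (χ' x).ker → y * x = x * y := fun x y h => by
    have h1 : y * x * y⁻¹ * x⁻¹ = 1 := congrArg Subtype.val h
    rw [mul_inv_eq_one, mul_inv_eq_iff_eq_mul] at h1
    exact h1
  have htop : Nat.card (⊤ : Subgroup R) = 128 := by rw [Subgroup.card_top, hR]
  -- the first involution
  obtain ⟨s, hs, hsc⟩ : ∃ s : R, s * s = 1 ∧ s ∉ ({1, z} : Finset R) := by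
    obtain ⟨x, -, hx⟩ := hbig ⊤ {1, z} (by rw [htop]; exact lt_of_le_of_lt Finset.card_le_two (by norm_num))
    rcases hsq x with h | h
    · exact ⟨x, h, hx⟩
    have h64 := hker ⊤ x
    rw [htop] at h64
    obtain ⟨y, hy, hyS⟩ := hbig (⊤ ⊓ (χ' x).ker) {1, z, x, z * x}
      (lt_of_le_of_lt Finset.card_le_four (by omega))
    simp only [Finset.mem_insert, Finset.mem_singleton, not_or] at hyS
    rcases hsq y with h' | h'
    · exact ⟨y, h', by simp [hyS.1, hyS.2.1]⟩
    refine ⟨x * y, ?_, ?_⟩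
    · rw [show x * y * (x * y) = x * (y * x) * y by group, hcomm x y hy.2, ← mul_assoc, mul_assoc (x * x), h, h', hz2]
    · have hxi : x⁻¹ = z * x := inv_eq_of_mul_eq_one_right (by rw [hzx, ← mul_assoc, h, hz2])
      simp only [Finset.mem_insert, Finset.mem_singleton, not_or]
      refine ⟨fun h1 => hyS.2.2.2 ?_, fun h1 => hyS.2.2.1 ?_⟩
      · rw [← hxi, eq_inv_iff_mul_eq_one, hcomm x y hy.2, h1]
      · refine mul_left_cancel (a := x) ?_
        rw [h1, h]
  simp only [Finset.mem_insert, Finset.mem_singleton, not_or] at hsc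
  -- the second involution
  set C := (⊤ : Subgroup R) ⊓ (χ' s).ker
  have hC : 64 ≤ Nat.card C := by
    have := hker ⊤ s
    rw [htop] at this
    show 64 ≤ Nat.card ↥((⊤ : Subgroup R) ⊓ (χ' s).ker)
    omega
  obtain ⟨t, ht, hst, htc⟩ : ∃ t : R, t * t = 1 ∧ t * s = s * t ∧ t ∉ ({1, z, s, z * s} : Finset R) := by
    obtain ⟨y, hy, hyS⟩ := hbig C {1, z, s, z * s} (lt_of_le_of_lt Finset.card_le_four (by omega))
    rcases hsq y with h' | h'
    · exact ⟨y, h', hcomm s y hy.2, hyS⟩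
    have hC' := hker C y
    set A : Finset R := {1, z, s, z * s}
    obtain ⟨x, hx, hxS⟩ := hbig (C ⊓ (χ' y).ker) (A ∪ A.image (· * y)) (by
      refine lt_of_le_of_lt (Finset.card_union_le _ _) ?_
      have h4 : A.card ≤ 4 := Finset.card_le_four
      have := Finset.card_image_le (s := A) (f := (· * y))
      omega)
    simp only [Finset.mem_union, Finset.mem_image, not_or, not_exists, not_and] at hxS
    rcases hsq x with h | h
    · exact ⟨x, h, hcomm s x hx.1.2, hxS.1⟩
    have hxy : y * x = x * y := (hcomm y x hx.2).symm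
    refine ⟨x * y, ?_, ?_, ?_⟩
    · rw [show x * y * (x * y) = x * (y * x) * y by group, hxy, ← mul_assoc, mul_assoc (x * x), h, h', hz2]
    · rw [mul_assoc, hcomm s y hy.2, ← mul_assoc, hcomm s x hx.1.2, mul_assoc]
    · intro hmem
      have hA : z * (x * y) ∈ A := by
        simp only [A, Finset.mem_insert, Finset.mem_singleton] at hmem ⊢
        rcases hmem with h1 | h1 | h1 | h1 <;> rw [h1]
        · exact Or.inr (Or.inl (mul_one z))
        · exact Or.inl hz2
        · exact Or.inr (Or.inr (Or.inr rfl))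
        · exact Or.inr (Or.inr (Or.inl (by rw [← mul_assoc, hz2, one_mul])))
      refine hxS.2 (z * (x * y)) hA ?_
      rw [show z * (x * y) * y = z * x * (y * y) by group, h', mul_assoc, ← hzx x, ← mul_assoc, hz2, one_mul]
  simp only [Finset.mem_insert, Finset.mem_singleton, not_or] at htc
  -- separating elements
  have hcent : ∀ x : R, (∀ y, y * x * y⁻¹ = x) → x = 1 ∨ x = z := fun x h =>
    hcases x (Subgroup.mem_center_iff.mpr fun y => mul_inv_eq_iff_eq_mul.mp (h y))
  obtain ⟨as, has⟩ : ∃ a, a * s * a⁻¹ = z * s := by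
    by_contra hc'
    push Not at hc'
    rcases hcent s (fun y => (hconj s y).resolve_right (hc' y)) with h | h
    exacts [hsc.1 h, hsc.2 h]
  obtain ⟨bt, hbt⟩ : ∃ b, b * t * b⁻¹ = z * t := by
    by_contra hc'
    push Not at hc'
    rcases hcent t (fun y => (hconj t y).resolve_right (hc' y)) with h | h
    exacts [htc.1 h, htc.2.1 h]
  -- some element separates
  have hmul : ∀ {x c d : R}, c * x * c⁻¹ = z * x → d * x * d⁻¹ = z * x → c * d * x * (c * d)⁻¹ = x := by
    intro x c d h1 h2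
    calc c * d * x * (c * d)⁻¹ = c * (d * x * d⁻¹) * c⁻¹ := by group
      _ = c * z * x * c⁻¹ := by rw [h2, mul_assoc c z x]
      _ = z * (c * x * c⁻¹) := by rw [← hzx c]; group
      _ = x := by rw [h1, ← mul_assoc, hz2, one_mul]
  have hmul' : ∀ {x c d : R}, c * x * c⁻¹ = z * x → d * x * d⁻¹ = x → c * d * x * (c * d)⁻¹ = z * x := by
    intro x c d h1 h2
    calc c * d * x * (c * d)⁻¹ = c * (d * x * d⁻¹) * c⁻¹ := by group
      _ = z * x := by rw [h2, h1]
  have hmul'' : ∀ {x c d : R}, c * x * c⁻¹ = x → d * x * d⁻¹ = z * x → c * d * x * (c * d)⁻¹ = z * x := by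
    intro x c d h1 h2
    calc c * d * x * (c * d)⁻¹ = c * (d * x * d⁻¹) * c⁻¹ := by group
      _ = c * z * x * c⁻¹ := by rw [h2, mul_assoc c z x]
      _ = z * (c * x * c⁻¹) := by rw [← hzx c]; group
      _ = z * x := by rw [h1]
  obtain ⟨w, hw⟩ : ∃ w, (w * s * w⁻¹ = z * s ∧ w * t * w⁻¹ = t) ∨ (w * s * w⁻¹ = s ∧ w * t * w⁻¹ = z * t) := by
    by_contra hc'
    push Not at hc'
    have hall : ∀ y, y * (s * t) * y⁻¹ = s * t := fun y => by
      rw [show y * (s * t) * y⁻¹ = (y * s * y⁻¹) * (y * t * y⁻¹) by group]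
      rcases hconj s y with h1 | h1 <;> rcases hconj t y with h2 | h2
      · rw [h1, h2]
      · exact absurd h2 ((hc' y).2 h1)
      · exact absurd h2 ((hc' y).1 h1)
      · rw [h1, h2, show z * s * (z * t) = z * (s * z) * t by group, ← hzx s, ← mul_assoc z z s, hz2, one_mul]
    rcases hcent _ hall with h | h
    · exact htc.2.2.1 (mul_left_cancel (a := s) (by rw [h, hs]))
    · exact htc.2.2.2 (mul_left_cancel (a := s) (by rw [h, hzx s, ← mul_assoc, hs, one_mul]))
  rcases hw with ⟨hws, hwt⟩ | ⟨hws, hwt⟩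
  · rcases hconj s bt with h | h
    · exact ⟨z, s, t, w, bt, hzc, hz1, hs, ht, hst.symm, hws, hwt, h, hbt⟩
    · exact ⟨z, s, t, w, w * bt, hzc, hz1, hs, ht, hst.symm, hws, hwt, hmul hws h, hmul'' hwt hbt⟩
  · rcases hconj t as with h | h
    · exact ⟨z, s, t, as, w, hzc, hz1, hs, ht, hst.symm, has, h, hws, hwt⟩
    · exact ⟨z, s, t, as * w, w, hzc, hz1, hs, ht, hst.symm, hmul' has hws, hmul h hwt, hws, hwt⟩

variable {ι : Type} [Fintype ι] [DecidableEq ι] [Nonempty ι] {F : Type*} [Field F] [Fintype F]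
  {Q : QuadraticForm F (ι → F)}

/-- the symplectic-type case in dimension eight -/
theorem plus_of_sympType (hnd : NDPolar Q) (h2 : (2 : F) ≠ 0) (h8 : Fintype.card ι = 8) {R : Subgroup (GL ι F)}
    (hR : Fixes Q R) (hsp : Spans (matrixSet R)) (hz : Nat.card (Subgroup.center R) = 2)
    (hcard : Nat.card R = 128) (hc : ∀ x ∈ R, ∀ y ∈ R, x * y * x⁻¹ * y⁻¹ ∈ scalars ι F) :
    IsPlusTypeOn ⇑Q ⊤ := by
  classical
  have hcenter : ∀ x : R, (x : GL ι F) ∈ scalars ι F → x ∈ Subgroup.center R := fun x hx =>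
    Subgroup.mem_center_iff.mpr fun y => Subtype.ext (scalar_commute hx (y : GL ι F)).symm
  obtain ⟨z, s, t, a, b, hzc, hz1, hs, ht, hst, has, hat, hbs, hbt⟩ :=
    exists_pair_of_extraspecial (R := R) hz (fun x y => hcenter _ (hc x x.2 y y.2)) hcard
  have hzneg : ((z : GL ι F) : Matrix ι ι F) = -1 := by
    obtain ⟨c, hc'⟩ := hsp.scalar_of_commute (X := ((z : GL ι F) : Matrix ι ι F)) fun g hg =>
      congrArg (fun x : R => ((x : GL ι F) : Matrix ι ι F)) (Subgroup.mem_center_iff.mp hzc ⟨g, hg⟩).symm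
    have h1 := (evenData Q hnd).norm_of_scalar_mem_isom hc' (hR.isom z.2)
    rw [σ_eq, RingHom.id_apply] at h1
    rcases mul_self_eq_one_iff.mp h1 with h | h
    · exact absurd (Subtype.ext (Units.ext (by rw [hc', h, one_smul]; rfl))) hz1
    · rw [hc', h, neg_one_smul]
  set S : Matrix ι ι F := ((s : GL ι F) : Matrix ι ι F)
  set T : Matrix ι ι F := ((t : GL ι F) : Matrix ι ι F)
  have hval : ∀ {x y : R}, x = y → ((x : GL ι F) : Matrix ι ι F) = ((y : GL ι F) : Matrix ι ι F) :=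
    fun h => by rw [h]
  have hSS : ∀ v, S *ᵥ (S *ᵥ v) = v := fun v => by
    have := hval hs
    rw [Subgroup.coe_mul, Units.val_mul, Subgroup.coe_one, Units.val_one] at this
    rw [mulVec_mulVec, this, one_mulVec]
  have hTT : ∀ v, T *ᵥ (T *ᵥ v) = v := fun v => by
    have := hval ht
    rw [Subgroup.coe_mul, Units.val_mul, Subgroup.coe_one, Units.val_one] at this
    rw [mulVec_mulVec, this, one_mulVec]
  have hST : ∀ v, S *ᵥ (T *ᵥ v) = T *ᵥ (S *ᵥ v) := fun v => by
    have := hval hst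
    rw [Subgroup.coe_mul, Units.val_mul, Subgroup.coe_mul, Units.val_mul] at this
    rw [mulVec_mulVec, this, ← mulVec_mulVec]
  have hneg : ∀ (g y : R), g * y * g⁻¹ = z * y → ∀ v,
      ((y : GL ι F) : Matrix ι ι F) *ᵥ (((g : GL ι F) : Matrix ι ι F) *ᵥ v)
        = -(((g : GL ι F) : Matrix ι ι F) *ᵥ (((y : GL ι F) : Matrix ι ι F) *ᵥ v)) := fun g y h v => by
    have := hval (mul_inv_eq_iff_eq_mul.mp h)
    simp only [Subgroup.coe_mul, Units.val_mul, hzneg, Matrix.neg_mul, one_mul, mul_assoc] at this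
    rw [mulVec_mulVec, mulVec_mulVec, this, Matrix.neg_mulVec, neg_neg]
  have hpos : ∀ (g y : R), g * y * g⁻¹ = y → ∀ v,
      ((y : GL ι F) : Matrix ι ι F) *ᵥ (((g : GL ι F) : Matrix ι ι F) *ᵥ v)
        = ((g : GL ι F) : Matrix ι ι F) *ᵥ (((y : GL ι F) : Matrix ι ι F) *ᵥ v) := fun g y h v => by
    have := hval (mul_inv_eq_iff_eq_mul.mp h)
    simp only [Subgroup.coe_mul, Units.val_mul] at this
    rw [mulVec_mulVec, mulVec_mulVec, this]
  have habS : (a * b) * s * (a * b)⁻¹ = z * s := by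
    rw [show (a * b) * s * (a * b)⁻¹ = a * (b * s * b⁻¹) * a⁻¹ by group, hbs, has]
  have habT : (a * b) * t * (a * b)⁻¹ = z * t := by
    rw [show (a * b) * t * (a * b)⁻¹ = a * (b * t * b⁻¹) * a⁻¹ by group, hbt,
      show a * (z * t) * a⁻¹ = a * z * (t * a⁻¹) by group, (Subgroup.mem_center_iff.mp hzc a),
      show z * a * (t * a⁻¹) = z * (a * t * a⁻¹) by group, hat]
  let W : Submodule F (ι → F) :=
  { carrier := {v | S *ᵥ v = v ∧ T *ᵥ v = v}
    add_mem' := fun {u v} hu hv => ⟨by rw [mulVec_add, hu.1, hv.1], by rw [mulVec_add, hu.2, hv.2]⟩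
    zero_mem' := ⟨mulVec_zero _, mulVec_zero _⟩
    smul_mem' := fun c v hv => ⟨by rw [mulVec_smul, hv.1], by rw [mulVec_smul, hv.2]⟩ }
  let g : Fin 4 → R := ![1, a, b, a * b]
  let es : Fin 4 → F := ![1, -1, 1, -1]
  let et : Fin 4 → F := ![1, 1, -1, -1]
  have hgS : ∀ i, ∀ v ∈ W, S *ᵥ (((g i : GL ι F) : Matrix ι ι F) *ᵥ v) = es i • (((g i : GL ι F) : Matrix ι ι F) *ᵥ v) := by
    intro i v hv
    fin_cases i
    · show S *ᵥ (((1 : GL ι F) : Matrix ι ι F) *ᵥ v) = (1 : F) • _
      rw [Units.val_one, one_mulVec, hv.1, one_smul]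
      show v = ((1 : GL ι F) : Matrix ι ι F) *ᵥ v
      rw [Units.val_one, one_mulVec]
    · show S *ᵥ (((a : GL ι F) : Matrix ι ι F) *ᵥ v) = (-1 : F) • (((a : GL ι F) : Matrix ι ι F) *ᵥ v)
      rw [hneg a s has v, hv.1, neg_one_smul]
    · show S *ᵥ (((b : GL ι F) : Matrix ι ι F) *ᵥ v) = (1 : F) • (((b : GL ι F) : Matrix ι ι F) *ᵥ v)
      rw [hpos b s hbs v, hv.1, one_smul]
    · show S *ᵥ ((((a * b : R) : GL ι F) : Matrix ι ι F) *ᵥ v) = (-1 : F) • ((((a * b : R) : GL ι F) : Matrix ι ι F) *ᵥ v)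
      rw [hneg _ s habS v, hv.1, neg_one_smul]
  have hgT : ∀ i, ∀ v ∈ W, T *ᵥ (((g i : GL ι F) : Matrix ι ι F) *ᵥ v) = et i • (((g i : GL ι F) : Matrix ι ι F) *ᵥ v) := by
    intro i v hv
    fin_cases i
    · show T *ᵥ (((1 : GL ι F) : Matrix ι ι F) *ᵥ v) = (1 : F) • _
      rw [Units.val_one, one_mulVec, hv.2, one_smul]
      show v = ((1 : GL ι F) : Matrix ι ι F) *ᵥ v
      rw [Units.val_one, one_mulVec]
    · show T *ᵥ (((a : GL ι F) : Matrix ι ι F) *ᵥ v) = (1 : F) • (((a : GL ι F) : Matrix ι ι F) *ᵥ v)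
      rw [hpos a t hat v, hv.2, one_smul]
    · show T *ᵥ (((b : GL ι F) : Matrix ι ι F) *ᵥ v) = (-1 : F) • (((b : GL ι F) : Matrix ι ι F) *ᵥ v)
      rw [hneg b t hbt v, hv.2, neg_one_smul]
    · show T *ᵥ ((((a * b : R) : GL ι F) : Matrix ι ι F) *ᵥ v) = (-1 : F) • ((((a * b : R) : GL ι F) : Matrix ι ι F) *ᵥ v)
      rw [hneg _ t habT v, hv.2, neg_one_smul]
  let L : Fin 4 → W →ₗ[F] (ι → F) := fun i => (Matrix.toLin' ((g i : GL ι F) : Matrix ι ι F)).comp W.subtype
  have hL : ∀ i v, L i v = ((g i : GL ι F) : Matrix ι ι F) *ᵥ (v : ι → F) := fun i v => Matrix.toLin'_apply _ _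
  have hfix : ∀ (x : R) (u v : ι → F),
      polar Q (((x : GL ι F) : Matrix ι ι F) *ᵥ u) (((x : GL ι F) : Matrix ι ι F) *ᵥ v) = polar Q u v := fun x u v => by
    simp only [polar, ← mulVec_add, hR _ x.2]
  -- every vector is a sum of four eigenvectors
  let M : (Fin 4 → W) →ₗ[F] (ι → F) := ∑ i, (L i).comp (LinearMap.proj i)
  have hdec : ∀ v, ∃ p : Fin 4 → (ι → F), (∀ i, S *ᵥ p i = es i • p i ∧ T *ᵥ p i = et i • p i) ∧ ∑ i, p i = v := by
    intro v
    have h4 : (4 : F) ≠ 0 := by rw [show (4 : F) = 2 * 2 by norm_num]; exact mul_ne_zero h2 h2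
    refine ⟨fun i => (4 : F)⁻¹ • (v + es i • (S *ᵥ v) + et i • (T *ᵥ v) + (es i * et i) • (S *ᵥ (T *ᵥ v))), fun i => ?_, ?_⟩
    · have he : es i * es i = 1 ∧ et i * et i = 1 := by fin_cases i <;> simp [es, et]
      constructor
      · simp only [mulVec_smul, mulVec_add, hSS, smul_comm (es i) ((4 : F)⁻¹)]
        congr 1
        simp only [smul_add, smul_smul, ← mul_assoc, he.1, one_mul, one_smul]
        abel
      · simp only [mulVec_smul, mulVec_add, hTT, hST, smul_comm (et i) ((4 : F)⁻¹)]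
        congr 1
        simp only [smul_add, smul_smul]
        rw [show et i * (es i * et i) = es i by linear_combination es i * he.2, he.2, one_smul, mul_comm (et i) (es i)]
        abel
    · rw [← Finset.smul_sum, Fin.sum_univ_four, show es 0 = 1 from rfl, show es 1 = -1 from rfl,
        show es 2 = 1 from rfl, show es 3 = -1 from rfl, show et 0 = 1 from rfl, show et 1 = 1 from rfl,
        show et 2 = -1 from rfl, show et 3 = -1 from rfl]
      simp only [one_mul, mul_one, neg_one_smul, one_smul, neg_mul, neg_neg]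
      rw [show v + S *ᵥ v + T *ᵥ v + S *ᵥ (T *ᵥ v) + (v + -(S *ᵥ v) + T *ᵥ v + -(S *ᵥ (T *ᵥ v)))
          + (v + S *ᵥ v + -(T *ᵥ v) + -(S *ᵥ (T *ᵥ v))) + (v + -(S *ᵥ v) + -(T *ᵥ v) + S *ᵥ (T *ᵥ v)) = (4 : F) • v by module,
        smul_smul, inv_mul_cancel₀ h4, one_smul]
  have hpre : ∀ (i : Fin 4) (u : ι → F), S *ᵥ u = es i • u → T *ᵥ u = et i • u →
      (((g i : GL ι F)⁻¹ : GL ι F) : Matrix ι ι F) *ᵥ u ∈ W := by
    intro i u hu hu'
    set G' : Matrix ι ι F := ((g i : GL ι F) : Matrix ι ι F) with hG'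
    set w := (((g i : GL ι F)⁻¹ : GL ι F) : Matrix ι ι F) *ᵥ u with hw
    have hgw : G' *ᵥ w = u := by rw [hw, hG', mulVec_mulVec, Units.mul_inv, one_mulVec]
    have he : es i * es i = 1 ∧ et i * et i = 1 := by fin_cases i <;> simp [es, et]
    have hsw : ∀ v, S *ᵥ (G' *ᵥ v) = es i • (G' *ᵥ (S *ᵥ v)) := by
      intro v
      rw [hG']
      fin_cases i
      · show S *ᵥ (((1 : GL ι F) : Matrix ι ι F) *ᵥ v) = (1 : F) • (((1 : GL ι F) : Matrix ι ι F) *ᵥ (S *ᵥ v))
        rw [Units.val_one, one_mulVec, one_mulVec, one_smul]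
      · exact (hneg a s has v).trans (neg_one_smul F _).symm
      · exact (hpos b s hbs v).trans (one_smul F _).symm
      · exact (hneg _ s habS v).trans (neg_one_smul F _).symm
    have htw : ∀ v, T *ᵥ (G' *ᵥ v) = et i • (G' *ᵥ (T *ᵥ v)) := by
      intro v
      rw [hG']
      fin_cases i
      · show T *ᵥ (((1 : GL ι F) : Matrix ι ι F) *ᵥ v) = (1 : F) • (((1 : GL ι F) : Matrix ι ι F) *ᵥ (T *ᵥ v))
        rw [Units.val_one, one_mulVec, one_mulVec, one_smul]
      · exact (hpos a t hat v).trans (one_smul F _).symm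
      · exact (hneg b t hbt v).trans (neg_one_smul F _).symm
      · exact (hneg _ t habT v).trans (neg_one_smul F _).symm
    constructor
    · apply ClassicalMax.gl_mulVec_injective (g i : GL ι F)
      show G' *ᵥ (S *ᵥ w) = G' *ᵥ w
      have h1 := hsw w
      rw [hgw, hu] at h1
      rw [hgw, ← one_smul F (G' *ᵥ (S *ᵥ w)), ← he.1, ← smul_smul, ← h1, smul_smul, he.1, one_smul]
    · apply ClassicalMax.gl_mulVec_injective (g i : GL ι F)
      show G' *ᵥ (T *ᵥ w) = G' *ᵥ w
      have h1 := htw w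
      rw [hgw, hu'] at h1
      rw [hgw, ← one_smul F (G' *ᵥ (T *ᵥ w)), ← he.2, ← smul_smul, ← h1, smul_smul, he.2, one_smul]
  have hsurj : Function.Surjective M := by
    intro v
    obtain ⟨p, hp, hsum⟩ := hdec v
    refine ⟨fun i => ⟨_, hpre i (p i) (hp i).1 (hp i).2⟩, ?_⟩
    rw [← hsum]
    simp only [M, LinearMap.sum_apply, LinearMap.comp_apply, LinearMap.proj_apply, hL]
    exact Finset.sum_congr rfl fun i _ => by rw [mulVec_mulVec, Units.mul_inv, one_mulVec]
  have hperp : ∀ i j, i ≠ j → ∀ x y, polar Q (L i x) (L j y) = 0 := by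
    intro i j hij x y
    rw [hL, hL]
    set u := ((g i : GL ι F) : Matrix ι ι F) *ᵥ (x : ι → F)
    set v := ((g j : GL ι F) : Matrix ι ι F) *ᵥ (y : ι → F)
    have e1 := hfix s u v
    have e2 := hfix t u v
    rw [hgS i _ x.2, hgS j _ y.2, polar_smul_left, polar_smul_right, smul_eq_mul, smul_eq_mul] at e1
    rw [hgT i _ x.2, hgT j _ y.2, polar_smul_left, polar_smul_right, smul_eq_mul, smul_eq_mul] at e2
    have hne : es i * es j = -1 ∨ et i * et j = -1 := by
      fin_cases i <;> fin_cases j <;> simp [es, et] at hij ⊢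
    refine (mul_eq_zero.mp (show (2 : F) * polar Q u v = 0 from ?_)).resolve_left h2
    rcases hne with h | h
    · linear_combination (polar Q u v) * h - e1
    · linear_combination (polar Q u v) * h - e2
  have hQ : ∀ i x, Q (L i x) = Q (x : ι → F) := fun i x => by rw [hL]; exact hR _ (g i).2 _
  have hL0 : ∀ x : W, L 0 x = (x : ι → F) := fun x => by
    rw [hL]
    show ((1 : GL ι F) : Matrix ι ι F) *ᵥ (x : ι → F) = _
    rw [Units.val_one, one_mulVec]
  have hW : IsNondegenerateOn (polar ⇑Q) W := by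
    intro u hu hu0
    obtain ⟨v, hv⟩ : ∃ v, polar Q u v ≠ 0 := by
      by_contra hc'
      push Not at hc'
      exact hu0 (hnd u hc')
    obtain ⟨p, hp⟩ := hsurj v
    have hsum : polar Q u v = polar Q u (p 0 : ι → F) := by
      rw [← hp]
      simp only [M, LinearMap.sum_apply, LinearMap.comp_apply, LinearMap.proj_apply]
      rw [← polarBilin_apply_apply, map_sum, Finset.sum_eq_single (0 : Fin 4)]
      · rw [hL0, polarBilin_apply_apply]
      · intro i _ hi
        rw [polarBilin_apply_apply, show u = L 0 ⟨u, hu⟩ from (hL0 ⟨u, hu⟩).symm]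
        exact hperp 0 i (Ne.symm hi) _ _
      · simp
    rw [hsum] at hv
    exact ⟨⟨_, (p 0).2, by rw [QuadraticMap.polar_comm]; exact hv⟩, ⟨_, (p 0).2, hv⟩⟩
  obtain ⟨α, β, hαβ⟩ := exists_sq_sum_neg_one (F := F)
  obtain ⟨U, -, hU, hUd⟩ := half_of_four hW L hQ hperp (S := ⊤) (fun _ _ => Submodule.mem_top) hαβ
  refine plus_top hU ?_
  have h8' : 8 ≤ 4 * finrank F W := by
    have h1 := LinearMap.finrank_le_finrank_of_injective (f := M.dualMap) (LinearMap.dualMap_injective_of_surjective hsurj)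
    rw [Subspace.dual_finrank_eq, Subspace.dual_finrank_eq, finrank_fintype_fun_eq_card, h8,
      Module.finrank_pi_fintype] at h1
    simp at h1
    omega
  have h4 := ClassicalMax.OmS.two_mul_finrank_le hnd hU
  omega

end CfsgLib.Asch.Even
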