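import Cfsg.Agent.Lib.Aschbacher.FormBasic
import Cfsg.Agent.Lib.Forms.Classify

/-!
# Congruence of hermitian forms, and of symmetric forms in odd dimension up to scalars
-/

set_option autoImplicit false

namespace CfsgLib.Asch

open Matrix Cfsg.Geo
open scoped MatrixGroups

variable {F : Type*} [Field F] [Fintype F] {w : ℕ}

namespace FData

variable (D : FData (Fin w) F)

omit [Fintype F] in
lemma gram_of_family (b : Fin w → (Fin w → F)) (hb : Submodule.span F (Set.range b) = ⊤) :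
    ∃ R : GL (Fin w) F, ∀ i j,
      ((R : Matrix (Fin w) (Fin w) F)ᵀ * (D.B : Matrix (Fin w) (Fin w) F) * (R : Matrix (Fin w) (Fin w) F).map D.σ) i j
        = D.form (b i) (b j) := by
  have hli : LinearIndependent F b := linearIndependent_of_top_le_span_of_card_eq_finrank hb.ge (by simp)
  let R : Matrix (Fin w) (Fin w) F := Matrix.of fun i j => b j i
  have hR : IsUnit R := Matrix.linearIndependent_cols_iff_isUnit.mp hli
  refine ⟨hR.unit, fun i j => ?_⟩
  rw [IsUnit.unit_spec, ← sform_single D.σ (Rᵀ * (D.B : Matrix (Fin w) (Fin w) F) * R.map D.σ) i j, ← sform_mulVec]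
  have : ∀ k, R *ᵥ Pi.single k 1 = b k := fun k => by
    ext m; simp [R]
  rw [this, this]
  rfl

/-- hermitian forms are congruent to the identity -/
theorem exists_congr_one (hσ : D.σ ≠ RingHom.id F) (hε : D.ε = 1) :
    ∃ R : GL (Fin w) F,
      (R : Matrix (Fin w) (Fin w) F)ᵀ * (D.B : Matrix (Fin w) (Fin w) F) * (R : Matrix (Fin w) (Fin w) F).map D.σ = 1 := by
  classical
  let S : (Fin w → F) →ₛₗ[D.σ] (Fin w → F) →ₗ[F] F :=
    LinearMap.mk₂'ₛₗ D.σ (RingHom.id F) (fun x y => D.form y x)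
      (fun a b y => D.form_add_right y a b) (fun c x y => D.form_smul_right c y x)
      (fun x a b => D.form_add_left a b x) (fun c x y => D.form_smul_left c y x)
  have hS : S.IsSymm := ⟨fun x y => by
    show D.σ (D.form y x) = D.form x y
    rw [D.flip x y, hε, one_mul]⟩
  obtain ⟨b, hb, hbb⟩ := CfsgLib.Forms.exists_orthonormal_family S hσ D.σσ hS w ⊤ (by simp) (fun x _ hx => by
    by_contra hx0
    obtain ⟨⟨y, hy⟩, -⟩ := D.nondeg x hx0
    exact hy (hx y trivial))
  obtain ⟨R, hR⟩ := D.gram_of_family b hb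
  refine ⟨R, Matrix.ext fun i j => ?_⟩
  rw [hR, show D.form (b i) (b j) = S (b j) (b i) from rfl, hbb, Matrix.one_apply]
  exact if_congr eq_comm rfl rfl

/-- symmetric forms are congruent to one of two diagonal forms -/
theorem exists_congr_diag_last (hσ : D.σ = RingHom.id F) (hs : (D.B : Matrix (Fin w) (Fin w) F)ᵀ = (D.B : Matrix (Fin w) (Fin w) F))
    (h2 : (2 : F) ≠ 0) (hw : 0 < w) {α : F} (hα : ¬ IsSquare α) :
    ∃ (R : GL (Fin w) F) (δ : F), (δ = 1 ∨ δ = α) ∧
      (R : Matrix (Fin w) (Fin w) F)ᵀ * (D.B : Matrix (Fin w) (Fin w) F) * (R : Matrix (Fin w) (Fin w) F)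
        = diagonal (fun i : Fin w => if (i : ℕ) + 1 = w then δ else 1) := by
  classical
  obtain ⟨d, rfl⟩ : ∃ d, w = d + 1 := ⟨w - 1, by omega⟩
  have hform : ∀ x y, D.form x y = sform (RingHom.id F) (D.B : Matrix (Fin (d+1)) (Fin (d+1)) F) x y := fun x y => by
    rw [form, hσ]
  let S : LinearMap.BilinForm F (Fin (d+1) → F) := LinearMap.mk₂ F D.form
    (fun a b y => D.form_add_left a b y) (fun c x y => D.form_smul_left c x y)
    (fun x a b => D.form_add_right x a b)
    (fun c x y => by rw [D.form_smul_right, hσ]; rfl)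
  have hS : S.IsSymm := ⟨fun x y => by
    show D.form x y = D.form y x
    have h := sform_flip (D.B : Matrix (Fin (d+1)) (Fin (d+1)) F) x y
    rw [hs] at h
    rwa [hform, hform]⟩
  obtain ⟨b, hb, horth, h1, hlast⟩ := CfsgLib.Forms.exists_orthogonal_family h2 S hS α hα d ⊤ (by simp) (fun x _ hx => by
    by_contra hx0
    obtain ⟨-, y, hy⟩ := D.nondeg x hx0
    exact hy (hx y trivial))
  obtain ⟨R, hR⟩ := D.gram_of_family b hb
  refine ⟨R, D.form (b (Fin.last d)) (b (Fin.last d)), hlast, Matrix.ext fun i j => ?_⟩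
  have h := hR i j
  rw [show (R : Matrix (Fin (d+1)) (Fin (d+1)) F).map D.σ = R by rw [hσ]; ext; simp] at h
  rw [h]
  rcases eq_or_ne i j with rfl | hij
  · rw [diagonal_apply_eq]
    by_cases hi : i = Fin.last d
    · subst hi; simp
    · rw [if_neg (fun h0 => hi (Fin.ext (by simpa using h0)))]
      exact h1 i hi
  · rw [diagonal_apply_ne _ hij]
    exact horth i j hij

/-- symmetric forms of odd dimension are congruent up to a scalar -/
theorem exists_congr_scalar_odd (hσ : D.σ = RingHom.id F) (h2 : (2 : F) ≠ 0) (hw : Odd w)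
    (hs : (D.B : Matrix (Fin w) (Fin w) F)ᵀ = (D.B : Matrix (Fin w) (Fin w) F))
    {G₁ : GL (Fin w) F} (hs₁ : (G₁ : Matrix (Fin w) (Fin w) F)ᵀ = (G₁ : Matrix (Fin w) (Fin w) F)) :
    ∃ (R : GL (Fin w) F) (c : F), c ≠ 0 ∧
      (R : Matrix (Fin w) (Fin w) F)ᵀ * (D.B : Matrix (Fin w) (Fin w) F) * (R : Matrix (Fin w) (Fin w) F)
        = c • (G₁ : Matrix (Fin w) (Fin w) F) := by
  obtain ⟨α, hα⟩ : ∃ α : F, ¬ IsSquare α := FiniteField.exists_nonsquare (fun h => h2 (by
    haveI : CharP F 2 := ringChar.of_eq h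
    exact CharTwo.two_eq_zero))
  have hα0 : α ≠ 0 := fun h => hα (h ▸ IsSquare.zero)
  let D₁ : FData (Fin w) F := ⟨D.σ, D.σσ, G₁, 1, by rw [hσ, one_smul]; ext i j; simpa using congrFun (congrFun hs₁ i) j⟩
  obtain ⟨S, δ₁, hδ₁, hS⟩ := D₁.exists_congr_diag_last hσ hs₁ h2 hw.pos hα
  let Bα : GL (Fin w) F := Units.map (Matrix.scalar (Fin w) : F →+* Matrix (Fin w) (Fin w) F).toMonoidHom (Units.mk0 α hα0) * D.B
  have hBα : (Bα : Matrix (Fin w) (Fin w) F) = α • (D.B : Matrix (Fin w) (Fin w) F) := by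
    simp [Bα, Matrix.smul_eq_diagonal_mul]
  have hsα : (Bα : Matrix (Fin w) (Fin w) F)ᵀ = (Bα : Matrix (Fin w) (Fin w) F) := by
    rw [hBα, transpose_smul, hs]
  let Dα : FData (Fin w) F := ⟨D.σ, D.σσ, Bα, 1, by rw [hσ, one_smul]; ext i j; simpa using congrFun (congrFun hsα i) j⟩
  obtain ⟨R, δ, hδ, hR⟩ := D.exists_congr_diag_last hσ hs h2 hw.pos hα
  obtain ⟨R', δ', hδ', hR'⟩ := Dα.exists_congr_diag_last hσ hsα h2 hw.pos hα
  rw [show (Dα.B : Matrix (Fin w) (Fin w) F) = α • (D.B : Matrix (Fin w) (Fin w) F) from hBα, Matrix.mul_smul,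
    Matrix.smul_mul] at hR'
  have hne : δ ≠ δ' := by
    intro h0
    rw [← h0, ← hR] at hR'
    have hdet := congrArg Matrix.det hR'
    simp only [Matrix.det_smul, Matrix.det_mul, Matrix.det_transpose, Fintype.card_fin] at hdet
    refine hα ?_
    obtain ⟨k, hk⟩ := hw
    have hd : ∀ X : GL (Fin w) F, (X : Matrix (Fin w) (Fin w) F).det ≠ 0 := fun X =>
      ((Matrix.isUnit_iff_isUnit_det _).mp X.isUnit).ne_zero
    refine ⟨(R : Matrix (Fin w) (Fin w) F).det / ((R' : Matrix (Fin w) (Fin w) F).det * α ^ k), ?_⟩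
    rw [show α ^ w = α ^ k * α ^ k * α by rw [hk]; ring] at hdet
    have hR0 := hd R'
    have hB0 := hd D.B
    have hak := pow_ne_zero k hα0
    field_simp
    refine mul_left_cancel₀ hB0 ?_
    linear_combination hdet
  have hfin : ∀ (T : GL (Fin w) F) (c : F), c ≠ 0 →
      (T : Matrix (Fin w) (Fin w) F)ᵀ * (D.B : Matrix (Fin w) (Fin w) F) * (T : Matrix (Fin w) (Fin w) F)
        = c • ((S : Matrix (Fin w) (Fin w) F)ᵀ * (G₁ : Matrix (Fin w) (Fin w) F) * (S : Matrix (Fin w) (Fin w) F)) →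
      ∃ (R : GL (Fin w) F) (c : F), c ≠ 0 ∧
        (R : Matrix (Fin w) (Fin w) F)ᵀ * (D.B : Matrix (Fin w) (Fin w) F) * (R : Matrix (Fin w) (Fin w) F)
          = c • (G₁ : Matrix (Fin w) (Fin w) F) := by
    intro T c hc hT
    refine ⟨T * S⁻¹, c, hc, ?_⟩
    set Si := ((S⁻¹ : GL (Fin w) F) : Matrix (Fin w) (Fin w) F)
    have hSS : (S : Matrix (Fin w) (Fin w) F) * Si = 1 := S.mul_inv
    calc _ = Siᵀ * ((T : Matrix (Fin w) (Fin w) F)ᵀ * (D.B : Matrix (Fin w) (Fin w) F) * (T : Matrix (Fin w) (Fin w) F)) * Si := by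
          simp only [Units.val_mul, transpose_mul, mul_assoc]; rfl
      _ = c • (((S : Matrix (Fin w) (Fin w) F) * Si)ᵀ * (G₁ : Matrix (Fin w) (Fin w) F) * ((S : Matrix (Fin w) (Fin w) F) * Si)) := by
          rw [hT]; simp only [Matrix.mul_smul, Matrix.smul_mul, transpose_mul, mul_assoc]
      _ = _ := by rw [hSS, transpose_one, one_mul, mul_one]
  have hS' : diagonal (fun i : Fin w => if (i : ℕ) + 1 = w then δ₁ else 1)
      = (S : Matrix (Fin w) (Fin w) F)ᵀ * (G₁ : Matrix (Fin w) (Fin w) F) * (S : Matrix (Fin w) (Fin w) F) := hS.symm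
  by_cases h : δ₁ = δ
  · subst h
    exact hfin R 1 one_ne_zero (by rw [one_smul, hR, hS'])
  · have h' : δ₁ = δ' := by
      rcases hδ₁ with rfl | rfl <;> rcases hδ with rfl | rfl <;> rcases hδ' with rfl | rfl <;>
        first | rfl | exact absurd rfl h | exact absurd rfl hne
    subst h'
    refine hfin R' α⁻¹ (inv_ne_zero hα0) ?_
    rw [← hS', ← hR', smul_smul, inv_mul_cancel₀ hα0, one_smul]

end FData

end CfsgLib.Asch
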