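import Cfsg.Agent.Lib.Aschbacher.FormSmallHeis
import Cfsg.Agent.Lib.Aschbacher.SymplecticType

/-!
# Perfect groups and tensor squares in dimension nine over the fields with three and four elements
-/

set_option autoImplicit false

namespace CfsgLib.Asch

open Matrix Cfsg.Geo Tiny
open scoped MatrixGroups Kronecker

local instance tinyRingFinThree' : CommRing (Fin 3) := Fin.instCommRing 3

variable {F : Type*} [Field F] [Fintype F]

namespace Tiny

omit [Fintype F] in
lemma perfect_map {G H : Type*} [Group G] [Group H] (f : G →* H) {A : Subgroup G} (hA : ⁅A, A⁆ = A) :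
    ⁅A.map f, A.map f⁆ = A.map f := by rw [← Subgroup.map_commutator, hA]

omit [Fintype F] in
lemma orth_conj_of_isom (D : FData (Fin 3) F) {P : GL (Fin 3) F} {c : F} (hc : c ≠ 0)
    (hP : (P : Matrix (Fin 3) (Fin 3) F)ᵀ * (D.B : Matrix (Fin 3) (Fin 3) F) * (P : Matrix (Fin 3) (Fin 3) F).map D.σ
      = c • 1) {g : GL (Fin 3) F} (hg : g ∈ D.isom) :
    Orth D.σ ((P⁻¹ * g * P : GL (Fin 3) F) : Matrix (Fin 3) (Fin 3) F) := by
  have := orth_of_congr D.σ (μ := 1) hc hP (by rw [one_smul]; exact (FData.mem_isom _).mp hg)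
  rwa [one_smul] at this

variable {ι : Type} [Fintype ι] [DecidableEq ι]

omit [Fintype F] in
/-- orthonormal coordinates for both factors -/
lemma ortho_coords (D : FData ι F) (e : ι ≃ Fin 3 × Fin 3) (P : GL ι F) {G₁ G₂ : Matrix (Fin 3) (Fin 3) F}
    (h₁ : IsUnit G₁) (h₂ : IsUnit G₂) (s₁ : (G₁.map D.σ)ᵀ = G₁) (s₂ : (G₂.map D.σ)ᵀ = G₂)
    (hB : ((D.trans e P).B : Matrix (Fin 3 × Fin 3) (Fin 3 × Fin 3) F) = G₁ ⊗ₖ G₂)
    (hcs : ∀ D₀ : FData (Fin 3) F, D₀.σ = D.σ → ∃ (R : GL (Fin 3) F) (c : F), c ≠ 0 ∧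
      (R : Matrix (Fin 3) (Fin 3) F)ᵀ * (D₀.B : Matrix (Fin 3) (Fin 3) F) * (R : Matrix (Fin 3) (Fin 3) F).map D₀.σ
        = c • 1) :
    ∃ (Q : GL ι F) (c : F), c ≠ 0 ∧
      ((D.trans e Q).B : Matrix (Fin 3 × Fin 3) (Fin 3 × Fin 3) F) = c • 1 ∧
      ∀ a b : GL (Fin 3) F, ∃ a' b' : GL (Fin 3) F,
        tens e P (a : Matrix _ _ F) (b : Matrix _ _ F) = tens e Q (a' : Matrix _ _ F) (b' : Matrix _ _ F) := by
  obtain ⟨p, c₁, hc₁, hp⟩ := hcs ⟨D.σ, D.σσ, h₁.unit, 1, by rw [IsUnit.unit_spec, one_smul]; exact s₁⟩ rfl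
  obtain ⟨q, c₂, hc₂, hq⟩ := hcs ⟨D.σ, D.σσ, h₂.unit, 1, by rw [IsUnit.unit_spec, one_smul]; exact s₂⟩ rfl
  simp only [IsUnit.unit_spec] at hp hq
  refine ⟨moveCoord e P p q, c₁ * c₂, mul_ne_zero hc₁ hc₂, ?_, fun a b => ⟨p⁻¹ * a * p, q⁻¹ * b * q, ?_⟩⟩
  · rw [trans_moveCoord e P p q D hB, hp, hq, smul_kronecker, kronecker_smul, one_kronecker_one, smul_smul]
  · rw [tens_moveCoord, cj_coe, cj_coe]
    congr 2 <;> group

omit [Fintype F] in
lemma form_col (D : FData ι F) {e : ι ≃ Fin 3 × Fin 3} {Q : GL ι F} {c : F}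
    (hQ : ((D.trans e Q).B : Matrix (Fin 3 × Fin 3) (Fin 3 × Fin 3) F) = c • 1) (i j : Fin 3 × Fin 3) :
    D.form ((Q : Matrix ι ι F) *ᵥ Pi.single (e.symm i) 1) ((Q : Matrix ι ι F) *ᵥ Pi.single (e.symm j) 1)
      = if i = j then c else 0 := by
  have hs : ∀ i : Fin 3 × Fin 3, (Pi.single (e.symm i) (1 : F) : ι → F) = Pi.single i 1 ∘ e := fun i => by
    funext k
    simp [Pi.single_apply, Equiv.eq_symm_apply]
  rw [hs, hs, D.trans_form, FData.form, sform_single, hQ]
  simp [Matrix.one_apply]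

end Tiny

/-- perfect subgroups of `GL₂(3)` are trivial -/
theorem perfect_eq_bot_GL2_three (hF : Fintype.card F = 3) {A : Subgroup (GL (Fin 2) F)} (hA : ⁅A, A⁆ = A) :
    A = ⊥ := by
  classical
  haveI : Group.IsSolvable (GL (Fin 2) F) :=
    CfsgLib.Char.isSolvable_of_card_eq_prime_pow_mul Nat.prime_two Nat.prime_three (a := 4) (b := 1)
      (by rw [Matrix.card_GL_field, Fin.prod_univ_two, hF]; rfl)
  exact (Subgroup.eq_bot_iff_forall _).mpr fun a ha => perfect_hom_eq_one hA A.subtype ⟨a, ha⟩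

/-- perfect groups of isometries of a ternary form over three elements are trivial -/
theorem perfect_eq_bot_O3_three (hF : Fintype.card F = 3) (D : FData (Fin 3) F) (hσ : D.σ = RingHom.id F)
    {A : Subgroup (GL (Fin 3) F)} (hA : A ≤ D.isom) (hperf : ⁅A, A⁆ = A) : A = ⊥ := by
  obtain ⟨P, c, hc, hP⟩ := exists_congr_scalar_three hF D hσ
  have h := perfect_eq_bot_of_mono (perfect_map (MulAut.conj P⁻¹).toMonoidHom hperf) (by
    rintro _ ⟨g, hg, rfl⟩
    have := orth_conj_of_isom D hc hP (hA hg)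
    rw [hσ] at this
    simpa using orth_mono hF this)
  exact (Subgroup.map_eq_bot_iff_of_injective _ (MulAut.conj P⁻¹).injective).mp h

/-- perfect groups of isometries of a hermitian form in three variables over four elements are trivial -/
theorem perfect_eq_bot_U3_two (hF : Fintype.card F = 4) (D : FData (Fin 3) F) (hσ : D.σ ≠ RingHom.id F)
    {A : Subgroup (GL (Fin 3) F)} (hA : A ≤ D.isom) (hperf : ⁅A, A⁆ = A) : A = ⊥ := by
  have hF' : Fintype.card F = 2 ^ 2 := card_eq_two_sq hF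
  haveI : Group.IsSolvable (Cfsg.GU 3 F 2) := by
    refine CfsgLib.Char.isSolvable_of_card_eq_prime_pow_mul Nat.prime_two Nat.prime_three (a := 3) (b := 4) ?_
    rw [Nat.card_congr (CfsgLib.Classical.Herm.guEquiv hF' 3).toEquiv, CfsgLib.Classical.Herm.card_unit]
    simp [Finset.prod_range_succ, Nat.even_iff]
  obtain ⟨P, c, hc, hP⟩ := exists_congr_scalar_four hF D hσ
  have h := perfect_eq_bot_of_le_solvable (K := Cfsg.GU 3 F 2)
      (perfect_map (MulAut.conj P⁻¹).toMonoidHom hperf) (by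
    rintro _ ⟨g, hg, rfl⟩
    have := orth_conj_of_isom D hc hP (hA hg)
    intro u v
    have hform : ∀ x y, Cfsg.hermForm 3 F 2 x y = sform D.σ 1 x y := fun x y => by
      simp [Cfsg.hermForm, sform, dotProduct, σ_eq_sq hF D.σσ hσ, sq]
    rw [hform, hform, sform_mulVec]
    simp only [MulEquiv.coe_toMonoidHom, MulAut.conj_apply, inv_inv, Units.coeHom_apply, mul_one]
    exact congrArg (fun M => sform D.σ M u v) this)
  exact (Subgroup.map_eq_bot_iff_of_injective _ (MulAut.conj P⁻¹).injective).mp h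

variable {ι : Type} [Fintype ι] [DecidableEq ι]

/-- groups preserving a tensor square of orthogonal spaces over three elements permute nine orthogonal lines -/
theorem nondegDecomp_of_tensorSquare_three (hF : Fintype.card F = 3) (D : FData ι F) (hσ : D.σ = RingHom.id F)
    {G : Subgroup (GL ι F)} (hG : G ≤ D.isom) (e : ι ≃ Fin 3 × Fin 3) (P : GL ι F)
    {G₁ G₂ : Matrix (Fin 3) (Fin 3) F} (h₁ : IsUnit G₁) (h₂ : IsUnit G₂) (s₁ : G₁ᵀ = G₁) (s₂ : G₂ᵀ = G₂)
    (hB : ((D.trans e P).B : Matrix (Fin 3 × Fin 3) (Fin 3 × Fin 3) F) = G₁ ⊗ₖ G₂)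
    (hT : ∀ g ∈ G, ∃ a b : GL (Fin 3) F, (g : Matrix ι ι F) = tens e P (a : Matrix _ _ F) (b : Matrix _ _ F)) :
    ∃ D' : Fin 9 → Submodule F (ι → F),
      IsNondegenerateMDecomposition D.form 1 D' ∧ G ≤ decompositionStabilizer D' := by
  obtain ⟨Q, c, hc, hQ, hmove⟩ := ortho_coords D e P h₁ h₂ (by rw [hσ]; simpa using s₁) (by rw [hσ]; simpa using s₂) hB
    fun D₀ h₀ => exists_congr_scalar_three hF D₀ (h₀.trans hσ)
  let ev : Fin 9 ≃ Fin 3 × Fin 3 := (finProdFinEquiv (m := 3) (n := 3)).symm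
  let v : Fin 9 → (ι → F) := fun k => (Q : Matrix ι ι F) *ᵥ Pi.single (e.symm (ev k)) 1
  have hform : ∀ k l, D.form (v k) (v l) = if k = l then c else 0 := fun k l => by
    rw [form_col D hQ]; simp
  have hne : ∀ k, v k ≠ 0 := fun k h0 => hc (by
    have := hform k k
    rw [h0, D.form_zero_left, if_pos rfl] at this
    exact this.symm)
  have hli : LinearIndependent F v := by
    have h' := ((Pi.basisFun F ι).reindex (e.trans ev.symm)).linearIndependent.map'
      (Matrix.toLin' (Q : Matrix ι ι F)) (LinearMap.ker_eq_bot.mpr fun x y h => by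
        have := congrArg (((Q⁻¹ : GL ι F) : Matrix ι ι F) *ᵥ ·) h
        simpa [Matrix.toLin'_apply, mulVec_mulVec] using this)
    have hv : v = ⇑(Matrix.toLin' (Q : Matrix ι ι F)) ∘ ⇑((Pi.basisFun F ι).reindex (e.trans ev.symm)) := by
      funext k
      simp [v, Function.comp]
    rw [hv]
    exact h'
  have hsp : Submodule.span F (Set.range v) = ⊤ := hli.span_eq_top_of_card_eq_finrank (by
    rw [Module.finrank_fintype_fun_eq_card, Fintype.card_congr (e.trans ev.symm)])
  refine ⟨fun k => Submodule.span F {v k}, ⟨⟨by norm_num, one_pos, fun k => finrank_span_singleton (hne k),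
    hli.iSupIndep_span_singleton, ?_⟩, fun k w hw hw0 => ?_, fun i j hij u hu w hw => ?_⟩, fun g hg => ?_⟩
  · rw [← hsp, Submodule.span_range_eq_iSup]
  · obtain ⟨a, rfl⟩ := Submodule.mem_span_singleton.mp hw
    have ha : a ≠ 0 := fun h => hw0 (by rw [h, zero_smul])
    refine ⟨⟨v k, Submodule.mem_span_singleton_self _, ?_⟩, v k, Submodule.mem_span_singleton_self _, ?_⟩
    · rw [D.form_smul_right, hform, if_pos rfl, hσ]; exact mul_ne_zero ha hc
    · rw [D.form_smul_left, hform, if_pos rfl]; exact mul_ne_zero ha hc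
  · obtain ⟨a, rfl⟩ := Submodule.mem_span_singleton.mp hu
    obtain ⟨b, rfl⟩ := Submodule.mem_span_singleton.mp hw
    rw [D.form_smul_left, D.form_smul_right, hform, if_neg hij, mul_zero, mul_zero]
  · obtain ⟨a, b, hab⟩ := hT g hg
    obtain ⟨a', b', hab'⟩ := hmove a b
    rw [hab'] at hab
    obtain ⟨μ, hμ, -, ha, hb⟩ := factors_of_isom D hc hQ (hG hg) hab
    rw [hσ] at ha hb
    obtain rfl := mu_eq_one hF hμ ha
    rw [one_smul] at ha
    rw [inv_one, one_smul] at hb
    obtain ⟨s, x, hx, hs⟩ := (orth_mono hF ha).exists_eq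
    obtain ⟨t, y, hy, ht⟩ := (orth_mono hF hb).exists_eq
    refine ⟨(ev.trans (s.prodCongr t)).trans ev.symm, fun k => ?_⟩
    have hgv : (g : Matrix ι ι F) *ᵥ v k
        = (x (ev k).1 * y (ev k).2) • v (((ev.trans (s.prodCongr t)).trans ev.symm) k) := by
      rw [hab, tens, cj_mulVec, ← mulVec_smul]
      congr 1
      funext i
      simp [hs, ht, Pi.single_apply, Equiv.eq_symm_apply, Prod.ext_iff, ite_and]
      split_ifs <;> rfl
    rw [Submodule.map_span, Set.image_singleton, Matrix.toLin'_apply, hgv,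
      Submodule.span_singleton_smul_eq (mul_ne_zero (hx _) (hy _)).isUnit]

namespace Tiny

/-- elements of the group of order `3^5` -/
def elMat (w : F) (e : ι ≃ Fin 3 × Fin 3) (Q : GL ι F) (c a b a' b' : Fin 3) : Matrix ι ι F :=
  chi w c • tens e Q (wMat w a b) (wMat w a' b')

omit [Fintype F] in
lemma Cube.elMat_mul {w : F} (hw : Cube w) (e : ι ≃ Fin 3 × Fin 3) (Q : GL ι F) (c a b a' b' d u v u' v' : Fin 3) :
    elMat w e Q c a b a' b' * elMat w e Q d u v u' v'
      = elMat w e Q (c + d + b * u + b' * u') (a + u) (b + v) (a' + u') (b' + v') := by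
  rw [elMat, elMat, elMat, Matrix.smul_mul, Matrix.mul_smul, smul_smul, tens_mul, hw.wMat_mul, hw.wMat_mul,
    tens_smul_left, tens_smul_right, smul_smul, smul_smul, hw.chi_add, hw.chi_add, hw.chi_add]

omit [Fintype F] in
lemma elMat_zero (w : F) (e : ι ≃ Fin 3 × Fin 3) (Q : GL ι F) : elMat w e Q 0 0 0 0 0 = 1 := by
  simp [elMat, chi_zero, Cube.wMat_zero]

omit [Fintype F] in
lemma Cube.elMat_cube {w : F} (hw : Cube w) (e : ι ≃ Fin 3 × Fin 3) (Q : GL ι F) (c a b a' b' : Fin 3) :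
    elMat w e Q c a b a' b' ^ 3 = 1 := by
  rw [pow_succ, pow_succ, pow_one, hw.elMat_mul, hw.elMat_mul, ← elMat_zero w e Q]
  congr 1
  · linear_combination eq_of_sum_sub (c + b * a + b' * a')
  all_goals exact eq_of_sum_sub _

/-- the group of order `3^5` -/
def heisSq {w : F} (hw : Cube w) (e : ι ≃ Fin 3 × Fin 3) (Q : GL ι F) : Subgroup (GL ι F) where
  carrier := {g | ∃ c a b a' b', (g : Matrix ι ι F) = elMat w e Q c a b a' b'}
  one_mem' := ⟨0, 0, 0, 0, 0, by rw [elMat_zero, Units.val_one]⟩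
  mul_mem' {g h} hg hh := by
    obtain ⟨c, a, b, a', b', e1⟩ := hg
    obtain ⟨d, u, v, u', v', e2⟩ := hh
    exact ⟨_, _, _, _, _, by rw [Units.val_mul, e1, e2, hw.elMat_mul]⟩
  inv_mem' {g} hg := by
    obtain ⟨c, a, b, a', b', e1⟩ := hg
    have h3 : g ^ 3 = 1 := Units.ext (by rw [Units.val_pow_eq_pow_val, e1, hw.elMat_cube, Units.val_one])
    rw [show g⁻¹ = g * g from inv_eq_of_mul_eq_one_right (by rw [← mul_assoc]; simpa [pow_succ] using h3)]
    exact ⟨_, _, _, _, _, by rw [Units.val_mul, e1, hw.elMat_mul]⟩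

omit [Fintype F] in
lemma mem_heisSq {w : F} {hw : Cube w} {e : ι ≃ Fin 3 × Fin 3} {Q g : GL ι F} :
    g ∈ heisSq hw e Q ↔ ∃ c a b a' b', (g : Matrix ι ι F) = elMat w e Q c a b a' b' := Iff.rfl

omit [Fintype F] in
lemma exists_mem_heisSq {w : F} (hw : Cube w) (e : ι ≃ Fin 3 × Fin 3) (Q : GL ι F) (c a b a' b' : Fin 3) :
    ∃ g ∈ heisSq hw e Q, (g : Matrix ι ι F) = elMat w e Q c a b a' b' :=
  ⟨Units.ofPowEqOne _ 3 (hw.elMat_cube e Q c a b a' b') (by norm_num), ⟨c, a, b, a', b', rfl⟩, rfl⟩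

omit [Fintype F] in
lemma Cube.commutator_elMat {w : F} (hw : Cube w) (e : ι ≃ Fin 3 × Fin 3) (Q : GL ι F)
    (c a b a' b' d u v u' v' : Fin 3) :
    elMat w e Q c a b a' b' * elMat w e Q d u v u' v'
      = chi w (b * u + b' * u' - v * a - v' * a') •
          (elMat w e Q d u v u' v' * elMat w e Q c a b a' b') := by
  rw [hw.elMat_mul, hw.elMat_mul, elMat, elMat, smul_smul, ← hw.chi_add, add_comm u, add_comm v, add_comm u',
    add_comm v']
  congr 2
  ring

lemma tens_conj_mem {w : F} (hw : Cube w) (e : ι ≃ Fin 3 × Fin 3) (Q : GL ι F) {a b : GL (Fin 3) F}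
    (ha : a ∈ normGrp hw) (hb : b ∈ normGrp hw) {g : GL ι F}
    (hg : (g : Matrix ι ι F) = tens e Q (a : Matrix _ _ F) (b : Matrix _ _ F)) {x : GL ι F} (hx : x ∈ heisSq hw e Q) :
    g * x * g⁻¹ ∈ heisSq hw e Q := by
  obtain ⟨c, i, j, i', j', hx⟩ := hx
  obtain ⟨c₁, k, l, h1⟩ := ha i j
  obtain ⟨c₂, k', l', h2⟩ := hb i' j'
  refine ⟨c + c₁ + c₂, k, l, k', l', ?_⟩
  rw [Units.val_mul, Units.val_mul, Units.mul_inv_eq_iff_eq_mul, hg, hx, elMat, elMat, Matrix.mul_smul,
    Matrix.smul_mul, tens_mul, tens_mul, h1, h2, Matrix.smul_mul, Matrix.smul_mul, tens_smul_left, tens_smul_right,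
    smul_smul, smul_smul, hw.chi_add, hw.chi_add]

lemma spans_heisSq (h3 : (3 : F) ≠ 0) {w : F} (hw : Cube w) (e : ι ≃ Fin 3 × Fin 3) (Q : GL ι F) :
    Spans (matrixSet (heisSq hw e Q)) := by
  rw [Spans, eq_top_iff]
  set S := Submodule.span F (matrixSet (heisSq hw e Q))
  have hW : ∀ A ∈ Submodule.span F (Set.range fun p : Fin 3 × Fin 3 => wMat w p.1 p.2),
      ∀ B ∈ Submodule.span F (Set.range fun p : Fin 3 × Fin 3 => wMat w p.1 p.2), tens e Q A B ∈ S := by
    intro A hA B hB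
    induction hA using Submodule.span_induction with
    | zero => simp
    | add x y _ _ hx hy => rw [tens_add_left]; exact add_mem hx hy
    | smul t x _ hx => rw [tens_smul_left]; exact Submodule.smul_mem _ _ hx
    | mem x hx =>
      obtain ⟨p, rfl⟩ := hx
      induction hB using Submodule.span_induction with
      | zero => simp [tens]
      | add u v _ _ hu hv =>
        simp only [tens, kronecker_add, map_add, cj_add] at hu hv ⊢
        exact add_mem hu hv
      | smul t u _ hu => rw [tens_smul_right]; exact Submodule.smul_mem _ _ hu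
      | mem u hu =>
        obtain ⟨r, rfl⟩ := hu
        obtain ⟨g, hg, he⟩ := exists_mem_heisSq hw e Q 0 p.1 p.2 r.1 r.2
        exact Submodule.subset_span ⟨g, hg, by simp only [he, elMat, chi_zero, one_smul]⟩
  intro M _
  rw [← pushMat_pullMat e Q M]
  induction pullMat e Q M using Matrix.induction_on' with
  | h_zero => simp [pushMat]
  | h_add X Y hX hY =>
    simp only [pushMat, map_add, cj_add] at hX hY ⊢
    exact add_mem hX hY
  | h_std_basis p r t =>
    obtain ⟨i, i'⟩ := p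
    obtain ⟨j, j'⟩ := r
    have hsingle : Matrix.single (i, i') (j, j') t
        = (t * (3 * 3)⁻¹) • ((chi w 0 • Matrix.single i j (3 : F)) ⊗ₖ (chi w 0 • Matrix.single i' j' (3 : F))) := by
      rw [chi_zero, one_smul, one_smul, Matrix.single_kronecker_single, Matrix.smul_single, smul_eq_mul,
        inv_mul_cancel_right₀ (mul_ne_zero h3 h3)]
    rw [hsingle, pushMat, map_smul, cj_smul]
    exact Submodule.smul_mem _ _ (hW _ (hw.single_mem_span i j) _ (hw.single_mem_span i' j'))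

end Tiny

/-- groups preserving a tensor square of unitary spaces over four elements normalise a group of symplectic type -/
theorem sympType_of_tensorSquare_two (hF : Fintype.card F = 4) (D : FData ι F) (hσ : D.σ ≠ RingHom.id F)
    {G : Subgroup (GL ι F)} (hG : G ≤ D.isom) (e : ι ≃ Fin 3 × Fin 3) (P : GL ι F)
    {G₁ G₂ : Matrix (Fin 3) (Fin 3) F} (h₁ : IsUnit G₁) (h₂ : IsUnit G₂)
    (s₁ : (G₁.map D.σ)ᵀ = G₁) (s₂ : (G₂.map D.σ)ᵀ = G₂)
    (hB : ((D.trans e P).B : Matrix (Fin 3 × Fin 3) (Fin 3 × Fin 3) F) = G₁ ⊗ₖ G₂)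
    (hT : ∀ g ∈ G, ∃ a b : GL (Fin 3) F, (g : Matrix ι ι F) = tens e P (a : Matrix _ _ F) (b : Matrix _ _ F)) :
    ∃ R : Subgroup (GL ι F), IsSymplecticTypeGroup 3 R ∧ ActsAbsolutelyIrreducibly (matrixSet R) ∧
      R ≤ similarityGroup D.form ∧ Nat.card (Subgroup.center R) = 3 ∧ Nat.card R = 3 ^ 5 ∧
      G ≤ subgroupNormalizer R := by
  classical
  haveI : Nonempty ι := ⟨e.symm (0, 0)⟩
  obtain ⟨Q, c, hc, hQ, hmove⟩ := ortho_coords D e P h₁ h₂ s₁ s₂ hB
    fun D₀ h₀ => exists_congr_scalar_four hF D₀ (h₀ ▸ hσ)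
  obtain ⟨w, hw, hall⟩ := exists_cube hF D.σσ hσ
  have h2 := two_eq_zero hF D.σσ hσ
  have h3 : (3 : F) ≠ 0 := fun h => one_ne_zero (α := F) (by linear_combination h - h2)
  set R := heisSq hw e Q with hR
  have hsp : Spans (matrixSet R) := spans_heisSq h3 hw e Q
  have hRD : RData 3 3 R := by
    refine ⟨hsp, fun x hx y hy => ?_, fun x hx => ?_⟩
    · obtain ⟨c, a, b, a', b', ex⟩ := hx
      obtain ⟨d, u, v, u', v', ey⟩ := hy
      have hxy : (((x * y : GL ι F)) : Matrix ι ι F)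
          = chi w (b * u + b' * u' - v * a - v' * a') • ((y * x : GL ι F) : Matrix ι ι F) := by
        rw [Units.val_mul, Units.val_mul, ex, ey, hw.commutator_elMat]
      refine mem_scalars_iff_isScalarMat.mpr ⟨chi w (b * u + b' * u' - v * a - v' * a'), ?_⟩
      rw [show x * y * x⁻¹ * y⁻¹ = (x * y) * (y * x)⁻¹ by group, Units.val_mul, hxy, Matrix.smul_mul,
        Units.mul_inv]
    · obtain ⟨c, a, b, a', b', ex⟩ := hx
      exact Units.ext (by rw [Units.val_pow_eq_pow_val, ex, hw.elMat_cube, Units.val_one])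
  have hmem : ∀ z ∈ scalars ι F, z ^ 3 = 1 → z ∈ R := by
    intro z hz hz3
    obtain ⟨t, ht⟩ := (mem_scalars_iff z).mp hz
    obtain ⟨k, hk⟩ := hall t t.ne_zero
    exact ⟨k, 0, 0, 0, 0, by rw [ht, hk, elMat, Cube.wMat_zero, tens_one]⟩
  have hcen : Nat.card (Subgroup.center R) = 3 := by
    rw [hRD.card_center hmem, Nat.card_units, Nat.card_eq_fintype_card, hF]
    rfl
  have hcard : Nat.card R = 3 ^ 5 := by
    rw [hRD.card_eq, hcen, Fintype.card_congr e]
    rfl
  have hexp : Monoid.exponent R = 3 := by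
    haveI := Fact.mk Nat.prime_three
    refine (Nat.prime_three.eq_one_or_self_of_dvd _ (Monoid.exponent_dvd_of_forall_pow_eq_one fun x =>
      Subtype.ext (by rw [SubmonoidClass.coe_pow]; exact hRD.pow_eq _ x.2))).resolve_left fun h1 => ?_
    haveI := Monoid.exp_eq_one_iff.mp h1
    rw [Nat.card_of_subsingleton (1 : R)] at hcard
    omega
  have hnorm : Norms G R := by
    intro g hg x hx
    obtain ⟨a, b, hab⟩ := hT g hg
    obtain ⟨a', b', hab'⟩ := hmove a b
    rw [hab'] at hab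
    obtain ⟨μ, hμ, hfix, ha, hb⟩ := factors_of_isom D hc hQ (hG hg) hab
    obtain rfl := eq_one_of_fixed hF D.σσ hσ hμ hfix
    rw [one_smul] at ha
    rw [inv_one, one_smul] at hb
    exact tens_conj_mem hw e Q (orth_mem_normGrp hF D.σσ hσ hw hall ha) (orth_mem_normGrp hF D.σσ hσ hw hall hb) hab hx
  refine ⟨R, ⟨Nat.prime_three, fun x => ⟨1, Subtype.ext (by rw [pow_one, SubmonoidClass.coe_pow]; exact hRD.pow_eq _ x.2)⟩,
    fun A hA hAc => ?_, hexp.trans (by decide)⟩, hsp.absIrred, ?_, hcen, hcard, hnorm.le_normalizer⟩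
  · -- characteristic abelian subgroups are central
    have hfo : IsUnit (fMat w) := Orth.isUnit (fMat_orth hF D.σσ hσ hw)
    have hfN : hfo.unit ∈ normGrp hw := fun a b =>
      ⟨-(a * b), -b, a, by rw [IsUnit.unit_spec]; exact hw.fMat_mul_wMat a b⟩
    have key : ∀ (p q : GL (Fin 3) F), p ∈ normGrp hw → q ∈ normGrp hw → ∀ g : GL ι F,
        (g : Matrix ι ι F) = tens e Q (p : Matrix _ _ F) (q : Matrix _ _ F) →
        ∀ x ∈ A, ∃ y ∈ A, ((y : R) : GL ι F) = g * ((x : R) : GL ι F) * g⁻¹ := by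
      intro p q hp hq g hg x hx
      have hginv : ∀ x ∈ R, g⁻¹ * x * g ∈ R := fun x hx => by
        have hgi : ((g⁻¹ : GL ι F) : Matrix ι ι F)
            = tens e Q ((p⁻¹ : GL (Fin 3) F) : Matrix _ _ F) ((q⁻¹ : GL (Fin 3) F) : Matrix _ _ F) :=
          Units.inv_eq_of_mul_eq_one_right (by rw [hg, tens_mul, p.mul_inv, q.mul_inv, tens_one])
        have := tens_conj_mem hw e Q (inv_mem hp) (inv_mem hq) hgi hx
        rwa [inv_inv] at this
      let φ : R ≃* R :=
        { toFun := fun c => ⟨g * c * g⁻¹, tens_conj_mem hw e Q hp hq hg c.2⟩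
          invFun := fun c => ⟨g⁻¹ * c * g, hginv c c.2⟩
          left_inv := fun c => Subtype.ext (by simp [mul_assoc])
          right_inv := fun c => Subtype.ext (by simp [mul_assoc])
          map_mul' := fun c c' => Subtype.ext (by simp [mul_assoc]) }
      exact ⟨φ x, (Subgroup.characteristic_iff_map_eq.mp hA φ) ▸ ⟨x, hx, rfl⟩, rfl⟩
    have hle : A ≤ Subgroup.center R := by
      intro x hx
      rw [hRD.center_iff]
      obtain ⟨t, a, b, a', b', ex⟩ := x.2
      have kill : ∀ (p q : GL (Fin 3) F), p ∈ normGrp hw → q ∈ normGrp hw → ∀ d u v u' v',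
          tens e Q (p : Matrix _ _ F) (q : Matrix _ _ F) * elMat w e Q t a b a' b'
            = elMat w e Q d u v u' v' * tens e Q (p : Matrix _ _ F) (q : Matrix _ _ F) →
          b * u + b' * u' - v * a - v' * a' = 0 := by
        intro p q hp hq d u v u' v' heq
        let g : GL ι F :=
          ⟨tens e Q (p : Matrix _ _ F) (q : Matrix _ _ F),
            tens e Q ((p⁻¹ : GL (Fin 3) F) : Matrix _ _ F) ((q⁻¹ : GL (Fin 3) F) : Matrix _ _ F),
            by rw [tens_mul, p.mul_inv, q.mul_inv, tens_one], by rw [tens_mul, p.inv_mul, q.inv_mul, tens_one]⟩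
        have hg : (g : Matrix ι ι F) = tens e Q (p : Matrix _ _ F) (q : Matrix _ _ F) := rfl
        obtain ⟨y, hy, hye⟩ := key p q hp hq g hg x hx
        have hyv : ((y : GL ι F) : Matrix ι ι F) = elMat w e Q d u v u' v' := by
          rw [hye, Units.val_mul, Units.val_mul, Units.mul_inv_eq_iff_eq_mul, hg, ex, heq]
        have hcomm := congrArg (fun z : A => ((z : R) : GL ι F).val) (hAc.is_comm.comm ⟨x, hx⟩ ⟨y, hy⟩)
        simp only [Subgroup.coe_mul, Units.val_mul, ex, hyv] at hcomm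
        rw [hw.commutator_elMat] at hcomm
        refine hw.chi_eq_one (by_contra fun hne => ?_)
        have h0 : (chi w (b * u + b' * u' - v * a - v' * a') - 1) •
            (elMat w e Q d u v u' v' * elMat w e Q t a b a' b') = 0 := by
          rw [sub_smul, one_smul, hcomm, sub_self]
        have hu : IsUnit (elMat w e Q d u v u' v' * elMat w e Q t a b a' b') := by
          rw [← hyv, ← ex]; exact (y : GL ι F).isUnit.mul (x : GL ι F).isUnit
        exact hu.ne_zero ((smul_eq_zero.mp h0).resolve_left (sub_ne_zero.mpr hne))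
      have hab : a = 0 ∧ b = 0 := by
        refine rot_anisotropic a b ?_
        have := kill hfo.unit 1 hfN (one_mem _) (t + -(a * b)) (-b) a a' b' (by
          rw [elMat, elMat, Matrix.mul_smul, Matrix.smul_mul, tens_mul, tens_mul, Units.val_one, one_mul, mul_one,
            IsUnit.unit_spec, hw.fMat_mul_wMat, Matrix.smul_mul, tens_smul_left, smul_smul, hw.chi_add])
        linear_combination this
      have hab' : a' = 0 ∧ b' = 0 := by
        refine rot_anisotropic a' b' ?_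
        have := kill 1 hfo.unit (one_mem _) hfN (t + -(a' * b')) a b (-b') a' (by
          rw [elMat, elMat, Matrix.mul_smul, Matrix.smul_mul, tens_mul, tens_mul, Units.val_one, one_mul, mul_one,
            IsUnit.unit_spec, hw.fMat_mul_wMat, Matrix.smul_mul, tens_smul_right, smul_smul, hw.chi_add])
        linear_combination this
      refine mem_scalars_iff_isScalarMat.mpr ⟨chi w t, ?_⟩
      rw [ex, hab.1, hab.2, hab'.1, hab'.2, elMat, Cube.wMat_zero, tens_one]
    haveI := Fact.mk Nat.prime_three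
    haveI : IsCyclic (Subgroup.center R) := isCyclic_of_prime_card hcen
    exact isCyclic_of_injective (Subgroup.inclusion hle) (Subgroup.inclusion_injective hle)
  · intro g hg
    obtain ⟨t, a, b, a', b', ex⟩ := hg
    refine D.isom_le_similarity ((FData.mem_isom _).mpr ?_)
    have hpull : ∀ A B : Matrix (Fin 3) (Fin 3) F, Orth D.σ A → Orth D.σ B →
        (tens e Q A B)ᵀ * (D.B : Matrix ι ι F) * (tens e Q A B).map D.σ = (D.B : Matrix ι ι F) := by
      intro A B hA hB'
      set M := tens e Q A B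
      set q : Matrix ι ι F := (Q : Matrix ι ι F)
      set N : Matrix ι ι F := Matrix.reindexAlgEquiv F F e.symm (A ⊗ₖ B)
      have hN : M * q = q * N := by
        simp [M, N, q, tens, cj, mul_assoc]
      have hS : qᵀ * (D.B : Matrix ι ι F) * q.map D.σ = c • 1 := by
        have h := congrArg (Matrix.reindexAlgEquiv F F e.symm) hQ
        rw [FData.trans_B, map_smul, map_one] at h
        rw [← h]
        ext; simp [q]
      have hNN : Nᵀ * N.map D.σ = 1 := by
        rw [show Nᵀ = Matrix.reindexAlgEquiv F F e.symm (A ⊗ₖ B)ᵀ by ext; simp [N],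
          show N.map D.σ = Matrix.reindexAlgEquiv F F e.symm (A.map D.σ ⊗ₖ B.map D.σ) by ext; simp [N],
          ← map_mul, ← kroneckerMap_transpose, ← Matrix.mul_kronecker_mul, hA, hB', one_kronecker_one, map_one]
      have h4 : qᵀ * (Mᵀ * (D.B : Matrix ι ι F) * M.map D.σ) * q.map D.σ
          = qᵀ * (D.B : Matrix ι ι F) * q.map D.σ := by
        calc qᵀ * (Mᵀ * (D.B : Matrix ι ι F) * M.map D.σ) * q.map D.σ
            = (M * q)ᵀ * (D.B : Matrix ι ι F) * (M * q).map D.σ := by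
              rw [transpose_mul, Matrix.map_mul]; simp only [mul_assoc]
          _ = Nᵀ * (qᵀ * (D.B : Matrix ι ι F) * q.map D.σ) * N.map D.σ := by
              rw [hN, transpose_mul, Matrix.map_mul]; simp only [mul_assoc]
          _ = _ := by rw [hS, Matrix.mul_smul, mul_one, Matrix.smul_mul, hNN]
      exact ((Matrix.isUnit_transpose _).mpr Q.isUnit).mul_left_cancel
        ((Q.isUnit.map D.σ.mapMatrix).mul_right_cancel h4)
    have hmap : (elMat w e Q t a b a' b').map D.σ
        = D.σ (chi w t) • (tens e Q (wMat w a b) (wMat w a' b')).map D.σ := by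
      ext i j; simp [elMat]
    rw [ex, hmap, elMat, transpose_smul, Matrix.smul_mul, Matrix.smul_mul, Matrix.mul_smul, smul_smul,
      norm_eq_one hF D.σσ hσ (hw.chi_ne_zero t), one_smul,
      hpull _ _ (wMat_orth hF D.σσ hσ hw a b) (wMat_orth hF D.σσ hσ hw a' b')]

end CfsgLib.Asch
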