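import Cfsg.Agent.Lib.Aschbacher.FormComponents
import Cfsg.Agent.Lib.Aschbacher.FormSmall
import Cfsg.Agent.Lib.Aschbacher.FormCongr

/-!
# Groups preserving a tensor power of one form
-/

set_option autoImplicit false

namespace CfsgLib.Asch

open Matrix Cfsg.Geo
open scoped MatrixGroups Kronecker

variable {ι : Type} [Fintype ι] [DecidableEq ι] [Nonempty ι] {F : Type*} [Field F] [Fintype F]

namespace FData

variable (D : FData ι F)

/-- contained in the stabiliser of a tensor power of one form -/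
def InPowerForm (G : Subgroup (GL ι F)) : Prop :=
  ∃ (w t : ℕ) (e : ι ≃ (Fin t → Fin w)) (Q : GL ι F) (c ε₀ : F) (G₀ : GL (Fin w) F),
    2 ≤ w ∧ 2 ≤ t ∧ w ^ t = Fintype.card ι ∧ c ≠ 0 ∧
    ((D.trans e Q).B : Matrix (Fin t → Fin w) (Fin t → Fin w) F)
      = c • pw (fun _ => (G₀ : Matrix (Fin w) (Fin w) F)) ∧
    ((G₀ : Matrix (Fin w) (Fin w) F).map D.σ)ᵀ = ε₀ • (G₀ : Matrix (Fin w) (Fin w) F) ∧
    D.σ c * ε₀ ^ t = D.ε * c ∧ D.σ ε₀ * ε₀ = 1 ∧
    (Fintype.card F = 3 → w = 2 → t = 2) ∧ (Fintype.card F = 4 → D.σ ≠ RingHom.id F → w ≠ 3) ∧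
    (Fintype.card F = 3 → D.σ = RingHom.id F → ε₀ = 1 → w ≠ 3) ∧
    G ≤ tensorWreathSubgroup w t e Q

omit [Nonempty ι] [Fintype F] in
/-- the form structure of a tensor power -/
lemma isTensorPowerFormStructure {w t : ℕ} (e : ι ≃ (Fin t → Fin w)) (Q : GL ι F) {c : F} (hc : c ≠ 0)
    {G₀ : Matrix (Fin w) (Fin w) F}
    (hB : ((D.trans e Q).B : Matrix (Fin t → Fin w) (Fin t → Fin w) F) = c • pw (fun _ => G₀)) :
    IsTensorPowerFormStructure D.σ D.form (sform D.σ G₀) e Q := by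
  refine ⟨c, hc, fun x y => ?_⟩
  rw [D.trans_form, form, hB, show (D.trans e Q).σ = D.σ from rfl, sform_smul_matrix, gramMatrix_sform,
    sform_eq_formOfGram]
  rfl

omit [Nonempty ι] in
/-- a tensor square of two congruent forms: the coordinates of a power form -/
lemma square_data {w : ℕ} (hw : 2 ≤ w) (e : ι ≃ Fin w × Fin w) (P : GL ι F)
    {G₁ G₂ R : GL (Fin w) F} {c ε₁ : F}
    (hB : ((D.trans e P).B : Matrix (Fin w × Fin w) (Fin w × Fin w) F)
      = (G₁ : Matrix (Fin w) (Fin w) F) ⊗ₖ (G₂ : Matrix (Fin w) (Fin w) F))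
    (hR : (R : Matrix (Fin w) (Fin w) F)ᵀ * (G₂ : Matrix (Fin w) (Fin w) F) * (R : Matrix (Fin w) (Fin w) F).map D.σ
      = c • (G₁ : Matrix (Fin w) (Fin w) F))
    (h₁ : ((G₁ : Matrix (Fin w) (Fin w) F).map D.σ)ᵀ = ε₁ • (G₁ : Matrix (Fin w) (Fin w) F))
    {G : Subgroup (GL ι F)}
    (hdec : ∀ g ∈ G, ∃ (a b : GL (Fin w) F),
      (g : Matrix ι ι F) = tens e P (a : Matrix _ _ F) (b : Matrix _ _ F)) :
    ∃ (e' : ι ≃ (Fin 2 → Fin w)) (Q : GL ι F), w ^ 2 = Fintype.card ι ∧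
      ((D.trans e' Q).B : Matrix (Fin 2 → Fin w) (Fin 2 → Fin w) F)
        = c • pw (fun _ => (G₁ : Matrix (Fin w) (Fin w) F)) ∧
      D.σ c * ε₁ ^ 2 = D.ε * c ∧ G ≤ tensorWreathSubgroup w 2 e' Q := by
  haveI : Nonempty (Fin w) := ⟨⟨0, by omega⟩⟩
  set Q := Tiny.moveCoord e P 1 R
  have hB' := Tiny.trans_moveCoord e P 1 R D hB
  rw [hR, Units.val_one, transpose_one, one_mul, Matrix.map_one D.σ (map_zero _) (map_one _), mul_one,
    kronecker_smul] at hB'
  set f := (piFinTwoEquiv fun _ => Fin w).symm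
  have hBf : ((D.trans (e.trans f) Q).B : Matrix (Fin 2 → Fin w) (Fin 2 → Fin w) F)
      = c • pw (fun _ => (G₁ : Matrix (Fin w) (Fin w) F)) := by
    rw [trans_equiv, hB', map_smul]
    congr 1
    ext x y
    simp [pw, Fin.prod_univ_two, f]
  have hcard : w ^ 2 = Fintype.card ι := by simp [Fintype.card_congr e, sq]
  refine ⟨e.trans f, Q, hcard, hBf, ?_, fun g hg => ?_⟩
  · have h2 := (D.trans (e.trans f) Q).herm
    rw [hBf, show (D.trans (e.trans f) Q).σ = D.σ from rfl, show (D.trans (e.trans f) Q).ε = D.ε from rfl,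
      show (c • pw fun _ : Fin 2 => (G₁ : Matrix (Fin w) (Fin w) F)).map D.σ
        = D.σ c • (pw fun _ : Fin 2 => (G₁ : Matrix (Fin w) (Fin w) F)).map D.σ by ext x y; simp,
      transpose_smul, pw_map, pw_transpose] at h2
    simp only [h₁, pw_smul, Finset.prod_const, Finset.card_univ, Fintype.card_fin, smul_smul] at h2
    refine smul_left_injective F (fun h0 => ?_) h2
    exact (D.trans (e.trans f) Q).B.ne_zero (by rw [hBf, h0, smul_zero])
  · obtain ⟨a, b, hab⟩ := hdec g hg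
    refine mem_wreath_two (a := a) (b := R⁻¹ * b * R) ?_
    rw [hab, Tiny.tens_moveCoord, cj_one_left, cj_coe]
    congr 2
    group

omit [Nonempty ι] in
/-- a tensor square of two congruent forms is a power form -/
lemma inPowerForm_of_square {w : ℕ} (hw : 2 ≤ w) (e : ι ≃ Fin w × Fin w) (P : GL ι F)
    {G₁ G₂ R : GL (Fin w) F} {c ε₁ : F} (hc : c ≠ 0)
    (hB : ((D.trans e P).B : Matrix (Fin w × Fin w) (Fin w × Fin w) F)
      = (G₁ : Matrix (Fin w) (Fin w) F) ⊗ₖ (G₂ : Matrix (Fin w) (Fin w) F))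
    (hR : (R : Matrix (Fin w) (Fin w) F)ᵀ * (G₂ : Matrix (Fin w) (Fin w) F) * (R : Matrix (Fin w) (Fin w) F).map D.σ
      = c • (G₁ : Matrix (Fin w) (Fin w) F))
    (h₁ : ((G₁ : Matrix (Fin w) (Fin w) F).map D.σ)ᵀ = ε₁ • (G₁ : Matrix (Fin w) (Fin w) F))
    (hε₁ : D.σ ε₁ * ε₁ = 1) (hex4 : Fintype.card F = 4 → D.σ ≠ RingHom.id F → w ≠ 3)
    (hex3 : Fintype.card F = 3 → D.σ = RingHom.id F → ε₁ = 1 → w ≠ 3)
    {G : Subgroup (GL ι F)}
    (hdec : ∀ g ∈ G, ∃ (a b : GL (Fin w) F),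
      (g : Matrix ι ι F) = tens e P (a : Matrix _ _ F) (b : Matrix _ _ F)) :
    D.InPowerForm G := by
  obtain ⟨e', Q, hcard, hBf, hε, hle⟩ := D.square_data hw e P hB hR h₁ hdec
  exact ⟨w, 2, e', Q, c, ε₁, G₁, hw, le_rfl, hcard, hc, hBf, h₁, hε, hε₁, fun _ _ => rfl, hex4, hex3, hle⟩

/-- the components of a perfect group give a power form -/
theorem inPowerForm_of_compData {G P : Subgroup (GL ι F)} (C : CompData G P) (hGI : G ≤ D.isom) (hPG : P ≤ G) :
    D.InPowerForm G := by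
  classical
  obtain ⟨Q, c, ε₀, G₀, hc, hB, hε₀, hcε, hle, hslot⟩ := D.exists_power_form C hGI hPG
  have hw := C.hw
  have ht := C.ht
  have hcard := C.card
  haveI : Nonempty (Fin C.w) := ⟨⟨0, by omega⟩⟩
  let i : Fin C.t := ⟨0, by omega⟩
  obtain ⟨L, hLP, hL1, hL2, hL⟩ := hslot i
  choose A hA using hL
  have hm : 0 < C.w := by omega
  have hinj : ∀ X Y : Matrix (Fin C.w) (Fin C.w) F,
      cw C.e Q (pw (Function.update 1 i X)) = cw C.e Q (pw (Function.update 1 i Y)) → X = Y := fun X Y h =>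
    update_one_injective hm i ((Matrix.reindexAlgEquiv F F C.e.symm).injective (cj_injective Q h))
  let φ : L →* Matrix (Fin C.w) (Fin C.w) F :=
    { toFun := fun x => A x.1 x.2
      map_one' := hinj _ _ (by
        rw [← hA, Function.update_eq_self_iff.mpr (by rfl), pw_one, cw_eq_push]
        simp [pushMat])
      map_mul' := fun x y => hinj _ _ (by
        rw [← hA, ← update_one_mul]
        simp only [cw, map_mul, cj_mul]
        show (((x * y : L) : GL ι F) : Matrix ι ι F) = _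
        rw [Subgroup.coe_mul, Units.val_mul]
        congr 1 <;> exact hA _ _) }
  set ψ := φ.toHomUnits
  have hψ : ∀ x : L, (ψ x : Matrix (Fin C.w) (Fin C.w) F) = A x.1 x.2 := fun x => rfl
  have hperf : ⁅ψ.range, ψ.range⁆ = ψ.range := by
    rw [MonoidHom.range_eq_map, ← Subgroup.map_commutator]
    congr 1
    refine Subgroup.map_injective L.subtype_injective ?_
    rw [Subgroup.map_commutator, ← MonoidHom.range_eq_map, Subgroup.range_subtype, hL1]
  have hnot : ψ.range ≠ ⊥ := fun h0 => hL2 fun x hx => by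
    have h1 : ψ ⟨x, hx⟩ = 1 := by
      have : ψ ⟨x, hx⟩ ∈ ψ.range := ⟨_, rfl⟩
      rwa [h0, Subgroup.mem_bot] at this
    have h2 : A x hx = 1 := by rw [← hψ ⟨x, hx⟩, h1]; rfl
    have h3 := hA x hx
    rw [h2, Function.update_eq_self_iff.mpr (by rfl), pw_one, cw_eq_push] at h3
    have h4 : x = 1 := Units.ext (by rw [h3]; simp [pushMat])
    rw [h4]; exact one_mem _
  -- the members of the slot are isometries of the factor
  have hiso : ∀ x (hx : x ∈ L), (A x hx)ᵀ * (G₀ : Matrix (Fin C.w) (Fin C.w) F) * (A x hx).map D.σ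
      = (G₀ : Matrix (Fin C.w) (Fin C.w) F) := by
    intro x hx
    have h := (D.trans C.e Q).mem_isom.mp (D.pull_mem_isom C.e Q (hGI (hPG (hLP hx))))
    rw [coe_pull, hA x hx, cw_eq_push, pullMat_pushMat, hB, show (D.trans C.e Q).σ = D.σ from rfl,
      Matrix.mul_smul, Matrix.smul_mul, pw_transpose, pw_map, pw_mul, pw_mul] at h
    have h' := smul_right_injective (Matrix (Fin C.t → Fin C.w) (Fin C.t → Fin C.w) F) hc h
    set Gi := ((G₀⁻¹ : GL (Fin C.w) F) : Matrix (Fin C.w) (Fin C.w) F)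
    have h1 := congrArg (fun M => pw (fun _ : Fin C.t => Gi) * M) h'
    simp only [pw_mul] at h1
    have h2 : pw (Function.update (1 : Fin C.t → Matrix (Fin C.w) (Fin C.w) F) i
          (Gi * ((A x hx)ᵀ * (G₀ : Matrix (Fin C.w) (Fin C.w) F) * (A x hx).map D.σ)))
        = pw (Function.update (1 : Fin C.t → Matrix (Fin C.w) (Fin C.w) F) i 1) := by
      refine Eq.trans ?_ (h1.trans ?_)
      · congr 1
        funext j
        rcases eq_or_ne j i with rfl | hj <;> simp [Gi, *]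
      · congr 1
        funext j
        rcases eq_or_ne j i with rfl | hj <;> simp [Gi, *]
    have h3 := congrArg (fun M => (G₀ : Matrix (Fin C.w) (Fin C.w) F) * M) (update_one_injective hm i h2)
    simp only [← mul_assoc, mul_one] at h3
    rw [show (G₀ : Matrix (Fin C.w) (Fin C.w) F) * Gi = 1 from G₀.mul_inv, one_mul] at h3
    exact h3
  have hε1 : D.σ ε₀ * ε₀ = 1 := FData.σε_mul_ε ⟨D.σ, D.σσ, G₀, ε₀, hε₀⟩
  let D₀ : FData (Fin C.w) F := ⟨D.σ, D.σσ, G₀, ε₀, hε₀⟩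
  have hle0 : ψ.range ≤ D₀.isom := by
    rintro _ ⟨⟨x, hx⟩, rfl⟩
    refine D₀.mem_isom.mpr ?_
    rw [hψ]
    exact hiso x hx
  refine ⟨C.w, C.t, C.e, Q, c, ε₀, G₀, hw, ht, hcard, hc, hB, hε₀, hcε, hε1, fun hF hw2 => ?_,
    fun hF hσ hw3 => ?_, fun hF hσ hε hw3 => ?_, hle⟩
  · have key : ∀ (m : ℕ) (X : Subgroup (GL (Fin m) F)), m = 2 → ⁅X, X⁆ = X → X = ⊥ := by
      rintro m X rfl hX
      exact perfect_eq_bot_GL2_three hF hX
    exact absurd (key _ _ hw2 hperf) hnot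
  · have key : ∀ (m : ℕ) (E : FData (Fin m) F) (X : Subgroup (GL (Fin m) F)), m = 3 → E.σ ≠ RingHom.id F →
        X ≤ E.isom → ⁅X, X⁆ = X → X = ⊥ := by
      rintro m E X rfl hE hle hX
      exact perfect_eq_bot_U3_two hF E hE hle hX
    exact hnot (key _ D₀ _ hw3 hσ hle0 hperf)
  · have key : ∀ (m : ℕ) (E : FData (Fin m) F) (X : Subgroup (GL (Fin m) F)), m = 3 → E.σ = RingHom.id F →
        X ≤ E.isom → ⁅X, X⁆ = X → X = ⊥ := by
      rintro m E X rfl hE hle hX
      exact perfect_eq_bot_O3_three hF E hE hle hX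
    exact hnot (key _ D₀ _ hw3 hσ hle0 hperf)

end FData

end CfsgLib.Asch
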