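import Cfsg.Agent.Lib.Aschbacher.FormImprim
import Cfsg.Agent.Lib.Aschbacher.FormKronSymp
import Cfsg.Agent.Lib.Aschbacher.FormPower
import Cfsg.Agent.Lib.Aschbacher.FormResidual

/-!
# A non-spanning normal subgroup; the perfect case
-/

set_option autoImplicit false

namespace CfsgLib.Asch

open Matrix Cfsg.Geo
open scoped MatrixGroups Kronecker

variable {ι : Type} [Fintype ι] [DecidableEq ι] [Nonempty ι] {F : Type*} [Field F] [Fintype F]

namespace FData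

variable (D : FData ι F)

/-- contained in the normaliser of a field of prime degree closed under adjoints -/
def InFieldNorm (G : Subgroup (GL ι F)) : Prop :=
  ∃ (r : ℕ) (K : Subalgebra F (Matrix ι ι F)), r.Prime ∧ IsFieldSubalgebra r K ∧
    r ∣ Fintype.card ι ∧ G ≤ subalgebraNormalizer K ∧ ∀ k ∈ K, D.adj k ∈ K

/-- products of two similitudes of the factors of a tensor product of forms -/
def InKronForm (G : Subgroup (GL ι F)) : Prop :=
  ∃ (w k : ℕ) (e : ι ≃ Fin w × Fin k) (P : GL ι F) (G₁ : GL (Fin w) F) (G₂ : GL (Fin k) F) (ε₁ ε₂ : F),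
    2 ≤ w ∧ 2 ≤ k ∧ w * k = Fintype.card ι ∧
    ((D.trans e P).B : Matrix (Fin w × Fin k) (Fin w × Fin k) F)
      = (G₁ : Matrix (Fin w) (Fin w) F) ⊗ₖ (G₂ : Matrix (Fin k) (Fin k) F) ∧
    ((G₁ : Matrix (Fin w) (Fin w) F).map D.σ)ᵀ = ε₁ • (G₁ : Matrix (Fin w) (Fin w) F) ∧
    ((G₂ : Matrix (Fin k) (Fin k) F).map D.σ)ᵀ = ε₂ • (G₂ : Matrix (Fin k) (Fin k) F) ∧
    ε₁ * ε₂ = D.ε ∧ D.σ ε₁ * ε₁ = 1 ∧ D.σ ε₂ * ε₂ = 1 ∧
    ∀ g ∈ G, ∃ (a : GL (Fin w) F) (b : GL (Fin k) F),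
      (g : Matrix ι ι F) = tens e P (a : Matrix _ _ F) (b : Matrix _ _ F)

/-- the factor forms can be exchanged -/
lemma inKronForm_swap {G : Subgroup (GL ι F)} {w k : ℕ} {e : ι ≃ Fin w × Fin k} {P : GL ι F}
    {G₁ : GL (Fin w) F} {G₂ : GL (Fin k) F}
    (hB : ((D.trans e P).B : Matrix (Fin w × Fin k) (Fin w × Fin k) F)
      = (G₁ : Matrix (Fin w) (Fin w) F) ⊗ₖ (G₂ : Matrix (Fin k) (Fin k) F))
    (hdec : ∀ g ∈ G, ∃ (a : GL (Fin w) F) (b : GL (Fin k) F),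
      (g : Matrix ι ι F) = tens e P (a : Matrix _ _ F) (b : Matrix _ _ F)) :
    ((D.trans (e.trans (Equiv.prodComm _ _)) P).B : Matrix (Fin k × Fin w) (Fin k × Fin w) F)
      = (G₂ : Matrix (Fin k) (Fin k) F) ⊗ₖ (G₁ : Matrix (Fin w) (Fin w) F) ∧
    ∀ g ∈ G, ∃ (a : GL (Fin k) F) (b : GL (Fin w) F),
      (g : Matrix ι ι F) = tens (e.trans (Equiv.prodComm _ _)) P (a : Matrix _ _ F) (b : Matrix _ _ F) :=
  ⟨D.trans_swap e P hB, fun g hg => by
    obtain ⟨a, b, hab⟩ := hdec g hg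
    exact ⟨b, a, hab.trans (tens_swap e P _ _)⟩⟩

/-- an irreducible group of isometries not spanning the matrices -/
theorem nonspanning_cases {G : Subgroup (GL ι F)} (hirr : ActsIrreducibly (matrixSet G)) (hGI : G ≤ D.isom)
    (hsp : ¬ Spans (matrixSet G)) : D.InNondegDecomp G ∨ D.InSingularPair G ∨ D.InFieldNorm G := by
  have hn : Norms G G := fun g hg x hx => G.mul_mem (G.mul_mem hg hx) (G.inv_mem hg)
  by_cases hz : ∀ z ∈ ctr G, IsScalarMat z
  · obtain ⟨w, k, e, P, hw, hk, h⟩ := exists_tensorAlg hirr hn hz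
    rcases Nat.lt_or_ge k 2 with hk2 | hk2
    · obtain rfl : k = 1 := by omega
      exact absurd h.spans hsp
    · exact absurd hirr (not_irred_of_tensorAlg hw hk2 h)
  push_neg at hz
  rcases D.invComm_cases hirr hGI (invComm_ctr hn) (fun z hz' => D.adj_mem_ctr hGI hz') hz with
    h | h | ⟨r, K, h1, h2, h3, h4, h5, -⟩
  · exact Or.inl h
  · exact Or.inr (Or.inl h)
  · exact Or.inr (Or.inr ⟨r, K, h1, h2, h3, h4, h5⟩)

/-- a non-scalar normal subgroup not spanning the matrices -/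
theorem normal_cases {G N : Subgroup (GL ι F)} (hirr : ActsIrreducibly (matrixSet G)) (hGI : G ≤ D.isom)
    (hNG : N ≤ G) (hn : Norms G N) (hns : ¬ N ≤ scalars ι F) (hsp : ¬ Spans (matrixSet N)) :
    D.InNondegDecomp G ∨ D.InSingularPair G ∨ D.InFieldNorm G ∨ D.InKronForm G := by
  by_cases hz : ∀ z ∈ ctr N, IsScalarMat z
  swap
  · push_neg at hz
    rcases D.invComm_cases hirr hGI (invComm_ctr hn) (fun z hz' => D.adj_mem_ctr (hNG.trans hGI) hz') hz with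
      h | h | ⟨r, K, h1, h2, h3, h4, h5, -⟩
    · exact Or.inl h
    · exact Or.inr (Or.inl h)
    · exact Or.inr (Or.inr (Or.inl ⟨r, K, h1, h2, h3, h4, h5⟩))
  obtain ⟨w, k, e, P, hw, hk, hT⟩ := exists_tensorAlg hirr hn hz
  have hw2 : 2 ≤ w := by
    by_contra hc
    obtain rfl : w = 1 := by omega
    refine hns fun g hg => mem_scalars_iff_isScalarMat.mpr ?_
    obtain ⟨A, hA⟩ := (hT _).mp (coe_mem_alg hg)
    refine ⟨A 0 0, ?_⟩
    rw [hA, show A = A 0 0 • (1 : Matrix (Fin 1) (Fin 1) F) by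
      ext p q; simp [Subsingleton.elim p 0, Subsingleton.elim q 0], tens_smul_left, tens_one]
    simp
  have hk2 : 2 ≤ k := by
    by_contra hc
    obtain rfl : k = 1 := by omega
    exact hsp hT.spans
  haveI : Nonempty (Fin w) := ⟨⟨0, hw⟩⟩
  haveI : Nonempty (Fin k) := ⟨⟨0, hk⟩⟩
  obtain ⟨G₁, G₂, ε₁, ε₂, hB, h1, h2, he, he1, he2⟩ :=
    (D.trans e P).exists_factor_forms (fun A => D.adj_left_of_tensorAlg (hNG.trans hGI) hT A)
  exact Or.inr (Or.inr (Or.inr ⟨w, k, e, P, G₁, G₂, ε₁, ε₂, hw2, hk2, by simp [Fintype.card_congr e], hB, h1, h2, he,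
    he1, he2, fun g hg => exists_tens_of_normalizes fun A =>
      (hT _).mp (cj_mem_alg hn hg ((hT _).mpr ⟨A, rfl⟩))⟩))

/-- the perfect case: residual, subfield, or a tensor power -/
theorem perfect_cases {G P : Subgroup (GL ι F)} (hGI : G ≤ D.isom) (hPG : P ≤ G) (hn : Norms G P)
    (hperf : ⁅P, P⁆ = P) (hD : ¬ P ≤ scalars ι F)
    (hmin : ∀ M : Subgroup (GL ι F), M ≤ P → Norms G M → ¬ M ≤ scalars ι F → P ≤ M ⊔ scalars ι F)
    (hsp : Spans (matrixSet P)) :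
    D.InSubfieldForm G ∨ IsResidualCore G P ∨ (D.InPowerForm G ∧ D.InKronForm P) := by
  rcases perfect_components hn hperf hD hmin hsp with hsimp | hC
  · rcases D.residualCore_or_subfield hGI hPG hn hperf hD hsimp hsp with h | h
    · exact Or.inl h
    · exact Or.inr (Or.inl h)
  obtain ⟨C⟩ := hC
  refine Or.inr (Or.inr ⟨D.inPowerForm_of_compData C hGI hPG, ?_⟩)
  obtain ⟨L, w, k, e, Q, hLP, hLn, hw, hk, hT⟩ := C.left
  haveI : Nonempty (Fin w) := ⟨⟨0, by omega⟩⟩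
  haveI : Nonempty (Fin k) := ⟨⟨0, by omega⟩⟩
  obtain ⟨G₁, G₂, ε₁, ε₂, hB, h1, h2, he, he1, he2⟩ :=
    (D.trans e Q).exists_factor_forms (fun A => D.adj_left_of_tensorAlg ((hLP.trans hPG).trans hGI) hT A)
  exact ⟨w, k, e, Q, G₁, G₂, ε₁, ε₂, hw, hk, by simp [Fintype.card_congr e], hB, h1, h2, he, he1, he2,
    fun g hg => exists_tens_of_normalizes fun A => (hT _).mp (cj_mem_alg hLn hg ((hT _).mpr ⟨A, rfl⟩))⟩

end FData

end CfsgLib.Asch
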