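import Cfsg.Agent.Lib.Aschbacher.Main
import Cfsg.Agent.Lib.Aschbacher.FormNormal
import Cfsg.Agent.Lib.Aschbacher.FormAbelianDef

/-!
# The reduction for a group of isometries containing the scalar isometries
-/

set_option autoImplicit false

namespace CfsgLib.Asch

open Matrix Cfsg.Geo
open scoped MatrixGroups

variable {ι : Type} [Fintype ι] [DecidableEq ι] [Nonempty ι] {F : Type*} [Field F] [Fintype F]

namespace FData

variable (D : FData ι F)

/-- the statement of the abelian case -/
def AbelianStep : Prop :=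
  ∀ G N : Subgroup (GL ι F), G ≤ D.isom → N ≤ G → Norms G N → scalars ι F ⊓ D.isom ≤ N →
    (∀ M ≤ N, Norms G M → scalars ι F ⊓ D.isom ≤ M → M = N ∨ M = scalars ι F ⊓ D.isom) →
    (∀ M ≤ G, Norms G M → ¬ M ≤ scalars ι F → Spans (matrixSet M)) →
    ¬ N ≤ scalars ι F → ⁅N, N⁆ ≤ scalars ι F → D.InSubfieldForm G ∨ D.InSympTypeForm G

/-- the possible outcomes -/
inductive Outcome (H G : Subgroup (GL ι F)) : Prop
  | reducible (h : InSubspace G)
  | decomp (hirr : ActsIrreducibly (matrixSet G)) (h : D.InNondegDecomp G)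
  | pair (hirr : ActsIrreducibly (matrixSet G)) (h : D.InSingularPair G)
  | field (hirr : ActsIrreducibly (matrixSet G)) (h : D.InFieldNorm G)
  | kron (hirr : ActsIrreducibly (matrixSet G)) (hsp : Spans (matrixSet G)) (h : D.InKronForm G)
  | subfield (h : D.InSubfieldForm G)
  | sympType (h : D.InSympTypeForm G)
  | power (P : Subgroup (GL ι F)) (hPG : P ≤ G) (hn : Norms G P) (hP : Spans (matrixSet P))
      (hperf : ⁅P, P⁆ = P) (h : D.InPowerForm G) (hk : D.InKronForm P)
  | residual (P : Subgroup (GL ι F)) (hPG : P ≤ G) (hn : Norms G P) (hP : Spans (matrixSet P))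
      (h : IsResidualCore H P)

omit [Fintype F] [Nonempty ι] in
lemma norms_scalar_isom {G : Subgroup (GL ι F)} (hGI : G ≤ D.isom) : Norms G (scalars ι F ⊓ D.isom) :=
  fun g hg x hx => ⟨scalars_normal.conj_mem x hx.1 g,
    D.isom.mul_mem (D.isom.mul_mem (hGI hg) hx.2) (D.isom.inv_mem (hGI hg))⟩

/-- the reduction, for `H` with its scalar isometries adjoined -/
theorem outcome_of_abelianStep (hab : D.AbelianStep) (hn : 3 ≤ Fintype.card ι) (H : Subgroup (GL ι F))
    (hH : H ≤ D.isom) : D.Outcome H (H ⊔ (scalars ι F ⊓ D.isom)) := by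
  classical
  set S := scalars ι F ⊓ D.isom with hSdef
  set G := H ⊔ S with hG
  have hGI : G ≤ D.isom := sup_le hH inf_le_right
  have hSG : S ≤ G := le_sup_right
  have hSn : Norms G S := D.norms_scalar_isom hGI
  rcases irred_or_subspace G with hirr | hW
  swap
  · exact .reducible hW
  by_cases hsp : Spans (matrixSet G)
  swap
  · rcases D.nonspanning_cases hirr hGI hsp with h | h | h
    · exact .decomp hirr h
    · exact .pair hirr h
    · exact .field hirr h
  by_cases hall : ∀ M : Subgroup (GL ι F), M ≤ G → Norms G M → ¬ M ≤ scalars ι F → Spans (matrixSet M)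
  swap
  · push_neg at hall
    obtain ⟨M, hMG, hMn, hMs, hMsp⟩ := hall
    rcases D.normal_cases hirr hGI hMG hMn hMs hMsp with h | h | h | h
    · exact .decomp hirr h
    · exact .pair hirr h
    · exact .field hirr h
    · exact .kron hirr hsp h
  have hGs : ¬ G ≤ scalars ι F := not_le_scalars_of_spans (by omega) hsp
  have hnormG : Norms G G := fun g hg x hx => G.mul_mem (G.mul_mem hg hx) (G.inv_mem hg)
  obtain ⟨N, ⟨hNG, hNn, hSN, hNs⟩, hNmin⟩ := (Set.toFinite
    {M : Subgroup (GL ι F) | M ≤ G ∧ Norms G M ∧ S ≤ M ∧ ¬ M ≤ scalars ι F}).exists_minimal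
    ⟨G, le_rfl, hnormG, hSG, hGs⟩
  by_cases hD : ⁅N, N⁆ ≤ scalars ι F
  · rcases hab G N hGI hNG hNn hSN (fun M hMN hMn hSM => (em (M ≤ scalars ι F)).elim
      (fun h => Or.inr (le_antisymm (le_inf h ((hMN.trans hNG).trans hGI)) hSM))
      (fun h => Or.inl (le_antisymm hMN (hNmin ⟨hMN.trans hNG, hMn, hSM, h⟩ hMN))))
      hall hNs hD with h | h
    · exact .subfield h
    · exact .sympType h
  set P := ⁅N, N⁆
  have hPN : P ≤ N := Subgroup.commutator_le_self N
  have hPG : P ≤ G := hPN.trans hNG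
  have hPn : Norms G P := hNn.commutatorLeft
  have hsup : ∀ M : Subgroup (GL ι F), Norms G M → Norms G (M ⊔ S) := by
    intro M hMn g hg x hx
    have hmap : (M ⊔ S).map (MulAut.conj g).toMonoidHom ≤ M ⊔ S := by
      rw [Subgroup.map_sup]
      refine sup_le_sup ?_ ?_ <;> rintro _ ⟨y, hy, rfl⟩
      · exact hMn g hg y hy
      · exact hSn g hg y hy
    exact hmap ⟨x, hx, rfl⟩
  have hsupmin : ∀ M : Subgroup (GL ι F), M ≤ N → Norms G M → ¬ M ≤ scalars ι F →
      N ≤ M ⊔ scalars ι F := fun M hMN hMn hMs =>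
    (hNmin ⟨(sup_le hMN hSN).trans hNG, hsup M hMn, le_sup_right, fun h => hMs (le_sup_left.trans h)⟩
      (sup_le hMN hSN)).trans (sup_le_sup_left inf_le_left M)
  have hperf : ⁅P, P⁆ = P :=
    le_antisymm (Subgroup.commutator_le_self P) (comm_le_of_le_sup (hsupmin P hPN hPn hD))
  have hPsp : Spans (matrixSet P) := hall P hPG hPn hD
  rcases D.perfect_cases hGI hPG hPn hperf hD
    (fun M hMP hMn hMs => hPN.trans (hsupmin M (hMP.trans hPN) hMn hMs)) hPsp with h | hc | ⟨h, hk⟩
  · exact .subfield h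
  · have hPH : P ≤ H := by
      refine (Subgroup.commutator_mono hNG hNG).trans ?_
      exact (comm_le_of_le_sup (sup_le_sup_left inf_le_left H)).trans (Subgroup.commutator_le_self H)
    exact .residual P hPG hPn hPsp ⟨hPH, fun h hh => hc.normal h (Subgroup.mem_sup_left hh), hc.perfect, hc.simple,
      hc.nonabelian, fun h hh => hc.centralizer_scalar h (Subgroup.mem_sup_left hh), hc.absIrred, hc.no_subfield⟩
  · exact .power P hPG hPn hPsp hperf h hk

end FData

end CfsgLib.Asch
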