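import Cfsg.Agent.Lib.Aschbacher.FormBasic
import Cfsg.Agent.Lib.Aschbacher.SymplecticType

/-!
# Commuting self-adjoint matrices for an alternating form
-/

set_option autoImplicit false

namespace CfsgLib.Asch

open Matrix Cfsg.Geo
open scoped MatrixGroups

variable {ι : Type} [Fintype ι] [DecidableEq ι] [Nonempty ι] {F : Type*} [Field F] [Fintype F]

namespace FData

variable (D : FData ι F)

/-- a commutative self-adjoint algebra of semisimple split elements has at most half the dimension -/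
theorem two_mul_finrank_le (h2 : (2 : F) ≠ 0) (halt : ∀ v, D.form v v = 0)
    {E : Subalgebra F (Matrix ι ι F)} (hcomm : ∀ x ∈ E, ∀ y ∈ E, x * y = y * x)
    (hadj : ∀ z ∈ E, D.adj z = z) (hq : ∀ z ∈ E, z ^ Fintype.card F = z) :
    2 * Module.finrank F E ≤ Fintype.card ι := by
  classical
  have hskew : ∀ z ∈ E, ∀ v, D.form (z *ᵥ v) v = 0 := by
    intro z hz v
    have h1 := halt (z *ᵥ v + v)
    rw [D.form_add_left, D.form_add_right, D.form_add_right, halt, halt, add_zero, zero_add,
      show D.form v (z *ᵥ v) = D.form (z *ᵥ v) v by rw [D.form_adj, hadj z hz]] at h1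
    exact (mul_eq_zero.mp (show (2 : F) * D.form (z *ᵥ v) v = 0 by linear_combination h1)).resolve_left h2
  let L : (ι → F) → (E →ₗ[F] (ι → F)) := fun v =>
    { toFun := fun z => (z : Matrix ι ι F) *ᵥ v
      map_add' := fun a b => by simp [add_mulVec]
      map_smul' := fun c a => by simp [smul_mulVec] }
  -- a vector with smallest annihilator
  obtain ⟨v, hv⟩ : ∃ v, ∀ w, Module.finrank F (LinearMap.ker (L v)) ≤ Module.finrank F (LinearMap.ker (L w)) := by
    obtain ⟨v, -, hv⟩ := (Finset.univ : Finset (ι → F)).exists_min_image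
      (fun v => Module.finrank F (LinearMap.ker (L v))) Finset.univ_nonempty
    exact ⟨v, fun w => hv w (Finset.mem_univ w)⟩
  have hinj : LinearMap.ker (L v) = ⊥ := by
    by_contra hne
    obtain ⟨z₀, hz₀, hz₀0⟩ := (Submodule.ne_bot_iff _).mp hne
    have hc : 1 < Fintype.card F := Fintype.one_lt_card
    set e : E := z₀ ^ (Fintype.card F - 1) with he
    have hze : (z₀ : Matrix ι ι F) * (e : Matrix ι ι F) = (z₀ : Matrix ι ι F) := by
      rw [he, SubmonoidClass.coe_pow, ← pow_succ', Nat.sub_add_cancel hc.le, hq _ z₀.2]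
    have hee : (e : Matrix ι ι F) * (e : Matrix ι ι F) = (e : Matrix ι ι F) := by
      obtain ⟨j, hj⟩ : ∃ j, Fintype.card F - 1 = j + 1 := ⟨Fintype.card F - 2, by omega⟩
      have hpe : (e : Matrix ι ι F) = (z₀ : Matrix ι ι F) ^ j * (z₀ : Matrix ι ι F) := by
        rw [he, SubmonoidClass.coe_pow, hj, pow_succ]
      nth_rw 1 [hpe]
      rw [mul_assoc, hze, ← hpe]
    have hev : (e : Matrix ι ι F) *ᵥ v = 0 := by
      obtain ⟨j, hj⟩ : ∃ j, Fintype.card F - 1 = j + 1 := ⟨Fintype.card F - 2, by omega⟩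
      rw [he, SubmonoidClass.coe_pow, hj, pow_succ, ← mulVec_mulVec,
        show (z₀ : Matrix ι ι F) *ᵥ v = 0 from hz₀, mulVec_zero]
    have he0 : (e : Matrix ι ι F) ≠ 0 := fun h0 => hz₀0 (Subtype.ext (by rw [← hze, h0, mul_zero]; rfl))
    obtain ⟨w, hw⟩ : ∃ w, (e : Matrix ι ι F) *ᵥ w ≠ 0 := by
      by_contra hall
      push_neg at hall
      exact he0 (Matrix.ext_of_mulVec_single fun i => by rw [hall, zero_mulVec])
    set v' := v + (e : Matrix ι ι F) *ᵥ w with hv'
    have hlt : LinearMap.ker (L v') < LinearMap.ker (L v) := by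
      refine lt_of_le_of_ne (fun z hz => ?_) fun heq => ?_
      · have h1 : (z : Matrix ι ι F) *ᵥ v' = 0 := hz
        have h3 := congrArg (fun u => (e : Matrix ι ι F) *ᵥ u) h1
        simp only [hv', mulVec_add, mulVec_zero, mulVec_mulVec] at h3
        rw [hcomm _ e.2 _ z.2, ← mulVec_mulVec, hev, mulVec_zero, zero_add, hcomm _ z.2 _ e.2, ← mul_assoc, hee,
          hcomm _ e.2 _ z.2] at h3
        rw [hv', mulVec_add, mulVec_mulVec, h3, add_zero] at h1
        exact h1
      · have h1 : e ∈ LinearMap.ker (L v') := heq ▸ (show e ∈ LinearMap.ker (L v) from hev)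
        have h3 : (e : Matrix ι ι F) *ᵥ v' = 0 := h1
        rw [hv', mulVec_add, hev, zero_add, mulVec_mulVec, hee] at h3
        exact hw h3
    exact absurd (Submodule.finrank_lt_finrank_of_lt hlt) (not_lt.mpr (hv v'))
  set W := LinearMap.range (L v) with hW
  have hWd : Module.finrank F W = Module.finrank F E := LinearMap.finrank_range_of_inj (LinearMap.ker_eq_bot.mp hinj)
  have hiso : W ≤ D.orth W := by
    rintro _ ⟨z, rfl⟩ _ ⟨z', rfl⟩
    show D.form ((z : Matrix ι ι F) *ᵥ v) ((z' : Matrix ι ι F) *ᵥ v) = 0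
    rw [D.form_adj, hadj _ z.2, mulVec_mulVec]
    have h1 := hskew _ (mul_mem z.2 z'.2) v
    rwa [D.form_adj, hadj _ (mul_mem z.2 z'.2)] at h1
  have h1 := D.finrank_add_orth W
  have h3 := Submodule.finrank_mono hiso
  omega

/-- no large elementary abelian group of self-adjoint isometries for an alternating form -/
theorem card_lt_of_elementary (h2 : (2 : F) ≠ 0) (hσ : D.σ = RingHom.id F) (halt : ∀ v, D.form v v = 0)
    {r e : ℕ} {R : Subgroup (GL ι F)} (hR : RData r e R) (hRI : R ≤ D.isom)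
    (hsign : ∀ z ∈ R, z ∈ scalars ι F → (z : Matrix ι ι F) = 1 ∨ (z : Matrix ι ι F) = -1)
    {A : Subgroup R} (hA : ∀ a ∈ A, ∀ b ∈ A, a * b = b * a) (hA2 : ∀ a ∈ A, a * a = 1) :
    Nat.card A ≤ Fintype.card ι := by
  classical
  obtain ⟨x, hxR, hcov, hli, -⟩ := hR.exists_basis
  set A' : Subgroup (GL ι F) := A.map R.subtype
  have hA'c : ∀ a ∈ A', ∀ b ∈ A', (a : Matrix ι ι F) * (b : Matrix ι ι F) = (b : Matrix ι ι F) * (a : Matrix ι ι F) := by
    rintro _ ⟨a, ha, rfl⟩ _ ⟨b, hb, rfl⟩
    rw [← Units.val_mul, ← Units.val_mul, ← map_mul, hA a ha b hb, map_mul]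
  have hcomm : ∀ X ∈ alg A', ∀ Y ∈ alg A', X * Y = Y * X := fun X hX Y hY =>
    commute_alg (fun g hg => (commute_alg (fun h hh => hA'c g hg h hh) hX).symm) hY
  have hA'2 : ∀ a ∈ A', (a : Matrix ι ι F) * (a : Matrix ι ι F) = 1 := by
    rintro _ ⟨a, ha, rfl⟩
    rw [← Units.val_mul, ← map_mul, hA2 a ha, map_one, Units.val_one]
  have hadj : ∀ z ∈ alg A', D.adj z = z := fun z hz => by
    refine alg_induction (fun z => D.adj z = z) (fun g hg => ?_) D.adj_zero
      (fun a b ha hb => by rw [D.adj_add, ha, hb]) (fun c a ha => by rw [D.adj_smul, ha, hσ]; rfl) hz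
    have hgI : g ∈ D.isom := by
      obtain ⟨a, -, rfl⟩ := hg
      exact hRI a.2
    rw [D.adj_coe hgI]
    exact Units.inv_eq_of_mul_eq_one_right (hA'2 g hg)
  obtain ⟨p, f, hp, hchar, -, hcardF⟩ := exists_prime_pow (F := F)
  haveI := Fact.mk hp
  haveI := hchar
  haveI : CharP (Matrix ι ι F) p := inferInstance
  have hodd : Odd (Fintype.card F) := two_ne_zero_iff_odd.mp h2
  have hq : ∀ z ∈ alg A', z ^ Fintype.card F = z := fun z hz => by
    refine (alg_induction (fun z => z ∈ alg A' ∧ z ^ Fintype.card F = z) (fun g hg => ?_) ?_ ?_ ?_ hz).2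
    · refine ⟨coe_mem_alg hg, ?_⟩
      obtain ⟨j, hj⟩ := hodd
      rw [hj, pow_succ, pow_mul, _root_.sq, hA'2 g hg, one_pow, one_mul]
    · exact ⟨zero_mem _, zero_pow Fintype.card_ne_zero⟩
    · rintro a b ⟨ha, ha'⟩ ⟨hb, hb'⟩
      refine ⟨add_mem ha hb, ?_⟩
      rw [hcardF, add_pow_char_pow_of_commute (p := p) (h := hcomm a ha b hb), ← hcardF, ha', hb']
    · rintro c a ⟨ha, ha'⟩
      exact ⟨Subalgebra.smul_mem _ ha c, by rw [smul_pow, ha', FiniteField.pow_card]⟩
  have hdim := D.two_mul_finrank_le h2 halt hcomm hadj hq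
  choose cl hcl using fun a : A => hcov ((a : R) : GL ι F) (a : R).2
  set T := (Finset.univ : Finset A).image cl with hT
  have hcard : Nat.card A ≤ 2 * T.card := by
    rw [Nat.card_eq_fintype_card, ← Finset.card_univ]
    refine Finset.card_le_mul_card_image _ _ fun c hc => ?_
    obtain ⟨a₀, -, rfl⟩ := Finset.mem_image.mp hc
    let val : A → Matrix ι ι F := fun a => (((a : R) : GL ι F) : Matrix ι ι F)
    refine (Finset.card_le_card_of_injOn val (t := {val a₀, -val a₀}) ?_ ?_).trans Finset.card_le_two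
    · intro a ha
      obtain ⟨-, ha⟩ := Finset.mem_filter.mp ha
      obtain ⟨z, hz, -, hza⟩ := hcl a
      obtain ⟨z₀, hz₀, -, hza₀⟩ := hcl a₀
      rw [ha] at hza
      have hs : ((a : R) : GL ι F) * ((a₀ : R) : GL ι F)⁻¹ ∈ scalars ι F := by
        rw [hza, hza₀, _root_.mul_inv_rev, ← mul_assoc, mul_assoc z, mul_inv_cancel, mul_one]
        exact mul_mem hz (inv_mem hz₀)
      have hval : val a = ((((a : R) : GL ι F) * ((a₀ : R) : GL ι F)⁻¹ : GL ι F) : Matrix ι ι F) * val a₀ := by
        simp [val]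
      rcases hsign _ (R.mul_mem (a : R).2 (R.inv_mem (a₀ : R).2)) hs with h1 | h1
      · rw [h1, one_mul] at hval
        simp [hval]
      · rw [h1, neg_one_mul] at hval
        simp [hval]
    · intro a _ b _ hab
      exact Subtype.ext (Subtype.ext (Units.ext hab))
  have hT2 : T.card ≤ Module.finrank F (alg A') := by
    let fam : T → alg A' := fun c => ⟨(x c.1 : Matrix ι ι F), by
      obtain ⟨a, -, ha⟩ := Finset.mem_image.mp c.2
      obtain ⟨z, hz, -, hza⟩ := hcl a
      rw [ha] at hza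
      obtain ⟨s, hs⟩ := mem_scalars_iff_isScalarMat.mp (inv_mem hz)
      rw [show x c.1 = z⁻¹ * ((a : R) : GL ι F) by rw [hza, inv_mul_cancel_left], Units.val_mul, hs, smul_mul_assoc,
        one_mul]
      exact Subalgebra.smul_mem _ (coe_mem_alg (Subgroup.mem_map_of_mem R.subtype a.2)) s⟩
    have hfam : LinearIndependent F fam :=
      LinearIndependent.of_comp (alg A').val.toLinearMap (hli.comp Subtype.val Subtype.val_injective)
    simpa using hfam.fintype_card_le_finrank
  omega

end FData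

end CfsgLib.Asch
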