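import Cfsg.Agent.Lib.Aschbacher.SymplecticType

/-!
# Descent of a group whose scalars are signs
-/

set_option autoImplicit false

namespace CfsgLib.Asch

open Matrix Cfsg.Geo
open scoped MatrixGroups

variable {ι : Type} [Fintype ι] [DecidableEq ι] {F : Type*} [Field F] [Fintype F]

namespace RData

variable {r e : ℕ} {R : Subgroup (GL ι F)} (h : RData r e R)
include h

set_option maxHeartbeats 1000000 in
set_option backward.isDefEq.respectTransparency false in
/-- a spanning group whose scalars are `±1` and commutators scalar is defined over every subfield -/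
theorem realisable_of_sign [Nonempty ι] {F₀ : Subfield F}
    (hsign : ∀ z ∈ R, z ∈ scalars ι F → (z : Matrix ι ι F) = 1 ∨ (z : Matrix ι ι F) = -1) :
    RealisableOver F₀ (matrixSet R) := by
  classical
  obtain ⟨x, hxR, hcov, hli, -⟩ := h.exists_basis
  cases nonempty_fintype (R ⧸ Subgroup.center R)
  set X : R ⧸ Subgroup.center R → Matrix ι ι F := fun c => (x c : Matrix ι ι F) with hX
  set A₀ : Subalgebra F₀ (Matrix ι ι F) := Algebra.adjoin F₀ (matrixSet R) with hA₀
  have hcoe : ∀ y ∈ R, (y : Matrix ι ι F) ∈ A₀ := fun y hy => Algebra.subset_adjoin ⟨y, hy, rfl⟩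
  -- coordinates in the basis of representatives
  have hone : ∀ y ∈ R, ∃ c, ∃ a : F₀, (y : Matrix ι ι F) = (a : F) • X c := by
    intro y hy
    obtain ⟨c, z, hz, -, rfl⟩ := hcov y hy
    have hzR : z ∈ R := by simpa using R.mul_mem hy (R.inv_mem (hxR c))
    rcases hsign z hzR hz with h1 | h1
    · exact ⟨c, 1, by simp [X, h1]⟩
    · exact ⟨c, -1, by simp [X, h1]⟩
  have hrepr : ∀ M ∈ A₀, ∃ a : R ⧸ Subgroup.center R → F₀, ∑ c, (a c : F) • X c = M := by
    intro M hM
    let S : Submonoid (Matrix ι ι F) := R.toSubmonoid.map (Units.coeHom _)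
    have hS : Submonoid.closure (matrixSet R) ≤ S := Submonoid.closure_le.mpr (by
      rintro _ ⟨y, hy, rfl⟩; exact ⟨y, hy, rfl⟩)
    have hspan : M ∈ Submodule.span F₀ (Set.range X) := by
      have h1 : M ∈ Subalgebra.toSubmodule A₀ := hM
      rw [hA₀, Algebra.adjoin_eq_span] at h1
      refine Submodule.span_le.mpr ?_ h1
      intro w hw
      obtain ⟨y, hy, rfl⟩ := hS hw
      obtain ⟨c, a, ha⟩ := hone y hy
      show (y : Matrix ι ι F) ∈ _
      rw [ha, ← Subfield.smul_def]
      exact Submodule.smul_mem _ _ (Submodule.subset_span ⟨c, rfl⟩)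
    obtain ⟨a, ha⟩ := (Submodule.mem_span_range_iff_exists_fun F₀).mp hspan
    exact ⟨a, by simpa [Subfield.smul_def] using ha⟩
  have hmult : ∀ y ∈ R, ∀ c, ∃ μ : F₀, cj y (X c) = (μ : F) • X c := by
    intro y hy c
    rcases hsign _ (R.mul_mem (R.mul_mem (R.mul_mem hy (hxR c)) (R.inv_mem hy)) (R.inv_mem (hxR c)))
      (h.comm_scalar y hy _ (hxR c)) with h1 | h1
    · refine ⟨1, ?_⟩
      rw [hX, cj_coe, show y * x c * y⁻¹ = (y * x c * y⁻¹ * (x c)⁻¹) * x c by group, Units.val_mul, h1]
      simp
    · refine ⟨-1, ?_⟩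
      rw [hX, cj_coe, show y * x c * y⁻¹ = (y * x c * y⁻¹ * (x c)⁻¹) * x c by group, Units.val_mul, h1]
      simp
  choose μ hμ using hmult
  have hsep : ∀ c c', c ≠ c' → ∃ (y : GL ι F) (hy : y ∈ R), μ y hy c ≠ μ y hy c' := by
    intro c c' hne
    by_contra hall
    push_neg at hall
    have hs : (x c)⁻¹ * x c' ∈ scalars ι F := by
      refine h.spans.mem_scalars_of_commute fun y hy => ?_
      refine Units.ext ?_
      have h1 : cj y (X c) = (μ y hy c : F) • X c := hμ y hy c
      have h2 : cj y (X c') = (μ y hy c : F) • X c' := by rw [hall y hy]; exact hμ y hy c'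
      have h0 : (μ y hy c : F) ≠ 0 := fun h0 => by
        rw [h0, zero_smul, ← cj_zero y] at h1
        exact (x c).ne_zero (cj_injective y h1)
      have h4 : X c * (((x c)⁻¹ * x c' : GL ι F) : Matrix ι ι F) = X c' := by
        simp [X, ← Units.val_mul]
      have h5 := congrArg (cj y) h4
      rw [cj_mul, h1, h2, smul_mul_assoc] at h5
      have h6 : X c * cj y (((x c)⁻¹ * x c' : GL ι F) : Matrix ι ι F)
          = X c * (((x c)⁻¹ * x c' : GL ι F) : Matrix ι ι F) :=
        (smul_right_injective (Matrix ι ι F) h0 h5).trans h4.symm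
      have h7 := cj_eq_iff_commute.mp ((x c).isUnit.mul_left_cancel h6)
      simpa using h7.symm
    obtain ⟨a, ha⟩ := mem_scalars_iff_isScalarMat.mp hs
    refine hne (hli.eq_of_smul_apply_eq_smul_apply c c' (c := a) (d := 1) (fun h0 => ?_) ?_)
    · rw [h0, zero_smul] at ha
      exact ((x c)⁻¹ * x c').ne_zero ha
    · have h4 : X c * (((x c)⁻¹ * x c' : GL ι F) : Matrix ι ι F) = X c' := by simp [X, ← Units.val_mul]
      rw [one_smul]
      show a • X c = X c'
      rw [← h4, ha, mul_smul_comm, mul_one]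
  -- the algebra is simple
  haveI : Nontrivial A₀ := ⟨0, 1, fun h0 => zero_ne_one (α := Matrix ι ι F) (congrArg Subtype.val h0)⟩
  haveI : Finite A₀ := inferInstance
  haveI : IsSimpleRing A₀ := by
    refine IsSimpleRing.of_eq_bot_or_eq_top fun I => ?_
    by_contra hI
    push_neg at hI
    obtain ⟨hbot, htop⟩ := hI
    obtain ⟨m₀, hm₀, hm₀0⟩ : ∃ m ∈ I, m ≠ 0 := by
      by_contra hc
      push_neg at hc
      refine hbot (le_bot_iff.mp fun m hm => ?_)
      rw [TwoSidedIdeal.mem_bot]
      exact hc m hm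
    have key : ∀ (N : ℕ) (m : A₀) (a : R ⧸ Subgroup.center R → F₀), m ∈ I → m ≠ 0 →
        ∑ c, (a c : F) • X c = (m : Matrix ι ι F) → (Finset.univ.filter fun c => a c ≠ 0).card ≤ N → False := by
      intro N
      induction N with
      | zero =>
        intro m a _ hm0 ha hN
        refine hm0 (Subtype.ext ?_)
        rw [← ha]
        refine Finset.sum_eq_zero fun c _ => ?_
        have : a c = 0 := by
          by_contra h0
          exact Finset.notMem_empty c (Finset.card_eq_zero.mp (Nat.le_zero.mp hN) ▸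
            Finset.mem_filter.mpr ⟨Finset.mem_univ c, h0⟩)
        simp [this]
      | succ N ih =>
        intro m a hm hm0 ha hN
        obtain ⟨c, hc⟩ : ∃ c, a c ≠ 0 := by
          by_contra hall
          push_neg at hall
          exact hm0 (Subtype.ext (by rw [← ha]; simp [hall]))
        by_cases hone' : ∀ c', c' ≠ c → a c' = 0
        · -- a unit in the ideal
          refine htop ((TwoSidedIdeal.one_mem_iff I).mp ?_)
          have hm' : (m : Matrix ι ι F) = (a c : F) • X c := by
            rw [← ha]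
            exact Finset.sum_eq_single c (fun c' _ hne => by simp [hone' c' hne]) (by simp)
          let u : A₀ := (a c)⁻¹ • ⟨(((x c)⁻¹ : GL ι F) : Matrix ι ι F), hcoe _ (R.inv_mem (hxR c))⟩
          have hu : u * m = 1 := by
            apply Subtype.ext
            have hc' : (a c : F) ≠ 0 := fun h0 => hc (Subtype.ext h0)
            show ((a c)⁻¹ : F₀) • (((x c)⁻¹ : GL ι F) : Matrix ι ι F) * (m : Matrix ι ι F) = 1
            rw [hm', Subfield.smul_def, smul_mul_assoc, mul_smul_comm, smul_smul]
            simp [X, hc']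
          rw [← hu]
          exact I.mul_mem_left _ _ hm
        push_neg at hone'
        obtain ⟨c', hne, hc'⟩ := hone'
        obtain ⟨y, hy, hsep⟩ := hsep c c' (Ne.symm hne)
        let m' : A₀ := ⟨(y : Matrix ι ι F), hcoe y hy⟩ * m * ⟨((y⁻¹ : GL ι F) : Matrix ι ι F), hcoe _ (R.inv_mem hy)⟩
          - μ y hy c' • m
        have hm'I : m' ∈ I := by
          refine I.sub_mem (I.mul_mem_right _ _ (I.mul_mem_left _ _ hm)) ?_
          rw [Algebra.smul_def]
          exact I.mul_mem_left _ _ hm
        set a' : R ⧸ Subgroup.center R → F₀ := fun d => (μ y hy d - μ y hy c') * a d with ha'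
        have hsum : ∑ d, (a' d : F) • X d = (m' : Matrix ι ι F) := by
          show _ = (y : Matrix ι ι F) * (m : Matrix ι ι F) * ((y⁻¹ : GL ι F) : Matrix ι ι F)
            - μ y hy c' • (m : Matrix ι ι F)
          rw [show (y : Matrix ι ι F) * (m : Matrix ι ι F) * ((y⁻¹ : GL ι F) : Matrix ι ι F) = cj y (m : Matrix ι ι F)
            from rfl, ← ha, Subfield.smul_def, Finset.smul_sum]
          have hl : cj y (∑ d, (a d : F) • X d) = ∑ d, cj y ((a d : F) • X d) :=
            map_sum ({ toFun := cj y, map_zero' := cj_zero y, map_add' := cj_add y } : Matrix ι ι F →+ Matrix ι ι F) _ _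
          rw [hl, ← Finset.sum_sub_distrib]
          refine Finset.sum_congr rfl fun d _ => ?_
          rw [cj_smul, hμ y hy d, smul_smul, smul_smul, ← sub_smul]
          congr 1
          simp only [a', Subfield.coe_mul, Subfield.coe_sub]
          ring
        have ha'c : a' c ≠ 0 := mul_ne_zero (sub_ne_zero.mpr hsep) hc
        refine ih m' a' hm'I (fun h0 => ha'c ?_) hsum ?_
        · have := Fintype.linearIndependent_iff.mp hli (fun d => (a' d : F)) (by
            rw [hsum, h0]; rfl) c
          exact Subtype.ext this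
        · have hsub : (Finset.univ.filter fun d => a' d ≠ 0) ⊆
              (Finset.univ.filter fun d => a d ≠ 0).erase c' := by
            intro d hd
            have hd' := (Finset.mem_filter.mp hd).2
            refine Finset.mem_erase.mpr ⟨fun hdc => hd' (by simp [a', hdc]),
              Finset.mem_filter.mpr ⟨Finset.mem_univ _, fun h0 => hd' (by simp [a', h0])⟩⟩
          have := Finset.card_le_card hsub
          have h5 := Finset.card_erase_of_mem (s := Finset.univ.filter fun d => a d ≠ 0) (a := c') (by simp [hc'])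
          omega
    obtain ⟨a, ha⟩ := hrepr _ m₀.2
    exact key _ m₀ a hm₀ hm₀0 ha le_rfl
  haveI : IsArtinianRing A₀ := inferInstance
  obtain ⟨d, hd, E, iE, iA, iM, ⟨φe⟩⟩ := IsSimpleRing.exists_algEquiv_matrix_divisionRing_finite F₀ A₀
  haveI : Finite E := Module.finite_of_finite F₀
  letI := littleWedderburn E
  -- the centre is the small field
  have hsurj : Function.Surjective (algebraMap F₀ E) := by
    intro z
    set m : A₀ := φe.symm (Matrix.scalar (Fin d) z)
    have hsc : IsScalarMat (m : Matrix ι ι F) := by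
      refine h.spans.scalar_of_commute fun y hy => ?_
      have hc : (⟨(y : Matrix ι ι F), hcoe y hy⟩ : A₀) * m = m * ⟨(y : Matrix ι ι F), hcoe y hy⟩ := by
        refine φe.injective ?_
        rw [map_mul, map_mul, φe.apply_symm_apply]
        exact (Matrix.scalar_commute z (fun r' => Commute.all z r') _).eq.symm
      exact (congrArg Subtype.val hc).symm
    obtain ⟨s, hs⟩ := hsc
    obtain ⟨a, ha⟩ := hrepr _ m.2
    obtain ⟨c₀, b, hb⟩ := hone 1 R.one_mem
    rw [Units.val_one] at hb
    have h0 : ∑ c, ((a c : F) - if c = c₀ then s * (b : F) else 0) • X c = 0 := by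
      simp only [sub_smul, Finset.sum_sub_distrib, ha, ite_smul, zero_smul, Finset.sum_ite_eq', Finset.mem_univ,
        if_true]
      rw [hs, ← smul_smul, ← hb, sub_self]
    have hsb := Fintype.linearIndependent_iff.mp hli _ h0 c₀
    rw [if_pos rfl, sub_eq_zero] at hsb
    have hb0 : (b : F) ≠ 0 := fun h0 => by rw [h0, zero_smul] at hb; exact one_ne_zero hb
    have hsF : s = ((a c₀ * b⁻¹ : F₀) : F) := by
      rw [Subfield.coe_mul, Subfield.coe_inv, hsb, mul_assoc, mul_inv_cancel₀ hb0, mul_one]
    refine ⟨a c₀ * b⁻¹, ?_⟩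
    have hm : m = algebraMap F₀ A₀ (a c₀ * b⁻¹) := by
      refine Subtype.ext ?_
      rw [hs, hsF, Algebra.algebraMap_eq_smul_one]
      rfl
    have h1 := congrArg φe hm
    rw [φe.apply_symm_apply, φe.commutes, Matrix.algebraMap_eq_diagonal] at h1
    have := congrFun (congrFun h1 0) 0
    simpa using this.symm
  let ψ : Matrix (Fin d) (Fin d) F₀ →+* Matrix ι ι F :=
    A₀.val.toRingHom.comp (φe.symm.toRingEquiv.toRingHom.comp (algebraMap F₀ E).mapMatrix)
  obtain ⟨k, e', P, hP⟩ := (munits_of_ringHom ψ).exists_coord (0 : Fin d)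
  have hψ : ∀ Y, ψ Y = tens e' P (Y.map F₀.subtype) 1 := by
    intro Y
    induction Y using Matrix.induction_on' with
    | h_zero => simp
    | h_add p q hp hq =>
      rw [map_add, hp, hq, ← tens_add_left]
      congr 1
    | h_std_basis i j t =>
      have ht : Matrix.single i j t = t • Matrix.single i j (1 : F₀) := by
        rw [Matrix.smul_single, smul_eq_mul, mul_one]
      have hsm : ψ (t • Matrix.single i j (1 : F₀)) = (t : F) • ψ (Matrix.single i j (1 : F₀)) := by
        have h1 : (algebraMap F₀ E).mapMatrix (t • Matrix.single i j (1 : F₀))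
            = t • (algebraMap F₀ E).mapMatrix (Matrix.single i j (1 : F₀)) := by
          ext a b
          simp only [RingHom.mapMatrix_apply, Matrix.smul_apply, Matrix.map_apply]
          rw [smul_eq_mul, map_mul, ← Algebra.smul_def]
        show ((φe.symm ((algebraMap F₀ E).mapMatrix (t • Matrix.single i j (1 : F₀))) : A₀) : Matrix ι ι F) = _
        rw [h1, map_smul]
        rfl
      rw [ht, hsm, show ψ (Matrix.single i j (1 : F₀)) = tens e' P (single i j 1) 1 from hP i j, ← tens_smul_left]
      congr 1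
      ext a b
      simp [Matrix.single_apply]
      split_ifs <;> simp
  refine ⟨P⁻¹, ?_⟩
  rintro _ ⟨y, hy, rfl⟩ i j
  choose pre hpre using hsurj
  have hy' : ψ ((φe ⟨(y : Matrix ι ι F), hcoe y hy⟩).map pre) = (y : Matrix ι ι F) := by
    have h1 : (algebraMap F₀ E).mapMatrix ((φe ⟨(y : Matrix ι ι F), hcoe y hy⟩).map pre)
        = φe ⟨(y : Matrix ι ι F), hcoe y hy⟩ := by ext a b; simp [hpre]
    show ((φe.symm _ : A₀) : Matrix ι ι F) = _
    rw [h1, φe.symm_apply_apply]
  rw [inv_inv]
  show (((P⁻¹ : GL ι F) : Matrix ι ι F) * (y : Matrix ι ι F) * (P : Matrix ι ι F)) i j ∈ F₀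
  rw [← hy', hψ]
  have hcj : ((P⁻¹ : GL ι F) : Matrix ι ι F) * tens e' P (((φe ⟨(y : Matrix ι ι F), hcoe y hy⟩).map pre).map F₀.subtype) 1
      * (P : Matrix ι ι F) = cj P⁻¹ (tens e' P (((φe ⟨(y : Matrix ι ι F), hcoe y hy⟩).map pre).map F₀.subtype) 1) := by
    simp [cj]
  rw [hcj, tens, cj_cj, inv_mul_cancel, cj_one_left]
  simp only [Matrix.reindexAlgEquiv_apply, Matrix.reindex_apply, Matrix.submatrix_apply, Equiv.symm_symm,
    kroneckerMap_apply, Matrix.one_apply, Matrix.map_apply]
  split_ifs
  · simp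
  · simp

end RData

end CfsgLib.Asch
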