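import Cfsg.Agent.Lib.Aschbacher.AbelianCase
import Cfsg.Agent.Lib.Aschbacher.SignDescent
import Cfsg.Agent.Lib.Aschbacher.FormMinus
import Cfsg.Agent.Lib.Aschbacher.FormSubfield
import Cfsg.Agent.Lib.Aschbacher.FormAbelianDef
import Cfsg.Agent.Lib.Aschbacher.FormMain

/-!
# A minimal normal non-scalar group of isometries with scalar commutators
-/

set_option autoImplicit false

namespace CfsgLib.Asch

open Matrix Cfsg.Geo
open scoped MatrixGroups

variable {ι : Type} [Fintype ι] [DecidableEq ι] [Nonempty ι] {F : Type*} [Field F] [Fintype F]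

namespace FData

variable (D : FData ι F)

set_option maxHeartbeats 2000000 in
/-- Aschbacher's abelian step for groups of isometries -/
theorem abelianStep : D.AbelianStep := by
  intro G N hGI hNG hn hSN hmin hall hns hD
  classical
  have hNI : N ≤ D.isom := hNG.trans hGI
  have hspN : Spans (matrixSet N) := hall N hNG hn hns
  let mk : Fˣ →* GL ι F := Units.map (Matrix.scalar ι : F →+* Matrix ι ι F).toMonoidHom
  have hmk : ∀ c : Fˣ, (mk c : Matrix ι ι F) = (c : F) • (1 : Matrix ι ι F) := fun c => by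
    simp [mk, Matrix.smul_one_eq_diagonal]
  set Su : Subgroup Fˣ := D.isom.comap mk with hSudef
  have hSuN : ∀ c ∈ Su, mk c ∈ N := fun c hc => hSN ⟨⟨c, rfl⟩, hc⟩
  -- non-commuting elements
  obtain ⟨x, hx, y, hy, hxy⟩ : ∃ x ∈ N, ∃ y ∈ N, x * y ≠ y * x := by
    by_contra hc
    push_neg at hc
    exact hns fun a ha => hspN.mem_scalars_of_commute fun b hb => hc a ha b hb
  have hcom : ∀ a ∈ N, ∀ b ∈ N, ∃ c ∈ scalars ι F,
      c ∈ D.isom ∧ (∀ h : GL ι F, c * h = h * c) ∧ b * a = c * (a * b) := by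
    intro a ha b hb
    refine ⟨b * a * b⁻¹ * a⁻¹, hD (Subgroup.commutator_mem_commutator hb ha),
      hNI (N.mul_mem (N.mul_mem (N.mul_mem hb ha) (N.inv_mem hb)) (N.inv_mem ha)), fun h => ?_, by group⟩
    exact scalar_commute (hD (Subgroup.commutator_mem_commutator hb ha)) h
  have hxns : x ∉ scalars ι F := fun h => hxy (scalar_commute h y)
  -- choose the prime
  obtain ⟨r, hr, x', hx', hx'ns, hx'r⟩ : ∃ r : ℕ, r.Prime ∧ ∃ x' ∈ N, x' ∉ scalars ι F ∧ x' ^ r ∈ scalars ι F := by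
    let q := orderOf (QuotientGroup.mk x : GL ι F ⧸ scalars ι F)
    have hq1 : q ≠ 1 := fun h1 => hxns ((QuotientGroup.eq_one_iff x).mp (orderOf_eq_one_iff.mp h1))
    have hq0 : q ≠ 0 := (orderOf_pos _).ne'
    obtain ⟨r, hr, k, hk⟩ := Nat.exists_prime_and_dvd hq1
    refine ⟨r, hr, x ^ k, N.pow_mem hx k, fun h => ?_, ?_⟩
    · have h1 : (QuotientGroup.mk x : GL ι F ⧸ scalars ι F) ^ k = 1 := (QuotientGroup.eq_one_iff _).mpr h
      have h2 : q ∣ k := orderOf_dvd_of_pow_eq_one h1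
      have hk0 : k ≠ 0 := by rintro rfl; exact hq0 (by simpa using hk)
      have hle := Nat.le_of_dvd (Nat.pos_of_ne_zero hk0) h2
      have hlt : 1 * k < r * k := Nat.mul_lt_mul_of_pos_right hr.one_lt (Nat.pos_of_ne_zero hk0)
      rw [one_mul, ← hk] at hlt
      omega
    · rw [← QuotientGroup.eq_one_iff, QuotientGroup.mk_pow, QuotientGroup.mk_pow, ← pow_mul, mul_comm k r, ← hk]
      exact pow_orderOf_eq_one _
  have hcommq : ∀ a ∈ N, ∀ b ∈ N, Commute (QuotientGroup.mk a : GL ι F ⧸ scalars ι F) (QuotientGroup.mk b) := by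
    intro a ha b hb
    obtain ⟨c, hc, -, -, hba⟩ := hcom b hb a ha
    show (QuotientGroup.mk a : GL ι F ⧸ scalars ι F) * QuotientGroup.mk b = QuotientGroup.mk b * QuotientGroup.mk a
    rw [← QuotientGroup.mk_mul, ← QuotientGroup.mk_mul, hba, QuotientGroup.mk_mul _ c,
      (QuotientGroup.eq_one_iff c).mpr hc, one_mul]
  let M₁ : Subgroup (GL ι F) :=
  { carrier := {a | a ∈ N ∧ a ^ r ∈ scalars ι F}
    one_mem' := ⟨N.one_mem, by simp⟩
    mul_mem' := fun {a b} ha hb => ⟨N.mul_mem ha.1 hb.1, by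
      rw [← QuotientGroup.eq_one_iff, QuotientGroup.mk_pow, QuotientGroup.mk_mul,
        (hcommq a ha.1 b hb.1).mul_pow, ← QuotientGroup.mk_pow, ← QuotientGroup.mk_pow,
        (QuotientGroup.eq_one_iff _).mpr ha.2, (QuotientGroup.eq_one_iff _).mpr hb.2, one_mul]⟩
    inv_mem' := fun {a} ha => ⟨N.inv_mem ha.1, by rw [inv_pow]; exact inv_mem ha.2⟩ }
  have hM₁ : M₁ = N := by
    refine (hmin M₁ (fun a ha => ha.1) (fun g hg a ha => ⟨hn g hg a ha.1, ?_⟩) (fun z hz =>
      ⟨hSN hz, pow_mem hz.1 r⟩)).resolve_right (fun h => hx'ns ?_)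
    · rw [conj_pow]
      exact (scalars_normal (ι := ι) (F := F)).conj_mem _ ha.2 g
    · exact (h ▸ (show x' ∈ M₁ from ⟨hx', hx'r⟩) : x' ∈ scalars ι F ⊓ D.isom).1
  have hpowr : ∀ a ∈ N, a ^ r ∈ scalars ι F := fun a ha => (hM₁ ▸ ha : a ∈ M₁).2
  have hunit : ∀ a ∈ N, a ∈ scalars ι F → ∃ c ∈ Su, mk c = a := by
    rintro a ha ⟨c, rfl⟩
    exact ⟨c, hNI ha, rfl⟩
  -- commutators have order dividing `r`
  have hcr : ∀ a ∈ N, ∀ b ∈ N, ∀ c, (∀ h : GL ι F, c * h = h * c) → b * a = c * (a * b) → c ^ r = 1 := by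
    intro a ha b hb c hc hba
    have hconj : b * a * b⁻¹ = c * a := by rw [hba]; group
    have h1 := conj_pow (i := r) (a := b) (b := a)
    rw [hconj, (show Commute c a from hc a).mul_pow, ← scalar_commute (hpowr a ha) b] at h1
    simpa using h1
  obtain ⟨c₀, hc₀, hc₀I, hc₀c, hc₀xy⟩ := hcom x hx y hy
  obtain ⟨u₀, hu₀⟩ := exists_unit_of_mem_scalars hc₀
  have hu₀S : u₀ ∈ Su := Subgroup.mem_comap.mpr (show mk u₀ ∈ D.isom from hu₀.symm ▸ hc₀I)
  have hu₀r : u₀ ^ r = 1 := scalarMap_injective (ι := ι) (by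
    rw [map_pow, hu₀, map_one]; exact hcr x hx y hy c₀ hc₀c hc₀xy)
  have hu₀1 : u₀ ≠ 1 := by
    rintro rfl
    rw [map_one] at hu₀
    rw [← hu₀, one_mul] at hc₀xy
    exact hxy hc₀xy.symm
  obtain ⟨p, f, hp, hchar, hf, hcard⟩ := exists_prime_pow (F := F)
  haveI := Fact.mk hp
  haveI := hchar
  haveI := Fact.mk hr
  have hrp : r ≠ p := by
    rintro rfl
    refine hu₀1 (Units.ext ?_)
    have h1 : ((u₀ : F) - 1) ^ r = 0 := by
      rw [sub_pow_char, one_pow, ← Units.val_pow_eq_pow_val, hu₀r, Units.val_one, sub_self]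
    exact sub_eq_zero.mp (pow_eq_zero_iff hp.ne_zero |>.mp h1)
  have hrq : r ∣ Nat.card Su := by
    have h1 : orderOf u₀ = r := orderOf_eq_prime hu₀r hu₀1
    have h3 := orderOf_dvd_natCard (⟨u₀, hu₀S⟩ : Su)
    rwa [← Subgroup.orderOf_coe, show (((⟨u₀, hu₀S⟩ : Su) : Fˣ)) = u₀ from rfl, h1] at h3
  set d := Nat.gcd 2 r with hd
  set e := r * d with he
  have hT : r ∣ e.choose 2 := by
    rcases hr.eq_two_or_odd' with h2 | hodd
    · have : e = 4 := by rw [he, hd, h2]; rfl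
      rw [this, h2]; decide
    · have hd1 : d = 1 := Nat.coprime_iff_gcd_eq_one.mp (Nat.coprime_two_left.mpr hodd)
      rw [he, hd1, mul_one, Nat.choose_two_right]
      obtain ⟨k, hk⟩ := hodd
      exact ⟨k, by rw [show r - 1 = 2 * k by omega, show r * (2 * k) = r * k * 2 by ring, Nat.mul_div_cancel _ two_pos]⟩
  have hTd : r ∣ r.choose 2 * d := by
    rcases hr.eq_two_or_odd' with h2 | hodd
    · rw [hd, h2]; decide
    · refine Dvd.dvd.mul_right ?_ _
      rw [Nat.choose_two_right]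
      obtain ⟨k, hk⟩ := hodd
      exact ⟨k, by rw [show r - 1 = 2 * k by omega, show r * (2 * k) = r * k * 2 by ring, Nat.mul_div_cancel _ two_pos]⟩
  have hmulpow : ∀ a ∈ N, ∀ b ∈ N, (a * b) ^ e = a ^ e * b ^ e := by
    intro a ha b hb
    obtain ⟨c, -, -, hcc, hba⟩ := hcom a ha b hb
    obtain ⟨k, hk⟩ := hT
    rw [mul_pow_class_two hcc hba, hk, pow_mul, hcr a ha b hb c hcc hba, one_pow, one_mul]
  have hsc : ∀ (z : Fˣ) (a : GL ι F), mk z * a = a * mk z := fun z a => scalar_commute ⟨z, rfl⟩ a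
  let N₁ : Subgroup (GL ι F) :=
  { carrier := {a | a ∈ N ∧ ∃ z ∈ Su, (mk z * a) ^ e = 1}
    one_mem' := ⟨N.one_mem, 1, Su.one_mem, by simp⟩
    mul_mem' := fun {a b} ha hb => by
      obtain ⟨ha, z, hzS, hz⟩ := ha
      obtain ⟨hb, w, hwS, hw⟩ := hb
      refine ⟨N.mul_mem ha hb, z * w, Su.mul_mem hzS hwS, ?_⟩
      have : mk (z * w) * (a * b) = (mk z * a) * (mk w * b) := by
        rw [map_mul, mul_assoc, mul_assoc (mk z) a, ← mul_assoc a (mk w), ← hsc w a, mul_assoc]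
      rw [this, hmulpow _ (N.mul_mem (hSuN z hzS) ha) _ (N.mul_mem (hSuN w hwS) hb), hz, hw, one_mul]
    inv_mem' := fun {a} ha => by
      obtain ⟨ha, z, hzS, hz⟩ := ha
      refine ⟨N.inv_mem ha, z⁻¹, Su.inv_mem hzS, ?_⟩
      rw [map_inv, scalar_commute (inv_mem (⟨z, rfl⟩ : mk z ∈ scalars ι F)) a⁻¹, ← _root_.mul_inv_rev,
        inv_pow, hz, inv_one] }
  obtain ⟨g₀, hg₀⟩ := IsCyclic.exists_generator (α := Su)
  have hN₁ : N₁ = N := by
    refine (hmin N₁ (fun a ha => ha.1) ?_ ?_).resolve_right fun h => ?_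
    · rintro g hg a ⟨ha, z, hzS, hz⟩
      refine ⟨hn g hg a ha, z, hzS, ?_⟩
      have : mk z * (g * a * g⁻¹) = g * (mk z * a) * g⁻¹ := by
        rw [← mul_assoc g (mk z), ← hsc z g]; simp [mul_assoc]
      rw [this, conj_pow, hz, mul_one, mul_inv_cancel]
    · rintro _ ⟨⟨c, rfl⟩, hc⟩
      have hc' : c ∈ Su := hc
      exact ⟨hSuN c hc', c⁻¹, Su.inv_mem hc', by simp [mk]⟩
    -- otherwise some product of powers of `x, y` would be a non-scalar element of `N₁`
    have hlog : ∀ a ∈ N, ∃ i : ℤ, a ^ r = mk (g₀ : Fˣ) ^ i := by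
      intro a ha
      obtain ⟨c, hcS, hc⟩ := hunit _ (N.pow_mem ha r) (hpowr a ha)
      obtain ⟨i, hi⟩ := Subgroup.mem_zpowers_iff.mp (hg₀ ⟨c, hcS⟩)
      refine ⟨i, ?_⟩
      rw [← map_zpow, ← SubgroupClass.coe_zpow, hi]
      exact hc.symm
    have hroot : ∀ a ∈ N, ∀ (k : ℤ) (ω : GL ι F), ω ^ d = 1 →
        a ^ r = mk (g₀ : Fˣ) ^ ((r : ℤ) * k) * ω → a ∈ N₁ := by
      intro a ha k ω hω hak
      refine ⟨ha, (g₀ : Fˣ) ^ (-k), Su.zpow_mem g₀.2 _, ?_⟩
      rw [he, pow_mul, (show Commute (mk ((g₀ : Fˣ) ^ (-k))) a from hsc _ a).mul_pow, hak, ← mul_assoc,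
        ← map_zpow, ← map_pow, ← map_mul, ← zpow_natCast ((g₀ : Fˣ) ^ (-k)), ← _root_.zpow_mul, ← _root_.zpow_add]
      rw [show (-k) * (r : ℤ) + r * k = 0 by ring, zpow_zero, map_one, one_mul, hω]
    have hN₁s : ∀ a ∈ N₁, a ∈ scalars ι F := fun a ha => (h ▸ ha : a ∈ scalars ι F ⊓ D.isom).1
    obtain ⟨i, hi⟩ := hlog x hx
    obtain ⟨j, hj⟩ := hlog y hy
    have hri : ¬ (r : ℤ) ∣ i := by
      rintro ⟨k, rfl⟩
      exact hxns (hN₁s _ (hroot x hx k 1 (one_pow _) (by rw [hi, mul_one])))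
    obtain ⟨u, v, huv⟩ : IsCoprime (r : ℤ) i := (Nat.prime_iff_prime_int.mp hr).coprime_iff_not_dvd.mpr hri
    -- `y x^(-jv)`
    set m : ℤ := -(j * v)
    have hxm : x ^ m ∈ N := N.zpow_mem hx m
    obtain ⟨c, -, -, hcc, hba⟩ := hcom y hy (x ^ m) hxm
    have hpow : (y * x ^ m) ^ r = mk (g₀ : Fˣ) ^ ((r : ℤ) * (j * u)) * c ^ r.choose 2 := by
      rw [mul_pow_class_two hcc hba, ← zpow_natCast (x ^ m), ← _root_.zpow_mul, mul_comm m, _root_.zpow_mul, zpow_natCast, hi,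
        ← _root_.zpow_mul, hj, ← _root_.zpow_add]
      rw [show j + i * m = (r : ℤ) * (j * u) by
        calc j + i * m = j * (u * r + v * i) + i * m := by rw [huv, mul_one]
          _ = _ := by ring]
      exact ((show Commute c _ from hcc _).pow_left _).eq
    have hω : (c ^ r.choose 2) ^ d = 1 := by
      obtain ⟨k, hk⟩ := hTd
      rw [← pow_mul, hk, pow_mul, hcr y hy _ hxm c hcc hba, one_pow]
    have hmem := hN₁s _ (hroot _ (N.mul_mem hy hxm) _ _ hω hpow)
    refine hxy ?_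
    have h1 := scalar_commute hmem x
    have h3 : (y * x) * x ^ m = (x * y) * x ^ m := by
      rw [mul_assoc, ((Commute.refl x).zpow_right m).eq, ← mul_assoc, h1, mul_assoc]
    exact (mul_right_cancel h3).symm
  have hrootN : ∀ a ∈ N, ∃ z ∈ Su, (mk z * a) ^ e = 1 := fun a ha => (hN₁ ▸ ha : a ∈ N₁).2
  let R : Subgroup (GL ι F) :=
  { carrier := {a | a ∈ N ∧ a ^ e = 1}
    one_mem' := ⟨N.one_mem, one_pow e⟩
    mul_mem' := fun {a b} ha hb => ⟨N.mul_mem ha.1 hb.1, by rw [hmulpow a ha.1 b hb.1, ha.2, hb.2, one_mul]⟩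
    inv_mem' := fun {a} ha => ⟨N.inv_mem ha.1, by rw [inv_pow, ha.2, inv_one]⟩ }
  have hRG : R ≤ G := fun a ha => hNG ha.1
  have hRI : R ≤ D.isom := fun a ha => hNI ha.1
  have hnR : Norms G R := fun g hg a ha => ⟨hn g hg a ha.1, by rw [conj_pow, ha.2, mul_one, mul_inv_cancel]⟩
  have hback : ∀ a ∈ N, ∀ z ∈ Su, mk z * a ∈ scalars ι F → a ∈ scalars ι F := fun a _ z _ h1 => by
    simpa [← mul_assoc] using mul_mem (inv_mem (⟨z, rfl⟩ : mk z ∈ scalars ι F)) h1
  have hsR : Spans (matrixSet R) := hall R hRG hnR fun hle => hns fun a ha => by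
    obtain ⟨z, hzS, hz⟩ := hrootN a ha
    exact hback a ha z hzS (hle ⟨N.mul_mem (hSuN z hzS) ha, hz⟩)
  have hD' : RData r e R :=
    ⟨hsR, fun a ha b hb => hD (Subgroup.commutator_mem_commutator ha.1 hb.1), fun a ha => ha.2⟩
  have hRcomm : ¬ ∀ a b : R, a * b = b * a := by
    intro hab
    refine hns fun a ha => ?_
    obtain ⟨z, hzS, hz⟩ := hrootN a ha
    exact hback a ha z hzS (hsR.mem_scalars_of_commute fun b hb =>
      congrArg Subtype.val (hab ⟨_, N.mul_mem (hSuN z hzS) ha, hz⟩ ⟨b, hb⟩))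
  have he0 : e ≠ 0 := Nat.mul_ne_zero hr.ne_zero (Nat.gcd_pos_of_pos_left r two_pos).ne'
  -- the centre
  have hzc : Nat.card (Subgroup.center R) = Nat.gcd (Nat.card Su) e := by
    rw [← IsCyclic.card_powMonoidHom_ker (G := Su) e]
    symm
    refine Nat.card_congr (Equiv.ofBijective
      (fun c => (⟨⟨mk ((c.1 : Su) : Fˣ), ?_⟩, ?_⟩ : Subgroup.center R)) ⟨?_, ?_⟩)
    · refine ⟨hSuN _ (c.1 : Su).2, ?_⟩
      have hc := c.2
      rw [MonoidHom.mem_ker, powMonoidHom_apply] at hc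
      rw [← map_pow, ← SubgroupClass.coe_pow, hc]
      exact map_one mk
    · exact hD'.center_iff.mpr ⟨_, rfl⟩
    · intro c c' hcc
      exact Subtype.ext (Subtype.ext (scalarMap_injective (ι := ι)
        (congrArg (fun w : Subgroup.center R => ((w : R) : GL ι F)) hcc)))
    · rintro ⟨⟨w, hw⟩, hwc⟩
      obtain ⟨c, hcS, hc⟩ := hunit w hw.1 (hD'.center_iff.mp hwc)
      subst hc
      refine ⟨⟨⟨c, hcS⟩, ?_⟩, rfl⟩
      rw [MonoidHom.mem_ker, powMonoidHom_apply]
      exact Subtype.ext (scalarMap_injective (ι := ι) (by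
        rw [SubgroupClass.coe_pow, map_pow, OneMemClass.coe_one, map_one]
        exact hw.2))
  set z := Nat.gcd (Nat.card Su) e with hz
  have hq : Nat.card Fˣ = p ^ f - 1 := by rw [Nat.card_units, Nat.card_eq_fintype_card, hcard]
  have hSuq : Nat.card Su ∣ Nat.card Fˣ := Subgroup.card_subgroup_dvd_card Su
  have hzq : z ∣ p ^ f - 1 := hq ▸ (Nat.gcd_dvd_left _ _).trans hSuq
  have hrz : r ∣ z := Nat.dvd_gcd hrq (dvd_mul_right _ _)
  -- the order of `R`
  have hpg : IsPGroup r R := by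
    intro a
    refine ⟨2, Subtype.ext ?_⟩
    rw [SubmonoidClass.coe_pow]
    obtain ⟨k, hk⟩ : e ∣ r ^ 2 := by
      rcases hr.eq_two_or_odd' with h2 | hodd
      · rw [he, hd, h2]; decide
      · rw [he, hd, Nat.coprime_iff_gcd_eq_one.mp (Nat.coprime_two_left.mpr hodd), mul_one, sq]
        exact dvd_mul_right r r
    rw [hk, pow_mul, a.2.2, one_pow]
    rfl
  obtain ⟨a, hcardR⟩ := IsPGroup.iff_card.mp hpg
  have hcard' := hD'.card_eq
  rw [hzc, hcardR] at hcard'
  obtain ⟨k, -, hk⟩ := (Nat.dvd_prime_pow hr).mp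
    (show Fintype.card ι ∣ r ^ a from ⟨z * Fintype.card ι, by rw [hcard']; ring⟩)
  have hk1 : 1 ≤ k := by
    rcases Nat.eq_zero_or_pos k with rfl | h
    · exfalso
      rw [pow_zero] at hk
      obtain ⟨i₀, hi₀⟩ := Fintype.card_eq_one_iff.mp hk
      refine hns fun g hg => mem_scalars_iff_isScalarMat.mpr ⟨(g : Matrix ι ι F) i₀ i₀, ?_⟩
      ext i j
      rw [hi₀ i, hi₀ j]
      simp
    · exact h
  have hexp : Monoid.exponent R = e := by
    have hdvd : Monoid.exponent R ∣ e :=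
      Monoid.exponent_dvd_of_forall_pow_eq_one fun b => Subtype.ext (by rw [SubmonoidClass.coe_pow]; exact b.2.2)
    have hne1 : Monoid.exponent R ≠ 1 := fun h1 => hRcomm fun a b => by
      haveI := Monoid.exp_eq_one_iff.mp h1
      exact Subsingleton.elim _ _
    rcases hr.eq_two_or_odd' with h2 | hodd
    · have he4 : e = 2 ^ 2 := by rw [he, hd, h2]; rfl
      rw [he4] at hdvd ⊢
      obtain ⟨i, hi, hei⟩ := (Nat.dvd_prime_pow Nat.prime_two).mp hdvd
      interval_cases i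
      · exact absurd (by simpa using hei) hne1
      · exact absurd (fun a b => mul_comm_of_exponent_two (by simpa using hei) a b) hRcomm
      · simpa using hei
    · have her : e = r := by rw [he, hd, Nat.coprime_iff_gcd_eq_one.mp (Nat.coprime_two_left.mpr hodd), mul_one]
      rw [her] at hdvd ⊢
      exact (hr.eq_one_or_self_of_dvd _ hdvd).resolve_left hne1
  have hze : z ∣ e := Nat.gcd_dvd_right _ _
  have hzcases : (Odd r ∧ z = r ∧ z = e) ∨ (r = 2 ∧ (z = 2 ∨ (z = 4 ∧ z = e))) := by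
    have hz1 : z ≠ 1 := fun h1 => hr.one_lt.ne' (Nat.dvd_one.mp (h1 ▸ hrz))
    rcases hr.eq_two_or_odd' with h2 | hodd
    · refine Or.inr ⟨h2, ?_⟩
      have he4 : e = 2 ^ 2 := by rw [he, hd, h2]; rfl
      rw [he4] at hze ⊢
      obtain ⟨i, hi, hei⟩ := (Nat.dvd_prime_pow Nat.prime_two).mp hze
      interval_cases i
      · exact absurd (by simpa using hei) hz1
      · exact Or.inl (by simpa using hei)
      · exact Or.inr ⟨by simpa using hei, hei⟩
    · refine Or.inl ⟨hodd, ?_⟩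
      have her : e = r := by rw [he, hd, Nat.coprime_iff_gcd_eq_one.mp (Nat.coprime_two_left.mpr hodd), mul_one]
      rw [her] at hze ⊢
      exact ⟨(hr.eq_one_or_self_of_dvd _ hze).resolve_left hz1, (hr.eq_one_or_self_of_dvd _ hze).resolve_left hz1⟩
  have hsymp : IsSymplecticTypeGroup r R := by
    refine ⟨hr, hpg, fun A hA hAc => ?_, by rw [hexp, he, hd, Nat.gcd_comm]⟩
    have hscA : ∀ a ∈ A, ((a : R) : GL ι F) ∈ scalars ι F := by
      by_contra hcon
      push_neg at hcon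
      obtain ⟨a₁, ha₁, ha₁s⟩ := hcon
      refine ha₁s ((hall (A.map R.subtype) ?_ ?_ ?_).mem_scalars_of_commute ?_)
      · rintro _ ⟨b, -, rfl⟩; exact hNG b.2.1
      · rintro g hg _ ⟨b, hb, rfl⟩
        let φ : R ≃* R :=
          { toFun := fun c => ⟨g * c * g⁻¹, hnR g hg c c.2⟩
            invFun := fun c => ⟨g⁻¹ * c * g, by simpa using hnR g⁻¹ (G.inv_mem hg) c c.2⟩
            left_inv := fun c => Subtype.ext (by simp [mul_assoc])
            right_inv := fun c => Subtype.ext (by simp [mul_assoc])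
            map_mul' := fun c c' => Subtype.ext (by simp [mul_assoc]) }
        refine ⟨φ b, ?_, rfl⟩
        have := (Subgroup.characteristic_iff_map_eq.mp hA) φ
        exact this ▸ ⟨b, hb, rfl⟩
      · exact fun hle => ha₁s (hle ⟨a₁, ha₁, rfl⟩)
      · rintro _ ⟨b, hb, rfl⟩
        exact congrArg (fun t : A => ((t : R) : GL ι F)) (hAc.is_comm.comm ⟨a₁, ha₁⟩ ⟨b, hb⟩)
    let toF : A →* F :=
    { toFun := fun a => ((a : R) : GL ι F).val (Classical.arbitrary ι) (Classical.arbitrary ι)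
      map_one' := by simp
      map_mul' := fun a b => by
        obtain ⟨c, hc⟩ := exists_unit_of_mem_scalars (hscA a a.2)
        show ((((a : R) : GL ι F) * ((b : R) : GL ι F) : GL ι F) : Matrix ι ι F) _ _ = _
        rw [← hc]
        simp }
    refine isCyclic_of_subgroup_isDomain toF fun a b hab => ?_
    obtain ⟨c, hc⟩ := exists_unit_of_mem_scalars (hscA a a.2)
    obtain ⟨c', hc'⟩ := exists_unit_of_mem_scalars (hscA b b.2)
    refine Subtype.ext (Subtype.ext ?_)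
    rw [← hc, ← hc']
    congr 1
    refine Units.ext ?_
    simpa [toF, ← hc, ← hc'] using hab
  have hcardR2 : Nat.card R = z * r ^ (2 * k) := by
    rw [hcardR, hcard', hk, ← pow_mul, mul_comm k]
  -- properties of the automorphism
  have hσid : D.σ = RingHom.id F → z = 2 := by
    intro hσ
    have hsq : ∀ c ∈ Su, c * c = 1 := fun c hc => by
      refine Units.ext ?_
      have h1 := D.norm_of_scalar_mem_isom (hmk c) hc
      rwa [hσ, RingHom.id_apply] at h1
    have hg2 : g₀ ^ 2 = 1 := Subtype.ext (by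
      rw [SubgroupClass.coe_pow, _root_.sq, hsq _ g₀.2, OneMemClass.coe_one])
    have hsu : Nat.card Su ∣ 2 := orderOf_eq_card_of_forall_mem_zpowers hg₀ ▸ orderOf_dvd_of_pow_eq_one hg2
    have hz2 : z ∣ 2 := (Nat.gcd_dvd_left _ _).trans hsu
    have := Nat.le_of_dvd two_pos hz2
    have hr2 := hr.two_le
    have := Nat.le_of_dvd (Nat.pos_of_dvd_of_pos hz2 two_pos) hrz
    omega
  have hfne : D.σ ≠ RingHom.id F → f ≠ 1 := by
    rintro hσ rfl
    have h1 := card_eq_sq_fixedField D.σσ hσ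
    rw [hcard, pow_one] at h1
    exact (Nat.Prime.not_prime_pow le_rfl) (h1 ▸ hp)
  have hne : ∀ i, 0 < i → i < f → powFixed (F := F) p i ≠ ⊤ := by
    intro i hi0 hif h0
    have hpos : 1 ≤ p ^ i := Nat.one_le_pow _ _ hp.pos
    obtain ⟨w, hw⟩ := IsCyclic.exists_ofOrder_eq_natCard (α := Fˣ)
    have h1 : (w : F) ^ p ^ i = w := mem_powFixed.mp (h0 ▸ Subfield.mem_top _)
    have h3 : w ^ (p ^ i - 1) = 1 := by
      refine Units.ext (mul_right_cancel₀ w.ne_zero ?_)
      rw [Units.val_pow_eq_pow_val, ← pow_succ, Nat.sub_add_cancel hpos, h1, Units.val_one, one_mul]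
    have h2 : Nat.card Fˣ ∣ p ^ i - 1 := hw ▸ orderOf_dvd_of_pow_eq_one h3
    have hlt : p ^ i < p ^ f := Nat.pow_lt_pow_right hp.one_lt hif
    have : 1 < p ^ i := Nat.one_lt_pow hi0.ne' hp.one_lt
    have := Nat.le_of_dvd (by omega) (hq ▸ h2)
    omega
  have hodd : r = 2 → p % 2 = 1 := fun h2 => hp.eq_two_or_odd.resolve_left fun h => hrp (h2.trans h.symm)
  by_cases h22 : z = 2
  · -- the centre is `±1`
    have hr2 : r = 2 := by
      rcases hzcases with ⟨hodd', hz', -⟩ | ⟨h2, -⟩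
      · rw [← hz', h22] at hodd'; exact absurd hodd' (by decide)
      · exact h2
    have hne2 : (2 : F) ≠ 0 := by
      intro h0
      refine hrp (hr2.trans ?_)
      exact ((Nat.prime_dvd_prime_iff_eq hp Nat.prime_two).mp
        ((CharP.cast_eq_zero_iff F p 2).mp (by exact_mod_cast h0))).symm
    have hsign : ∀ w ∈ R, w ∈ scalars ι F → (w : Matrix ι ι F) = 1 ∨ (w : Matrix ι ι F) = -1 := by
      intro w hw hws
      obtain ⟨c, hcS, hc⟩ := hunit w hw.1 hws
      have hce : c ^ e = 1 := scalarMap_injective (ι := ι) (by rw [map_pow, map_one]; exact hc ▸ hw.2)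
      have hc2 : (⟨c, hcS⟩ : Su) ^ z = 1 := pow_gcd_eq_one.mpr ⟨pow_card_eq_one', Subtype.ext hce⟩
      rw [h22] at hc2
      have hcc : (c : F) * (c : F) = 1 := by
        rw [← Units.val_mul, ← _root_.sq]
        exact congrArg Units.val (congrArg Subtype.val hc2)
      rw [← hc, hmk]
      rcases mul_self_eq_one_iff.mp hcc with h | h
      · exact Or.inl (by rw [h, one_smul])
      · exact Or.inr (by rw [h, neg_one_smul])
    by_cases hσf : D.σ = RingHom.id F ∧ f = 1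
    · obtain ⟨hσ, hf1⟩ := hσf
      have hp2 := hodd hr2
      refine Or.inr ⟨r, R, p, f, k, hsymp, hsR, hRI, hnR.le_normalizer, hrp,
        ⟨hp, hchar, hcard, hzc ▸ hzq, fun i hi hif => absurd hif (by omega)⟩, hk1, hk.symm,
        Or.inr (Or.inr ⟨hσ, hr2, hf1, hzc.trans h22, ?_, fun halt => ?_, hD'.comm_scalar⟩)⟩
      · rw [hcardR2, h22, hr2, pow_add, pow_one]
      · intro A hAc hA2
        have h1 := D.card_lt_of_elementary hne2 hσ halt hD' hRI hsign
          (fun a ha b hb => congrArg Subtype.val (hAc.is_comm.comm ⟨a, ha⟩ ⟨b, hb⟩)) hA2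
        rw [hk, hr2] at h1
        exact lt_of_le_of_lt h1 (Nat.pow_lt_pow_right one_lt_two (Nat.lt_succ_self k))
    have hf1 : 1 < f := by
      by_contra hle
      have hfe : f = 1 := by omega
      exact hσf ⟨not_not.mp fun hσ => hfne hσ hfe, hfe⟩
    exact Or.inl (D.inSubfieldForm_of_realisable hsR hnR hRI (hne 1 one_pos hf1) (hD'.realisable_of_sign hsign))
  have hσ : D.σ ≠ RingHom.id F := fun h => h22 (hσid h)
  have hze' : z = e := by
    rcases hzcases with ⟨-, -, h⟩ | ⟨-, h | ⟨-, h⟩⟩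
    exacts [h, absurd h h22, h]
  by_cases hmin' : ∀ i, 0 < i → i < f → ¬ z ∣ p ^ i - 1
  · refine Or.inr ⟨r, R, p, f, k, hsymp, hsR, hRI, hnR.le_normalizer, hrp,
      ⟨hp, hchar, hcard, hzc ▸ hzq, fun i hi hif => hzc ▸ hmin' i hi hif⟩, hk1, hk.symm, ?_⟩
    rcases hzcases with ⟨hodd', hz', -⟩ | ⟨h2, hz' | ⟨hz', -⟩⟩
    · exact Or.inl ⟨hσ, hodd', hzc.trans hz', by rw [hcardR2, hz', pow_add, pow_one]⟩
    · exact absurd hz' h22
    · refine Or.inr (Or.inl ⟨hσ, h2, ?_, hzc.trans hz', by rw [hcardR2, hz', h2, pow_add]; rfl⟩)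
      by_contra hf2
      have hp2 := hodd h2
      refine hmin' 2 two_pos (by have := hfne hσ; omega) ?_
      rw [hz']
      have hsq : p ^ 2 - 1 = (p + 1) * (p - 1) := by rw [← Nat.sq_sub_sq, one_pow]
      rw [hsq]
      exact Nat.mul_dvd_mul (show 2 ∣ p + 1 by omega) (show 2 ∣ p - 1 by omega)
  · -- not minimal: realisable over a subfield
    push_neg at hmin'
    obtain ⟨i, hi0, hif, hzi⟩ := hmin'
    have hpos : 1 ≤ p ^ i := Nat.one_le_pow _ _ hp.pos
    refine Or.inl (D.inSubfieldForm_of_realisable hsR hnR hRI (hne i hi0 hif)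
      (hD'.realisable (hze' ▸ (Nat.gcd_dvd_left _ _).trans hSuq) he0 fun ζ hζ => ?_))
    rw [mem_powFixed]
    obtain ⟨m, hm⟩ := hzi
    calc ζ ^ p ^ i = ζ ^ (p ^ i - 1) * ζ := by rw [← pow_succ, Nat.sub_add_cancel hpos]
      _ = ζ := by rw [hm, pow_mul, hze', hζ, one_pow, one_mul]

end FData

end CfsgLib.Asch
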