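import Cfsg.Agent.Lib.Aschbacher.AbelianCase
import Cfsg.Agent.Lib.Aschbacher.Components
import Cfsg.Agent.Lib.Aschbacher.Subfield

/-!
# The reduction to the eight classes and the residual class, linear case
-/

set_option autoImplicit false

namespace CfsgLib.Asch

open Matrix Cfsg.Geo
open scoped MatrixGroups commutatorElement

variable {ι : Type} [Fintype ι] [DecidableEq ι] [Nonempty ι] {F : Type*} [Field F] [Fintype F]

/-- contained in the stabiliser of a proper non-zero subspace -/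
def InSubspace (G : Subgroup (GL ι F)) : Prop :=
  ∃ W : Submodule F (ι → F), W ≠ ⊥ ∧ W ≠ ⊤ ∧ G ≤ subspaceStabilizer W

omit [Nonempty ι] [Fintype F] in
lemma Norms.sup_scalars {G M : Subgroup (GL ι F)} (h : Norms G M) : Norms G (M ⊔ scalars ι F) := by
  intro g hg x hx
  obtain ⟨m, hm, z, hz, rfl⟩ := Subgroup.mem_sup_of_normal_right.mp hx
  have h1 := Subgroup.mul_mem_sup (h g hg m hm) (scalars_normal.conj_mem z hz g)
  simpa [mul_assoc] using h1

omit [Nonempty ι] [Fintype F] in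
lemma exists_not_isScalarMat (h : 2 ≤ Fintype.card ι) : ∃ M : Matrix ι ι F, ¬ IsScalarMat M := by
  obtain ⟨i, j, hij⟩ := Fintype.one_lt_card_iff.mp h
  refine ⟨single i j 1, fun ⟨c, hc⟩ => ?_⟩
  have h1 := congrFun (congrFun hc i) j
  simp [hij] at h1

omit [Nonempty ι] [Fintype F] in
lemma not_le_scalars_of_spans {G : Subgroup (GL ι F)} (h : 2 ≤ Fintype.card ι)
    (hs : Spans (matrixSet G)) : ¬ G ≤ scalars ι F := by
  intro hle
  obtain ⟨M, hM⟩ := exists_not_isScalarMat (ι := ι) (F := F) h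
  refine hM (isScalarMat_of_commute_all fun X => ?_)
  refine alg_induction (fun M => M * X = X * M) ?_ ?_ ?_ ?_ (hs.mem_alg M)
  · intro g hg; exact (mem_scalars_iff_isScalarMat.mp (hle hg)).commute X
  · simp
  · intro x y hx hy; rw [add_mul, mul_add, hx, hy]
  · intro c x hx; rw [smul_mul_assoc, mul_smul_comm, hx]

omit [Nonempty ι] in
/-- Aschbacher's reduction for a group containing the scalars -/
theorem linear_cases (hn : 3 ≤ Fintype.card ι) (G : Subgroup (GL ι F)) (hZ : scalars ι F ≤ G) :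
    InSubspace G ∨ InImprim G ∨ InExtField G ∨ InTensor G ∨ InSubfield G ∨ InSympType G ∨ InWreath G ∨
      InQuad G ∨ InSymp G ∨ InUnit G ∨
      ∃ P : Subgroup (GL ι F), IsResidualCore G P ∧ P ≤ ⁅G, G⁆ ∧
        (¬ ∃ Q : (ι → F) → F, IsNondegenerateQuadraticForm Q ∧ FixesQuadForm (matrixSet P) Q) ∧
        (¬ ∃ f : (ι → F) → (ι → F) → F, IsSymplecticForm f ∧ FixesForm (matrixSet P) f) ∧
        (¬ ∃ (σ : F ≃+* F) (f : (ι → F) → (ι → F) → F), IsUnitaryForm σ f ∧ FixesForm (matrixSet P) f) := by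
  classical
  haveI : Nonempty ι := Fintype.card_pos_iff.mp (by omega)
  rcases irred_or_subspace G with hirr | hW
  swap
  · exact Or.inl hW
  rcases spans_or_extField hirr with hE | hsp
  · tauto
  by_cases hall : ∀ M : Subgroup (GL ι F), M ≤ G → Norms G M → ¬ M ≤ scalars ι F → Spans (matrixSet M)
  swap
  · push_neg at hall
    obtain ⟨M, hMG, hMn, hMs, hMsp⟩ := hall
    rcases normal_trichotomy hirr hMn with h | h | ⟨w, k, e, P, hw, hk, hT⟩
    · tauto
    · tauto
    have hw2 : 2 ≤ w := by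
      by_contra hc
      obtain rfl : w = 1 := by omega
      refine hMs fun g hg => mem_scalars_iff_isScalarMat.mpr ?_
      obtain ⟨A, hA⟩ := (hT _).mp (coe_mem_alg hg)
      refine ⟨A 0 0, ?_⟩
      rw [hA, show A = A 0 0 • (1 : Matrix (Fin 1) (Fin 1) F) by
        ext p q; simp [Subsingleton.elim p 0, Subsingleton.elim q 0], tens_smul_left, tens_one]
      simp
    have hk2 : 2 ≤ k := by
      by_contra hc
      obtain rfl : k = 1 := by omega
      exact hMsp hT.spans
    rcases cases_of_normalizes hw2 hk2 e P (fun g hg A =>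
      (hT _).mp (cj_mem_alg hMn hg ((hT _).mpr ⟨A, rfl⟩))) with h | h | h | h <;> tauto
  have hGs : ¬ G ≤ scalars ι F := not_le_scalars_of_spans (by omega) hsp
  obtain ⟨N, ⟨hNG, hNn, hZN, hNs⟩, hNmin⟩ := (Set.toFinite
    {M : Subgroup (GL ι F) | M ≤ G ∧ Norms G M ∧ scalars ι F ≤ M ∧ ¬ M ≤ scalars ι F}).exists_minimal
    ⟨G, le_rfl, fun g hg x hx => G.mul_mem (G.mul_mem hg hx) (G.inv_mem hg), hZ, hGs⟩
  by_cases hD : ⁅N, N⁆ ≤ scalars ι F
  · rcases abelian_case hn hNG hNn hZN (fun M hMN hMn hZM => (em (M ≤ scalars ι F)).elim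
      (fun h => Or.inr (le_antisymm h hZM))
      (fun h => Or.inl (le_antisymm hMN (hNmin ⟨hMN.trans hNG, hMn, hZM, h⟩ hMN))))
      hall hNs hD with h | h | h | h | h <;> tauto
  set P := ⁅N, N⁆
  have hPN : P ≤ N := Subgroup.commutator_le_self N
  have hPG : P ≤ G := hPN.trans hNG
  have hPn : Norms G P := hNn.commutatorLeft
  have hsupmin : ∀ M : Subgroup (GL ι F), M ≤ N → Norms G M → ¬ M ≤ scalars ι F →
      N ≤ M ⊔ scalars ι F := fun M hMN hMn hMs =>
    hNmin ⟨(sup_le hMN hZN).trans hNG, hMn.sup_scalars, le_sup_right, fun h => hMs (le_sup_left.trans h)⟩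
      (sup_le hMN hZN)
  have hperf : ⁅P, P⁆ = P :=
    le_antisymm (Subgroup.commutator_le_self P) (comm_le_of_le_sup (hsupmin P hPN hPn hD))
  have hPsp : Spans (matrixSet P) := hall P hPG hPn hD
  rcases perfect_case hPn hperf hD
    (fun M hMP hMn hMs => hPN.trans (hsupmin M (hMP.trans hPN) hMn hMs)) hPsp with hsimp | h | h | h
  rotate_left
  · tauto
  · tauto
  · tauto
  by_cases hq : ∃ Q : (ι → F) → F, IsNondegenerateQuadraticForm Q ∧ FixesQuadForm (matrixSet P) Q
  · obtain ⟨Q, h1, h2⟩ := hq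
    rcases inForm_of_quad hPsp hPn h1 h2 with h | h <;> tauto
  by_cases hf : ∃ f : (ι → F) → (ι → F) → F, IsSymplecticForm f ∧ FixesForm (matrixSet P) f
  · obtain ⟨f, h1, h2⟩ := hf
    have := inSymp_of_form hPsp hPn h1 h2
    tauto
  by_cases hu : ∃ (σ : F ≃+* F) (f : (ι → F) → (ι → F) → F), IsUnitaryForm σ f ∧ FixesForm (matrixSet P) f
  · obtain ⟨σ, f, h1, h2⟩ := hu
    have := inUnit_of_form hPsp hPn h1 h2
    tauto
  by_cases hr : ∃ F₀ : Subfield F, F₀ ≠ ⊤ ∧ RealisableOver F₀ (matrixSet P)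
  · obtain ⟨F₀, h1, h2⟩ := hr
    have := inSubfield_of_realisable hPsp hPn h1 h2
    tauto
  push_neg at hr
  refine Or.inr (Or.inr (Or.inr (Or.inr (Or.inr (Or.inr (Or.inr (Or.inr (Or.inr (Or.inr
    ⟨P, ⟨hPG, hPn, hperf, hsimp, ?_, ?_, hPsp.absIrred, hr⟩, Subgroup.commutator_mono hNG hNG,
      hq, hf, hu⟩)))))))))
  · intro hcomm
    refine hD ?_
    rw [← hperf, Subgroup.commutator_le]
    intro a ha b hb
    have h1 := hcomm.is_comm.comm (QuotientGroup.mk (⟨a, ha⟩ : P)) (QuotientGroup.mk ⟨b, hb⟩)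
    rw [← QuotientGroup.mk_mul, ← QuotientGroup.mk_mul, eq_comm, QuotientGroup.eq_iff_div_mem] at h1
    have h2 := scalars_normal.mem_comm (Subgroup.mem_subgroupOf.mp h1)
    simp only [div_eq_mul_inv, commutatorElement_def] at h1 ⊢
    simpa [Subgroup.mem_subgroupOf, mul_assoc] using (Subgroup.inv_mem _ h1)
  · intro g hg hc
    exact hPsp.mem_scalars_of_commute fun x hx => commute_of_comm_scalar hperf hc hx

omit [Nonempty ι] in
/-- Aschbacher's reduction for any group, through its product with the scalars -/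
theorem linear_cases' (hn : 3 ≤ Fintype.card ι) (H : Subgroup (GL ι F)) :
    InSubspace (H ⊔ scalars ι F) ∨ InImprim (H ⊔ scalars ι F) ∨ InExtField (H ⊔ scalars ι F) ∨
      InTensor (H ⊔ scalars ι F) ∨ InSubfield (H ⊔ scalars ι F) ∨ InSympType (H ⊔ scalars ι F) ∨
      InWreath (H ⊔ scalars ι F) ∨ InQuad (H ⊔ scalars ι F) ∨ InSymp (H ⊔ scalars ι F) ∨
      InUnit (H ⊔ scalars ι F) ∨ InLinearResidualClass H := by
  rcases linear_cases hn (H ⊔ scalars ι F) le_sup_right with
    h | h | h | h | h | h | h | h | h | h | ⟨P, hc, hP, hq, hf, hu⟩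
  · tauto
  · tauto
  · tauto
  · tauto
  · tauto
  · tauto
  · tauto
  · tauto
  · tauto
  · tauto
  refine Or.inr (Or.inr (Or.inr (Or.inr (Or.inr (Or.inr (Or.inr (Or.inr (Or.inr (Or.inr
    ⟨P, ⟨?_, fun h hh => hc.normal h (Subgroup.mem_sup_left hh), hc.perfect, hc.simple, hc.nonabelian,
      fun h hh => hc.centralizer_scalar h (Subgroup.mem_sup_left hh), hc.absIrred, hc.no_subfield⟩,
      hq, hf, hu⟩)))))))))
  exact hP.trans ((comm_le_of_le_sup le_rfl).trans (Subgroup.commutator_le_self H))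

end CfsgLib.Asch
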