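import Cfsg.Agent.Lib.Aschbacher.FormNormal
import Cfsg.Agent.Lib.Aschbacher.Main

/-!
# Transitivity on decompositions; monomial groups of isometries; a field of full degree
-/

set_option autoImplicit false

namespace CfsgLib.Asch

open Matrix Cfsg.Geo
open scoped MatrixGroups

variable {ι : Type} [Fintype ι] [DecidableEq ι] [Nonempty ι] {F : Type*} [Field F] [Fintype F]

omit [Nonempty ι] [Fintype F] in
/-- an irreducible group permutes the members of a decomposition transitively -/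
lemma transitive_of_irred {G : Subgroup (GL ι F)} (hirr : ActsIrreducibly (matrixSet G)) {t k : ℕ}
    {V : Fin t → Submodule F (ι → F)} (hV : IsMDecomposition k V) (hle : G ≤ decompositionStabilizer V)
    (i j : Fin t) : ∃ g ∈ G, (V i).map (Matrix.toLin' (g : Matrix ι ι F)) = V j := by
  classical
  let O : Finset (Fin t) := Finset.univ.filter fun j => ∃ g ∈ G, (V i).map (Matrix.toLin' (g : Matrix ι ι F)) = V j
  by_contra hj
  have hjO : j ∉ O := fun h => hj (Finset.mem_filter.mp h).2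
  set W := ⨆ x ∈ O, V x with hW
  have hiO : i ∈ O := Finset.mem_filter.mpr ⟨Finset.mem_univ _, 1, G.one_mem, by simp⟩
  have hbot : ∀ x, V x ≠ ⊥ := fun x h0 => by
    have := hV.finrank_eq x
    rw [h0, finrank_bot] at this
    have := hV.pos
    omega
  have hWinv : ∀ g ∈ G, ∀ w ∈ W, (g : Matrix ι ι F) *ᵥ w ∈ W := by
    intro g hg w hw
    have hmap : W.map (Matrix.toLin' (g : Matrix ι ι F)) ≤ W := by
      rw [hW, Submodule.map_iSup]
      refine iSup_le fun x => ?_
      rw [Submodule.map_iSup]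
      refine iSup_le fun hx => ?_
      obtain ⟨π, hπ⟩ := hle hg
      obtain ⟨g₀, hg₀, hgx⟩ := (Finset.mem_filter.mp hx).2
      rw [hπ]
      refine le_biSup V (Finset.mem_filter.mpr ⟨Finset.mem_univ _, g * g₀, G.mul_mem hg hg₀, ?_⟩)
      rw [Units.val_mul, Matrix.toLin'_mul, Submodule.map_comp, hgx, hπ]
    have := hmap ⟨w, hw, rfl⟩
    rwa [Matrix.toLin'_apply] at this
  rcases irred_apply hirr (W := W) hWinv with h | h
  · exact hbot i (le_bot_iff.mp (h ▸ le_biSup V hiO))
  · refine hbot j ?_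
    have hd : Disjoint (V j) W := hV.indep.disjoint_biSup hjO
    rw [h, disjoint_top] at hd
    exact hd

namespace FData

variable (D : FData ι F)

/-- an irreducible monomial group of isometries: a rational structure over every proper subfield -/
theorem inSubfieldForm_of_lines (hσ : D.σ = RingHom.id F) {G : Subgroup (GL ι F)}
    (hirr : ActsIrreducibly (matrixSet G)) (hGI : G ≤ D.isom) {t : ℕ} {V : Fin t → Submodule F (ι → F)}
    (hV : IsNondegenerateMDecomposition D.form 1 V) (ht : t = Fintype.card ι) (hle : G ≤ decompositionStabilizer V)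
    {F₀ : Subfield F} (hF₀ : F₀ ≠ ⊤) : D.InSubfieldForm G := by
  classical
  obtain ⟨F₁, r, hr, hcard, -⟩ := exists_prime_index_subfield hF₀
  have hdec := hV.decomp
  have hi₀ : Nonempty (Fin t) := ⟨⟨0, by have := hdec.two_le; omega⟩⟩
  let i₀ : Fin t := Classical.arbitrary _
  obtain ⟨v₀, hv₀, hv₀0⟩ := Submodule.exists_mem_ne_zero_of_ne_bot (p := V i₀) fun h0 => by
    have := hdec.finrank_eq i₀
    rw [h0, finrank_bot] at this
    omega
  have hspan1 : ∀ i, ∀ x ∈ V i, x ≠ 0 → V i = Submodule.span F {x} := fun i x hx hx0 =>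
    (Submodule.eq_of_le_of_finrank_le ((Submodule.span_singleton_le_iff_mem _ _).mpr hx)
      (by rw [hdec.finrank_eq i, finrank_span_singleton hx0])).symm
  set c := D.form v₀ v₀
  have hc0 : c ≠ 0 := by
    intro h0
    obtain ⟨-, x, hx, hx'⟩ := hV.nondegenerate i₀ v₀ hv₀ hv₀0
    rw [hspan1 i₀ v₀ hv₀ hv₀0] at hx
    obtain ⟨a, rfl⟩ := Submodule.mem_span_singleton.mp hx
    exact hx' (by rw [D.form_smul_right, show D.form v₀ v₀ = 0 from h0, mul_zero])
  choose g hg hgV using fun j => transitive_of_irred hirr hdec hle i₀ j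
  let v : Fin t → (ι → F) := fun j => (g j : Matrix ι ι F) *ᵥ v₀
  have hvV : ∀ j, v j ∈ V j := fun j => hgV j ▸ ⟨v₀, hv₀, Matrix.toLin'_apply _ _⟩
  have hvc : ∀ j, D.form (v j) (v j) = c := fun j => (hGI (hg j)) v₀ v₀
  have hv0 : ∀ j, v j ≠ 0 := fun j h0 => hc0 (by rw [← hvc j, h0, D.form_zero_left])
  let e : Fin t ≃ ι := Fintype.equivOfCardEq (by rw [Fintype.card_fin, ht])
  let Pm : Matrix ι ι F := Matrix.of fun a b => v (e.symm b) a
  have hvo : ∀ a b, D.form (v a) (v b) = if a = b then c else 0 := fun a b => by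
    split_ifs with h
    · subst h; exact hvc a
    · exact hV.orthogonal a b h _ (hvV a) _ (hvV b)
  have hcol : ∀ b, Pm *ᵥ Pi.single b 1 = v (e.symm b) := fun b => by
    ext a; simp [Pm]
  have hB : Pmᵀ * (D.B : Matrix ι ι F) * Pm.map D.σ = c • (1 : Matrix ι ι F) := by
    ext a b
    rw [← sform_single D.σ (Pmᵀ * (D.B : Matrix ι ι F) * Pm.map D.σ) a b, ← sform_mulVec, hcol, hcol]
    show D.form _ _ = _
    rw [hvo, Matrix.smul_apply, Matrix.one_apply]
    simp
  have hPu : IsUnit Pm := by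
    rw [Matrix.isUnit_iff_isUnit_det]
    refine isUnit_iff_ne_zero.mpr fun h0 => ?_
    have h1 := congrArg Matrix.det hB
    rw [Matrix.det_mul, Matrix.det_mul, Matrix.det_transpose, h0, zero_mul, zero_mul, Matrix.det_smul,
      Matrix.det_one, mul_one] at h1
    exact pow_ne_zero _ hc0 h1.symm
  refine ⟨F₁, r, hPu.unit, 1, c, hr, hcard, fun a b => ?_, isUnit_one, hc0, by rw [IsUnit.unit_spec]; exact hB, ?_⟩
  · rw [Matrix.one_apply]; split_ifs; exacts [F₁.one_mem, F₁.zero_mem]
  intro h hh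
  obtain ⟨π, hπ⟩ := hle hh
  have hsign : ∀ b, ∃ a : F, a ∈ F₁ ∧ (h : Matrix ι ι F) *ᵥ v b = a • v (π b) := by
    intro b
    have hm : (h : Matrix ι ι F) *ᵥ v b ∈ V (π b) := hπ b ▸ ⟨v b, hvV b, Matrix.toLin'_apply _ _⟩
    rw [hspan1 _ _ (hvV _) (hv0 _)] at hm
    obtain ⟨a, ha⟩ := Submodule.mem_span_singleton.mp hm
    refine ⟨a, ?_, ha.symm⟩
    have h1 : D.form ((h : Matrix ι ι F) *ᵥ v b) ((h : Matrix ι ι F) *ᵥ v b) = D.form (v b) (v b) := hGI hh _ _
    rw [← ha, D.form_smul_left, D.form_smul_right, hσ, RingHom.id_apply, hvc, hvc] at h1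
    rcases mul_self_eq_one_iff.mp (mul_right_cancel₀ hc0 (show a * a * c = 1 * c by linear_combination h1)) with rfl | rfl
    exacts [F₁.one_mem, F₁.neg_mem F₁.one_mem]
  choose a ha hav using hsign
  let N : Matrix ι ι F₁ := Matrix.of fun x y => if x = e (π (e.symm y)) then ⟨a (e.symm y), ha _⟩ else 0
  have hN : Pm * N.map F₁.subtype = (h : Matrix ι ι F) * Pm := by
    refine Matrix.ext_of_mulVec_single fun y => ?_
    rw [← mulVec_mulVec, ← mulVec_mulVec, hcol, hav]
    have hz : N.map F₁.subtype *ᵥ Pi.single y 1 = a (e.symm y) • Pi.single (e (π (e.symm y))) 1 := by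
      ext x
      simp only [Matrix.mulVec_single_one, Matrix.col_apply, Matrix.map_apply, N, Matrix.of_apply, Pi.smul_apply,
        smul_eq_mul, Pi.single_apply]
      split_ifs <;> simp
    rw [hz, mulVec_smul, hcol, Equiv.symm_apply_apply]
  have hdet : N.det ≠ 0 := fun h0 => by
    have h1 := congrArg Matrix.det hN
    rw [Matrix.det_mul, Matrix.det_mul, show (N.map F₁.subtype).det = F₁.subtype N.det from
      (RingHom.map_det F₁.subtype N).symm, h0, map_zero, mul_zero] at h1
    exact mul_ne_zero ((Matrix.isUnit_iff_isUnit_det _).mp h.isUnit).ne_zero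
      ((Matrix.isUnit_iff_isUnit_det _).mp hPu).ne_zero h1.symm
  let N' : GL ι F₁ := Matrix.GeneralLinearGroup.mkOfDetNeZero N hdet
  refine ⟨Matrix.GeneralLinearGroup.map F₁.subtype N', Subgroup.mem_sup_left ⟨N', rfl⟩, Units.ext ?_⟩
  show (hPu.unit : Matrix ι ι F) * N.map F₁.subtype * ((hPu.unit⁻¹ : GL ι F) : Matrix ι ι F) = _
  have hPI : Pm * ((hPu.unit⁻¹ : GL ι F) : Matrix ι ι F) = 1 := hPu.unit.mul_inv
  rw [IsUnit.unit_spec, hN, mul_assoc, hPI, mul_one]

set_option backward.isDefEq.respectTransparency false in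
/-- odd prime degree equal to the dimension: impossible for groups of isometries -/
theorem not_fullField (hσ : D.σ = RingHom.id F) (h2 : (2 : F) ≠ 0) {r : ℕ} (hr : r.Prime) (hro : Odd r)
    (hrn : Fintype.card ι = r) {G : Subgroup (GL ι F)} (hirr : ActsIrreducibly (matrixSet G)) (hGI : G ≤ D.isom)
    {K : Subalgebra F (Matrix ι ι F)} (hK : IsFieldSubalgebra r K) (hadj : ∀ k ∈ K, D.adj k = k)
    (hle : G ≤ subalgebraNormalizer K) : False := by
  classical
  have h2n : 2 ≤ Fintype.card ι := hrn ▸ hr.two_le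
  -- the centraliser of `K` is `K`
  obtain ⟨v₀, hv₀⟩ : ∃ v₀ : ι → F, v₀ ≠ 0 := ⟨Pi.single (Classical.arbitrary ι) 1, by simp⟩
  let L : ∀ (E : Subalgebra F (Matrix ι ι F)), E →ₗ[F] (ι → F) := fun E =>
    { toFun := fun k => (k : Matrix ι ι F) *ᵥ v₀
      map_add' := fun a b => by simp [add_mulVec]
      map_smul' := fun c a => by simp [smul_mulVec] }
  have hLinj : ∀ (E : Subalgebra F (Matrix ι ι F)), (∀ x ∈ E, x ≠ 0 → ∃ y ∈ E, x * y = 1) → Function.Injective (L E) := by
    intro E hE a b hab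
    refine Subtype.ext (sub_eq_zero.mp ?_)
    by_contra hne
    obtain ⟨y, hy, hxy⟩ := hE _ (sub_mem a.2 b.2) hne
    have h1 := congrArg (fun w => y *ᵥ w) (show ((a : Matrix ι ι F) - (b : Matrix ι ι F)) *ᵥ v₀ = 0 by
      rw [sub_mulVec, sub_eq_zero]; exact hab)
    simp only [mulVec_mulVec, mulVec_zero, mul_eq_one_comm.mp hxy, one_mulVec] at h1
    exact hv₀ h1
  have hsurj : LinearMap.range (L K) = ⊤ := by
    refine Submodule.eq_top_of_finrank_eq ?_
    rw [LinearMap.finrank_range_of_inj (hLinj K hK.inv), hK.finrank_eq, Module.finrank_fintype_fun_eq_card, hrn]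
  have hcent : ∀ X : Matrix ι ι F, (∀ k ∈ K, X * k = k * X) → X ∈ K := by
    intro X hX
    obtain ⟨k, hk⟩ := (hsurj ▸ Submodule.mem_top : X *ᵥ v₀ ∈ LinearMap.range (L K))
    have : X = (k : Matrix ι ι F) := Matrix.ext_of_mulVec_single fun i => by
      obtain ⟨l, hl⟩ := (hsurj ▸ Submodule.mem_top : Pi.single i 1 ∈ LinearMap.range (L K))
      rw [← hl]
      show X *ᵥ ((l : Matrix ι ι F) *ᵥ v₀) = (k : Matrix ι ι F) *ᵥ ((l : Matrix ι ι F) *ᵥ v₀)
      rw [mulVec_mulVec, hX _ l.2, ← mulVec_mulVec, ← show (k : Matrix ι ι F) *ᵥ v₀ = X *ᵥ v₀ from hk,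
        mulVec_mulVec, mulVec_mulVec, hK.comm _ l.2 _ k.2]
    rw [this]; exact k.2
  -- conjugation on `K` is abelian, so `G` is abelian
  letI : Field K := (fieldSub_isField hK).toField
  haveI : Finite K := Module.finite_of_finite F
  have hcard : Nat.card (K ≃ₐ[F] K) = r := (IsGalois.card_aut_eq_finrank F K).trans hK.finrank_eq
  haveI := Fact.mk hr
  haveI hcyc : IsCyclic (K ≃ₐ[F] K) := isCyclic_of_prime_card hcard
  let act : ∀ g : GL ι F, g ∈ G → (K ≃ₐ[F] K) := fun g hg =>
    { toFun := fun k => ⟨cj g k.1, (hle hg k.1).mp k.2⟩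
      invFun := fun k => ⟨cj g⁻¹ k.1, (hle (G.inv_mem hg) k.1).mp k.2⟩
      left_inv := fun k => Subtype.ext (by simp [cj_cj])
      right_inv := fun k => Subtype.ext (by simp [cj_cj])
      map_mul' := fun a b => Subtype.ext (by simp)
      map_add' := fun a b => Subtype.ext (cj_add g a.1 b.1)
      commutes' := fun c => Subtype.ext (by
        show cj g (algebraMap F (Matrix ι ι F) c) = algebraMap F (Matrix ι ι F) c
        rw [Algebra.algebraMap_eq_smul_one, cj_smul, cj_one]) }
  have hab : ∀ g ∈ G, ∀ h ∈ G, g * h = h * g := by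
    intro g hg h hh
    set u := g * h * g⁻¹ * h⁻¹
    have hu : u ∈ G := G.mul_mem (G.mul_mem (G.mul_mem hg hh) (G.inv_mem hg)) (G.inv_mem hh)
    have huK : (u : Matrix ι ι F) ∈ K := by
      refine hcent _ fun k hk => cj_eq_iff_commute.mp ?_
      have hcomm : act g hg * act h hh = act h hh * act g hg := by
        obtain ⟨σ₀, hσ₀⟩ := hcyc.exists_generator
        obtain ⟨i, hi⟩ := Subgroup.mem_zpowers_iff.mp (hσ₀ (act g hg))
        obtain ⟨j, hj⟩ := Subgroup.mem_zpowers_iff.mp (hσ₀ (act h hh))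
        rw [← hi, ← hj, ← _root_.zpow_add, ← _root_.zpow_add, add_comm]
      have h1 := congrArg Subtype.val (AlgEquiv.congr_fun hcomm ⟨cj g⁻¹ (cj h⁻¹ k),
        (hle (G.inv_mem hg) _).mp ((hle (G.inv_mem hh) k).mp hk)⟩)
      change cj g (cj h (cj g⁻¹ (cj h⁻¹ k))) = cj h (cj g (cj g⁻¹ (cj h⁻¹ k))) at h1
      simp only [cj_cj] at h1
      rw [show g * (h * (g⁻¹ * h⁻¹)) = u by simp [u, mul_assoc], show h * (g * (g⁻¹ * h⁻¹)) = 1 by group,
        cj_one_left] at h1
      exact h1
    have hinv : (u : Matrix ι ι F) * (u : Matrix ι ι F) = 1 := by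
      have h1 := hadj _ huK
      rw [D.adj_coe (hGI hu)] at h1
      nth_rw 1 [← h1]
      rw [Units.inv_mul]
    have hu1 : (u : Matrix ι ι F) = 1 := by
      by_contra hne
      have hm1 : (u : Matrix ι ι F) = -1 := by
        by_contra hne'
        obtain ⟨y, -, hy⟩ := hK.inv _ (sub_mem huK (one_mem _)) (sub_ne_zero.mpr hne)
        refine hne' (eq_neg_of_add_eq_zero_left ?_)
        calc (u : Matrix ι ι F) + 1 = ((u : Matrix ι ι F) + 1) * (((u : Matrix ι ι F) - 1) * y) := by rw [hy, mul_one]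
          _ = ((u : Matrix ι ι F) * (u : Matrix ι ι F) - 1) * y := by noncomm_ring
          _ = 0 := by rw [hinv, sub_self, zero_mul]
      have hdet : (u : Matrix ι ι F).det = 1 := by
        have hd : ∀ x : GL ι F, (x : Matrix ι ι F).det * ((x⁻¹ : GL ι F) : Matrix ι ι F).det = 1 := fun x => by
          rw [← Matrix.det_mul, Units.mul_inv, Matrix.det_one]
        simp only [u, Units.val_mul, Matrix.det_mul]
        linear_combination (hd h) * ((g : Matrix ι ι F).det * ((g⁻¹ : GL ι F) : Matrix ι ι F).det) + hd g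
      rw [hm1, Matrix.det_neg, Matrix.det_one, mul_one, hrn, hro.neg_one_pow] at hdet
      exact h2 (by linear_combination -hdet)
    have h1 : u = 1 := Units.ext hu1
    calc g * h = u * (h * g) := by simp [u, mul_assoc]
      _ = _ := by rw [h1, one_mul]
  -- the enveloping algebra is then a field of the same degree
  have hZ : InvComm G (alg G) := by
    refine ⟨fun x hx y hy => commute_alg (fun g hg => ?_) hy, fun g hg z hz => ?_⟩
    · exact (commute_alg (X := (g : Matrix ι ι F)) (fun h hh => by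
        rw [← Units.val_mul, ← Units.val_mul, hab g hg h hh]) hx).symm
    · rwa [cj_eq_iff_commute.mpr (commute_alg (X := (g : Matrix ι ι F)) (fun h hh => by
        rw [← Units.val_mul, ← Units.val_mul, hab g hg h hh]) hz)]
  have htriv : ∀ f, IdemIn (alg G) f → f = 0 ∨ f = 1 := by
    intro f hf
    rcases irred_apply hirr (W := LinearMap.range (Matrix.toLin' f)) (fun g hg w hw => by
        obtain ⟨v, rfl⟩ := hw
        refine ⟨(g : Matrix ι ι F) *ᵥ v, ?_⟩
        rw [Matrix.toLin'_apply, Matrix.toLin'_apply, mulVec_mulVec, mulVec_mulVec,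
          hZ.comm _ hf.1 _ (coe_mem_alg hg)]) with hb | ht
    · exact Or.inl (Matrix.toLin'.injective (by rw [map_zero]; exact LinearMap.range_eq_bot.mp hb))
    · refine Or.inr (Matrix.ext_of_mulVec_single fun i => ?_)
      obtain ⟨w, hw⟩ := (ht ▸ Submodule.mem_top : Pi.single i 1 ∈ LinearMap.range (Matrix.toLin' f))
      rw [one_mulVec, ← hw, Matrix.toLin'_apply, mulVec_mulVec, hf.2]
  have hinvA : ∀ x ∈ alg G, x ≠ 0 → ∃ y ∈ alg G, x * y = 1 := fun x hx hx0 => hZ.inv hirr htriv hx hx0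
  have hfE : Module.finrank F (alg G) = r := by
    have htop : LinearMap.range (L (alg G)) = ⊤ := by
      rcases irred_apply hirr (W := LinearMap.range (L (alg G))) (fun g hg w hw => by
          obtain ⟨x, rfl⟩ := hw
          refine ⟨⟨(g : Matrix ι ι F) * x.1, mul_mem (coe_mem_alg hg) x.2⟩, ?_⟩
          show ((g : Matrix ι ι F) * (x : Matrix ι ι F)) *ᵥ v₀ = (g : Matrix ι ι F) *ᵥ ((x : Matrix ι ι F) *ᵥ v₀)
          rw [mulVec_mulVec]) with hb | ht
      · exact absurd ((Submodule.mem_bot F).mp (hb ▸ (⟨1, one_mulVec v₀⟩ : v₀ ∈ LinearMap.range (L (alg G))))) hv₀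
      · exact ht
    have := LinearMap.finrank_range_of_inj (hLinj _ hinvA)
    rw [htop, finrank_top, Module.finrank_fintype_fun_eq_card, hrn] at this
    exact this.symm
  have hE : IsFieldSubalgebra r (alg G) := ⟨hZ.comm, hinvA, hfE⟩
  rcases D.selfAdjoint_or_two hσ hr hE (fun x hx => D.adj_mem_alg hGI hx) with hself | rfl
  swap
  · exact absurd hro (by decide)
  obtain ⟨M, hM⟩ := exists_not_isScalarMat (ι := ι) (F := F) h2n
  have hscal : ∀ g ∈ G, IsScalarMat (g : Matrix ι ι F) := by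
    intro g hg
    have h1 := hself _ (coe_mem_alg hg)
    rw [D.adj_coe (hGI hg)] at h1
    have hgg : (g : Matrix ι ι F) * (g : Matrix ι ι F) = 1 := by
      nth_rw 1 [← h1]; rw [Units.inv_mul]
    by_cases hg1 : (g : Matrix ι ι F) = 1
    · exact ⟨1, by rw [hg1, one_smul]⟩
    obtain ⟨y, -, hy⟩ := hinvA _ (sub_mem (coe_mem_alg hg) (one_mem _)) (sub_ne_zero.mpr hg1)
    refine ⟨-1, ?_⟩
    rw [neg_one_smul]
    refine eq_neg_of_add_eq_zero_left ?_
    calc (g : Matrix ι ι F) + 1 = ((g : Matrix ι ι F) + 1) * (((g : Matrix ι ι F) - 1) * y) := by rw [hy, mul_one]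
      _ = ((g : Matrix ι ι F) * (g : Matrix ι ι F) - 1) * y := by noncomm_ring
      _ = 0 := by rw [hgg, sub_self, zero_mul]
  have hone : ∀ x ∈ alg G, IsScalarMat x := fun x hx => by
    refine alg_induction (fun x => IsScalarMat x) hscal ⟨0, (zero_smul F (1 : Matrix ι ι F)).symm⟩ ?_ ?_ hx
    · rintro x y ⟨a, rfl⟩ ⟨b, rfl⟩; exact ⟨a + b, by rw [add_smul]⟩
    · rintro c x ⟨a, rfl⟩; exact ⟨c * a, by rw [smul_smul]⟩
  obtain ⟨k, hk, hks⟩ := exists_nonscalar_of_finrank hE hr.two_le
  exact hks (hone k hk)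

end FData

end CfsgLib.Asch
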