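import Cfsg.Agent.Lib.Aschbacher.EvenKron
import Cfsg.Agent.Lib.Aschbacher.EvenSubfield
import Cfsg.Agent.Lib.Aschbacher.EvenSympType
import Cfsg.Agent.Lib.Aschbacher.EvenFive
import Cfsg.Agent.Lib.Aschbacher.FormMain
import Cfsg.Agent.Lib.Aschbacher.FormAbelian
import Cfsg.Agent.Lib.Aschbacher.FormLines

/-!
# The outcomes for subgroups of `Ω` in dimensions 8, 10 and 12
-/

set_option autoImplicit false

namespace CfsgLib.Asch.Even

open Matrix Cfsg.Geo QuadraticMap Module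
open CfsgLib.Classical.Quad (NDPolar polar_self')
open CfsgLib.ClassicalMax.Tensor (pureL pureL_eq)
open scoped MatrixGroups Kronecker

variable {ι : Type} [Fintype ι] [DecidableEq ι] {F : Type*} [Field F]

/-- where a subgroup of `Ω` lies, in dimension `2m`, `4 ≤ m ≤ 6` -/
inductive EvenCase (Q : QuadraticForm F (ι → F)) (hnd : NDPolar Q) [Fintype F] (m : ℕ)
    (H : Subgroup (GL ι F)) : Prop
  | singular (W : Submodule F (ι → F)) (h0 : W ≠ ⊥) (hs : IsTotallySingularQuad ⇑Q W)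
      (hle : H ≤ subspaceStabilizer W)
  | point (v : ι → F) (h2 : (2 : F) = 0) (hv : Q v ≠ 0) (hle : H ≤ subspaceStabilizer (Submodule.span F {v}))
  | nondeg (W : Submodule F (ι → F)) (h0 : W ≠ ⊥) (hd : 2 * finrank F W < 2 * m)
      (hndW : IsNondegenerateOn (polar ⇑Q) W) (hle : H ≤ subspaceStabilizer W)
  | halves (D : Fin 2 → Submodule F (ι → F)) (hD : IsNondegenerateMDecomposition (polar ⇑Q) m D)
      (hle : H ≤ decompositionStabilizer D)
      (h : H ≤ subspaceStabilizer (D 0) ∨ AreIsometricFor ⇑Q (D 0) (D 1))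
  | decomp (t k : ℕ) (D : Fin t → Submodule F (ι → F)) (ht : 3 ≤ t) (htk : t * k = 2 * m)
      (hD : IsOrthogonalMDecomposition ⇑Q k D) (hk : k = 1 → (2 : F) ≠ 0 ∧ (Fintype.card F).Prime)
      (hle : H ≤ decompositionStabilizer D)
  | pair (D : Fin 2 → Submodule F (ι → F)) (hD : IsMDecomposition m D)
      (hs : ∀ i, IsTotallySingularQuad ⇑Q (D i)) (hle : H ≤ decompositionStabilizer D)
  | field (r : ℕ) (K : Subalgebra F (Matrix ι ι F)) (G : Subgroup (GL ι F)) (hHG : H ≤ G) (hG : Fixes Q G)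
      (hirr : ActsIrreducibly (matrixSet G)) (hr : r.Prime) (hrn : r ∣ 2 * m) (hK : IsFieldSubalgebra r K)
      (hadj : ∀ k ∈ K, (evenData Q hnd).adj k ∈ K) (hle : G ≤ subalgebraNormalizer K) (h5 : ¬ (r = 5 ∧ m = 5))
  | tensorAlt (k : ℕ) (e : ι ≃ Fin 2 × Fin k) (P : GL ι F) (f₁ : (Fin 2 → F) → (Fin 2 → F) → F)
      (f₂ : (Fin k → F) → (Fin k → F) → F) (hf₁ : IsSymplecticForm f₁) (hf₂ : IsSymplecticForm f₂)
      (hstr : IsTensorFormStructure id (polar ⇑Q) f₁ f₂ e P) (hpure : ∀ u v, Q (pureL e P u v) = 0)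
      (hle : H ≤ tensorProductSubgroup 2 k e P)
  | tensorSym (e : ι ≃ Fin 3 × Fin 4) (P : GL ι F) (f₁ : (Fin 3 → F) → (Fin 3 → F) → F)
      (f₂ : (Fin 4 → F) → (Fin 4 → F) → F) (h2 : (2 : F) ≠ 0) (hf₁ : IsSymmetricForm f₁)
      (hf₂ : IsSymmetricForm f₂) (hstr : IsTensorFormStructure id (polar ⇑Q) f₁ f₂ e P)
      (hle : H ≤ tensorProductSubgroup 3 4 e P)
  | subfield (F₀ : Subfield F) (r : ℕ) (P : GL ι F) (ζ : F) (hr : r.Prime)
      (hc : Fintype.card F = Nat.card F₀ ^ r) (hζ : ζ ≠ 0)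
      (hrat : IsQuadFormRationalStructure (fun v => ζ * Q v) F₀ P) (hle : H ≤ subfieldSubgroup F₀ P)
  | plusEight (hm : m = 4) (hplus : IsPlusTypeOn ⇑Q ⊤)
  | residual (h : InOrthogonalResidualClass H)

variable {Q : QuadraticForm F (ι → F)} {hnd : NDPolar Q} [Fintype F] {m : ℕ} {H G : Subgroup (GL ι F)}

lemma adjointClosed {K : Subalgebra F (Matrix ι ι F)} (hadj : ∀ k ∈ K, (evenData Q hnd).adj k ∈ K) :
    IsAdjointClosedFor (polar ⇑Q) K := fun k hk => ⟨_, hadj k hk, fun u v => by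
  rw [← form_eq (hnd := hnd)]; exact (evenData Q hnd).form_adj k u v⟩

lemma pureL_swap {w k : ℕ} (e : ι ≃ Fin w × Fin k) (P : GL ι F) (u : Fin w → F) (v : Fin k → F) :
    pureL (e.trans (Equiv.prodComm _ _)) P v u = pureL e P u v := by
  rw [pureL_eq, pureL_eq]
  congr 1
  funext i
  simp [mul_comm]

omit [Fintype F] in
lemma fixes_of_isom (h2 : (2 : F) ≠ 0) {R : Subgroup (GL ι F)} (hR : R ≤ (evenData Q hnd).isom) :
    Fixes Q R := by
  intro g hg v
  refine mul_left_cancel₀ h2 ?_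
  rw [← form_self (hnd := hnd), ← form_self (hnd := hnd)]
  exact hR hg v v

variable [Nonempty ι]

/-- a reducible group -/
theorem case_of_reducible (hn : Fintype.card ι = 2 * m) (hHG : H ≤ G) (hG : Fixes Q G)
    (hW : InSubspace G) : EvenCase Q hnd m H := by
  rcases (evenData Q hnd).reducible_cases hG.isom hW with
    ⟨W, h0, hs, hle⟩ | ⟨W, h0, -, hndW, hd, hle⟩ | ⟨k, V, hk, hV, hle⟩
  · rcases singular_or_point hG h0 hs hle with ⟨U, hU0, hUs, hUle⟩ | ⟨h2, v, hv, hvle⟩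
    · exact .singular U hU0 hUs (hHG.trans hUle)
    · exact .point v h2 hv (hHG.trans hvle)
  · exact .nondeg W h0 (hn ▸ hd) (form_eq (hnd := hnd) ▸ hndW) (hHG.trans hle)
  · obtain rfl : k = m := by omega
    refine .halves V (form_eq (hnd := hnd) ▸ hV) (hHG.trans hle) ?_
    by_cases h : H ≤ subspaceStabilizer (V 0)
    · exact Or.inl h
    obtain ⟨g, hgH, hg⟩ := SetLike.not_le_iff_exists.mp h
    obtain ⟨σ, hσ⟩ := hle (hHG hgH)
    have h01 : σ 0 = 1 := by
      rcases (show σ 0 = 0 ∨ σ 0 = 1 by omega) with h0 | h0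
      · exfalso
        refine hg (mem_subspaceStabilizer.mpr fun w => ?_)
        have hmap : (V 0).map (Matrix.toLin' (g : Matrix ι ι F)) = V 0 := by rw [hσ 0, h0]
        refine ⟨fun hw => hmap ▸ ⟨w, hw, Matrix.toLin'_apply _ _⟩, fun hw => ?_⟩
        rw [← hmap] at hw
        obtain ⟨w', hw', he⟩ := hw
        rw [Matrix.toLin'_apply] at he
        exact ClassicalMax.gl_mulVec_injective g he ▸ hw'
      · exact h0
    refine Or.inr ⟨LinearEquiv.ofBijective
      ((Matrix.toLin' (g : Matrix ι ι F)).restrict (p := V 0) (q := V 1) fun w hw => ?_) ⟨?_, ?_⟩, fun w => ?_⟩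
    · rw [← h01, ← hσ 0]; exact ⟨w, hw, rfl⟩
    · intro a b hab
      exact Subtype.ext (ClassicalMax.gl_mulVec_injective g (by
        simpa [LinearMap.restrict_apply, Matrix.toLin'_apply] using congrArg Subtype.val hab))
    · rintro ⟨y, hy⟩
      rw [← h01, ← hσ 0] at hy
      obtain ⟨w, hw, rfl⟩ := hy
      exact ⟨⟨w, hw⟩, Subtype.ext rfl⟩
    · show Q (Matrix.toLin' (g : Matrix ι ι F) (w : ι → F)) = _
      rw [Matrix.toLin'_apply]
      exact hG g (hHG hgH) _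

/-- a rational structure over a subfield -/
theorem case_of_subfield (hn2 : 2 ≤ Fintype.card ι) (hHG : H ≤ G) (hG : Fixes Q G)
    (hirr : ActsIrreducibly (matrixSet G)) (h : (evenData Q hnd).InSubfieldForm G) : EvenCase Q hnd m H := by
  obtain ⟨F₀, r, P, ζ, hr, hc, hζ, hrat, hle⟩ := rational_of_subfield hn2 hG (fun _ => hirr) h
  exact .subfield F₀ r P ζ hr hc hζ hrat (hHG.trans hle)

/-- an orthogonal decomposition -/
theorem case_of_decomp (hn : Fintype.card ι = 2 * m) (hm : 2 ≤ m) (hHG : H ≤ G) (hG : Fixes Q G)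
    (hirr : ActsIrreducibly (matrixSet G)) (h : (evenData Q hnd).InNondegDecomp G) : EvenCase Q hnd m H := by
  classical
  obtain ⟨t, k, V, hV, htk, hle⟩ := h
  have hiso : ∀ i j, AreIsometricFor ⇑Q (V i) (V j) := by
    intro i j
    obtain ⟨g, hg, hgV⟩ := transitive_of_irred hirr hV.decomp hle i j
    let e : (ι → F) ≃ₗ[F] (ι → F) :=
      { Matrix.toLin' (g : Matrix ι ι F) with
        invFun := fun x => ((g⁻¹ : GL ι F) : Matrix ι ι F) *ᵥ x
        left_inv := fun x => by simp [Matrix.toLin'_apply, mulVec_mulVec]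
        right_inv := fun x => by simp [Matrix.toLin'_apply, mulVec_mulVec] }
    exact ⟨(e.submoduleMap (V i)).trans (LinearEquiv.ofEq _ _ hgV), fun w => hG g hg (w : ι → F)⟩
  have hV' : IsNondegenerateMDecomposition (polar ⇑Q) k V := form_eq (hnd := hnd) ▸ hV
  have ht2 := hV.decomp.two_le
  rcases Nat.lt_or_ge t 3 with ht | ht
  · obtain rfl : t = 2 := by omega
    obtain rfl : k = m := by omega
    exact .halves V hV' (hHG.trans hle) (Or.inr (hiso 0 1))
  by_cases hk : k = 1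
  swap
  · exact .decomp t k V ht (htk.trans hn) ⟨hV', hiso⟩ (fun h => absurd h hk) (hHG.trans hle)
  subst hk
  have h2 : (2 : F) ≠ 0 := fun h2 => by
    obtain ⟨v, hv, hv0⟩ := (Submodule.ne_bot_iff (V ⟨0, by omega⟩)).mp fun h => by
      have := hV.decomp.finrank_eq ⟨0, by omega⟩
      rw [h, finrank_bot] at this
      omega
    obtain ⟨-, x, hx, hvx⟩ := hV'.nondegenerate ⟨0, by omega⟩ v hv hv0
    obtain ⟨c, hc⟩ := exists_smul_eq_of_finrank_eq_one (hV.decomp.finrank_eq ⟨0, by omega⟩)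
      (x := ⟨v, hv⟩) (fun h => hv0 (congrArg Subtype.val h)) ⟨x, hx⟩
    refine hvx ?_
    rw [show x = c • v from (congrArg Subtype.val hc).symm, polar_smul_right, polar_self', h2, zero_mul, smul_zero]
  by_cases hp : (Fintype.card F).Prime
  · exact .decomp t 1 V ht (htk.trans hn) ⟨hV', hiso⟩ (fun _ => ⟨h2, hp⟩) (hHG.trans hle)
  refine case_of_subfield (by omega) hHG hG hirr ?_
  obtain ⟨p, f, hp', hchar, hf', hcardF⟩ := exists_prime_pow (F := F)
  haveI := Fact.mk hp'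
  haveI := hchar
  refine (evenData Q hnd).inSubfieldForm_of_lines σ_eq hirr hG.isom hV (by omega) hle
    (F₀ := (ZMod.castHom dvd_rfl F : ZMod p →+* F).fieldRange) fun htop => hp ?_
  have hs : Function.Surjective (ZMod.castHom dvd_rfl F : ZMod p →+* F) := fun x => by
    have hx : x ∈ (ZMod.castHom dvd_rfl F : ZMod p →+* F).fieldRange := by rw [htop]; trivial
    exact hx
  have hle' := Fintype.card_le_of_surjective _ hs
  rw [ZMod.card, hcardF] at hle'
  have : f = 1 := by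
    by_contra hne
    have := Nat.pow_lt_pow_right hp'.one_lt (show 1 < f by omega)
    rw [pow_one] at this
    omega
  rw [hcardF, this, pow_one]
  exact hp'

/-- a pair of totally singular halves -/
theorem case_of_pair (hn : Fintype.card ι = 2 * m) (hm : 2 ≤ m) (hHG : H ≤ G) (hG : Fixes Q G)
    (hirr : ActsIrreducibly (matrixSet G)) (h : (evenData Q hnd).InSingularPair G) : EvenCase Q hnd m H := by
  obtain ⟨k, V, -, hV, hs, hk, hle, -⟩ := h
  obtain rfl : k = m := by omega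
  exact .pair V hV (fun i => pair_singular hG hirr hm hV hs hle i) (hHG.trans hle)

set_option maxHeartbeats 1000000 in
/-- a tensor factorisation -/
theorem case_of_kron (hn : Fintype.card ι = 2 * m) (hm : 4 ≤ m) (hm6 : m ≤ 6) (hHG : H ≤ G) (hG : Fixes Q G)
    (hirr : ActsIrreducibly (matrixSet G)) (h : (evenData Q hnd).InKronForm G) : EvenCase Q hnd m H := by
  classical
  obtain ⟨w, k, e, P, G₁, G₂, ε₁, ε₂, hw, hk, hwk, hB, h1, h2', hεε, he1, he2, hdec⟩ := h
  have hwk' : w * k = 2 * m := hwk.trans hn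
  have hw6 : w ≤ 6 := by nlinarith
  have hk6 : k ≤ 6 := by nlinarith
  have hne : w ≠ k := by
    rintro rfl
    interval_cases w <;> omega
  haveI : Nonempty (Fin w) := ⟨⟨0, by omega⟩⟩
  haveI : Nonempty (Fin k) := ⟨⟨0, by omega⟩⟩
  have hplane : ∀ (w : ℕ) (e : ι ≃ Fin w × Fin 2) (G₁ : GL (Fin w) F) (G₂ : GL (Fin 2) F), 0 < w →
      (2 : F) ≠ 0 →
      (((evenData Q hnd).trans e P).B : Matrix (Fin w × Fin 2) (Fin w × Fin 2) F)
        = (G₁ : Matrix (Fin w) (Fin w) F) ⊗ₖ (G₂ : Matrix (Fin 2) (Fin 2) F) →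
      (G₂ : Matrix (Fin 2) (Fin 2) F)ᵀ = (G₂ : Matrix (Fin 2) (Fin 2) F) →
      (∀ g ∈ G, ∃ (a : GL (Fin w) F) (b : GL (Fin 2) F),
        (g : Matrix ι ι F) = tens e P (a : Matrix _ _ F) (b : Matrix _ _ F)) →
      EvenCase Q hnd m H := by
    intro w e G₁ G₂ hw h2 hB hs2 hdec
    rcases (evenData Q hnd).cases_of_symmetric_plane σ_eq h2 hirr hG.isom hw e P hB hs2 hdec with
      h | h | ⟨K, hK, hadj, -, hle⟩
    · exact case_of_decomp hn (by omega) hHG hG hirr h
    · exact case_of_pair hn (by omega) hHG hG hirr h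
    · exact .field 2 K G hHG hG hirr Nat.prime_two (dvd_mul_right 2 m) hK hadj hle (by omega)
  have halt : ∀ (k : ℕ) (e : ι ≃ Fin 2 × Fin k) (G₁ : GL (Fin 2) F) (G₂ : GL (Fin k) F),
      (((evenData Q hnd).trans e P).B : Matrix (Fin 2 × Fin k) (Fin 2 × Fin k) F)
        = (G₁ : Matrix (Fin 2) (Fin 2) F) ⊗ₖ (G₂ : Matrix (Fin k) (Fin k) F) →
      IsSymplecticForm (sform (RingHom.id F) (G₁ : Matrix (Fin 2) (Fin 2) F)) →
      IsSymplecticForm (sform (RingHom.id F) (G₂ : Matrix (Fin k) (Fin k) F)) →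
      (∀ u v, Q (pureL e P u v) = 0) →
      (∀ g ∈ G, ∃ (a : GL (Fin 2) F) (b : GL (Fin k) F),
        (g : Matrix ι ι F) = tens e P (a : Matrix _ _ F) (b : Matrix _ _ F)) →
      EvenCase Q hnd m H := by
    intro k e G₁ G₂ hB hf₁ hf₂ hp hdec
    refine .tensorAlt k e P _ _ hf₁ hf₂ (kron_structure e P hB) hp fun g hg => ?_
    obtain ⟨a, b, hab⟩ := hdec g (hHG hg)
    exact mem_tensorProductSubgroup hab
  have hsym : ∀ (e : ι ≃ Fin 3 × Fin 4) (G₁ : GL (Fin 3) F) (G₂ : GL (Fin 4) F), (2 : F) ≠ 0 →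
      (((evenData Q hnd).trans e P).B : Matrix (Fin 3 × Fin 4) (Fin 3 × Fin 4) F)
        = (G₁ : Matrix (Fin 3) (Fin 3) F) ⊗ₖ (G₂ : Matrix (Fin 4) (Fin 4) F) →
      (G₁ : Matrix (Fin 3) (Fin 3) F)ᵀ = (G₁ : Matrix (Fin 3) (Fin 3) F) →
      (G₂ : Matrix (Fin 4) (Fin 4) F)ᵀ = (G₂ : Matrix (Fin 4) (Fin 4) F) →
      (∀ g ∈ G, ∃ (a : GL (Fin 3) F) (b : GL (Fin 4) F),
        (g : Matrix ι ι F) = tens e P (a : Matrix _ _ F) (b : Matrix _ _ F)) →
      EvenCase Q hnd m H := by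
    intro e G₁ G₂ h2 hB h1 h2' hdec
    refine .tensorSym e P _ _ h2 (isSymmetricForm_sform h1) (isSymmetricForm_sform h2') (kron_structure e P hB)
      fun g hg => ?_
    obtain ⟨a, b, hab⟩ := hdec g (hHG hg)
    exact mem_tensorProductSubgroup hab
  obtain ⟨hB', hdec'⟩ := (evenData Q hnd).inKronForm_swap hB hdec
  rcases kron_cases hG hirr hw hk hne e P hB h1 h2' hεε he1 hdec with ⟨s1, s2, hp⟩ | ⟨h2, s1, s2⟩
  · have e1 := symplectic_even s1
    have e2 := symplectic_even s2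
    simp only [Fintype.card_fin, Nat.even_iff] at e1 e2
    obtain rfl | rfl : w = 2 ∨ k = 2 := by
      by_contra hc
      push Not at hc
      have : w ≠ 3 := by omega
      have : k ≠ 3 := by omega
      have h16 : 4 * 4 ≤ w * k := Nat.mul_le_mul (by omega) (by omega)
      omega
    · exact halt k e G₁ G₂ hB s1 s2 hp hdec
    · exact halt w _ G₂ G₁ hB' s2 s1 (fun u v => by rw [pureL_swap]; exact hp v u) hdec'
  · obtain rfl | rfl | ⟨rfl, rfl⟩ | ⟨rfl, rfl⟩ :
        w = 2 ∨ k = 2 ∨ (w = 3 ∧ k = 4) ∨ (w = 4 ∧ k = 3) := by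
      interval_cases w <;> interval_cases k <;> omega
    · exact hplane k _ G₂ G₁ (by omega) h2 hB' s1 hdec'
    · exact hplane w e G₁ G₂ (by omega) h2 hB s2 hdec
    · exact hsym e G₁ G₂ h2 hB s1 s2 hdec
    · exact hsym _ G₂ G₁ h2 hB' s2 s1 hdec'

/-- a perfect spanning subgroup preserving a tensor factorisation, dimension eight -/
theorem plus_of_perfect_kron (hn : Fintype.card ι = 8) {P₀ : Subgroup (GL ι F)} (hP : Fixes Q P₀)
    (hperf : ⁅P₀, P₀⁆ = P₀) (hsp : Spans (matrixSet P₀)) (h : (evenData Q hnd).InKronForm P₀) :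
    IsPlusTypeOn ⇑Q ⊤ := by
  obtain ⟨w, k, e, P, G₁, G₂, ε₁, ε₂, hw, hk, hwk, hB, h1, h2', hεε, he1, he2, hdec⟩ := h
  rw [hn] at hwk
  have hw4 : w ≤ 4 := by nlinarith
  have hk4 : k ≤ 4 := by nlinarith
  have h24 : (w = 2 ∧ k = 4) ∨ (w = 4 ∧ k = 2) := by
    interval_cases w <;> interval_cases k <;> omega
  obtain ⟨hB', hdec'⟩ := (evenData Q hnd).inKronForm_swap hB hdec
  rcases kron_cases hP hsp.irred hw hk (by omega) e P hB h1 h2' hεε he1 hdec with ⟨-, -, hp⟩ | ⟨h2, s1, s2⟩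
  · rcases h24 with ⟨rfl, rfl⟩ | ⟨rfl, rfl⟩
    · exact plus_of_pure e P hp
    · exact plus_of_pure _ P fun u v => by rw [pureL_swap]; exact hp v u
  · rcases h24 with ⟨rfl, rfl⟩ | ⟨rfl, rfl⟩
    · exact (false_of_perfect_plane h2 hP hperf hsp (by omega) _ P hB' s1 hdec').elim
    · exact (false_of_perfect_plane h2 hP hperf hsp (by omega) e P hB s2 hdec).elim

set_option maxHeartbeats 1000000 in
/-- Aschbacher's reduction for `Ω` in dimensions 8, 10 and 12 -/
theorem evenCase_of_le (hn : Fintype.card ι = 2 * m) (hm : 4 ≤ m) (hm6 : m ≤ 6)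
    (hH : H ≤ omegaGL ⇑Q) : EvenCase Q hnd m H := by
  classical
  set D := evenData Q hnd with hDdef
  have hHQ := fixes_omega hH
  set G₀ := H ⊔ (scalars ι F ⊓ D.isom) with hG₀
  have hHG : H ≤ G₀ := le_sup_left
  have hG : Fixes Q G₀ := fixes_sup_scalars hHQ
  rcases irred_or_subspace G₀ with hirr | hW
  swap
  · exact case_of_reducible hn hHG hG hW
  rcases D.outcome_of_abelianStep (FData.abelianStep _) (by omega) H hHQ.isom with
    hW | ⟨-, h⟩ | ⟨-, h⟩ | ⟨-, r, K, hr, hK, hrn, hle, hadj⟩ | ⟨-, -, h⟩ | h |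
    ⟨r, R, p, f, k, hR, hRs, hRI, hle, hrp, hmin, hk, hrk, h⟩ | ⟨P, hPG, hPn, hPs, hperf, h, hk⟩ |
    ⟨P, hPG, hPn, hPs, hres⟩
  · exact case_of_reducible hn hHG hG hW
  · exact case_of_decomp hn (by omega) hHG hG hirr h
  · exact case_of_pair hn (by omega) hHG hG hirr h
  · by_cases h5 : r = 5 ∧ m = 5
    · obtain ⟨rfl, rfl⟩ := h5
      rcases five_cases hn hG hirr hK hadj hle with h | h | ⟨K', hK', hadj', hle'⟩
      · exact case_of_decomp hn (by omega) hHG hG hirr h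
      · exact case_of_pair hn (by omega) hHG hG hirr h
      · exact .field 2 K' G₀ hHG hG hirr Nat.prime_two (dvd_mul_right 2 5) hK' hadj' hle' (by omega)
    · exact .field r K G₀ hHG hG hirr hr (hn ▸ hrn) hK hadj hle h5
  · exact case_of_kron hn hm hm6 hHG hG hirr h
  · exact case_of_subfield (by omega) hHG hG hirr h
  · rcases h with ⟨h, -⟩ | ⟨h, -⟩ | ⟨-, rfl, -, hz, hcard, -, hc⟩
    · exact absurd σ_eq h
    · exact absurd σ_eq h
    have hk4 : k < 4 := (Nat.pow_lt_pow_iff_right (by norm_num : 1 < 2)).mp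
      (by rw [hrk, hn]; norm_num; omega)
    obtain ⟨rfl, rfl⟩ : k = 3 ∧ m = 4 := by interval_cases k <;> omega
    obtain ⟨hp, hchar, -⟩ := hmin
    have h2 : (2 : F) ≠ 0 := fun h2 => by
      have := (CharP.cast_eq_zero_iff F p 2).mp (by exact_mod_cast h2)
      exact hrp ((Nat.prime_dvd_prime_iff_eq hp Nat.prime_two).mp this).symm
    exact .plusEight rfl
      (plus_of_sympType hnd h2 (by omega) (fixes_of_isom h2 hRI) hRs hz (by rw [hcard]; rfl) hc)
  · obtain ⟨w, t, -, -, -, -, -, hw, ht, hwt, -⟩ := h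
    have ht3 : t ≤ 3 := by
      by_contra hc
      have h1 : 2 ^ 4 ≤ 2 ^ t := Nat.pow_le_pow_right (by norm_num) (by omega)
      have h2 : 2 ^ t ≤ w ^ t := Nat.pow_le_pow_left hw t
      omega
    have hw3 : w ≤ 3 := by
      have h1 : w ^ 2 ≤ w ^ t := Nat.pow_le_pow_right (by omega) ht
      nlinarith
    have hm4 : m = 4 := by interval_cases t <;> interval_cases w <;> omega
    exact .plusEight hm4 (plus_of_perfect_kron (by omega) (fun g hg => hG g (hPG hg)) hperf hPs hk)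
  · by_cases hu : ∃ (τ : F ≃+* F) (f : (ι → F) → (ι → F) → F), IsUnitaryForm τ f ∧ FixesForm (matrixSet P) f
    · obtain ⟨τ, f, hu1, hu2⟩ := hu
      exact case_of_subfield (by omega) hHG hG hirr (D.subfield_of_fixed_unitary σ_eq hG.isom hPG hPn hPs hu1 hu2)
    exact .residual ⟨P, hres, hu⟩

end CfsgLib.Asch.Even
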