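import Cfsg.Agent.Lib.Aschbacher.EvenListBasic

/-!
# Maximal subgroups of `Ω` of minus type in dimension eight
-/

set_option autoImplicit false

namespace CfsgLib.Asch.Even

open Matrix Cfsg.Geo QuadraticMap Module
open CfsgLib.Classical.Quad (NDPolar)
open scoped MatrixGroups

variable {ι : Type} [Fintype ι] [DecidableEq ι] {F : Type*} [Field F] [Fintype F]

/-- the possible types of a maximal subgroup -/
inductive EightMinusType (Q : QuadraticForm F (ι → F)) (H : Subgroup (GL ι F)) : Prop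
  | singular (W : Submodule F (ι → F)) (h0 : W ≠ ⊥) (hs : IsTotallySingularQuad ⇑Q W)
      (he : H = subspaceStabilizer W ⊓ omegaGL ⇑Q)
  | oddDim (W : Submodule F (ι → F)) (hq : Odd (Fintype.card F)) (h0 : W ≠ ⊥) (h1 : W ≠ ⊤)
      (hd : Odd (finrank F W)) (hW : IsNondegenerateOn (polar ⇑Q) W) (he : H = subspaceStabilizer W ⊓ omegaGL ⇑Q)
  | planeMinus (W : Submodule F (ι → F)) (hd : finrank F W = 2) (hW : IsNondegenerateOn (polar ⇑Q) W)
      (hp : ¬ IsPlusTypeOn ⇑Q W) (he : H = subspaceStabilizer W ⊓ omegaGL ⇑Q)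
  | planePlus (W : Submodule F (ι → F)) (hq : 4 ≤ Fintype.card F) (hd : finrank F W = 2)
      (hW : IsNondegenerateOn (polar ⇑Q) W) (hp : IsPlusTypeOn ⇑Q W)
      (he : H = subspaceStabilizer W ⊓ omegaGL ⇑Q)
  | four (W : Submodule F (ι → F)) (hd : finrank F W = 4) (hW : IsNondegenerateOn (polar ⇑Q) W)
      (he : H = subspaceStabilizer W ⊓ omegaGL ⇑Q)
  | point (v : ι → F) (hq : ¬ Odd (Fintype.card F)) (hv : Q v ≠ 0)
      (he : H = subspaceStabilizer (Submodule.span F {v}) ⊓ omegaGL ⇑Q)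
  | field (K : Subalgebra F (Matrix ι ι F)) (hK : IsFieldSubalgebra 2 K)
      (he : H = subalgebraNormalizer K ⊓ omegaGL ⇑Q)
  | subfield (F₀ : Subfield F) (r : ℕ) (P : GL ι F) (ζ : F) (hr : r.Prime) (hodd : Odd r)
      (hc : Fintype.card F = Nat.card F₀ ^ r) (hζ : ζ ≠ 0)
      (hrat : IsQuadFormRationalStructure (fun v => ζ * Q v) F₀ P) (he : H = subfieldSubgroup F₀ P ⊓ omegaGL ⇑Q)
  | residual (h : InOrthogonalResidualClass H)

theorem eightMinus_type {Q : QuadraticForm F (ι → F)} (hnd : NDPolar Q) (hn : Fintype.card ι = 8)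
    (hminus : ¬ IsPlusTypeOn ⇑Q ⊤) {H : Subgroup (GL ι F)} (hH : IsMaximalIn (omegaGL ⇑Q) H) :
    EightMinusType Q H := by
  have h7 : 7 ≤ Fintype.card ι := by omega
  haveI : Nonempty ι := Fintype.card_pos_iff.mp (by omega)
  rcases evenCase_of_le (hnd := hnd) (m := 4) hn le_rfl (by omega) hH.1.le with
    ⟨W, h0, hs, hle⟩ | ⟨v, h2, hv, hle⟩ | ⟨W, h0, hd, hW, hle⟩ | ⟨D, hD, hle, h⟩ |
    ⟨t, k, D, ht, htk, hD, hk, hle⟩ | ⟨D, hD, hs, hle⟩ | ⟨r, K, G, hHG, hG, hirr, hr, hrn, hK, hadj, hle, -⟩ |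
    ⟨k, e, P, f₁, f₂, hf₁, hf₂, hstr, hpure, hle⟩ | ⟨e, P, f₁, f₂, h2, hf₁, hf₂, hstr, hle⟩ |
    ⟨F₀, r, P, ζ, hr, hc, hζ, hrat, hle⟩ | ⟨hm, hplus⟩ | h
  · exact .singular W h0 hs (eq_singular hnd h7 hH h0 hs hle)
  · exact .point v (fun ho => two_ne_zero_iff.mpr ho h2) hv (eq_point hnd h7 hH hv hle)
  · have hpos : 0 < finrank F W := Nat.pos_of_ne_zero fun h => h0 (Submodule.finrank_eq_zero.mp h)
    by_cases ho : Odd (finrank F W)
    · exact .oddDim W (odd_of_nondeg hW ho) h0 (ne_top_of_lt (by omega)) ho hW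
        (eq_stab hnd h7 hH h0 (ne_top_of_lt (by omega)) hle)
    rw [Nat.odd_iff] at ho
    have hd2 : finrank F W = 2 := by omega
    rcases plane_cases hnd h7 hH hd2 hW hle with ⟨hp, he⟩ | ⟨hq, hp, he⟩ | ⟨hq, W', hd', hW', he⟩
    · exact .planeMinus W hd2 hW hp he
    · exact .planePlus W hq hd2 hW hp he
    · exact .oddDim W' hq (fun h => by rw [h, finrank_bot] at hd'; omega) (ne_top_of_lt (by omega))
        (by rw [Nat.odd_iff]; omega) hW' he
  · rcases h with h | h
    · have h0 : D 0 ≠ ⊥ := fun h0 => by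
        have := hD.decomp.finrank_eq 0
        rw [h0, finrank_bot] at this
        omega
      exact .four (D 0) (hD.decomp.finrank_eq 0) (hD.nondegenerate 0)
        (eq_stab hnd h7 hH h0 (ne_top_of_lt (by rw [hD.decomp.finrank_eq 0]; omega)) h)
    · exact absurd ((singIn_two (orth_pair hD h) ⟨2, rfl⟩ (show (0 : Fin 2) ≠ 1 by decide)).plus (by omega)) hminus
  · refine absurd ?_ hminus
    have ht8 : t ≤ 8 := by
      have := Nat.le_mul_of_pos_right t hD.decomp.decomp.pos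
      omega
    obtain ⟨rfl, rfl⟩ | ⟨rfl, rfl⟩ : (t = 4 ∧ k = 2) ∨ (t = 8 ∧ k = 1) := by
      interval_cases t <;> omega
    · exact (singIn_four hD (a := 0) (b := 1) (c := 2) (d := 3) (by decide)).plus (by omega)
    · exact ((singIn_four hD (a := 0) (b := 1) (c := 2) (d := 3) (by decide)).union hD.decomp
        (singIn_four hD (a := 4) (b := 5) (c := 6) (d := 7) (by decide)) (by decide)).plus (by omega)
  · exact absurd (plus_of_pair hD hs hn) hminus
  · obtain rfl : r = 2 := (Nat.prime_dvd_prime_iff_eq hr Nat.prime_two).mp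
      (hr.dvd_of_dvd_pow (n := 3) (by norm_num; exact hrn))
    exact .field K hK (eq_field hnd h7 hH hr hK (hHG.trans hle))
  · exact absurd (plus_of_pure e P hpure) hminus
  · have := Fintype.card_congr e
    simp at this
    omega
  · refine .subfield F₀ r P ζ hr ?_ hc hζ hrat (eq_subfield hnd h7 hH hr hc hle)
    refine (hr.eq_two_or_odd').resolve_left ?_
    rintro rfl
    exact hminus (plus_of_index_two hnd (j := 4) hn hc hζ hrat)
  · exact absurd hplus hminus
  · exact .residual h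

end CfsgLib.Asch.Even
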