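import Cfsg.Agent.Lib.Aschbacher.EvenBasic
import Cfsg.Agent.Lib.ClassicalMax.TensorTools

/-!
# Tensor factorisations of a quadratic space
-/

set_option autoImplicit false

namespace CfsgLib.Asch.Even

open Matrix Cfsg.Geo QuadraticMap Module
open CfsgLib.Classical.Quad (NDPolar polar_self')
open CfsgLib.ClassicalMax.Tensor (pureL pureL_eq)
open scoped MatrixGroups Kronecker

variable {ι : Type} [Fintype ι] [DecidableEq ι] {F : Type*} [Field F]
  {Q : QuadraticForm F (ι → F)} {hnd : NDPolar Q} {w k : ℕ}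

lemma tens_pureL (e : ι ≃ Fin w × Fin k) (P : GL ι F) (a : Matrix (Fin w) (Fin w) F)
    (b : Matrix (Fin k) (Fin k) F) (u : Fin w → F) (v : Fin k → F) :
    tens e P a b *ᵥ pureL e P u v = pureL e P (a *ᵥ u) (b *ᵥ v) := by
  rw [pureL_eq, pureL_eq, tens_eq_push, pushMat, cj_mulVec]
  congr 1
  funext i
  simp only [Matrix.mulVec, dotProduct, Matrix.coe_reindexAlgEquiv, Matrix.reindex_apply, Matrix.submatrix_apply,
    Equiv.symm_symm, Function.comp, kroneckerMap_apply]
  rw [Finset.sum_mul_sum, ← Fintype.sum_prod_type',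
    ← Equiv.sum_comp e (fun s : Fin w × Fin k => a (e i).1 s.1 * u s.1 * (b (e i).2 s.2 * v s.2))]
  exact Finset.sum_congr rfl fun j _ => by ring

lemma kron_structure (e : ι ≃ Fin w × Fin k) (P : GL ι F) {G₁ : Matrix (Fin w) (Fin w) F}
    {G₂ : Matrix (Fin k) (Fin k) F}
    (hB : (((evenData Q hnd).trans e P).B : Matrix (Fin w × Fin k) (Fin w × Fin k) F) = G₁ ⊗ₖ G₂) :
    IsTensorFormStructure id (polar ⇑Q) (sform (RingHom.id F) G₁) (sform (RingHom.id F) G₂) e P := by
  have h := (evenData Q hnd).isTensorFormStructure e P hB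
  rw [form_eq, σ_eq] at h
  exact h

lemma polar_pure (e : ι ≃ Fin w × Fin k) (P : GL ι F) {G₁ : Matrix (Fin w) (Fin w) F}
    {G₂ : Matrix (Fin k) (Fin k) F}
    (hB : (((evenData Q hnd).trans e P).B : Matrix (Fin w × Fin k) (Fin w × Fin k) F) = G₁ ⊗ₖ G₂)
    (u u' : Fin w → F) (v v' : Fin k → F) :
    polar Q (pureL e P u v) (pureL e P u' v') = sform (RingHom.id F) G₁ u u' * sform (RingHom.id F) G₂ v v' := by
  have hc : ∀ x y : Fin w × Fin k → F,
      polar Q ((P : Matrix ι ι F) *ᵥ (x ∘ e)) ((P : Matrix ι ι F) *ᵥ (y ∘ e)) =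
        1 * formOfGram id (gramMatrix (sform (RingHom.id F) G₁) ⊗ₖ gramMatrix (sform (RingHom.id F) G₂)) x y :=
    fun x y => by
      rw [← form_eq (hnd := hnd), one_mul, FData.trans_form, FData.form, hB, gramMatrix_sform, gramMatrix_sform,
        sform_eq_formOfGram]
      rfl
  have := ClassicalMax.Tensor.form_pureL e P (σ := id) (fun _ _ => rfl) hc
    (fun u v => by rw [gramMatrix_sform, sform_eq_formOfGram]; rfl)
    (fun u v => by rw [gramMatrix_sform, sform_eq_formOfGram]; rfl) u u' v v'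
  rwa [one_mul] at this

lemma alt_diag {n : ℕ} {G : Matrix (Fin n) (Fin n) F} (h2 : (2 : F) ≠ 0) (h : Gᵀ = -G) (i : Fin n) : G i i = 0 := by
  have := congrFun (congrFun h i) i
  rw [transpose_apply, Matrix.neg_apply] at this
  exact (mul_eq_zero.mp (show (2 : F) * G i i = 0 by linear_combination this)).resolve_left h2

variable [Fintype F]

lemma sform_self_of_alt {n : ℕ} {G : GL (Fin n) F} (hskew : (G : Matrix (Fin n) (Fin n) F)ᵀ = -(G : Matrix _ _ F))
    (hdiag : ∀ i, (G : Matrix (Fin n) (Fin n) F) i i = 0) (u : Fin n → F) :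
    sform (RingHom.id F) (G : Matrix (Fin n) (Fin n) F) u u = 0 :=
  (isSymplecticForm_of_alternating G.isUnit hskew hdiag).alternating u

variable [Nonempty ι]

/-- characteristic two: the factor forms are alternating and `Q` vanishes on pure tensors -/
theorem pure_zero_char_two (h2 : (2 : F) = 0) {G : Subgroup (GL ι F)} (hG : Fixes Q G)
    (hirr : ActsIrreducibly (matrixSet G)) (hw : 2 ≤ w) (hk : 2 ≤ k) (hwk : w ≠ k) (e : ι ≃ Fin w × Fin k)
    (P : GL ι F) {G₁ : GL (Fin w) F} {G₂ : GL (Fin k) F}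
    (hB : (((evenData Q hnd).trans e P).B : Matrix (Fin w × Fin k) (Fin w × Fin k) F)
      = (G₁ : Matrix (Fin w) (Fin w) F) ⊗ₖ (G₂ : Matrix (Fin k) (Fin k) F))
    (hs1 : (G₁ : Matrix (Fin w) (Fin w) F)ᵀ = (G₁ : Matrix (Fin w) (Fin w) F))
    (hs2 : (G₂ : Matrix (Fin k) (Fin k) F)ᵀ = (G₂ : Matrix (Fin k) (Fin k) F))
    (hdec : ∀ g ∈ G, ∃ (a : GL (Fin w) F) (b : GL (Fin k) F),
      (g : Matrix ι ι F) = tens e P (a : Matrix _ _ F) (b : Matrix _ _ F)) :
    (∀ i, (G₁ : Matrix (Fin w) (Fin w) F) i i = 0) ∧ (∀ i, (G₂ : Matrix (Fin k) (Fin k) F) i i = 0) ∧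
      ∀ u v, Q (pureL e P u v) = 0 := by
  classical
  set D := evenData Q hnd
  haveI : Nonempty (Fin w) := ⟨⟨0, by omega⟩⟩
  haveI : Nonempty (Fin k) := ⟨⟨0, by omega⟩⟩
  haveI : CharP F 2 := CharTwo.of_one_ne_zero_of_two_eq_zero one_ne_zero h2
  have hsim : ∀ g ∈ G, ∀ (a : GL (Fin w) F) (b : GL (Fin k) F),
      (g : Matrix ι ι F) = tens e P (a : Matrix _ _ F) (b : Matrix _ _ F) →
      a ∈ similarityGroup (sform (RingHom.id F) (G₁ : Matrix (Fin w) (Fin w) F)) ∧
      b ∈ similarityGroup (sform (RingHom.id F) (G₂ : Matrix (Fin k) (Fin k) F)) := by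
    intro g hg a b hab
    obtain ⟨μ, hμ, ha, hb⟩ := (D.trans e P).similitude_factors hB (D.pull_mem_isom e P (hG.isom hg)) (pull_of_tens e P hab)
    exact ⟨mem_similarity_sform (c := Units.mk0 μ hμ) ha, mem_similarity_sform (c := Units.mk0 μ⁻¹ (inv_ne_zero hμ)) hb⟩
  -- the factor forms are alternating
  have hd2 : ∀ i, (G₂ : Matrix (Fin k) (Fin k) F) i i = 0 := by
    refine diag_eq_zero_of_symmetric h2 (by simpa using hk) (factor_irred hirr e P
      (similarityGroup (sform (RingHom.id F) (G₂ : Matrix (Fin k) (Fin k) F))) fun g hg => ?_) hs2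
      fun g hg => exists_scalar_of_mem_similarity hg
    obtain ⟨a, b, hab⟩ := hdec g hg
    refine ⟨(a : Matrix _ _ F), b, (hsim g hg a b hab).2, ?_⟩
    exact hab
  have hd1 : ∀ i, (G₁ : Matrix (Fin w) (Fin w) F) i i = 0 := by
    refine diag_eq_zero_of_symmetric h2 (by simpa using hw) (factor_irred hirr (e.trans (Equiv.prodComm _ _)) P
      (similarityGroup (sform (RingHom.id F) (G₁ : Matrix (Fin w) (Fin w) F))) fun g hg => ?_) hs1
      fun g hg => exists_scalar_of_mem_similarity hg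
    obtain ⟨a, b, hab⟩ := hdec g hg
    refine ⟨(b : Matrix _ _ F), a, (hsim g hg a b hab).1, ?_⟩
    rw [hab]
    exact tens_swap e P _ _
  refine ⟨hd1, hd2, ?_⟩
  have hneg : ∀ {n : ℕ} (M : Matrix (Fin n) (Fin n) F), -M = M := fun M => by
    ext i j; rw [Matrix.neg_apply]; linear_combination -(M i j) * h2
  have ha1 : ∀ u, sform (RingHom.id F) (G₁ : Matrix (Fin w) (Fin w) F) u u = 0 :=
    sform_self_of_alt (by rw [hneg]; exact hs1) hd1
  have ha2 : ∀ v, sform (RingHom.id F) (G₂ : Matrix (Fin k) (Fin k) F) v v = 0 :=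
    sform_self_of_alt (by rw [hneg]; exact hs2) hd2
  -- the square root of `Q` on pure tensors is bilinear
  let sq2 : F ≃+* F := frobeniusEquiv F 2
  have hsq : ∀ x, sq2.symm x ^ 2 = x := fun x => sq2.apply_symm_apply x
  have hsmulL : ∀ (c : F) u v, pureL e P (c • u) v = c • pureL e P u v := fun c u v => by
    rw [ClassicalMax.Tensor.smul_pureL, map_smul]
  have haddL : ∀ u u' v, pureL e P (u + u') v = pureL e P u v + pureL e P u' v := fun u u' v => by
    simp only [pureL_eq, ← mulVec_add]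
    congr 1
    funext i
    simp [add_mul]
  let β : (Fin w → F) →ₗ[F] (Fin k → F) →ₗ[F] F :=
    LinearMap.mk₂ F (fun u v => sq2.symm (Q (pureL e P u v)))
      (fun u u' v => by
        rw [haddL, QuadraticMap.map_add (⇑Q), polar_pure e P hB, ha2, mul_zero, add_zero, map_add])
      (fun c u v => by
        refine frobenius_inj F 2 ?_
        simp only [frobenius_def, hsmulL, QuadraticMap.map_smul, smul_eq_mul, mul_pow, hsq]
        ring)
      (fun u v v' => by
        rw [map_add (pureL e P u), QuadraticMap.map_add (⇑Q), polar_pure e P hB, ha1, zero_mul, add_zero, map_add])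
      (fun c u v => by
        refine frobenius_inj F 2 ?_
        simp only [frobenius_def, map_smul, QuadraticMap.map_smul, smul_eq_mul, mul_pow, hsq]
        ring)
  have hβ : ∀ u v, β u v = sq2.symm (Q (pureL e P u v)) := fun u v => rfl
  have hinv : ∀ g ∈ G, ∀ (a : GL (Fin w) F) (b : GL (Fin k) F),
      (g : Matrix ι ι F) = tens e P (a : Matrix _ _ F) (b : Matrix _ _ F) →
      ∀ u v, β ((a : Matrix _ _ F) *ᵥ u) ((b : Matrix _ _ F) *ᵥ v) = β u v := by
    intro g hg a b hab u v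
    rw [hβ, hβ, ← tens_pureL, ← hab, hG g hg]
  suffices h0 : β = 0 by
    intro u v
    have := hsq (Q (pureL e P u v))
    rw [← hβ, h0, LinearMap.zero_apply, LinearMap.zero_apply] at this
    simpa using this.symm
  let K₂ : Submodule F (Fin k → F) := LinearMap.ker β.flip
  let K₁ : Submodule F (Fin w → F) := LinearMap.ker β
  have hK₂ : ∀ v, v ∈ K₂ ↔ ∀ u, β u v = 0 := fun v =>
    ⟨fun h u => LinearMap.congr_fun (LinearMap.mem_ker.mp h) u, fun h => LinearMap.mem_ker.mpr (LinearMap.ext h)⟩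
  have hK₁ : ∀ u, u ∈ K₁ ↔ ∀ v, β u v = 0 := fun u =>
    ⟨fun h v => LinearMap.congr_fun (LinearMap.mem_ker.mp h) v, fun h => LinearMap.mem_ker.mpr (LinearMap.ext h)⟩
  have hstab2 : ∀ g ∈ G, ∀ (a : GL (Fin w) F) (b : GL (Fin k) F),
      (g : Matrix ι ι F) = tens e P (a : Matrix _ _ F) (b : Matrix _ _ F) → b ∈ subspaceStabilizer K₂ := by
    intro g hg a b hab
    refine mem_subspaceStabilizer.mpr fun v => ?_
    rw [hK₂, hK₂]
    refine ⟨fun h u => ?_, fun h u => ?_⟩
    · have h1 := hinv g hg a b hab (((a⁻¹ : GL (Fin w) F) : Matrix _ _ F) *ᵥ u) v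
      rw [mulVec_mulVec, Units.mul_inv, one_mulVec, h] at h1
      exact h1
    · rw [← hinv g hg a b hab u v, h]
  have hstab1 : ∀ g ∈ G, ∀ (a : GL (Fin w) F) (b : GL (Fin k) F),
      (g : Matrix ι ι F) = tens e P (a : Matrix _ _ F) (b : Matrix _ _ F) → a ∈ subspaceStabilizer K₁ := by
    intro g hg a b hab
    refine mem_subspaceStabilizer.mpr fun u => ?_
    rw [hK₁, hK₁]
    refine ⟨fun h v => ?_, fun h v => ?_⟩
    · have h1 := hinv g hg a b hab u (((b⁻¹ : GL (Fin k) F) : Matrix _ _ F) *ᵥ v)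
      rw [mulVec_mulVec, Units.mul_inv, one_mulVec, h] at h1
      exact h1
    · rw [← hinv g hg a b hab u v, h]
  have hI2 := factor_irred hirr e P (subspaceStabilizer K₂) fun g hg => by
    obtain ⟨a, b, hab⟩ := hdec g hg
    refine ⟨(a : Matrix _ _ F), b, hstab2 g hg a b hab, ?_⟩
    exact hab
  have hI1 := factor_irred hirr (e.trans (Equiv.prodComm _ _)) P (subspaceStabilizer K₁) fun g hg => by
    obtain ⟨a, b, hab⟩ := hdec g hg
    refine ⟨(b : Matrix _ _ F), a, hstab1 g hg a b hab, ?_⟩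
    rw [hab]
    exact tens_swap e P _ _
  rcases irred_apply hI2 (W := K₂) (fun g hg v hv => (mem_subspaceStabilizer.mp hg v).mp hv) with h2b | h2t
  swap
  · ext u v
    exact (hK₂ _).mp (h2t ▸ Submodule.mem_top) _
  rcases irred_apply hI1 (W := K₁) (fun g hg v hv => (mem_subspaceStabilizer.mp hg v).mp hv) with h1b | h1t
  swap
  · ext u v
    exact (hK₁ _).mp (h1t ▸ Submodule.mem_top) _
  exfalso
  have i1 := LinearMap.finrank_le_finrank_of_injective (LinearMap.ker_eq_bot.mp h1b)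
  have i2 := LinearMap.finrank_le_finrank_of_injective (LinearMap.ker_eq_bot.mp h2b)
  rw [Subspace.dual_finrank_eq, finrank_fintype_fun_eq_card, finrank_fintype_fun_eq_card,
    Fintype.card_fin, Fintype.card_fin] at i1 i2
  omega

/-- a tensor factorisation: two alternating forms with `Q` zero on pure tensors, or two symmetric forms, odd order -/
theorem kron_cases {G : Subgroup (GL ι F)} (hG : Fixes Q G) (hirr : ActsIrreducibly (matrixSet G))
    (hw : 2 ≤ w) (hk : 2 ≤ k) (hwk : w ≠ k) (e : ι ≃ Fin w × Fin k)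
    (P : GL ι F) {G₁ : GL (Fin w) F} {G₂ : GL (Fin k) F} {ε₁ ε₂ : F}
    (hB : (((evenData Q hnd).trans e P).B : Matrix (Fin w × Fin k) (Fin w × Fin k) F)
      = (G₁ : Matrix (Fin w) (Fin w) F) ⊗ₖ (G₂ : Matrix (Fin k) (Fin k) F))
    (h1 : ((G₁ : Matrix (Fin w) (Fin w) F).map (evenData Q hnd).σ)ᵀ = ε₁ • (G₁ : Matrix (Fin w) (Fin w) F))
    (h2' : ((G₂ : Matrix (Fin k) (Fin k) F).map (evenData Q hnd).σ)ᵀ = ε₂ • (G₂ : Matrix (Fin k) (Fin k) F))
    (hεε : ε₁ * ε₂ = (evenData Q hnd).ε) (he1 : (evenData Q hnd).σ ε₁ * ε₁ = 1)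
    (hdec : ∀ g ∈ G, ∃ (a : GL (Fin w) F) (b : GL (Fin k) F),
      (g : Matrix ι ι F) = tens e P (a : Matrix _ _ F) (b : Matrix _ _ F)) :
    (IsSymplecticForm (sform (RingHom.id F) (G₁ : Matrix (Fin w) (Fin w) F)) ∧
      IsSymplecticForm (sform (RingHom.id F) (G₂ : Matrix (Fin k) (Fin k) F)) ∧
      ∀ u v, Q (pureL e P u v) = 0) ∨
    ((2 : F) ≠ 0 ∧ (G₁ : Matrix (Fin w) (Fin w) F)ᵀ = (G₁ : Matrix (Fin w) (Fin w) F) ∧
      (G₂ : Matrix (Fin k) (Fin k) F)ᵀ = (G₂ : Matrix (Fin k) (Fin k) F)) := by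
  rw [σ_eq, map_refl_id] at h1 h2'
  rw [σ_eq, RingHom.id_apply] at he1
  have hεε' : ε₁ * ε₂ = 1 := hεε
  by_cases h2 : (2 : F) = 0
  · have hone : ∀ x : F, x * x = 1 → x = 1 := fun x hx => by
      have : (x - 1) * (x - 1) = 0 := by linear_combination hx + (1 - x) * h2
      exact sub_eq_zero.mp (mul_self_eq_zero.mp this)
    have hε1 := hone ε₁ he1
    rw [hε1, one_mul] at hεε'
    rw [hε1, one_smul] at h1
    rw [hεε', one_smul] at h2'
    obtain ⟨d1, d2, hp⟩ := pure_zero_char_two h2 hG hirr hw hk hwk e P hB h1 h2' hdec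
    have hneg : ∀ {n : ℕ} (M : Matrix (Fin n) (Fin n) F), -M = M := fun M => by
      ext i j; rw [Matrix.neg_apply]; linear_combination -(M i j) * h2
    exact Or.inl ⟨isSymplecticForm_of_alternating G₁.isUnit (by rw [hneg]; exact h1) d1,
      isSymplecticForm_of_alternating G₂.isUnit (by rw [hneg]; exact h2') d2, hp⟩
  rcases mul_self_eq_one_iff.mp he1 with he | he
  · rw [he, one_mul] at hεε'
    rw [he, one_smul] at h1
    rw [hεε', one_smul] at h2'
    exact Or.inr ⟨h2, h1, h2'⟩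
  · have he2 : ε₂ = -1 := by rw [he, neg_one_mul] at hεε'; exact neg_eq_iff_eq_neg.mp hεε'
    rw [he, neg_one_smul] at h1
    rw [he2, neg_one_smul] at h2'
    have s1 := isSymplecticForm_of_alternating G₁.isUnit h1 (alt_diag h2 h1)
    have s2 := isSymplecticForm_of_alternating G₂.isUnit h2' (alt_diag h2 h2')
    refine Or.inl ⟨s1, s2, fun u v => ?_⟩
    have := polar_pure e P hB u u v v
    rw [s1.alternating, zero_mul, polar_self'] at this
    exact (mul_eq_zero.mp this).resolve_left h2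

/-- a perfect spanning group is no product with an orthogonal plane factor -/
theorem false_of_perfect_plane (h2 : (2 : F) ≠ 0) {G : Subgroup (GL ι F)} (hG : Fixes Q G)
    (hperf : ⁅G, G⁆ = G) (hsp : Spans (matrixSet G)) (hw : 0 < w) (e : ι ≃ Fin w × Fin 2) (P : GL ι F)
    {G₁ : GL (Fin w) F} {G₂ : GL (Fin 2) F}
    (hB : (((evenData Q hnd).trans e P).B : Matrix (Fin w × Fin 2) (Fin w × Fin 2) F)
      = (G₁ : Matrix _ _ F) ⊗ₖ (G₂ : Matrix _ _ F))
    (hs2 : (G₂ : Matrix (Fin 2) (Fin 2) F)ᵀ = (G₂ : Matrix (Fin 2) (Fin 2) F))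
    (hdec : ∀ g ∈ G, ∃ (a : GL (Fin w) F) (b : GL (Fin 2) F),
      (g : Matrix ι ι F) = tens e P (a : Matrix _ _ F) (b : Matrix _ _ F)) : False := by
  obtain ⟨M, -, hMs, hcj, -⟩ := (evenData Q hnd).exists_plane_generator σ_eq h2 hG.isom hw e P hB hs2 hdec
  refine hMs (hsp.scalar_of_commute fun g hg => ?_)
  let C : Subgroup (GL ι F) :=
  { carrier := {g | cj g M = M}
    one_mem' := cj_one_left M
    mul_mem' := fun {a b} (ha : cj a M = M) (hb : cj b M = M) => by
      show cj (a * b) M = M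
      rw [← cj_cj, hb, ha]
    inv_mem' := fun {a} (ha : cj a M = M) => by
      show cj a⁻¹ M = M
      conv_lhs => rw [← ha]
      rw [cj_cj, inv_mul_cancel, cj_one_left] }
  have hC : G ≤ C := by
    conv_lhs => rw [← hperf]
    refine Subgroup.commutator_le.mpr fun x hx y hy => ?_
    obtain ⟨c, hc⟩ := hcj x hx
    obtain ⟨d, hd⟩ := hcj y hy
    show cj (x * y * x⁻¹ * y⁻¹) M = M
    have h1 : cj (x * y) M = cj (y * x) M := by
      rw [← cj_cj, ← cj_cj, hd, cj_smul, hc, cj_smul, hd, smul_smul, smul_smul, mul_comm]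
    calc cj (x * y * x⁻¹ * y⁻¹) M = cj (x * y) (cj (x⁻¹ * y⁻¹) M) := by
          rw [cj_cj]; congr 1; group
      _ = cj (y * x) (cj (x⁻¹ * y⁻¹) M) := by
          obtain ⟨c', hc'⟩ := hcj (x⁻¹ * y⁻¹) (mul_mem (inv_mem hx) (inv_mem hy))
          rw [hc', cj_smul, cj_smul, h1]
      _ = M := by rw [cj_cj, show y * x * (x⁻¹ * y⁻¹) = 1 by group, cj_one_left]
  exact (cj_eq_iff_commute.mp (hC hg)).symm

omit [Fintype F] [Nonempty ι] in
/-- `Q` zero on pure tensors with a plane factor: plus type -/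
theorem plus_of_pure (e : ι ≃ Fin 2 × Fin k) (P : GL ι F) (hp : ∀ u v, Q (pureL e P u v) = 0) :
    IsPlusTypeOn ⇑Q ⊤ := by
  refine plus_top (U := LinearMap.range (pureL e P (Pi.single 0 1))) (fun x hx => ?_) ?_
  · obtain ⟨v, rfl⟩ := hx
    exact hp _ v
  · rw [LinearMap.finrank_range_of_inj, finrank_fintype_fun_eq_card, Fintype.card_fin, Fintype.card_congr e]
    · simp
    · rw [injective_iff_map_eq_zero]
      intro v hv
      by_contra hv0
      exact ClassicalMax.Tensor.pureL_ne_zero e P (u := Pi.single 0 1) (by simp) hv0 hv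

end CfsgLib.Asch.Even
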