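import Cfsg.Agent.Lib.Aschbacher.EvenTools

/-!
# Steps shared by the lists in dimensions 8, 10 and 12
-/

set_option autoImplicit false

namespace CfsgLib.Asch.Even

open Matrix Cfsg.Geo QuadraticMap Module
open CfsgLib.Classical.Quad (NDPolar polar_self' Frame)
open scoped MatrixGroups

variable {ι : Type} [Fintype ι] [DecidableEq ι] {F : Type*} [Field F] [Fintype F]
  {Q : QuadraticForm F (ι → F)} {H : Subgroup (GL ι F)}

omit [DecidableEq ι] [Fintype F] in
lemma ne_top_of_lt {W : Submodule F (ι → F)} (h : finrank F W < Fintype.card ι) : W ≠ ⊤ := fun e => by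
  rw [e, finrank_top, finrank_fintype_fun_eq_card] at h
  exact lt_irrefl _ h

/-- a maximal subgroup fixing a subspace -/
lemma eq_stab (hnd : NDPolar Q) (h7 : 7 ≤ Fintype.card ι) (hH : IsMaximalIn (omegaGL ⇑Q) H)
    {W : Submodule F (ι → F)} (h0 : W ≠ ⊥) (h1 : W ≠ ⊤) (hle : H ≤ subspaceStabilizer W) :
    H = subspaceStabilizer W ⊓ omegaGL ⇑Q := by
  obtain ⟨⟨P⟩, -⟩ := ClassicalMax.OmE.exists_frame hnd h7
  exact max_eq_gen hH hle (omega_not_le_subspace hnd P h0 h1)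

/-- a maximal subgroup fixing a decomposition -/
lemma eq_decomp (hnd : NDPolar Q) (h7 : 7 ≤ Fintype.card ι) (hH : IsMaximalIn (omegaGL ⇑Q) H) {t k : ℕ}
    {D : Fin t → Submodule F (ι → F)} (hD : IsMDecomposition k D) (hle : H ≤ decompositionStabilizer D) :
    H = decompositionStabilizer D ⊓ omegaGL ⇑Q :=
  max_eq_gen hH hle (omega_not_le_decomp hnd h7 hD)

/-- a maximal subgroup normalising a field -/
lemma eq_field (hnd : NDPolar Q) (h7 : 7 ≤ Fintype.card ι) (hH : IsMaximalIn (omegaGL ⇑Q) H) {r : ℕ}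
    (hr : r.Prime) {K : Subalgebra F (Matrix ι ι F)} (hK : IsFieldSubalgebra r K)
    (hle : H ≤ subalgebraNormalizer K) : H = subalgebraNormalizer K ⊓ omegaGL ⇑Q := by
  obtain ⟨⟨P⟩, -⟩ := ClassicalMax.OmE.exists_frame hnd h7
  exact max_eq_gen hH hle (omega_not_le_extField hnd P hr.two_le hK)

/-- a maximal subgroup inside a subfield group -/
lemma eq_subfield (hnd : NDPolar Q) (h7 : 7 ≤ Fintype.card ι) (hH : IsMaximalIn (omegaGL ⇑Q) H) {r : ℕ}
    (hr : r.Prime) {F₀ : Subfield F} (hc : Fintype.card F = Nat.card F₀ ^ r) {P₀ : GL ι F}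
    (hle : H ≤ subfieldSubgroup F₀ P₀) : H = subfieldSubgroup F₀ P₀ ⊓ omegaGL ⇑Q := by
  obtain ⟨⟨P⟩, -⟩ := ClassicalMax.OmE.exists_frame hnd h7
  exact max_eq_gen hH hle (omega_not_le_subfield hnd P (subfield_ne_top hr hc) P₀)

/-- a maximal subgroup fixing a singular subspace -/
lemma eq_singular (hnd : NDPolar Q) (h7 : 7 ≤ Fintype.card ι) (hH : IsMaximalIn (omegaGL ⇑Q) H)
    {W : Submodule F (ι → F)} (h0 : W ≠ ⊥) (hs : IsTotallySingularQuad ⇑Q W) (hle : H ≤ subspaceStabilizer W) :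
    H = subspaceStabilizer W ⊓ omegaGL ⇑Q :=
  haveI : Nonempty ι := Fintype.card_pos_iff.mp (by omega)
  eq_stab hnd h7 hH h0 (ClassicalMax.OmE.subspace_ne_top hnd hs) hle

/-- a maximal subgroup fixing the span of a non-singular vector -/
lemma eq_point (hnd : NDPolar Q) (h7 : 7 ≤ Fintype.card ι) (hH : IsMaximalIn (omegaGL ⇑Q) H)
    {v : ι → F} (hv : Q v ≠ 0) (hle : H ≤ subspaceStabilizer (Submodule.span F {v})) :
    H = subspaceStabilizer (Submodule.span F {v}) ⊓ omegaGL ⇑Q := by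
  have hv0 : v ≠ 0 := fun h => hv (by rw [h, QuadraticMap.map_zero])
  refine eq_stab hnd h7 hH (fun h => hv0 ?_) (ne_top_of_lt (by rw [finrank_span_singleton hv0]; omega)) hle
  exact (Submodule.mem_bot F).mp (h ▸ Submodule.mem_span_singleton_self v)

/-- odd order from an odd-dimensional non-degenerate subspace -/
lemma odd_of_nondeg {W : Submodule F (ι → F)} (hW : IsNondegenerateOn (polar ⇑Q) W) (hd : Odd (finrank F W)) :
    Odd (Fintype.card F) :=
  two_ne_zero_iff.mp fun h2 => Nat.not_even_iff_odd.mpr hd (even_of_char_two h2 hW)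

/-- a maximal subgroup fixing a non-degenerate plane -/
theorem plane_cases (hnd : NDPolar Q) (h7 : 7 ≤ Fintype.card ι) (hH : IsMaximalIn (omegaGL ⇑Q) H)
    {W : Submodule F (ι → F)} (hd : finrank F W = 2) (hW : IsNondegenerateOn (polar ⇑Q) W)
    (hle : H ≤ subspaceStabilizer W) :
    (¬ IsPlusTypeOn ⇑Q W ∧ H = subspaceStabilizer W ⊓ omegaGL ⇑Q) ∨
    (4 ≤ Fintype.card F ∧ IsPlusTypeOn ⇑Q W ∧ H = subspaceStabilizer W ⊓ omegaGL ⇑Q) ∨
    (Odd (Fintype.card F) ∧ ∃ W' : Submodule F (ι → F), finrank F W' + 1 = Fintype.card ι ∧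
      IsNondegenerateOn (polar ⇑Q) W' ∧ H = subspaceStabilizer W' ⊓ omegaGL ⇑Q) := by
  obtain ⟨⟨P⟩, -⟩ := ClassicalMax.OmE.exists_frame hnd h7
  have heq := eq_stab hnd h7 hH (fun h => by rw [h, finrank_bot] at hd; omega)
    (ne_top_of_lt (by omega)) hle
  by_cases hp : IsPlusTypeOn ⇑Q W
  swap
  · exact Or.inl ⟨hp, heq⟩
  have hq1 : 1 < Fintype.card F := Fintype.one_lt_card
  rcases (by omega : Fintype.card F = 2 ∨ Fintype.card F = 3 ∨ 4 ≤ Fintype.card F) with hq | hq | hq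
  · exact (not_maximal_elim hH hle (ClassicalMax.OmE.plane_two_not_maximal hnd P hq h7 hd hW hp)).elim
  · have hodd : Odd (Fintype.card F) := by rw [hq]; decide
    obtain ⟨W', hd', hnd', hle'⟩ := exists_hyperplane_of_plane hq (two_ne_zero_iff.mpr hodd) hnd hd hW hp
      (fixes_omega hH.1.le) hle
    exact Or.inr (Or.inr ⟨hodd, W', hd', hnd', eq_stab hnd h7 hH
      (fun h => by rw [h, finrank_bot] at hd'; omega) (ne_top_of_lt (by omega)) hle'⟩)
  · exact Or.inr (Or.inl ⟨hq, hp, heq⟩)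

omit [Fintype F] in
/-- two isometric halves -/
lemma orth_pair {k : ℕ} {D : Fin 2 → Submodule F (ι → F)} (hD : IsNondegenerateMDecomposition (polar ⇑Q) k D)
    (h : AreIsometricFor ⇑Q (D 0) (D 1)) : IsOrthogonalMDecomposition ⇑Q k D := by
  obtain ⟨e, he⟩ := h
  refine ⟨hD, fun i j => ?_⟩
  obtain rfl | rfl : i = 0 ∨ i = 1 := by omega
  all_goals obtain rfl | rfl : j = 0 ∨ j = 1 := by omega
  · exact ⟨LinearEquiv.refl F _, fun w => rfl⟩
  · exact ⟨e, he⟩
  · exact ⟨e.symm, fun w => by conv_rhs => rw [← e.apply_symm_apply w, he]⟩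
  · exact ⟨LinearEquiv.refl F _, fun w => rfl⟩

omit [Fintype F] in
/-- totally singular halves: plus type -/
lemma plus_of_pair {m : ℕ} {D : Fin 2 → Submodule F (ι → F)} (hD : IsMDecomposition m D)
    (hs : ∀ i, IsTotallySingularQuad ⇑Q (D i)) (hn : Fintype.card ι = 2 * m) : IsPlusTypeOn ⇑Q ⊤ :=
  plus_top (hs 0) (by rw [hD.finrank_eq 0, hn])

end CfsgLib.Asch.Even
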