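import Cfsg.Agent.Lib.Aschbacher.SubfieldUnip
import Cfsg.Agent.Lib.Classical.Quad.Omega
import Cfsg.Agent.Lib.OrthCrit.Forms

/-!
# None of the class stabilisers contains `Ω(Q)`, Witt index at least two
-/

set_option autoImplicit false

namespace CfsgLib.Asch

open Matrix Cfsg.Geo QuadraticMap
open CfsgLib.Classical.Quad (NDPolar Orth Frame siegelGroup siegelSet siegel siegel_mem siegel_apply)
open scoped MatrixGroups

variable {ι : Type} [Fintype ι] [DecidableEq ι] {F : Type*} [Field F]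

section omega

variable [Fintype F] {Q : QuadraticForm F (ι → F)} (hnd : NDPolar Q) (P : Frame Q)
include hnd P

/-- the Siegel group acts through `Ω` -/
lemma exists_omega {g : Orth Q} (hg : g ∈ siegelGroup Q) :
    ∃ h ∈ omegaGL ⇑Q, ∀ x, (h : Matrix ι ι F) *ᵥ x = g.1 x := by
  refine ⟨(((OrthCrit.toOrth Q).symm g : ↥(Cfsg.isometryGroup F ⇑Q)) : GL ι F),
    ⟨(OrthCrit.toOrth Q).symm g, ?_, rfl⟩, fun x => OrthCrit.toOrth_symm_act g x⟩
  rw [← Classical.Quad.commutator_orth_eq hnd P] at hg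
  have h := Subgroup.mem_map_of_mem ((OrthCrit.toOrth Q).symm.toMonoidHom) hg
  rw [commutator_def, Subgroup.map_commutator,
    Subgroup.map_top_of_surjective (OrthCrit.toOrth Q).symm.toMonoidHom (OrthCrit.toOrth Q).symm.surjective,
    ← commutator_def] at h
  exact h

lemma exists_omega_siegel {u w : ι → F} (hu : Q u = 0) (hw : polar Q u w = 0) :
    ∃ h ∈ omegaGL ⇑Q, ∀ x, (h : Matrix ι ι F) *ᵥ x =
      x + polar Q x u • w + (-(polar Q x w) - Q w * polar Q x u) • u := by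
  obtain ⟨h, hh, he⟩ := exists_omega hnd P (siegel_mem hu hw)
  exact ⟨h, hh, fun x => by rw [he, siegel_apply]⟩

lemma omega_move_singular {u : ι → F} (hu : Q u = 0) (hu0 : u ≠ 0) :
    ∃ h ∈ omegaGL ⇑Q, (h : Matrix ι ι F) *ᵥ u = P.e₁ := by
  obtain ⟨g, hg, hgu⟩ := Classical.Quad.siegelGroup_to_e₁ hnd P hu hu0
  obtain ⟨h, hh, he⟩ := exists_omega hnd P hg
  exact ⟨h, hh, by rw [he, hgu]⟩

lemma omega_move_value {v : ι → F} (hv : Q v ≠ 0) :
    ∃ h ∈ omegaGL ⇑Q, (h : Matrix ι ι F) *ᵥ v = P.f₁ + Q v • P.e₁ := by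
  obtain ⟨u, z, hp, hvz⟩ := Classical.Quad.exists_pair_of_nonsingular hnd P hv
  obtain ⟨g, hg, hgu, hgz⟩ := Classical.Quad.siegelGroup_map_hpair hnd P hp P.pair₁
  obtain ⟨h, hh, he⟩ := exists_omega hnd P hg
  refine ⟨h, hh, ?_⟩
  rw [he]
  conv_lhs => rw [hvz]
  rw [map_add, map_smul, hgu, hgz]

/-- a subspace containing all singular vectors is everything -/
lemma eq_top_of_singular {W : Submodule F (ι → F)} (h : ∀ x, Q x = 0 → x ∈ W) : W = ⊤ := by
  refine eq_top_iff.mpr fun v _ => ?_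
  by_cases hv : Q v = 0
  · exact h v hv
  · obtain ⟨u, z, hp, hvz⟩ := Classical.Quad.exists_pair_of_nonsingular hnd P hv
    rw [hvz]
    exact add_mem (h z hp.2.1) (W.smul_mem _ (h u hp.1))

/-- subspace stabilisers -/
lemma omega_not_le_subspace {W : Submodule F (ι → F)} (h0 : W ≠ ⊥) (h1 : W ≠ ⊤) :
    ¬ omegaGL ⇑Q ≤ subspaceStabilizer W := by
  intro hle
  have hmv : ∀ {g : GL ι F}, g ∈ omegaGL ⇑Q → ∀ {x}, x ∈ W → (g : Matrix ι ι F) *ᵥ x ∈ W :=
    fun hg x hx => (mem_subspaceStabilizer.mp (hle hg) x).mp hx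
  have hsing : ∀ z, Q z = 0 → z ≠ 0 → z ∈ W → P.e₁ ∈ W := fun z hz hz0 hzW => by
    obtain ⟨g, hg, he⟩ := omega_move_singular hnd P hz hz0
    exact he ▸ hmv hg hzW
  have he₁ : P.e₁ ∈ W := by
    obtain ⟨w, hw, hw0⟩ := (Submodule.ne_bot_iff _).mp h0
    by_cases hQw : Q w = 0
    · exact hsing w hQw hw0 hw
    obtain ⟨g, hg, he⟩ := omega_move_value hnd P hQw
    have hy : P.f₁ + Q w • P.e₁ ∈ W := he ▸ hmv hg hw
    obtain ⟨g', hg', he'⟩ := exists_omega_siegel hnd P P.pair₂.1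
      (show polar Q P.e₂ P.e₁ = 0 by rw [polar_comm]; exact P.e₁e₂)
    have hy' := hmv hg' hy
    rw [he'] at hy'
    have h2 := sub_mem hy' hy
    simp [P.f₁e₂, P.e₁e₂, polar_comm Q P.f₁ P.e₁, P.pair₁.2.2, P.pair₁.1,
      Classical.Quad.polar_singular_self P.pair₁.1] at h2
    exact hsing P.e₂ P.pair₂.1 P.pair₂.left_ne_zero h2
  refine h1 (eq_top_of_singular hnd P fun x hx => ?_)
  rcases eq_or_ne x 0 with rfl | hx0
  · exact W.zero_mem
  obtain ⟨g, hg, he⟩ := omega_move_singular hnd P hx hx0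
  exact (mem_subspaceStabilizer.mp (hle hg) x).mpr (by rw [he]; exact he₁)

/-- stabilisers of decompositions, one member holding a singular vector -/
lemma omega_not_le_decomposition_of_singular {t k : ℕ} {D : Fin t → Submodule F (ι → F)}
    (hD : IsMDecomposition k D) (hx₀ : ∃ x i, Q x = 0 ∧ x ≠ 0 ∧ x ∈ D i) : ¬ omegaGL ⇑Q ≤ decompositionStabilizer D := by
  classical
  intro hle
  have hmv : ∀ {g : GL ι F}, g ∈ omegaGL ⇑Q → ∀ {x i}, x ∈ D i →
      ∃ j, (g : Matrix ι ι F) *ᵥ x ∈ D j := fun hg x i hx => by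
    obtain ⟨σ, hσ⟩ := hle hg
    exact ⟨σ i, hσ i ▸ ⟨x, hx, Matrix.toLin'_apply _ _⟩⟩
  have hback : ∀ {g : GL ι F}, g ∈ omegaGL ⇑Q → ∀ {x i}, (g : Matrix ι ι F) *ᵥ x ∈ D i →
      ∃ j, x ∈ D j := fun hg x i hx => by
    obtain ⟨j, hj⟩ := hmv (inv_mem hg) hx
    rw [mulVec_mulVec, ← Units.val_mul, inv_mul_cancel, Units.val_one, one_mulVec] at hj
    exact ⟨j, hj⟩
  have huniq : ∀ {x i j}, x ∈ D i → x ∈ D j → x ≠ 0 → i = j := fun {x i j} hi hj hx0 => by
    by_contra hij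
    exact hx0 (Submodule.disjoint_def.mp (hD.indep i) x hi
      (le_iSup₂_of_le (f := fun l (_ : l ≠ i) => D l) j (Ne.symm hij) le_rfl hj))
  have hsum : ∀ {a b i j l}, a ∈ D j → b ∈ D l → a + b ∈ D i → a ≠ 0 → b ≠ 0 → a + b ≠ 0 → a ∈ D i := by
    intro a b i j l ha hb hab ha0 hb0 hab0
    by_cases hji : j = i
    · exact hji ▸ ha
    by_cases hli : l = i
    · subst hli
      simpa using sub_mem hab hb
    exact absurd (Submodule.disjoint_def.mp (hD.indep i) _ hab (add_mem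
      (le_iSup₂_of_le (f := fun l (_ : l ≠ i) => D l) j hji le_rfl ha)
      (le_iSup₂_of_le (f := fun l (_ : l ≠ i) => D l) l hli le_rfl hb))) hab0
  have he₂0 := P.pair₂.left_ne_zero
  have he₁0 := P.pair₁.left_ne_zero
  obtain ⟨i, he₁⟩ : ∃ i, P.e₁ ∈ D i := by
    obtain ⟨x, i, hx, hx0, hxi⟩ := hx₀
    obtain ⟨g, hg, he⟩ := omega_move_singular hnd P hx hx0
    exact he ▸ hmv hg hxi
  have hall : ∀ x, Q x = 0 → x ≠ 0 → ∃ j, x ∈ D j := fun x hx hx0 => by
    obtain ⟨g, hg, he⟩ := omega_move_singular hnd P hx hx0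
    exact hback hg (he ▸ he₁)
  have hlink : ∀ a b, a ∈ D i → a ≠ 0 → Q a = 0 → Q b = 0 → polar Q a b = 0 → b ∈ D i := by
    intro a b ha ha0 hQa hQb hab
    rcases eq_or_ne b 0 with rfl | hb0
    · exact (D i).zero_mem
    rcases eq_or_ne (a + b) 0 with h | hab0
    · rw [eq_neg_of_add_eq_zero_right h]; exact neg_mem ha
    have hQab : Q (a + b) = 0 := by rw [QuadraticMap.map_add Q, hQa, hQb, hab]; ring
    obtain ⟨l, hl⟩ := hall b hQb hb0
    obtain ⟨n, hn⟩ := hall (a + b) hQab hab0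
    have hin : i = n := huniq ha (hsum ha hl hn ha0 hb0 hab0) ha0
    simpa using sub_mem (hin ▸ hn : a + b ∈ D i) ha
  have he₂ := hlink _ _ he₁ he₁0 P.pair₁.1 P.pair₂.1 P.e₁e₂
  have hf₂ := hlink _ _ he₁ he₁0 P.pair₁.1 P.pair₂.2.1 P.e₁f₂
  have hf₁ := hlink _ _ he₂ he₂0 P.pair₂.1 P.pair₁.2.1 (by rw [polar_comm]; exact P.f₁e₂)
  have htop : D i = ⊤ := by
    refine eq_top_iff.mpr fun v _ => ?_
    obtain ⟨p1, p2, p3, p4⟩ := P.proj_spec v
    have hx : P.proj v + P.e₁ + (-(Q (P.proj v))) • P.f₁ ∈ D i := by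
      refine hlink _ _ he₂ he₂0 P.pair₂.1 ?_ ?_
      · rw [Classical.Quad.Q_comb1, QuadraticMap.map_add Q, P.pair₁.1, p1, P.pair₁.2.1,
          polar_add_left, p2, P.pair₁.2.2]
        ring
      · simp [polar_comm Q P.e₂ (P.proj v), p3, polar_comm Q P.e₂ P.e₁, P.e₁e₂,
          polar_comm Q P.e₂ P.f₁, P.f₁e₂]
    have hp := sub_mem (sub_mem hx ((D i).smul_mem (-(Q (P.proj v))) hf₁)) he₁
    simp only [add_sub_cancel_right] at hp
    have h := add_mem (add_mem (add_mem (add_mem hp ((D i).smul_mem (polar Q v P.f₁) he₁))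
      ((D i).smul_mem (polar Q v P.e₁) hf₁)) ((D i).smul_mem (polar Q v P.f₂) he₂))
      ((D i).smul_mem (polar Q v P.e₂) hf₂)
    convert h using 1
    simp only [Frame.proj]
    module
  have : Nontrivial (Fin t) := Fin.nontrivial_iff_two_le.mpr hD.two_le
  obtain ⟨j, hj⟩ := exists_ne i
  obtain ⟨x, hx, hx0⟩ := (Submodule.ne_bot_iff (D j)).mp fun h => by
    have := hD.finrank_eq j
    rw [h, finrank_bot] at this
    exact hD.pos.ne this
  exact hj (huniq hx (htop.symm ▸ Submodule.mem_top) hx0)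

/-- stabilisers of decompositions -/
lemma omega_not_le_decomposition (h2 : (2 : F) ≠ 0) {t k : ℕ} {D : Fin t → Submodule F (ι → F)}
    (hD : IsMDecomposition k D) : ¬ omegaGL ⇑Q ≤ decompositionStabilizer D := by
  classical
  refine fun hle => omega_not_le_decomposition_of_singular hnd P hD ?_ hle
  have hmv : ∀ {g : GL ι F}, g ∈ omegaGL ⇑Q → ∀ {x i}, x ∈ D i →
      ∃ j, (g : Matrix ι ι F) *ᵥ x ∈ D j := fun hg x i hx => by
    obtain ⟨σ, hσ⟩ := hle hg
    exact ⟨σ i, hσ i ▸ ⟨x, hx, Matrix.toLin'_apply _ _⟩⟩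
  have hback : ∀ {g : GL ι F}, g ∈ omegaGL ⇑Q → ∀ {x i}, (g : Matrix ι ι F) *ᵥ x ∈ D i →
      ∃ j, x ∈ D j := fun hg x i hx => by
    obtain ⟨j, hj⟩ := hmv (inv_mem hg) hx
    rw [mulVec_mulVec, ← Units.val_mul, inv_mul_cancel, Units.val_one, one_mulVec] at hj
    exact ⟨j, hj⟩
  have huniq : ∀ {x i j}, x ∈ D i → x ∈ D j → x ≠ 0 → i = j := fun {x i j} hi hj hx0 => by
    by_contra hij
    exact hx0 (Submodule.disjoint_def.mp (hD.indep i) x hi
      (le_iSup₂_of_le (f := fun l (_ : l ≠ i) => D l) j (Ne.symm hij) le_rfl hj))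
  have hsum : ∀ {a b i j l}, a ∈ D j → b ∈ D l → a + b ∈ D i → a ≠ 0 → b ≠ 0 → a + b ≠ 0 → a ∈ D i := by
    intro a b i j l ha hb hab ha0 hb0 hab0
    by_cases hji : j = i
    · exact hji ▸ ha
    by_cases hli : l = i
    · subst hli
      simpa using sub_mem hab hb
    exact absurd (Submodule.disjoint_def.mp (hD.indep i) _ hab (add_mem
      (le_iSup₂_of_le (f := fun l (_ : l ≠ i) => D l) j hji le_rfl ha)
      (le_iSup₂_of_le (f := fun l (_ : l ≠ i) => D l) l hli le_rfl hb))) hab0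
  have he₂0 := P.pair₂.left_ne_zero
  have he₁0 := P.pair₁.left_ne_zero
  have h2t := hD.two_le
  obtain ⟨v, hv, hv0⟩ := (Submodule.ne_bot_iff (D ⟨0, by omega⟩)).mp fun h => by
    have := hD.finrank_eq ⟨0, by omega⟩
    rw [h, finrank_bot] at this
    have := hD.pos
    omega
  by_cases hQv : Q v = 0
  · exact ⟨v, _, hQv, hv0, hv⟩
  obtain ⟨g, hg, he⟩ := omega_move_value hnd P hQv
  set y := P.f₁ + Q v • P.e₁ with hy
  obtain ⟨i, hyi⟩ : ∃ i, y ∈ D i := he ▸ hmv hg hv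
  have hpol : polar Q y P.e₂ = 0 := by simp [hy, P.f₁e₂, P.e₁e₂]
  have hQy : Q y = Q v := Classical.Quad.Q_f₁_add P (Q v)
  have hvals : ∀ a : F, ∃ j, y + a • P.e₂ ∈ D j := fun a => by
    have hQa : Q (y + a • P.e₂) = Q v := by
      rw [Classical.Quad.Q_comb1, P.pair₂.1, hpol, hQy]; ring
    obtain ⟨g', hg', he'⟩ := omega_move_value hnd P (show Q (y + a • P.e₂) ≠ 0 by rwa [hQa])
    rw [hQa, ← hy] at he'
    exact hback hg' (he' ▸ hyi)
  obtain ⟨j, hj⟩ := hvals 1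
  obtain ⟨l, hl⟩ := hvals (-1)
  have hy0 : y ≠ 0 := fun h => hQv (by rw [← hQy, h, QuadraticMap.map_zero])
  have hne : ∀ a : F, y + a • P.e₂ ≠ 0 := fun a h => hQv (by
    have h' := congrArg Q h
    rw [Classical.Quad.Q_comb1, P.pair₂.1, hpol, hQy, QuadraticMap.map_zero] at h'
    linear_combination h')
  have hsum' : y + (1 : F) • P.e₂ + (y + (-1 : F) • P.e₂) = (2 : F) • y := by module
  have hj' := hsum hj hl (hsum'.symm ▸ (D i).smul_mem _ hyi) (hne 1) (hne (-1))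
    (hsum'.symm ▸ smul_ne_zero h2 hy0)
  exact ⟨P.e₂, i, P.pair₂.1, he₂0, by simpa using sub_mem hj' hyi⟩

/-- the commutant of `Ω` -/
lemma isScalar_of_commute_siegel {M : Matrix ι ι F}
    (hM : ∀ g ∈ siegelGroup Q, ∀ x, M *ᵥ (g.1 x) = g.1 (M *ᵥ x)) : IsScalarMat M := by
  set y := M *ᵥ P.e₁ with hy
  have hfix : ∀ w, polar Q P.e₁ w = 0 → polar Q y P.e₁ • w + (-(polar Q y w) - Q w * polar Q y P.e₁) • P.e₁ = 0 := by
    intro w hw
    have h := hM _ (siegel_mem P.pair₁.1 hw) P.e₁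
    rw [Classical.Quad.siegel_fix P.pair₁.1 hw (Classical.Quad.polar_singular_self P.pair₁.1) hw,
      siegel_apply, ← hy] at h
    linear_combination (norm := module) -h
  have hy1 : polar Q y P.e₁ = 0 := by
    have h := congrArg (fun z => polar Q z P.f₂) (hfix P.e₂ P.e₁e₂)
    simpa [P.pair₂.2.2, P.e₁f₂] using h
  have hyw : ∀ w, polar Q P.e₁ w = 0 → polar Q y w = 0 := fun w hw => by
    have h := congrArg (fun z => polar Q z P.f₁) (hfix w hw)
    simpa [hy1, P.pair₁.2.2] using h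
  set l := polar Q y P.f₁
  have hyl : y = l • P.e₁ := by
    rw [← sub_eq_zero]
    refine hnd _ fun x => ?_
    have hw : polar Q P.e₁ (x + (-(polar Q x P.e₁)) • P.f₁) = 0 := by
      simp [P.pair₁.2.2, polar_comm Q P.e₁ x]
    have h := hyw _ hw
    simp only [polar_add_right, polar_smul_right, smul_eq_mul] at h
    rw [sub_eq_add_neg, ← neg_smul, polar_add_left, polar_smul_left, polar_comm Q P.e₁ x, smul_eq_mul]
    linear_combination h
  have hsing : ∀ x, Q x = 0 → M *ᵥ x = l • x := by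
    intro x hx
    rcases eq_or_ne x 0 with rfl | hx0
    · simp
    obtain ⟨g, hg, hgx⟩ := Classical.Quad.siegelGroup_to_e₁ hnd P hx hx0
    have h := hM g hg x
    rw [hgx, ← hy, hyl, ← hgx, ← map_smul] at h
    exact (g.1.injective h).symm
  have htop : LinearMap.ker (Matrix.toLin' (M - l • 1)) = ⊤ := eq_top_of_singular hnd P fun x hx => by
    simp [sub_mulVec, smul_mulVec, hsing x hx]
  refine ⟨l, sub_eq_zero.mp ?_⟩
  exact (LinearEquiv.map_eq_zero_iff Matrix.toLin').mp (LinearMap.ker_eq_top.mp htop)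

/-- normalisers of field extensions -/
lemma omega_not_le_extField {r : ℕ} (hr : 2 ≤ r) {K : Subalgebra F (Matrix ι ι F)}
    (hK : IsFieldSubalgebra r K) : ¬ omegaGL ⇑Q ≤ subalgebraNormalizer K := by
  classical
  intro hle
  have hn : 5 ≤ Fintype.card ι := by
    simpa using P.five_le_finrank
  have hK1 : K ≤ ⊥ := by
    intro k hk
    suffices h : IsScalarMat k by
      obtain ⟨c, rfl⟩ := h
      exact Subalgebra.smul_mem _ (one_mem _) c
    refine isScalar_of_commute_siegel hnd P fun g hg => ?_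
    induction hg using Subgroup.closure_induction with
    | mem g hg =>
      obtain ⟨u, w, hu, hw, rfl⟩ := hg
      obtain ⟨h, hh, he⟩ := exists_omega hnd P (siegel_mem hu hw)
      intro x
      rw [← he, ← he, mulVec_mulVec, mulVec_mulVec]
      congr 1
      by_contra hne
      have hd0 : cj h k - k ≠ 0 := fun h0 => hne (cj_eq_iff_commute.mp (sub_eq_zero.mp h0)).symm
      obtain ⟨y, -, hy⟩ := hK.inv _ (sub_mem ((hle hh k).mp hk) hk) hd0
      have htop : (⊤ : Submodule F (ι → F)) ≤ Submodule.span F (Set.range ![w, u, k *ᵥ w, k *ᵥ u]) := by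
        intro z _
        obtain ⟨x', hx'⟩ : ∃ x', z = (h : Matrix ι ι F) *ᵥ (k *ᵥ x') - k *ᵥ ((h : Matrix ι ι F) *ᵥ x') := by
          refine ⟨((h⁻¹ : GL ι F) : Matrix ι ι F) *ᵥ (y *ᵥ z), ?_⟩
          conv_lhs => rw [← one_mulVec z, ← hy]
          simp [cj, mulVec_mulVec, sub_mul, sub_mulVec, mul_assoc]
        rw [hx', he, he, siegel_apply, siegel_apply, mulVec_add, mulVec_add, mulVec_smul, mulVec_smul]
        have hmem : ∀ a : Fin 4, ![w, u, k *ᵥ w, k *ᵥ u] a ∈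
            Submodule.span F (Set.range ![w, u, k *ᵥ w, k *ᵥ u]) := fun a => Submodule.subset_span ⟨a, rfl⟩
        have key : ∀ (z : ι → F) (a b c d : F), z + a • w + b • u - (z + c • (k *ᵥ w) + d • (k *ᵥ u)) =
            a • w + b • u - c • (k *ᵥ w) - d • (k *ᵥ u) := fun z a b c d => by module
        rw [key]
        exact sub_mem (sub_mem (add_mem (Submodule.smul_mem _ _ (hmem 0)) (Submodule.smul_mem _ _ (hmem 1)))
          (Submodule.smul_mem _ _ (hmem 2))) (Submodule.smul_mem _ _ (hmem 3))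
      have h4 := Submodule.finrank_mono htop
      have h5 : Module.finrank F (Submodule.span F (Set.range ![w, u, k *ᵥ w, k *ᵥ u])) ≤ 4 :=
        (finrank_range_le_card (R := F) ![w, u, k *ᵥ w, k *ᵥ u]).trans_eq (Fintype.card_fin 4)
      rw [finrank_top, Module.finrank_fintype_fun_eq_card] at h4
      omega
    | one => simp
    | mul a b _ _ ha hb => intro x; rw [Classical.Quad.mul_apply, ha, hb, Classical.Quad.mul_apply]
    | inv a _ ha =>
      intro x
      apply a.1.injective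
      rw [← ha, Classical.Quad.self_apply_inv, Classical.Quad.self_apply_inv]
  have hfr := hK.finrank_eq
  have : Nonempty ι := Fintype.card_pos_iff.mp (by omega)
  rw [le_bot_iff.mp hK1, Subalgebra.finrank_bot] at hfr
  omega

/-- subfield groups -/
lemma omega_not_le_subfield {F₀ : Subfield F} (hF₀ : F₀ ≠ ⊤) (P₀ : GL ι F) :
    ¬ omegaGL ⇑Q ≤ subfieldSubgroup F₀ P₀ := by
  classical
  intro hle
  obtain ⟨c, hc⟩ : ∃ c, c ∉ F₀ := by
    by_contra h
    push Not at h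
    exact hF₀ (eq_top_iff.mpr fun x _ => h x)
  let N : Matrix ι ι F := LinearMap.toMatrix'
    ((LinearMap.smulRight ((polarBilin Q).flip P.e₁) P.e₂) -
      (LinearMap.smulRight ((polarBilin Q).flip P.e₂) P.e₁))
  have hNapp : ∀ x, N *ᵥ x = polar Q x P.e₁ • P.e₂ - polar Q x P.e₂ • P.e₁ := fun x => by
    rw [show N *ᵥ x = Matrix.toLin' N x from (Matrix.toLin'_apply N x).symm]
    simp only [N, Matrix.toLin'_toMatrix', LinearMap.sub_apply, LinearMap.smulRight_apply]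
    rfl
  have key : ∀ a : F, ∃ g ∈ omegaGL ⇑Q, (g : Matrix ι ι F) = 1 + a • N := fun a => by
    obtain ⟨g, hg, he⟩ := exists_omega_siegel hnd P P.pair₁.1
      (show polar Q P.e₁ (a • P.e₂) = 0 by simp [P.e₁e₂])
    refine ⟨g, hg, Matrix.toLin'.injective (LinearMap.ext fun x => ?_)⟩
    rw [Matrix.toLin'_apply, Matrix.toLin'_apply, he, add_mulVec, one_mulVec, smul_mulVec, hNapp]
    simp [QuadraticMap.map_smul, P.pair₂.1]
    module
  have hN0 : N ≠ 0 := fun h => by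
    have h1 := hNapp P.f₁
    rw [h, zero_mulVec, polar_comm Q P.f₁ P.e₁, P.pair₁.2.2, P.f₁e₂] at h1
    exact P.pair₂.left_ne_zero (by simpa using h1.symm)
  have hN2 : N * N = 0 := by
    refine Matrix.toLin'.injective (LinearMap.ext fun x => ?_)
    rw [Matrix.toLin'_apply, ← mulVec_mulVec, hNapp x, mulVec_sub, mulVec_smul, mulVec_smul, hNapp, hNapp]
    simp [Classical.Quad.polar_singular_self P.pair₁.1, Classical.Quad.polar_singular_self P.pair₂.1,
      P.e₁e₂, polar_comm Q P.e₂ P.e₁]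
  obtain ⟨g, hg, heg⟩ := key 1
  obtain ⟨g', hg', heg'⟩ := key c
  exact hc (ratio_mem_of_mem_subfield hN2 hN0 (hle hg) (by rw [heg, one_smul]) (hle hg') heg')

end omega

end CfsgLib.Asch
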