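import Cfsg.Agent.Lib.Aschbacher.EvenTenTools
import Cfsg.Agent.Lib.ClassicalMax.OrthPlanesPlus
import Cfsg.Agent.Lib.ClassicalMax.OrthPlanesFrames

/-!
# Maximal subgroups of `Ω` in dimension ten
-/

set_option autoImplicit false

namespace CfsgLib.Asch.Even

open Matrix Cfsg.Geo QuadraticMap Module
open CfsgLib.Classical.Quad (NDPolar Frame)
open scoped MatrixGroups

variable {ι : Type} [Fintype ι] [DecidableEq ι] {F : Type*} [Field F] [Fintype F]

/-- the types of maximal subgroups common to both forms, with the type-dependent parts as predicates -/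
inductive TenType (Q : QuadraticForm F (ι → F)) (H : Subgroup (GL ι F)) : Prop
  | singular (W : Submodule F (ι → F)) (h0 : W ≠ ⊥) (hs : IsTotallySingularQuad ⇑Q W)
      (hd : IsPlusTypeOn ⇑Q ⊤ → finrank F W ≠ 4) (he : H = subspaceStabilizer W ⊓ omegaGL ⇑Q)
  | oddDim (W : Submodule F (ι → F)) (hq : Odd (Fintype.card F)) (h0 : W ≠ ⊥) (h1 : W ≠ ⊤)
      (hd : Odd (finrank F W)) (hd5 : 2 * finrank F W ≠ 10) (hW : IsNondegenerateOn (polar ⇑Q) W)
      (he : H = subspaceStabilizer W ⊓ omegaGL ⇑Q)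
  | planeMinus (W : Submodule F (ι → F)) (hd : finrank F W = 2) (hW : IsNondegenerateOn (polar ⇑Q) W)
      (hp : ¬ IsPlusTypeOn ⇑Q W) (he : H = subspaceStabilizer W ⊓ omegaGL ⇑Q)
  | planePlus (W : Submodule F (ι → F)) (hq : 4 ≤ Fintype.card F) (hd : finrank F W = 2)
      (hW : IsNondegenerateOn (polar ⇑Q) W) (hp : IsPlusTypeOn ⇑Q W)
      (he : H = subspaceStabilizer W ⊓ omegaGL ⇑Q)
  | four (W : Submodule F (ι → F)) (hd : finrank F W = 4) (hW : IsNondegenerateOn (polar ⇑Q) W)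
      (he : H = subspaceStabilizer W ⊓ omegaGL ⇑Q)
  | point (v : ι → F) (hq : ¬ Odd (Fintype.card F)) (hv : Q v ≠ 0)
      (he : H = subspaceStabilizer (Submodule.span F {v}) ⊓ omegaGL ⇑Q)
  | lines (D : Fin 10 → Submodule F (ι → F)) (p : ℕ) (hp : p.Prime) (hc : Fintype.card F = p)
      (h1 : IsPlusTypeOn ⇑Q ⊤ → p % 4 = 1) (h3 : ¬ IsPlusTypeOn ⇑Q ⊤ → p % 4 = 3)
      (hD : IsOrthogonalMDecomposition ⇑Q 1 D) (he : H = decompositionStabilizer D ⊓ omegaGL ⇑Q)
  | planes (D : Fin 5 → Submodule F (ι → F)) (h7 : IsPlusTypeOn ⇑Q ⊤ → 7 ≤ Fintype.card F)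
      (h3 : ¬ IsPlusTypeOn ⇑Q ⊤ → Fintype.card F ≠ 3) (hD : IsOrthogonalMDecomposition ⇑Q 2 D)
      (he : H = decompositionStabilizer D ⊓ omegaGL ⇑Q)
  | fives (D : Fin 2 → Submodule F (ι → F)) (h1 : IsPlusTypeOn ⇑Q ⊤ → Fintype.card F % 4 = 1)
      (h3 : ¬ IsPlusTypeOn ⇑Q ⊤ → Fintype.card F % 4 = 3)
      (hD : IsOrthogonalMDecomposition ⇑Q 5 D) (he : H = decompositionStabilizer D ⊓ omegaGL ⇑Q)
  | mixedFives (D : Fin 2 → Submodule F (ι → F)) (h3 : IsPlusTypeOn ⇑Q ⊤ → Fintype.card F % 4 = 3)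
      (h1 : ¬ IsPlusTypeOn ⇑Q ⊤ → Fintype.card F % 4 = 1)
      (hD : IsNondegenerateMDecomposition (polar ⇑Q) 5 D) (hiso : ¬ AreIsometricFor ⇑Q (D 0) (D 1))
      (he : H = decompositionStabilizer D ⊓ omegaGL ⇑Q)
  | selfField (K : Subalgebra F (Matrix ι ι F)) (hq : Odd (Fintype.card F)) (hK : IsFieldSubalgebra 2 K)
      (hself : IsSelfAdjointFor (polar ⇑Q) K) (he : H = subalgebraNormalizer K ⊓ omegaGL ⇑Q)
  | simField (K : Subalgebra F (Matrix ι ι F)) (hm : ¬ IsPlusTypeOn ⇑Q ⊤) (hK : IsFieldSubalgebra 2 K)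
      (hadj : IsAdjointClosedFor (polar ⇑Q) K) (hns : ¬ IsSelfAdjointFor (polar ⇑Q) K)
      (hsim : ∀ k ∈ K, ∃ c : F, ∀ v, Q (k *ᵥ v) = c * Q v) (he : H = subalgebraNormalizer K ⊓ omegaGL ⇑Q)
  | subfield (F₀ : Subfield F) (r : ℕ) (P : GL ι F) (ζ : F) (hr : r.Prime)
      (hodd : ¬ IsPlusTypeOn ⇑Q ⊤ → Odd r)
      (hc : Fintype.card F = Nat.card F₀ ^ r) (hζ : ζ ≠ 0)
      (hrat : IsQuadFormRationalStructure (fun v => ζ * Q v) F₀ P) (he : H = subfieldSubgroup F₀ P ⊓ omegaGL ⇑Q)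
  | residual (h : InOrthogonalResidualClass H)

variable {Q : QuadraticForm F (ι → F)}

omit [Fintype ι] [DecidableEq ι] in
/-- the residue of an odd order modulo four -/
lemma card_mod_four (hodd : Odd (Fintype.card F)) :
    (IsSquare (-1 : F) → Fintype.card F % 4 = 1) ∧ (¬ IsSquare (-1 : F) → Fintype.card F % 4 = 3) := by
  rw [Nat.odd_iff] at hodd
  refine ⟨fun h => ?_, fun h => ?_⟩
  · have := FiniteField.isSquare_neg_one_iff.mp h
    omega
  · have : ¬ Fintype.card F % 4 ≠ 3 := fun h' => h (FiniteField.isSquare_neg_one_iff.mpr h')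
    omega

theorem ten_type (hnd : NDPolar Q) (hQ : IsNondegenerateQuadraticForm ⇑Q) (hn : Fintype.card ι = 10)
    {H : Subgroup (GL ι F)} (hH : IsMaximalIn (omegaGL ⇑Q) H) : TenType Q H := by
  classical
  have h7 : 7 ≤ Fintype.card ι := by omega
  haveI : Nonempty ι := Fintype.card_pos_iff.mp (by omega)
  obtain ⟨⟨P₀⟩, -⟩ := ClassicalMax.OmE.exists_frame hnd h7
  rcases evenCase_of_le (hnd := hnd) (m := 5) hn (by omega) (by omega) hH.1.le with
    ⟨W, h0, hs, hle⟩ | ⟨v, h2, hv, hle⟩ | ⟨W, h0, hd, hW, hle⟩ | ⟨D, hD, hle, -⟩ |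
    ⟨t, k, D, ht, htk, hD, hk, hle⟩ | ⟨D, hD, hs, hle⟩ | ⟨r, K, G, hHG, hG, hirr, hr, hrn, hK, hadj, hle, h5⟩ |
    ⟨k, e, P, f₁, f₂, hf₁, hf₂, hstr, hpure, hle⟩ | ⟨e, P, f₁, f₂, h2, hf₁, hf₂, hstr, hle⟩ |
    ⟨F₀, r, P, ζ, hr, hc, hζ, hrat, hle⟩ | ⟨hm, hp8⟩ | h
  · refine .singular W h0 hs (fun hp hd => ?_) (eq_singular hnd h7 hH h0 hs hle)
    obtain ⟨U₀, -, hU₀, hU₀d⟩ := hp
    rw [finrank_top, finrank_fintype_fun_eq_card] at hU₀d
    exact not_maximal_elim hH hle
      (ClassicalMax.OmE.submaximal_not_maximal hnd P₀ h7 hU₀ hU₀d hs (by omega))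
  · exact .point v (fun ho => two_ne_zero_iff.mpr ho h2) hv (eq_point hnd h7 hH hv hle)
  · have hpos : 0 < finrank F W := Nat.pos_of_ne_zero fun h => h0 (Submodule.finrank_eq_zero.mp h)
    by_cases ho : Odd (finrank F W)
    · exact .oddDim W (odd_of_nondeg hW ho) h0 (ne_top_of_lt (by omega)) ho (by omega) hW
        (eq_stab hnd h7 hH h0 (ne_top_of_lt (by omega)) hle)
    rw [Nat.odd_iff] at ho
    obtain hd2 | hd4 : finrank F W = 2 ∨ finrank F W = 4 := by omega
    · rcases plane_cases hnd h7 hH hd2 hW hle with ⟨hp, he⟩ | ⟨hq, hp, he⟩ | ⟨hq, W', hd', hW', he⟩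
      · exact .planeMinus W hd2 hW hp he
      · exact .planePlus W hq hd2 hW hp he
      · exact .oddDim W' hq (fun h => by rw [h, finrank_bot] at hd'; omega) (ne_top_of_lt (by omega))
          (by rw [Nat.odd_iff]; omega) (by omega) hW' he
    · exact .four W hd4 hW (eq_stab hnd h7 hH h0 (ne_top_of_lt (by omega)) hle)
  · have hodd : Odd (Fintype.card F) := odd_of_nondeg (hD.nondegenerate 0) (by rw [hD.decomp.finrank_eq 0]; decide)
    obtain ⟨hsq, hnsq⟩ := card_mod_four hodd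
    have hiff := plus_iff_halves hnd (two_ne_zero_iff.mpr hodd) hn hD
    have heq := eq_decomp hnd h7 hH hD.decomp hle
    by_cases hiso : AreIsometricFor ⇑Q (D 0) (D 1)
    · simp only [hiso, true_iff] at hiff
      exact .fives D (fun hp => hsq (hiff.mp hp)) (fun hp => hnsq fun h => hp (hiff.mpr h)) (orth_pair hD hiso) heq
    · simp only [hiso, false_iff] at hiff
      exact .mixedFives D (fun hp => hnsq (hiff.mp hp))
        (fun hp => hsq (by_contra fun h => hp (hiff.mpr h))) hD hiso heq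
  · have ht10 : t ≤ 10 := by
      have := Nat.le_mul_of_pos_right t hD.decomp.decomp.pos
      omega
    have heq := eq_decomp hnd h7 hH hD.decomp.decomp hle
    obtain ⟨rfl, rfl⟩ | ⟨rfl, rfl⟩ : (t = 5 ∧ k = 2) ∨ (t = 10 ∧ k = 1) := by
      interval_cases t <;> omega
    · have hiff := planes_ten hnd hn hD
      refine .planes D (fun hp => ?_) (fun hm hq => ?_) hD heq
      · have hall : ∀ i, IsPlusTypeOn ⇑Q (D i) := fun i => (plus_member_iff hD i 4).mpr (hiff.mp hp)
        by_contra hc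
        have hq1 : 1 < Fintype.card F := Fintype.one_lt_card
        have h6 : Fintype.card F ≠ 6 := fun h6 => by
          obtain ⟨p, f, hp, -, -, hcard⟩ := exists_prime_pow (F := F)
          rw [h6] at hcard
          have h2 := (Nat.prime_dvd_prime_iff_eq Nat.prime_two hp).mp
            (Nat.prime_two.dvd_of_dvd_pow (hcard ▸ (by norm_num : 2 ∣ 6)))
          have h3 := (Nat.prime_dvd_prime_iff_eq Nat.prime_three hp).mp
            (Nat.prime_three.dvd_of_dvd_pow (hcard ▸ (by norm_num : 3 ∣ 6)))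
          omega
        rcases (by omega : Fintype.card F = 2 ∨ Fintype.card F = 3 ∨ Fintype.card F = 4 ∨ Fintype.card F = 5) with
          hq | hq | hq | hq
        · exact not_maximal_elim hH hle (ClassicalMax.OmP.plus_planes_two hnd P₀ hq (by omega) hD hall)
        · exact not_maximal_elim hH hle (ClassicalMax.OmP.plus_planes_three hnd P₀ hq (by omega) hD hall)
        · exact not_maximal_elim hH hle (ClassicalMax.OmP.plus_planes_four hnd P₀ hQ hq (by omega) hD hall)
        · exact not_maximal_elim hH hle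
            (ClassicalMax.OmP.plus_planes_five hnd P₀ hQ hq h7 (by omega) hD 0 (hall 0))
      · exact not_maximal_elim hH hle (ClassicalMax.OmP.minus_planes_three hnd P₀ hQ hq h7 (by omega) hD 4
          fun h => hm (hiff.mpr h))
    · obtain ⟨h2, hp⟩ := hk rfl
      obtain ⟨hsq, hnsq⟩ := card_mod_four (two_ne_zero_iff.mp h2)
      have hiff := lines_ten hnd h2 hn hD
      exact .lines D _ hp rfl (fun h => hsq (hiff.mp h)) (fun h => hnsq fun h' => h (hiff.mpr h')) hD heq
  · exact (not_maximal_elim hH hle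
      (ClassicalMax.OmE.singular_pair_not_maximal hnd P₀ h7 (k := 5) hn.symm (by decide) hD hs)).elim
  · obtain rfl : r = 2 := by
      have hr10 : r ≤ 10 := Nat.le_of_dvd (by omega) hrn
      have := hr.two_le
      interval_cases r <;> simp at hrn h5 ⊢ <;> norm_num at hr
    have heq := eq_field hnd h7 hH hr hK (hHG.trans hle)
    by_cases hself : ∀ k ∈ K, (evenData Q hnd).adj k = k
    · refine .selfField K (two_ne_zero_iff.mp (two_ne_zero_of_selfAdjoint hn hK hself)) hK ?_ heq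
      rw [← form_eq (hnd := hnd)]
      exact (evenData Q hnd).selfAdjoint hself
    push Not at hself
    have hsim : ∀ k ∈ K, ∃ c : F, ∀ v, Q (k *ᵥ v) = c * Q v := fun k hk =>
      quad_similar_of_field (by omega) hG hirr hK hadj hself hle hk
    refine .simField K (not_plus_of_similar hn hK hadj hself hsim) hK (adjointClosed hadj) (fun hs => ?_) hsim heq
    obtain ⟨k, hk, hkne⟩ := hself
    refine hkne ((evenData Q hnd).eq_of_form_eq fun u v => ?_)
    rw [← (evenData Q hnd).form_adj, form_eq]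
    exact hs k hk u v
  · exfalso
    have hk5 : k = 5 := by
      have := Fintype.card_congr e
      simp at this
      omega
    have h := symplectic_even hf₂
    rw [hk5, Fintype.card_fin, Nat.even_iff] at h
    omega
  · exfalso
    have := Fintype.card_congr e
    simp at this
    omega
  · refine .subfield F₀ r P ζ hr (fun hm => ?_) hc hζ hrat (eq_subfield hnd h7 hH hr hc hle)
    refine (hr.eq_two_or_odd').resolve_left ?_
    rintro rfl
    exact hm (plus_of_index_two hnd (j := 5) hn hc hζ hrat)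
  · omega
  · exact .residual h

end CfsgLib.Asch.Even
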