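import Cfsg.Agent.Lib.Aschbacher.EvenListBasic

/-!
# Types of decompositions and quadratic fields in dimension ten
-/

set_option autoImplicit false

namespace CfsgLib.Asch.Even

open Matrix Cfsg.Geo QuadraticMap Module
open CfsgLib.Classical.Quad (NDPolar polar_self')
open scoped MatrixGroups

variable {ι : Type} [Fintype ι] [DecidableEq ι] {F : Type*} [Field F] [Fintype F]
  {Q : QuadraticForm F (ι → F)}

omit [Fintype ι] [DecidableEq ι] in
/-- the product of two non-squares is a square -/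
lemma isSquare_mul_of_not {a b : F} (h2 : (2 : F) ≠ 0) (ha : ¬ IsSquare a) (hb : ¬ IsSquare b) :
    IsSquare (a * b) := by
  classical
  have hchar : ringChar F ≠ 2 := fun h => h2 (by
    haveI := ringChar.of_eq h
    exact_mod_cast CharP.cast_eq_zero F 2)
  have ha0 : a ≠ 0 := fun h => ha (h ▸ IsSquare.zero)
  have hb0 : b ≠ 0 := fun h => hb (h ▸ IsSquare.zero)
  rw [← quadraticChar_neg_one_iff_not_isSquare] at ha hb
  refine (quadraticChar_one_iff_isSquare (mul_ne_zero ha0 hb0)).mp ?_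
  rw [map_mul, ha, hb]
  norm_num

omit [Fintype ι] [DecidableEq ι] in
lemma aniso_of_pair {a a' : ι → F} {d d' : F} (hQa : Q a = d) (hQa' : Q a' = d') (horth : polar Q a a' = 0)
    (hd : d ≠ 0) (hd' : d' ≠ 0) (hns : ¬ IsSquare (-(d * d'))) :
    Aniso Q (Submodule.span F (Set.range ![a, a'])) ∧ finrank F (Submodule.span F (Set.range ![a, a'])) = 2 := by
  have key : ∀ x y : F, x * x * d + y * y * d' = 0 → x = 0 ∧ y = 0 := by
    intro x y h
    by_cases hy : y = 0
    · rw [hy] at h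
      exact ⟨mul_self_eq_zero.mp ((mul_eq_zero.mp (by linear_combination h)).resolve_right hd), hy⟩
    · exfalso
      refine hns ⟨x * d / y, ?_⟩
      field_simp
      linear_combination -h
  have hQ : ∀ c : Fin 2 → F, Q (∑ i, c i • ![a, a'] i) = c 0 * c 0 * d + c 1 * c 1 * d' := fun c => by
    simp [Fin.sum_univ_two, QuadraticMap.map_add (⇑Q), QuadraticMap.map_smul, polar_smul_left, polar_smul_right,
      hQa, hQa', horth]
  refine ⟨fun v hv hQv => ?_, ?_⟩
  · obtain ⟨c, rfl⟩ := (Submodule.mem_span_range_iff_exists_fun F).mp hv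
    obtain ⟨h0, h1⟩ := key _ _ ((hQ c).symm.trans hQv)
    simp [Fin.sum_univ_two, h0, h1]
  · rw [finrank_span_eq_card, Fintype.card_fin]
    rw [Fintype.linearIndependent_iff]
    intro c hc i
    obtain ⟨h0, h1⟩ := key _ _ ((hQ c).symm.trans (by rw [hc, QuadraticMap.map_zero]))
    fin_cases i <;> assumption

/-- two five-dimensional halves with given discriminants -/
theorem plus_iff_of_models (hnd : NDPolar Q) (hn : Fintype.card ι = 10)
    {D : Fin 2 → Submodule F (ι → F)} (hD : IsNondegenerateMDecomposition (polar ⇑Q) 5 D) {d d' : F}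
    (hd : d ≠ 0) (hd' : d' ≠ 0) (h : OddModel Q (D 0) 2 d) (h' : OddModel Q (D 1) 2 d') :
    IsPlusTypeOn ⇑Q ⊤ ↔ IsSquare (-(d * d')) := by
  obtain ⟨U, a, hUD, hU, hUd, haD, hQa, hUa⟩ := h.parts
  obtain ⟨U', a', hU'D, hU', hU'd, ha'D, hQa', hU'a⟩ := h'.parts
  have horth : Perp Q (D 0) (D 1) := fun u hu v hv => hD.orthogonal 0 1 (by decide) u hu v hv
  have hdis : Disjoint (D 0) (D 1) := hD.decomp.indep.pairwiseDisjoint (by decide : (0 : Fin 2) ≠ 1)
  have hsing := singular_sup hU hU' (horth.mono hUD hU'D)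
  have hdim : finrank F ↥(U ⊔ U') = 4 := by rw [finrank_sup_disjoint (hdis.mono hUD hU'D), hUd, hU'd]
  have haa' : polar Q a a' = 0 := horth a haD a' ha'D
  have hperp : ∀ u ∈ U ⊔ U', polar Q u a = 0 ∧ polar Q u a' = 0 := by
    intro u hu
    obtain ⟨y, hy, z, hz, rfl⟩ := Submodule.mem_sup.mp hu
    rw [polar_add_left, polar_add_left, hUa y hy, hU'a z hz, horth y (hUD hy) a' ha'D,
      polar_comm Q z a, horth a haD z (hU'D hz)]
    simp
  constructor
  · intro hp
    by_contra hns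
    obtain ⟨hani, hP2⟩ := aniso_of_pair hQa hQa' haa' hd hd' hns
    refine not_plus_of_aniso hnd hsing (by rw [hdim, hn]) hP2 hani (fun u hu v hv => ?_) hp
    obtain ⟨c, rfl⟩ := (Submodule.mem_span_range_iff_exists_fun F).mp hv
    simp [Fin.sum_univ_two, polar_add_right, polar_smul_right, (hperp u hu).1, (hperp u hu).2]
  · rintro ⟨s, hs⟩
    set z := a + (s / d') • a' with hz
    have hQz : Q z = 0 := by
      rw [hz, QuadraticMap.map_add (⇑Q), QuadraticMap.map_smul, polar_smul_right, haa', hQa, hQa', smul_zero,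
        smul_eq_mul]
      field_simp
      linear_combination -hs
    have hz0 : z ∉ U ⊔ U' := by
      intro hmem
      obtain ⟨y, hy, y', hy', hyy⟩ := Submodule.mem_sup.mp hmem
      have h0 : y - a = (s / d') • a' - y' := by
        rw [sub_eq_sub_iff_add_eq_add, hyy, hz, add_comm]
      have h1 : y - a = 0 := Submodule.disjoint_def.mp hdis _ (sub_mem (hUD hy) haD)
        (h0 ▸ sub_mem ((D 1).smul_mem _ ha'D) (hU'D hy'))
      exact hd (by rw [← hQa, ← sub_eq_zero.mp h1]; exact hU y hy)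
    refine plus_top (U := U ⊔ U' ⊔ Submodule.span F {z}) (singular_sup hsing ?_ ?_) ?_
    · intro v hv
      obtain ⟨c, rfl⟩ := Submodule.mem_span_singleton.mp hv
      rw [QuadraticMap.map_smul, hQz, smul_zero]
    · intro u hu v hv
      obtain ⟨c, rfl⟩ := Submodule.mem_span_singleton.mp hv
      rw [polar_smul_right, hz, polar_add_right, polar_smul_right, (hperp u hu).1, (hperp u hu).2]
      simp
    · have hz1 : z ≠ 0 := fun h => hz0 (h ▸ zero_mem _)
      rw [finrank_sup_disjoint ((Submodule.disjoint_span_singleton' hz1).mpr hz0), hdim, finrank_span_singleton hz1, hn]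

/-- the type from two five-dimensional halves -/
theorem plus_iff_halves (hnd : NDPolar Q) (h2 : (2 : F) ≠ 0) (hn : Fintype.card ι = 10)
    {D : Fin 2 → Submodule F (ι → F)} (hD : IsNondegenerateMDecomposition (polar ⇑Q) 5 D) :
    IsPlusTypeOn ⇑Q ⊤ ↔ (AreIsometricFor ⇑Q (D 0) (D 1) ↔ IsSquare (-1 : F)) := by
  obtain ⟨d, hd, h⟩ := exists_oddModel h2 (hD.nondegenerate 0) (j := 2) (hD.decomp.finrank_eq 0)
  obtain ⟨d', hd', h'⟩ := exists_oddModel h2 (hD.nondegenerate 1) (j := 2) (hD.decomp.finrank_eq 1)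
  by_cases hiso : AreIsometricFor ⇑Q (D 0) (D 1)
  · simp only [hiso, true_iff]
    obtain ⟨ψ, hψ⟩ := hiso
    obtain ⟨E, hE⟩ := h
    rw [plus_iff_of_models hnd hn hD hd hd ⟨E, hE⟩ ⟨E.trans ψ, fun v => (hψ (E v)).trans (hE v)⟩]
    constructor
    · rintro ⟨s, hs⟩
      exact ⟨s / d, by field_simp; linear_combination hs⟩
    · rintro ⟨s, hs⟩
      exact ⟨s * d, by linear_combination (d * d) * hs⟩
  · simp only [hiso, false_iff]
    have hns : ¬ IsSquare (d * d') := fun ⟨s, hs⟩ => hiso (h.isometric h' hd' (s := s / d) (by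
      field_simp
      linear_combination -hs))
    rw [plus_iff_of_models hnd hn hD hd hd' h h', show -(d * d') = -1 * (d * d') by ring]
    constructor
    · rintro ⟨s, hs⟩ ⟨r, hr⟩
      have hr0 : r ≠ 0 := fun h0 => one_ne_zero (α := F) (by rw [h0] at hr; linear_combination -hr)
      exact hns ⟨s / r, by field_simp; linear_combination hs - d * d' * hr⟩
    · exact fun h1 => isSquare_mul_of_not h2 h1 hns

/-- five planes -/
theorem planes_ten (hnd : NDPolar Q) (hn : Fintype.card ι = 10) {D : Fin 5 → Submodule F (ι → F)}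
    (hD : IsOrthogonalMDecomposition ⇑Q 2 D) : IsPlusTypeOn ⇑Q ⊤ ↔ IsPlusTypeOn ⇑Q (D 4) := by
  have h4 := singIn_four hD (a := 0) (b := 1) (c := 2) (d := 3) (by decide)
  refine ⟨fun hp => ?_, fun hp => ?_⟩
  · by_contra hm
    refine h4.not_plus hnd hD.decomp (by omega) (s' := {4}) (by decide) (P := D 4) (by simp)
      (hD.decomp.decomp.finrank_eq 4) ?_ hp
    exact aniso_of_minus_plane (hD.decomp.decomp.finrank_eq 4) hm
  · obtain ⟨U, hUD, hU, hUd⟩ := hp
    rw [hD.decomp.decomp.finrank_eq 4] at hUd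
    exact (h4.union hD.decomp (SingIn.single (Q := Q) (D := D) 4 hUD hU) (by decide)).plus (by omega)

/-- ten lines -/
theorem lines_ten (hnd : NDPolar Q) (h2 : (2 : F) ≠ 0) (hn : Fintype.card ι = 10)
    {D : Fin 10 → Submodule F (ι → F)} (hD : IsOrthogonalMDecomposition ⇑Q 1 D) :
    IsPlusTypeOn ⇑Q ⊤ ↔ IsSquare (-1 : F) := by
  have h4 := (singIn_four hD (a := 0) (b := 1) (c := 2) (d := 3) (by decide)).union hD.decomp
    (singIn_four hD (a := 4) (b := 5) (c := 6) (d := 7) (by decide)) (by decide)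
  refine ⟨fun hp => by_contra fun hns => ?_, fun ⟨s, hs⟩ => ?_⟩
  · obtain ⟨v, hv, hv0⟩ := (Submodule.ne_bot_iff (D 8)).mp fun h => by
      have := hD.decomp.decomp.finrank_eq 8
      rw [h, finrank_bot] at this
      omega
    have hQv : Q v ≠ 0 := by
      intro h0
      obtain ⟨-, x, hx, hvx⟩ := hD.decomp.nondegenerate 8 v hv hv0
      obtain ⟨c, hc⟩ := exists_smul_eq_of_finrank_eq_one (hD.decomp.decomp.finrank_eq 8) (x := ⟨v, hv⟩)
        (fun h => hv0 (congrArg Subtype.val h)) ⟨x, hx⟩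
      refine hvx ?_
      rw [show x = c • v from (congrArg Subtype.val hc).symm, polar_smul_right, polar_self', h0, mul_zero, smul_zero]
    obtain ⟨e, he⟩ := hD.isometric 8 9
    set w : ι → F := (e ⟨v, hv⟩ : ι → F)
    obtain ⟨hani, hP2⟩ := aniso_of_pair (Q := Q) (a := v) (a' := w) rfl (he ⟨v, hv⟩)
      (hD.decomp.orthogonal 8 9 (by decide) v hv w (e _).2) hQv hQv
      (fun ⟨r, hr⟩ => hns ⟨r / Q v, by field_simp; linear_combination hr⟩)
    refine h4.not_plus hnd hD.decomp (by omega) (s' := {8, 9}) (by decide) ?_ hP2 hani hp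
    rw [Submodule.span_le]
    rintro _ ⟨i, rfl⟩
    fin_cases i
    · exact le_biSup D (show (8 : Fin 10) ∈ ({8, 9} : Finset (Fin 10)) by decide) hv
    · exact le_biSup D (show (9 : Fin 10) ∈ ({8, 9} : Finset (Fin 10)) by decide) (e _).2
  · exact (h4.union hD.decomp (singIn_two_sq hD hs.symm (show (8 : Fin 10) ≠ 9 by decide)) (by decide)).plus
      (by omega)

variable [Nonempty ι]

/-- characteristic two: no self-adjoint quadratic field in dimension ten -/
theorem two_ne_zero_of_selfAdjoint {hnd : NDPolar Q} (hn : Fintype.card ι = 10)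
    {K : Subalgebra F (Matrix ι ι F)} (hK : IsFieldSubalgebra 2 K)
    (hself : ∀ k ∈ K, (evenData Q hnd).adj k = k) : (2 : F) ≠ 0 := fun h2 => by
  have h := (evenData Q hnd).dvd_half_of_skew (form_alt h2) hK hself
    (fun k hk v => (evenData Q hnd).form_self_eq_zero (form_alt h2) hK hself hk v) (m := 5) hn
  omega

set_option backward.isDefEq.respectTransparency false in
omit [Fintype F] in
/-- a stable subspace has dimension divisible by the degree of the field -/
lemma dvd_finrank_of_stable {r : ℕ} {K : Subalgebra F (Matrix ι ι F)} (hK : IsFieldSubalgebra r K)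
    {W : Submodule F (ι → F)} (hW : ∀ k ∈ K, ∀ w ∈ W, k *ᵥ w ∈ W) : r ∣ finrank F W := by
  letI : Field K := (fieldSub_isField hK).toField
  letI : Module K W :=
    { smul := fun k w => ⟨(k : Matrix ι ι F) *ᵥ (w : ι → F), hW _ k.2 _ w.2⟩
      one_smul := fun w => Subtype.ext (one_mulVec _)
      mul_smul := fun a b w => Subtype.ext (mulVec_mulVec _ _ _).symm
      smul_zero := fun a => Subtype.ext (mulVec_zero _)
      smul_add := fun a u v => Subtype.ext (mulVec_add _ _ _)
      add_smul := fun a b w => Subtype.ext (add_mulVec _ _ _)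
      zero_smul := fun w => Subtype.ext (zero_mulVec _) }
  haveI : IsScalarTower F K W := ⟨fun c k w => Subtype.ext (smul_mulVec c (k : Matrix ι ι F) (w : ι → F))⟩
  refine ⟨finrank K W, ?_⟩
  have h := Module.finrank_mul_finrank F K W
  rw [hK.finrank_eq] at h
  exact h.symm

set_option maxHeartbeats 1000000 in
/-- a non-self-adjoint quadratic field of similarities in dimension ten: not of plus type -/
theorem not_plus_of_similar {hnd : NDPolar Q} (hn : Fintype.card ι = 10) {K : Subalgebra F (Matrix ι ι F)}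
    (hK : IsFieldSubalgebra 2 K) (hadj : ∀ k ∈ K, (evenData Q hnd).adj k ∈ K)
    (hne : ∃ k ∈ K, (evenData Q hnd).adj k ≠ k) (hsim : ∀ k ∈ K, ∃ c : F, ∀ v, Q (k *ᵥ v) = c * Q v) :
    ¬ IsPlusTypeOn ⇑Q ⊤ := by
  classical
  set D := evenData Q hnd with hD
  have hf : D.form = polar ⇑Q := form_eq
  have hadd : ∀ x y, Q (x + y) = Q x + Q y + polar Q x y := fun x y => QuadraticMap.map_add (⇑Q) x y
  have hnorm : ∀ k ∈ K, ∀ c : F, (∀ v, Q (k *ᵥ v) = c * Q v) → D.adj k * k = c • 1 := by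
    intro k _ c hc
    refine D.eq_of_form_eq fun u v => ?_
    rw [← mulVec_mulVec, ← D.form_adj, smul_mulVec, one_mulVec, D.form_smul_right, σ_eq, RingHom.id_apply, hf]
    show polar Q _ _ = c * polar Q u v
    simp only [polar, ← mulVec_add, hc]
    ring
  have hinvq : ∀ v, Q v ≠ 0 → ∀ k ∈ K, k ≠ 0 → Q (k *ᵥ v) ≠ 0 := by
    intro v hv k hk hk0 h0
    obtain ⟨y, hy, hky⟩ := hK.inv k hk hk0
    obtain ⟨c, hc⟩ := hsim y hy
    refine hv ?_
    have := hc (k *ᵥ v)
    rwa [mulVec_mulVec, hK.comm y hy k hk, hky, one_mulVec, h0, mul_zero] at this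
  have hpair : ∀ v, Q v ≠ 0 → ∃ k ∈ K, D.form v (k *ᵥ v) ≠ 0 := by
    intro v hv
    by_cases h2 : (2 : F) = 0
    swap
    · exact ⟨1, one_mem K, by rw [one_mulVec, form_self]; exact mul_ne_zero h2 hv⟩
    obtain ⟨k, hk, hkne⟩ := hne
    obtain ⟨c, hc⟩ := hsim k hk
    obtain ⟨c', hc'⟩ := hsim (1 + k) (add_mem (one_mem K) hk)
    have h1 := hnorm _ (add_mem (one_mem K) hk) c' hc'
    rw [D.adj_add, D.adj_one, add_mul, mul_add, mul_add, one_mul, mul_one, one_mul, hnorm k hk c hc] at h1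
    refine ⟨k, hk, fun h0 => hkne ?_⟩
    have h3 := hc' v
    rw [add_mulVec, one_mulVec, hadd, hc, ← hf, h0, add_zero] at h3
    have hT : c' = 1 + c := mul_right_cancel₀ hv (by linear_combination -h3)
    rw [hT, add_smul, one_smul] at h1
    have h4 : D.adj k = -k := by linear_combination (norm := abel) h1
    rw [h4]
    ext i j
    rw [Matrix.neg_apply]
    linear_combination -(k i j) * h2
  have hrep : ∀ v, Q v ≠ 0 → ∀ t : F, t ≠ 0 → ∃ k ∈ K, Q (k *ᵥ v) = t := by
    intro v hv t ht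
    by_cases h2 : (2 : F) = 0
    · haveI : CharP F 2 := CharTwo.of_one_ne_zero_of_two_eq_zero one_ne_zero h2
      obtain ⟨s, hs⟩ := (bijective_frobenius F 2).2 (t / Q v)
      refine ⟨s • 1, Subalgebra.smul_mem K (one_mem K) s, ?_⟩
      rw [frobenius_def] at hs
      rw [smul_mulVec, one_mulVec, QuadraticMap.map_smul, smul_eq_mul, ← _root_.sq, hs, div_mul_cancel₀ _ hv]
    obtain ⟨k₀, hk₀, hk₀ne⟩ := hne
    set k := k₀ - D.adj k₀
    have hk : k ∈ K := sub_mem hk₀ (hadj _ hk₀)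
    have hk0 : k ≠ 0 := sub_ne_zero.mpr hk₀ne.symm
    have hkadj : D.adj k = -k := by simp [k, D.adj_sub, D.adj_adj]
    obtain ⟨c, hc⟩ := hsim k hk
    have hc0 : c ≠ 0 := fun h => hinvq v hv k hk hk0 (by rw [hc, h, zero_mul])
    have horth : polar Q v (k *ᵥ v) = 0 := by
      have h := D.form_adj k v v
      rw [hkadj, Matrix.neg_mulVec, ← neg_one_smul F, D.form_smul_right, σ_eq, RingHom.id_apply, hf] at h
      rw [polar_comm Q (k *ᵥ v)] at h
      exact (mul_eq_zero.mp (show (2 : F) * polar Q v (k *ᵥ v) = 0 by linear_combination h)).resolve_left h2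
    obtain ⟨x, y, hxy⟩ := FormsDisc.binary_represents_one h2 (div_ne_zero hv ht)
      (div_ne_zero (mul_ne_zero hc0 hv) ht)
    refine ⟨x • 1 + y • k, add_mem (Subalgebra.smul_mem K (one_mem K) x) (Subalgebra.smul_mem K hk y), ?_⟩
    rw [add_mulVec, smul_mulVec, smul_mulVec, one_mulVec, hadd, QuadraticMap.map_smul, QuadraticMap.map_smul,
      polar_smul_left, polar_smul_right, horth, hc]
    field_simp at hxy
    simp only [smul_eq_mul, mul_zero, add_zero]
    linear_combination hxy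
  let ev : (ι → F) → K →ₗ[F] (ι → F) := fun v =>
    { toFun := fun k => (k : Matrix ι ι F) *ᵥ v
      map_add' := fun a b => by simp [add_mulVec]
      map_smul' := fun c a => by simp [smul_mulVec] }
  haveI : Module.Finite F K := FiniteDimensional.finiteDimensional_subalgebra K
  let P : Submodule F (ι → F) → Prop := fun W =>
    (∀ k ∈ K, ∀ w ∈ W, k *ᵥ w ∈ W) ∧ IsTotallySingularQuad ⇑Q W
  obtain ⟨U, ⟨hUK, hUs⟩, hmax⟩ := exists_maximalFor_of_wellFoundedGT P id
    ⟨⊥, fun k _ w hw => by simp [(Submodule.mem_bot F).mp hw],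
      fun w hw => by rw [(Submodule.mem_bot F).mp hw, QuadraticMap.map_zero]⟩
  have horthK : ∀ W : Submodule F (ι → F), (∀ k ∈ K, ∀ w ∈ W, k *ᵥ w ∈ W) →
      ∀ k ∈ K, ∀ x ∈ D.orth W, k *ᵥ x ∈ D.orth W := fun W hW k hk x hx w hw => by
    rw [D.form_adj]; exact hx _ (hW _ (hadj k hk) w hw)
  have hevK : ∀ v, ∀ k ∈ K, ∀ w ∈ LinearMap.range (ev v), k *ᵥ w ∈ LinearMap.range (ev v) := by
    rintro v k hk _ ⟨l, rfl⟩
    exact ⟨⟨k, hk⟩ * l, by simp [ev, mulVec_mulVec]⟩
  have hbig : ∀ X : Submodule F (ι → F), 6 ≤ finrank F X → ∃ v ∈ X, Q v ≠ 0 := by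
    intro X hX
    by_contra hc
    push Not at hc
    have hle : X ≤ D.orth X := fun v hv w hw => by
      rw [hf]
      show polar Q v w = 0
      rw [polar, hc _ (X.add_mem hv hw), hc v hv, hc w hw, sub_zero, sub_zero]
    have h1 := Submodule.finrank_mono hle
    have h3 := D.finrank_add_orth X
    rw [hn] at h3
    omega
  have hUle : U ≤ D.orth U := fun v hv w hw => by
    rw [hf]
    show polar Q v w = 0
    rw [polar, hUs _ (U.add_mem hv hw), hUs v hv, hUs w hw, sub_zero, sub_zero]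
  have hUo := D.finrank_add_orth U
  rw [hn] at hUo
  have hU5 := Submodule.finrank_mono hUle
  obtain ⟨j, hj⟩ := dvd_finrank_of_stable hK hUK
  by_cases h4 : finrank F U = 4
  · obtain ⟨v, hvU, hv⟩ := hbig (D.orth U) (by omega)
    have hinj : Function.Injective (ev v) := by
      rw [injective_iff_map_eq_zero]
      intro k hk
      by_contra hk0
      exact hinvq v hv k k.2 (fun h => hk0 (Subtype.ext h))
        ((congrArg Q (show (k : Matrix ι ι F) *ᵥ v = 0 from hk)).trans (QuadraticMap.map_zero Q))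
    refine not_plus_of_aniso hnd hUs (by rw [h4, hn]) (P := LinearMap.range (ev v))
      (by rw [LinearMap.finrank_range_of_inj hinj, hK.finrank_eq]) ?_ ?_
    · rintro _ ⟨k, rfl⟩ h0
      by_contra hk0
      refine hinvq v hv k k.2 (fun h => hk0 ?_) h0
      show (k : Matrix ι ι F) *ᵥ v = 0
      rw [h, zero_mulVec]
    · rintro u hu _ ⟨k, rfl⟩
      rw [← hf, D.form_eq_zero_comm]
      exact horthK U hUK k k.2 v hvU u hu
  exfalso
  obtain ⟨v₁, hv₁U, hv₁⟩ := hbig (D.orth U) (by omega)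
  have hY : 6 ≤ finrank F ↥(D.orth U ⊓ D.orth (LinearMap.range (ev v₁))) := by
    have h1 := Submodule.finrank_sup_add_finrank_inf_eq (D.orth U) (D.orth (LinearMap.range (ev v₁)))
    have h2 := D.finrank_add_orth (LinearMap.range (ev v₁))
    have h3 := (LinearMap.finrank_range_le (ev v₁)).trans_eq hK.finrank_eq
    have h5 := Submodule.finrank_le (D.orth U ⊔ D.orth (LinearMap.range (ev v₁)))
    rw [finrank_fintype_fun_eq_card, hn] at h5
    rw [hn] at h2
    omega
  obtain ⟨v₂, hv₂Y, hv₂⟩ := hbig _ hY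
  obtain ⟨k₂, hk₂, hk₂v⟩ := hrep v₂ hv₂ (-Q v₁) (neg_ne_zero.mpr hv₁)
  set w₂ := k₂ *ᵥ v₂
  have hw₂U : w₂ ∈ D.orth U := horthK U hUK k₂ hk₂ v₂ hv₂Y.1
  have hw₂v : w₂ ∈ D.orth (LinearMap.range (ev v₁)) := horthK _ (hevK v₁) k₂ hk₂ v₂ hv₂Y.2
  set z := v₁ + w₂
  have hQz : Q z = 0 := by
    have h0 : D.form w₂ v₁ = 0 := hw₂v v₁ ⟨1, by simp [ev]⟩
    rw [hadd, hk₂v, polar_comm Q v₁, ← hf, h0]
    ring
  have hzU : z ∈ D.orth U := (D.orth U).add_mem hv₁U hw₂U
  have hznot : z ∉ U := by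
    intro hz
    obtain ⟨k, hk, hkv⟩ := hpair v₁ hv₁
    refine hkv ?_
    have h1 : D.form (k *ᵥ v₁) z = 0 := horthK U hUK k hk v₁ hv₁U z hz
    rw [D.form_add_right, D.form_eq_zero_comm.mp (hw₂v (k *ᵥ v₁) ⟨⟨k, hk⟩, rfl⟩), add_zero] at h1
    exact D.form_eq_zero_comm.mp h1
  have hP : P (U ⊔ LinearMap.range (ev z)) := by
    refine ⟨fun k hk w hw => ?_, singular_sup hUs ?_ ?_⟩
    · obtain ⟨a, ha, b, hb, rfl⟩ := Submodule.mem_sup.mp hw
      rw [mulVec_add]
      exact Submodule.add_mem_sup (hUK k hk a ha) (hevK z k hk b hb)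
    · rintro _ ⟨k, rfl⟩
      obtain ⟨c, hc⟩ := hsim k k.2
      show Q ((k : Matrix ι ι F) *ᵥ z) = 0
      rw [hc, hQz, mul_zero]
    · rintro u hu _ ⟨k, rfl⟩
      rw [← hf, D.form_eq_zero_comm]
      exact horthK U hUK k k.2 z hzU u hu
  exact hznot (hmax hP le_sup_left (Submodule.mem_sup_right ⟨1, by simp [ev]⟩))

end CfsgLib.Asch.Even
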