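import Cfsg.Agent.Lib.Aschbacher.EvenTools

/-!
# Orthogonal tensor factorisations `3 × 4` and `2 × k`
-/

set_option autoImplicit false

namespace CfsgLib.Asch.Even

open Matrix Cfsg.Geo QuadraticMap Module
open CfsgLib.Classical.Quad (NDPolar polar_self' polar_singular_self Frame)
open CfsgLib.ClassicalMax.Tensor (pureL pureL_eq)
open scoped MatrixGroups Kronecker

variable {ι : Type} [Fintype ι] [DecidableEq ι] {F : Type*} [Field F] {Q : QuadraticForm F (ι → F)}
  {n₁ n₂ : ℕ} {e : ι ≃ Fin n₁ × Fin n₂} {P : GL ι F}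
  {f₁ : (Fin n₁ → F) → (Fin n₁ → F) → F} {f₂ : (Fin n₂ → F) → (Fin n₂ → F) → F}

/-- the polar form on pure tensors -/
lemma pure_polar (hf₁ : IsBilinearForm f₁) (hf₂ : IsBilinearForm f₂)
    (hstr : IsTensorFormStructure id (polar ⇑Q) f₁ f₂ e P) :
    ∃ c : F, c ≠ 0 ∧ ∀ u u' w w', polar Q (pureL e P u w) (pureL e P u' w') = c * (f₁ u u' * f₂ w w') := by
  obtain ⟨c, hc0, hc⟩ := hstr
  exact ⟨c, hc0, ClassicalMax.Tensor.form_pureL e P (σ := id) (fun _ _ => rfl) hc
    (ClassicalMax.Tensor.formOfGram_gram hf₁.add_left hf₁.smul_left hf₁.add_right hf₁.smul_right)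
    (ClassicalMax.Tensor.formOfGram_gram hf₂.add_left hf₂.smul_left hf₂.add_right hf₂.smul_right)⟩

variable [Fintype F]

/-- a symmetric form in at least three variables has an isotropic vector -/
lemma exists_isotropic (h2 : (2 : F) ≠ 0) {n : ℕ} (hn : 3 ≤ n) {f : (Fin n → F) → (Fin n → F) → F}
    (hf : IsSymmetricForm f) : ∃ v, v ≠ 0 ∧ f v v = 0 := by
  let B : LinearMap.BilinForm F (Fin n → F) := LinearMap.mk₂ F f hf.bilinear.add_left
    hf.bilinear.smul_left hf.bilinear.add_right hf.bilinear.smul_right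
  have hpol : ∀ x y, polar (B.toQuadraticMap) x y = 2 * f x y := fun x y => by
    rw [LinearMap.BilinMap.polar_toQuadraticMap]
    show f x y + f y x = _
    rw [hf.symm y x, two_mul]
  have hnd : NDPolar B.toQuadraticMap := fun x hx => by
    by_contra hne
    obtain ⟨-, y, hy⟩ := hf.nondegenerate x hne
    have := hx y
    rw [hpol] at this
    exact hy ((mul_eq_zero.mp this).resolve_left h2)
  obtain ⟨k, r, e, g, W, hn', hr, hfam, -, -, -, -⟩ :=
    FormsDisc.exists_decomp n B.toQuadraticMap hnd (by rw [finrank_fintype_fun_eq_card, Fintype.card_fin])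
  refine ⟨e ⟨0, by omega⟩, fun h0 => ?_, (hfam.sing _).1⟩
  have := hfam.pair ⟨0, by omega⟩ ⟨0, by omega⟩
  rw [h0, polar_zero_left, if_pos rfl] at this
  exact zero_ne_one this

omit [Fintype ι] [DecidableEq ι] [Fintype F] in
/-- a vector independent of a given one, orthogonal to it -/
lemma exists_orth_indep {n : ℕ} (hn : 3 ≤ n) {f : (Fin n → F) → (Fin n → F) → F} (hf : IsBilinearForm f)
    {v : Fin n → F} (hv : v ≠ 0) : ∃ w, LinearIndependent F ![v, w] ∧ f v w = 0 := by
  let φ : (Fin n → F) →ₗ[F] F :=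
    { toFun := f v
      map_add' := hf.add_right v
      map_smul' := fun c x => hf.smul_right c v x }
  have hk : 2 ≤ finrank F (LinearMap.ker φ) := by
    have h := LinearMap.finrank_range_add_finrank_ker φ
    have h1 : finrank F (LinearMap.range φ) ≤ 1 := (Submodule.finrank_le _).trans_eq (Module.finrank_self F)
    rw [finrank_fintype_fun_eq_card, Fintype.card_fin] at h
    omega
  by_contra hcon
  push Not at hcon
  have hle : LinearMap.ker φ ≤ Submodule.span F {v} := fun w hw => by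
    by_contra hw'
    exact hcon w ((LinearIndependent.pair_iff' hv).mpr fun a ha =>
      hw' (ha ▸ Submodule.smul_mem _ _ (Submodule.mem_span_singleton_self v))) hw
  have := (Submodule.finrank_mono hle).trans_eq (finrank_span_singleton hv)
  omega

/-- the stabiliser of a symmetric tensor product does not contain `Ω` -/
theorem omega_not_le_tensor_sym (hnd : NDPolar Q) (P₀ : Frame Q) (h2 : (2 : F) ≠ 0) (h₁ : 3 ≤ n₁) (h₂ : 3 ≤ n₂)
    (hf₁ : IsSymmetricForm f₁) (hf₂ : IsSymmetricForm f₂)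
    (hstr : IsTensorFormStructure id (polar ⇑Q) f₁ f₂ e P) :
    ¬ omegaGL ⇑Q ≤ tensorProductSubgroup n₁ n₂ e P := by
  obtain ⟨c, -, hpol⟩ := pure_polar hf₁.bilinear hf₂.bilinear hstr
  obtain ⟨u, hu0, hu⟩ := exists_isotropic h2 h₁ hf₁
  obtain ⟨u', hli, -⟩ := exists_orth_indep h₁ hf₁.bilinear hu0
  obtain ⟨v', hv0, hv'⟩ := exists_isotropic h2 h₂ hf₂
  obtain ⟨v, hliv, hvv⟩ := exists_orth_indep h₂ hf₂.bilinear hv0
  refine omega_not_le_tensor hnd P₀ e P hli (v := v) (v' := v')
    (LinearIndependent.pair_symm_iff.mp hliv) ?_ ?_ ?_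
  · refine (mul_eq_zero.mp ?_).resolve_left h2
    rw [← polar_self', hpol, hu, zero_mul, mul_zero]
  · refine (mul_eq_zero.mp ?_).resolve_left h2
    rw [← polar_self', hpol, hv', mul_zero, mul_zero]
  · rw [hpol, hf₂.symm v v', hvv, mul_zero, mul_zero]

/-- a plus-type second factor of dimension four makes the whole space plus -/
theorem plus_of_plus_factor (h2 : (2 : F) ≠ 0) {e : ι ≃ Fin 3 × Fin 4} {P : GL ι F}
    {f₁ : (Fin 3 → F) → (Fin 3 → F) → F} {f₂ : (Fin 4 → F) → (Fin 4 → F) → F}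
    (hf₁ : IsSymmetricForm f₁) (hf₂ : IsSymmetricForm f₂)
    (hstr : IsTensorFormStructure id (polar ⇑Q) f₁ f₂ e P)
    (hp : IsPlusTypeOn (fun v : Fin 4 → F => f₂ v v) ⊤) : IsPlusTypeOn ⇑Q ⊤ := by
  classical
  obtain ⟨c, -, hpol⟩ := pure_polar hf₁.bilinear hf₂.bilinear hstr
  obtain ⟨U, -, hU, hUd⟩ := hp
  rw [finrank_top, finrank_fintype_fun_eq_card, Fintype.card_fin] at hUd
  obtain ⟨w, hw⟩ := exists_linearIndependent_of_le_finrank (R := F) (M := U) (n := 2) (by omega)
  have hww : ∀ a b : U, f₂ (a : Fin 4 → F) b = 0 := fun a b => by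
    have h := hU _ (a + b).2
    simp only [Submodule.coe_add, hf₂.bilinear.add_left, hf₂.bilinear.add_right] at h
    rw [show f₂ (a : Fin 4 → F) a = 0 from hU _ a.2, show f₂ (b : Fin 4 → F) b = 0 from hU _ b.2,
      hf₂.symm b a] at h
    exact (mul_eq_zero.mp (show (2 : F) * f₂ (a : Fin 4 → F) b = 0 by linear_combination h)).resolve_left h2
  let L : (Fin 2 → F) →ₗ[F] (Fin 4 → F) := U.subtype.comp (Fintype.linearCombination F w)
  let M : (Fin 3 → Fin 2 → F) →ₗ[F] (ι → F) :=
    ∑ i : Fin 3, (pureL e P (Pi.single i 1)).comp (L.comp (LinearMap.proj i))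
  have hM : ∀ x, M x = ∑ i, pureL e P (Pi.single i 1) (L (x i)) := fun x => by
    simp [M, LinearMap.sum_apply]
  have hinj : Function.Injective M := by
    rw [injective_iff_map_eq_zero]
    intro x hx
    rw [hM] at hx
    funext i
    have h0 := ClassicalMax.Tensor.sum_eq_zero e P (u := fun i : Fin 3 => (Pi.single i 1 : Fin 3 → F))
      (Pi.linearIndependent_single_one (Fin 3) F) hx i
    exact (U.injective_subtype.comp hw.fintypeLinearCombination_injective)
      (show L (x i) = L 0 by rw [h0, map_zero])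
  have hpol0 : ∀ (a : Fin 3 → F) (y y' : Fin 2 → F) (a' : Fin 3 → F),
      polar Q (pureL e P a (L y)) (pureL e P a' (L y')) = 0 := fun a y y' a' => by
    rw [hpol, show f₂ (L y) (L y') = 0 from hww _ _, mul_zero, mul_zero]
  refine plus_top (U := LinearMap.range M) ?_ ?_
  · rintro _ ⟨x, rfl⟩
    refine (mul_eq_zero.mp ?_).resolve_left h2
    rw [← polar_self', hM, ← polarBilin_apply_apply]
    simp only [map_sum, LinearMap.sum_apply, polarBilin_apply_apply, hpol0, Finset.sum_const_zero]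
  · rw [LinearMap.finrank_range_of_inj hinj, Module.finrank_pi_fintype, Fintype.card_congr e]
    simp

end CfsgLib.Asch.Even
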