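import Cfsg.Agent.Lib.Aschbacher.EvenTwoFactor

/-!
# A symmetric `3 × 4` factorisation in plus type is an alternating `2 × 6` one
-/

set_option autoImplicit false

namespace CfsgLib.Asch.Even

open Matrix Cfsg.Geo QuadraticMap Module
open CfsgLib.Classical.Quad (NDPolar polar_self' polar_singular_self)
open CfsgLib.ClassicalMax.Tensor (pureL pureL_eq)
open scoped MatrixGroups Kronecker

/-- the determinant form on the plane -/
def det2 {F : Type*} [Field F] (x y : Fin 2 → F) : F := x 0 * y 1 - x 1 * y 0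

variable {F : Type*} [Field F]

lemma symplectic_det2 : IsSymplecticForm (det2 (F := F)) where
  bilinear :=
    { add_left := fun x y v => by simp [det2]; ring
      smul_left := fun c x v => by simp [det2]; ring
      add_right := fun v x y => by simp [det2]; ring
      smul_right := fun c v x => by simp [det2]; ring }
  skew := fun v w => by simp [det2]; ring
  alternating := fun v => by simp [det2]; ring
  nondegenerate := fun v hv => by
    by_cases h : v 0 = 0
    · have h1 : v 1 ≠ 0 := fun h1 => hv (by funext i; fin_cases i <;> assumption)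
      exact ⟨⟨![1, 0], by simp [det2, h1]⟩, ![1, 0], by simp [det2, h1]⟩
    · exact ⟨⟨![0, 1], by simp [det2, h]⟩, ![0, 1], by simp [det2, h]⟩

lemma smul_of_det2 {x y : Fin 2 → F} (hx : x ≠ 0) (h : det2 x y = 0) : ∃ c : F, y = c • x := by
  by_cases h0 : x 0 = 0
  · have h1 : x 1 ≠ 0 := fun h1 => hx (by funext i; fin_cases i <;> assumption)
    have hy : y 0 = 0 := by simpa [det2, h0, h1] using h
    refine ⟨y 1 / x 1, funext fun i => ?_⟩
    fin_cases i
    · simp [h0, hy]
    · simp [h1]
  · refine ⟨y 0 / x 0, funext fun i => ?_⟩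
    fin_cases i
    · simp [h0]
    · have : x 0 * y 1 = x 1 * y 0 := sub_eq_zero.mp h
      simp [div_mul_eq_mul_div, eq_div_iff h0]
      linear_combination this

variable [Fintype F] {ι : Type} [Fintype ι] [DecidableEq ι] {Q : QuadraticForm F (ι → F)}
  {e : ι ≃ Fin 3 × Fin 4} {P : GL ι F}
  {f₁ : (Fin 3 → F) → (Fin 3 → F) → F} {f₂ : (Fin 4 → F) → (Fin 4 → F) → F}

/-- the bilinear map of a family indexed by pairs -/
def pairMap (w : Fin 2 × Fin 2 → Fin 4 → F) : (Fin 2 → F) →ₗ[F] (Fin 2 → F) →ₗ[F] (Fin 4 → F) :=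
  LinearMap.mk₂ F (fun x y => ∑ p : Fin 2 × Fin 2, (x p.1 * y p.2) • w p)
    (fun x x' y => by simp [add_mul, add_smul, Finset.sum_add_distrib])
    (fun c x y => by simp [Finset.smul_sum, mul_assoc, smul_smul])
    (fun x y y' => by simp [mul_add, add_smul, Finset.sum_add_distrib])
    (fun c x y => by simp [Finset.smul_sum, smul_smul, mul_left_comm])

/-- a plus second factor: a hyperbolic basis; otherwise the space is not plus -/
theorem factor_cases (hnd : NDPolar Q) (h2 : (2 : F) ≠ 0) (hf₁ : IsSymmetricForm f₁) (hf₂ : IsSymmetricForm f₂)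
    (hstr : IsTensorFormStructure id (polar ⇑Q) f₁ f₂ e P) (hplus : IsPlusTypeOn ⇑Q ⊤) :
    ∃ w : Fin 2 × Fin 2 → Fin 4 → F, LinearIndependent F w ∧
      ∀ x y x' y', f₂ (pairMap w x y) (pairMap w x' y') = 2⁻¹ * (det2 x x' * det2 y y') := by
  classical
  let B₂ : LinearMap.BilinForm F (Fin 4 → F) := LinearMap.mk₂ F f₂ hf₂.bilinear.add_left
    hf₂.bilinear.smul_left hf₂.bilinear.add_right hf₂.bilinear.smul_right
  let B₁ : LinearMap.BilinForm F (Fin 3 → F) := LinearMap.mk₂ F f₁ hf₁.bilinear.add_left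
    hf₁.bilinear.smul_left hf₁.bilinear.add_right hf₁.bilinear.smul_right
  have hpol₂ : ∀ x y, polar B₂.toQuadraticMap x y = 2 * f₂ x y := fun x y => by
    rw [LinearMap.BilinMap.polar_toQuadraticMap]
    show f₂ x y + f₂ y x = _
    rw [hf₂.symm y x, two_mul]
  have hpol₁ : ∀ x y, polar B₁.toQuadraticMap x y = 2 * f₁ x y := fun x y => by
    rw [LinearMap.BilinMap.polar_toQuadraticMap]
    show f₁ x y + f₁ y x = _
    rw [hf₁.symm y x, two_mul]
  have hnd₂ : NDPolar B₂.toQuadraticMap := fun x hx => by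
    by_contra hne
    obtain ⟨-, y, hy⟩ := hf₂.nondegenerate x hne
    exact hy ((mul_eq_zero.mp (hpol₂ x y ▸ hx y)).resolve_left h2)
  have hnd₁ : NDPolar B₁.toQuadraticMap := fun x hx => by
    by_contra hne
    obtain ⟨-, y, hy⟩ := hf₁.nondegenerate x hne
    exact hy ((mul_eq_zero.mp (hpol₁ x y ▸ hx y)).resolve_left h2)
  obtain ⟨k, r, eb, fb, R, hn, hr, hfam, hR, hani, horth, -⟩ :=
    FormsDisc.exists_decomp 4 B₂.toQuadraticMap hnd₂ (by rw [finrank_fintype_fun_eq_card, Fintype.card_fin])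
  obtain ⟨k', r', e₁, f₁', R₁, hn', hr', hfam₁, hR₁, hani₁, horth₁, -⟩ :=
    FormsDisc.exists_decomp 3 B₁.toQuadraticMap hnd₁ (by rw [finrank_fintype_fun_eq_card, Fintype.card_fin])
  obtain ⟨c, hc0, hpol⟩ := pure_polar hf₁.bilinear hf₂.bilinear hstr
  have hhalf : ∀ {a b : F}, 2 * a = b → a = 2⁻¹ * b := fun h => by rw [← h, ← mul_assoc, inv_mul_cancel₀ h2, one_mul]
  obtain ⟨rfl, rfl⟩ | ⟨rfl, rfl⟩ : (k = 2 ∧ r = 0) ∨ (k = 1 ∧ r = 2) := by omega
  · let s : Fin 2 × Fin 2 → Fin 4 → F := fun p => ![![eb 0, eb 1], ![- fb 1, fb 0]] p.1 p.2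
    have hli := FormsDisc.linearIndependent_family B₂.toQuadraticMap hfam (κ := Fin 0) Fin.elim0
      linearIndependent_empty_type (fun c => c.elim0)
    have hee : ∀ i l, f₂ (eb i) (eb l) = 0 := fun i l =>
      (mul_eq_zero.mp ((hpol₂ _ _).symm.trans (hfam.iso i l).1)).resolve_left h2
    have hff : ∀ i l, f₂ (fb i) (fb l) = 0 := fun i l =>
      (mul_eq_zero.mp ((hpol₂ _ _).symm.trans (hfam.iso i l).2)).resolve_left h2
    have hef : ∀ i l, f₂ (eb i) (fb l) = if i = l then 2⁻¹ else 0 := fun i l => by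
      rw [hhalf ((hpol₂ _ _).symm.trans (hfam.pair i l))]
      split_ifs <;> simp
    refine ⟨s, ?_, fun x y x' y' => ?_⟩
    · rw [Fintype.linearIndependent_iff]
      intro g hg
      rw [Fintype.linearIndependent_iff] at hli
      have h0 := hli (Sum.elim (Sum.elim (fun i => g (0, i)) ![g (1, 1), -g (1, 0)]) Fin.elim0) (by
        rw [← hg]
        simp [Fintype.sum_sum_type, Fintype.sum_prod_type, Fin.sum_univ_two, s]
        abel)
      have a := h0 (.inl (.inl 0))
      have b := h0 (.inl (.inl 1))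
      have c := h0 (.inl (.inr 0))
      have d := h0 (.inl (.inr 1))
      simp at a b c d
      rintro ⟨i, l⟩
      fin_cases i <;> fin_cases l <;> assumption
    · have hneg : ∀ v, -v = (-1 : F) • (v : Fin 4 → F) := fun v => (neg_one_smul F v).symm
      have hb := hf₂.bilinear
      simp only [pairMap, LinearMap.mk₂_apply, Fintype.sum_prod_type, Fin.sum_univ_two, s, Matrix.cons_val_zero,
        Matrix.cons_val_one, hneg, hb.add_left, hb.add_right, hb.smul_left, hb.smul_right, hee, hff, hef,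
        hf₂.symm (fb _) (eb _), det2]
      norm_num
      ring
  · exfalso
    obtain ⟨rfl, rfl⟩ : k' = 1 ∧ r' = 1 := by omega
    obtain ⟨⟨u₀, hu₀⟩, hu₀ne⟩ := @exists_ne _ (Module.nontrivial_of_finrank_pos (R := F) (M := R₁) (by omega)) 0
    have hu₀0 : u₀ ≠ 0 := fun h => hu₀ne (Subtype.ext h)
    have hQu : f₁ u₀ u₀ ≠ 0 := fun h => hu₀0 (hani₁ u₀ hu₀ h)
    set x := e₁ 0
    have hx : f₁ x x = 0 := (hfam₁.sing 0).1
    have hxu : f₁ x u₀ = 0 := (mul_eq_zero.mp ((hpol₁ _ _).symm.trans (horth₁ u₀ hu₀ 0).1)).resolve_left h2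
    have hx0 : x ≠ 0 := fun h => by
      have := hfam₁.pair 0 0
      rw [show e₁ 0 = 0 from h, polar_zero_left, if_pos rfl] at this
      exact zero_ne_one this
    have he0 : eb 0 ≠ 0 := fun h => by
      have := hfam.pair 0 0
      rw [h, polar_zero_left, if_pos rfl] at this
      exact zero_ne_one this
    have hee : f₂ (eb 0) (eb 0) = 0 := (hfam.sing 0).1
    have hzero : ∀ v : ι → F, polar Q v v = 0 → Q v = 0 := fun v h =>
      (mul_eq_zero.mp ((polar_self' v).symm.trans h)).resolve_left h2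
    set U := LinearMap.range (pureL e P x) ⊔ Submodule.span F {pureL e P u₀ (eb 0)}
    have hne := ClassicalMax.Tensor.pureL_ne_zero e P hu₀0 he0
    have hli : LinearIndependent F ![x, u₀] := (LinearIndependent.pair_iff' hx0).mpr fun a ha => hQu (by
      rw [← ha, hf₁.bilinear.smul_left, hf₁.bilinear.smul_right, hx, mul_zero, mul_zero])
    have hinjx : Function.Injective (pureL e P x) := by
      rw [injective_iff_map_eq_zero]
      intro z hz
      by_contra hz0
      exact ClassicalMax.Tensor.pureL_ne_zero e P hx0 hz0 hz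
    have hinju : Function.Injective (pureL e P u₀) := by
      rw [injective_iff_map_eq_zero]
      intro z hz
      by_contra hz0
      exact ClassicalMax.Tensor.pureL_ne_zero e P hu₀0 hz0 hz
    have hUs : IsTotallySingularQuad ⇑Q U := by
      refine singular_sup ?_ ?_ ?_
      · rintro _ ⟨z, rfl⟩
        exact hzero _ (by rw [hpol, hx, zero_mul, mul_zero])
      · intro v hv
        obtain ⟨d, rfl⟩ := Submodule.mem_span_singleton.mp hv
        rw [QuadraticMap.map_smul, hzero _ (by rw [hpol, hee, mul_zero, mul_zero]), smul_zero]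
      · rintro _ ⟨z, rfl⟩ v hv
        obtain ⟨d, rfl⟩ := Submodule.mem_span_singleton.mp hv
        rw [polar_smul_right, hpol, hxu, zero_mul, mul_zero, smul_zero]
    have hUd : finrank F U = 5 := by
      rw [finrank_sup_disjoint, LinearMap.finrank_range_of_inj hinjx, finrank_span_singleton hne,
        finrank_fintype_fun_eq_card, Fintype.card_fin]
      rw [Submodule.disjoint_span_singleton' hne]
      rintro ⟨z, hz⟩
      exact he0 (neg_eq_zero.mp (ClassicalMax.Tensor.eq_zero_of_add e P hli (i := 0) (j := 1) (by decide)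
        (w := z) (w' := -eb 0) (by simp [hz])).2)
    refine not_plus_of_aniso hnd hUs (by rw [hUd, Fintype.card_congr e]; simp)
      (P := R.map (pureL e P u₀)) ?_ ?_ ?_ hplus
    · rw [← (Submodule.equivMapOfInjective _ hinju R).finrank_eq, hR]
    · rintro _ ⟨z, hz, rfl⟩ h0
      have h1 := hpol u₀ u₀ z z
      rw [polar_self', h0, mul_zero] at h1
      rw [hani z hz ((mul_eq_zero.mp ((mul_eq_zero.mp h1.symm).resolve_left hc0)).resolve_left hQu), map_zero]
    · intro u hu v hv
      obtain ⟨z, hz, rfl⟩ := hv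
      have hez : f₂ (eb 0) z = 0 := (mul_eq_zero.mp ((hpol₂ _ _).symm.trans (horth z hz 0).1)).resolve_left h2
      obtain ⟨_, ⟨y, rfl⟩, b, hb, rfl⟩ := Submodule.mem_sup.mp hu
      obtain ⟨d, rfl⟩ := Submodule.mem_span_singleton.mp hb
      rw [polar_add_left, polar_smul_left, hpol, hpol, hxu, hez]
      simp

omit [Fintype F] in
/-- the coefficients of a combination of pure tensors -/
lemma pure_coeff {w : Fin 2 × Fin 2 → Fin 4 → F} (hw : LinearIndependent F w) {x x' y y' : Fin 2 → F}
    (h : pairMap w x y = pairMap w x' y') (a b : Fin 2) : x a * y b = x' a * y' b := by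
  have := Fintype.linearIndependent_iff.mp hw (fun p => x p.1 * y p.2 - x' p.1 * y' p.2) (by
    simp only [sub_smul, Finset.sum_sub_distrib]
    exact sub_eq_zero.mpr h) (a, b)
  exact sub_eq_zero.mp this

omit [Fintype F] in
/-- a vector of value zero is a pure tensor -/
lemma exists_pairMap {w : Fin 2 × Fin 2 → Fin 4 → F} (hw : LinearIndependent F w) {f : (Fin 4 → F) → (Fin 4 → F) → F}
    (h2 : (2 : F) ≠ 0) (hb : IsBilinearForm f)
    (hgram : ∀ x y x' y', f (pairMap w x y) (pairMap w x' y') = 2⁻¹ * (det2 x x' * det2 y y'))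
    {v : Fin 4 → F} (hv : f v v = 0) : ∃ x y, v = pairMap w x y := by
  obtain ⟨m, rfl⟩ := (Submodule.mem_span_range_iff_exists_fun F).mp
    (show v ∈ Submodule.span F (Set.range w) by rw [hw.span_eq_top_of_card_eq_finrank (by simp)]; trivial)
  have hrows : (∑ p, m p • w p) = pairMap w (Pi.single 0 1) (fun b => m (0, b))
      + pairMap w (Pi.single 1 1) (fun b => m (1, b)) := by
    simp [pairMap, Fintype.sum_prod_type, Fin.sum_univ_two]
  have hdet : m (0, 0) * m (1, 1) = m (0, 1) * m (1, 0) := by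
    rw [hrows, hb.add_left, hb.add_right, hb.add_right, hgram, hgram, hgram, hgram] at hv
    simp [det2] at hv
    field_simp at hv
    refine sub_eq_zero.mp ((mul_eq_zero.mp (show (2 : F) * (m (0, 0) * m (1, 1) - m (0, 1) * m (1, 0)) = 0 by
      linear_combination hv)).resolve_left h2)
  have key : ∀ x y : Fin 2 → F, (∀ a b, m (a, b) = x a * y b) → (∑ p, m p • w p) = pairMap w x y :=
    fun x y h => by
      simp only [pairMap, LinearMap.mk₂_apply]
      exact Finset.sum_congr rfl fun p _ => by rw [← h]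
  by_cases h00 : m (0, 0) = 0
  · rw [h00, zero_mul, eq_comm, mul_eq_zero] at hdet
    by_cases h01 : m (0, 1) = 0
    · exact ⟨![0, 1], ![m (1, 0), m (1, 1)], key _ _ fun a b => by fin_cases a <;> fin_cases b <;> simp [h00, h01]⟩
    · refine ⟨![1, m (1, 1) / m (0, 1)], ![0, m (0, 1)], key _ _ fun a b => ?_⟩
      fin_cases a <;> fin_cases b <;> simp [h00, h01, hdet.resolve_left h01]
  · refine ⟨![1, m (1, 0) / m (0, 0)], ![m (0, 0), m (0, 1)], key _ _ fun a b => ?_⟩
    fin_cases a <;> fin_cases b <;> simp [h00]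
    field_simp
    linear_combination hdet

omit [Fintype F] in
/-- expansion of the first factor -/
lemma pureL_expand (u : Fin 3 → F) (v : Fin 4 → F) :
    pureL e P u v = ∑ i, u i • pureL e P (Pi.single i 1) v := by
  simp only [pureL_eq, ← mulVec_smul, ← Matrix.mulVec_sum]
  congr 1
  funext j
  simp [Finset.sum_apply, Pi.single_apply]

variable [Nonempty ι]

set_option maxHeartbeats 1000000 in
/-- a group in `Ω` fixing a symmetric `3 × 4` factorisation fixes an alternating `2 × 6` one -/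
theorem alt_of_sym (hnd : NDPolar Q) (h2 : (2 : F) ≠ 0) (hf₁ : IsSymmetricForm f₁) (hf₂ : IsSymmetricForm f₂)
    (hstr : IsTensorFormStructure id (polar ⇑Q) f₁ f₂ e P) (hplus : IsPlusTypeOn ⇑Q ⊤)
    {H : Subgroup (GL ι F)} (hH : H ≤ omegaGL ⇑Q) (hle : H ≤ tensorProductSubgroup 3 4 e P) :
    ∃ (e' : ι ≃ Fin 2 × Fin 6) (P' : GL ι F) (g₁ : (Fin 2 → F) → (Fin 2 → F) → F)
      (g₂ : (Fin 6 → F) → (Fin 6 → F) → F), IsSymplecticForm g₁ ∧ IsSymplecticForm g₂ ∧
      IsTensorFormStructure id (polar ⇑Q) g₁ g₂ e' P' ∧ (∀ u v, Q (pureL e' P' u v) = 0) ∧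
      H ≤ tensorProductSubgroup 2 6 e' P' := by
  classical
  have hι : Fintype.card ι = 12 := by rw [Fintype.card_congr e]; simp
  obtain ⟨c, hc0, hpol⟩ := pure_polar hf₁.bilinear hf₂.bilinear hstr
  obtain ⟨w, hw, hgram⟩ := factor_cases hnd h2 hf₁ hf₂ hstr hplus
  obtain ⟨ρ⟩ : Nonempty (Fin 6 ≃ Fin 3 × Fin 2) := ⟨(finProdFinEquiv (m := 3) (n := 2)).symm⟩
  let δ : Fin 3 → Fin 3 → F := fun i => Pi.single i 1
  have hδ : LinearIndependent F δ := Pi.linearIndependent_single_one (Fin 3) F
  let B : Fin 2 × Fin 6 → ι → F := fun p => pureL e P (δ (ρ p.2).1) (w (p.1, (ρ p.2).2))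
  have hB : LinearIndependent F B := by
    have h0 : LinearIndependent F (fun q : Fin 3 × (Fin 2 × Fin 2) => pureL e P (δ q.1) (w q.2)) := by
      rw [Fintype.linearIndependent_iff]
      intro g hg q
      rw [Fintype.sum_prod_type] at hg
      simp only [← map_smul, ← map_sum] at hg
      exact Fintype.linearIndependent_iff.mp hw (fun p => g (q.1, p))
        (ClassicalMax.Tensor.sum_eq_zero e P hδ hg q.1) q.2
    have h1 := h0.comp (fun p : Fin 2 × Fin 6 => ((ρ p.2).1, (p.1, (ρ p.2).2))) fun p q hpq => by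
      simp only [Prod.mk.injEq] at hpq
      exact Prod.ext hpq.2.1 (ρ.injective (Prod.ext hpq.1 hpq.2.2))
    exact h1
  obtain ⟨e'⟩ : Nonempty (ι ≃ Fin 2 × Fin 6) := ⟨Fintype.equivOfCardEq (by simp [hι])⟩
  obtain ⟨P', hP'⟩ := exists_pure_basis e' hB
  let row : (Fin 6 → F) → Fin 3 → Fin 2 → F := fun z i b => z (ρ.symm (i, b))
  have hpure : ∀ x z, pureL e' P' x z = ∑ i, pureL e P (δ i) (pairMap w x (row z i)) := fun x z => by
    rw [hP', Fintype.sum_prod_type, Finset.sum_comm, ← ρ.symm.sum_comp, Fintype.sum_prod_type]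
    simp only [B, row, pairMap, LinearMap.mk₂_apply, Equiv.apply_symm_apply, Fintype.sum_prod_type, map_sum,
      map_smul]
    refine Finset.sum_congr rfl fun i _ => ?_
    rw [Finset.sum_comm]
  let g₂ : (Fin 6 → F) → (Fin 6 → F) → F := fun z z' =>
    ∑ i, ∑ l, f₁ (δ i) (δ l) * det2 (row z i) (row z' l)
  have hd2 := (symplectic_det2 (F := F)).bilinear
  have hrow : ∀ z z', row (z + z') = row z + row z' := fun z z' => rfl
  have hrows : ∀ (a : F) z, row (a • z) = a • row z := fun a z => rfl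
  have hg2b : IsBilinearForm g₂ :=
    { add_left := fun x y v => by simp [g₂, hrow, hd2.add_left, mul_add, Finset.sum_add_distrib]
      smul_left := fun a x v => by simp [g₂, hrows, hd2.smul_left, Finset.mul_sum, mul_left_comm]
      add_right := fun v x y => by simp [g₂, hrow, hd2.add_right, mul_add, Finset.sum_add_distrib]
      smul_right := fun a v x => by simp [g₂, hrows, hd2.smul_right, Finset.mul_sum, mul_left_comm] }
  have hpol' : ∀ u u' z z', polar Q (pureL e' P' u z) (pureL e' P' u' z') = c * 2⁻¹ * (det2 u u' * g₂ z z') := by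
    intro u u' z z'
    rw [hpure, hpure, ← polarBilin_apply_apply]
    simp only [map_sum, LinearMap.sum_apply, polarBilin_apply_apply, hpol, hgram, g₂, Finset.mul_sum]
    rw [Finset.sum_comm]
    exact Finset.sum_congr rfl fun i _ => Finset.sum_congr rfl fun l _ => by ring
  have hskew : ∀ z z', g₂ z z' = - g₂ z' z := fun z z' => by
    simp only [g₂, ← Finset.sum_neg_distrib]
    rw [Finset.sum_comm]
    exact Finset.sum_congr rfl fun i _ => Finset.sum_congr rfl fun l _ => by
      rw [hf₁.symm (δ l) (δ i), symplectic_det2.skew (row z l), mul_neg]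
  have halt : ∀ z, g₂ z z = 0 := fun z =>
    (mul_eq_zero.mp (show (2 : F) * g₂ z z = 0 by linear_combination hskew z z)).resolve_left h2
  have hg2 : IsSymplecticForm g₂ := by
    refine ⟨hg2b, hskew, halt, fun z hz => ?_⟩
    obtain ⟨z', hz'⟩ : ∃ z', g₂ z z' ≠ 0 := by
      by_contra hcon
      push Not at hcon
      refine hz ?_
      by_contra hz0
      refine ClassicalMax.Tensor.pureL_ne_zero e' P' (u := ![1, 0]) (fun h => by simpa using congrFun h 0) hz0
        (hnd _ fun v => ?_)
      have hv := mulVec_sum_single P' e' (fun p => (((P'⁻¹ : GL ι F) : Matrix ι ι F) *ᵥ v) (e'.symm p))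
      have hcomp : ((fun p => (((P'⁻¹ : GL ι F) : Matrix ι ι F) *ᵥ v) (e'.symm p)) ∘ e')
          = ((P'⁻¹ : GL ι F) : Matrix ι ι F) *ᵥ v := funext fun i => by simp
      rw [hcomp, mulVec_mulVec, Units.mul_inv, one_mulVec] at hv
      rw [hv, ← polarBilin_apply_apply]
      simp [map_sum, hpol', hcon]
    exact ⟨⟨z', by rw [hskew]; exact neg_ne_zero.mpr hz'⟩, z', hz'⟩
  have hQ0 : ∀ u z, Q (pureL e' P' u z) = 0 := fun u z => by
    refine (mul_eq_zero.mp ?_).resolve_left h2
    rw [← polar_self', hpol', halt, mul_zero, mul_zero]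
  refine ⟨e', P', det2, g₂, symplectic_det2, hg2,
    structure_of_pure (mul_ne_zero hc0 (inv_ne_zero h2)) hpol', hQ0, fun g hgH => ?_⟩
  refine mem_tensor_two e' P' (by norm_num) fun x hx => ?_
  obtain ⟨a, b, hab⟩ := ClassicalMax.Tensor.exists_factors e P (hle hgH)
  have hiso : ∀ v v', polar Q ((g : Matrix ι ι F) *ᵥ v) ((g : Matrix ι ι F) *ᵥ v') = polar Q v v' := fun v v' =>
    isometry_polar (fixes_omega hH g hgH) v v'
  -- the image of a ruling line is totally singular
  set bM : (Fin 2 → F) →ₗ[F] (Fin 4 → F) := (Matrix.toLin' (b : Matrix (Fin 4) (Fin 4) F)).comp (pairMap w x)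
  have hbM : ∀ y y', f₂ (bM y) (bM y') = 0 := fun y y' => by
    obtain ⟨u, u', huu⟩ : ∃ u u', f₁ ((a : Matrix (Fin 3) (Fin 3) F) *ᵥ u) ((a : Matrix (Fin 3) (Fin 3) F) *ᵥ u') ≠ 0 := by
      obtain ⟨⟨t, ht⟩, -⟩ := hf₁.nondegenerate (δ 0) (by simp [δ])
      exact ⟨((a⁻¹ : GL (Fin 3) F) : Matrix (Fin 3) (Fin 3) F) *ᵥ t,
        ((a⁻¹ : GL (Fin 3) F) : Matrix (Fin 3) (Fin 3) F) *ᵥ δ 0, by simpa [mulVec_mulVec] using ht⟩
    have h := hiso (pureL e P u (pairMap w x y)) (pureL e P u' (pairMap w x y'))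
    rw [hab, hab, hpol, hpol, hgram, symplectic_det2.alternating, zero_mul, mul_zero, mul_zero, mul_zero,
      mul_eq_zero, mul_eq_zero] at h
    simpa [bM, Matrix.toLin'_apply] using (h.resolve_left hc0).resolve_left huu
  have hbMinj : ∀ y, bM y = 0 → y = 0 := fun y hy => by
    have h0 : pairMap w x y = pairMap w x 0 := by
      rw [map_zero]
      exact ClassicalMax.gl_mulVec_injective b (by simpa [bM, Matrix.toLin'_apply] using hy)
    obtain ⟨i, hi⟩ := Function.ne_iff.mp hx
    funext l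
    have := pure_coeff hw h0 i l
    simpa [show x i ≠ 0 from hi] using this
  obtain ⟨x₁, y₁, h₁⟩ := exists_pairMap hw h2 hf₂.bilinear hgram (hbM (Pi.single 0 1) (Pi.single 0 1))
  obtain ⟨x₂, y₂, h₂⟩ := exists_pairMap hw h2 hf₂.bilinear hgram (hbM (Pi.single 1 1) (Pi.single 1 1))
  have hx₁ : x₁ ≠ 0 := fun h => (by simp : (Pi.single 0 1 : Fin 2 → F) ≠ 0) (hbMinj _ (by rw [h₁, h]; simp))
  have hy₁ : y₁ ≠ 0 := fun h => (by simp : (Pi.single 0 1 : Fin 2 → F) ≠ 0) (hbMinj _ (by rw [h₁, h]; simp))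
  have hbMy : ∀ y, bM y = y 0 • pairMap w x₁ y₁ + y 1 • pairMap w x₂ y₂ := fun y => by
    conv_lhs => rw [show y = y 0 • (Pi.single 0 1 : Fin 2 → F) + y 1 • Pi.single 1 1 by
      funext i; fin_cases i <;> simp]
    rw [map_add, map_smul, map_smul, h₁, h₂]
  have hdet : det2 x₁ x₂ = 0 ∨ det2 y₁ y₂ = 0 := by
    have h := hbM (Pi.single 0 1) (Pi.single 1 1)
    rw [h₁, h₂, hgram] at h
    exact mul_eq_zero.mp ((mul_eq_zero.mp h).resolve_left (inv_ne_zero h2))
  have hgim : ∀ z, (g : Matrix ι ι F) *ᵥ pureL e' P' x z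
      = ∑ i, pureL e P ((a : Matrix (Fin 3) (Fin 3) F) *ᵥ δ i) (bM (row z i)) := fun z => by
    rw [hpure, Matrix.mulVec_sum]
    exact Finset.sum_congr rfl fun i _ => by rw [hab]; rfl
  rcases hdet with hd | hd
  · obtain ⟨l, rfl⟩ := smul_of_det2 hx₁ hd
    refine ⟨x₁, fun z => ?_⟩
    rw [hgim]
    refine Submodule.sum_mem _ fun i _ => ?_
    set u := (a : Matrix (Fin 3) (Fin 3) F) *ᵥ δ i
    have hy : bM (row z i) = pairMap w x₁ (row z i 0 • y₁ + (row z i 1 * l) • y₂) := by
      rw [hbMy, map_smul (pairMap w) l x₁, LinearMap.smul_apply, smul_smul, map_add, map_smul, map_smul]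
    rw [hy]
    set y' := row z i 0 • y₁ + (row z i 1 * l) • y₂
    refine ⟨fun j => u (ρ j).1 * y' (ρ j).2, ?_⟩
    rw [hpure]
    have hrow' : ∀ i, row (fun j => u (ρ j).1 * y' (ρ j).2) i = u i • y' := fun i => by
      funext b; simp [row]
    simp only [hrow', map_smul]
    exact (pureL_expand u _).symm
  · exfalso
    obtain ⟨l, rfl⟩ := smul_of_det2 hy₁ hd
    set U := LinearMap.range (pureL e' P' x)
    have hinjx : Function.Injective (pureL e' P' x) := by
      rw [injective_iff_map_eq_zero]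
      intro z hz
      by_contra hz0
      exact ClassicalMax.Tensor.pureL_ne_zero e' P' hx hz0 hz
    have hUd : finrank F U = 6 := by
      rw [LinearMap.finrank_range_of_inj hinjx, finrank_fintype_fun_eq_card, Fintype.card_fin]
    have heven := ClassicalMax.OmE.omega_family hnd (by omega) (U := U)
      (by rintro _ ⟨z, rfl⟩; exact hQ0 x z) (by omega) (hH hgH)
    let N : (Fin 3 → Fin 2 → F) →ₗ[F] (ι → F) :=
      ∑ i : Fin 3, (pureL e P (δ i)).comp (((pairMap w).flip y₁).comp (LinearMap.proj i))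
    have hN : ∀ t, N t = ∑ i, pureL e P (δ i) (pairMap w (t i) y₁) := fun t => by simp [N]
    have hmap : U.map (Matrix.mulVecLin (g : Matrix ι ι F)) ≤ LinearMap.range N := by
      rintro _ ⟨_, ⟨z, rfl⟩, rfl⟩
      rw [Matrix.mulVecLin_apply, hgim]
      refine Submodule.sum_mem _ fun i _ => ?_
      set u := (a : Matrix (Fin 3) (Fin 3) F) *ᵥ δ i
      set t := row z i 0 • x₁ + (row z i 1 * l) • x₂
      have hy : bM (row z i) = pairMap w t y₁ := by
        rw [hbMy, map_smul (pairMap w x₂) l y₁, smul_smul]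
        simp [t]
      rw [hy]
      refine ⟨fun i => u i • t, ?_⟩
      rw [hN]
      simp only [map_smul, LinearMap.smul_apply]
      exact (pureL_expand u _).symm
    have hd6 : finrank F (U.map (Matrix.mulVecLin (g : Matrix ι ι F))) = 6 := by
      rw [← (Submodule.equivMapOfInjective _ (fun v v' h => ClassicalMax.gl_mulVec_injective g (by
        simpa using h)) U).finrank_eq, hUd]
    have hN6 : finrank F (LinearMap.range N) ≤ 6 := by
      refine (LinearMap.finrank_range_le N).trans_eq ?_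
      simp [Module.finrank_pi_fintype]
    rw [Submodule.eq_of_le_of_finrank_le hmap (by omega)] at heven
    let L : (Fin 3 → F) →ₗ[F] (ι → F) :=
      ∑ i : Fin 3, ((pureL e P (δ i)).comp ((LinearMap.proj i).smulRight (pairMap w x y₁)))
    have hL : ∀ s, L s = ∑ i, pureL e P (δ i) (s i • pairMap w x y₁) := fun s => by simp [L]
    have hint : U ⊓ LinearMap.range N = LinearMap.range L := by
      refine le_antisymm ?_ ?_
      · rintro _ ⟨⟨z, rfl⟩, t, ht⟩
        obtain ⟨ia, hia⟩ := Function.ne_iff.mp hx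
        refine ⟨fun i => t i ia / x ia, ?_⟩
        rw [hL, hpure]
        refine Finset.sum_congr rfl fun i _ => congrArg _ ?_
        rw [hN, hpure, ← sub_eq_zero, ← Finset.sum_sub_distrib] at ht
        simp only [← map_sub] at ht
        have h3 := sub_eq_zero.mp (ClassicalMax.Tensor.sum_eq_zero e P hδ ht i)
        rw [← map_smul]
        congr 1
        funext l
        have h4 := pure_coeff hw h3 ia l
        have hia' : x ia ≠ 0 := hia
        simp only [Pi.smul_apply, smul_eq_mul]
        field_simp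
        linear_combination h4
      · rintro _ ⟨s, rfl⟩
        refine ⟨⟨fun j => s (ρ j).1 * y₁ (ρ j).2, ?_⟩, fun i => s i • x, ?_⟩
        · rw [hpure, hL]
          refine Finset.sum_congr rfl fun i _ => congrArg _ ?_
          rw [← map_smul]
          congr 1
          funext b; simp [row]
        · rw [hN, hL]
          simp only [map_smul, LinearMap.smul_apply]
    have hLinj : Function.Injective L := by
      rw [injective_iff_map_eq_zero]
      intro s hs
      rw [hL] at hs
      funext i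
      have h3 := ClassicalMax.Tensor.sum_eq_zero e P hδ hs i
      refine (smul_eq_zero.mp h3).resolve_right fun h0 => ?_
      obtain ⟨ia, hia⟩ := Function.ne_iff.mp hx
      obtain ⟨l', hl'⟩ := Function.ne_iff.mp hy₁
      have := pure_coeff hw (h0.trans (LinearMap.map_zero (pairMap w x)).symm) ia l'
      simp only [Pi.zero_apply, mul_zero, mul_eq_zero] at this
      exact this.elim hia hl'
    rw [hint, LinearMap.finrank_range_of_inj hLinj, hUd, finrank_fintype_fun_eq_card, Fintype.card_fin] at heven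
    exact (by decide : ¬ Even (6 - 3)) heven

end CfsgLib.Asch.Even
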