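import Cfsg.Prelude.Def_GeometricClasses

/-!
# The outcomes of the subgroup-structure theorems for groups of isometries
-/

set_option autoImplicit false

namespace CfsgLib.Asch

open Matrix Cfsg.Geo
open scoped MatrixGroups

variable {F : Type*} [Field F] [Fintype F]

/-- where a subgroup of the symplectic group lies -/
inductive SympCase (m : ℕ) (H : Subgroup (GL (Fin m ⊕ Fin m) F)) : Prop
  | singular (W : Submodule F (Fin m ⊕ Fin m → F)) (h0 : W ≠ ⊥)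
      (hs : IsTotallySingularFor (Cfsg.sympForm m F) W) (hle : H ≤ subspaceStabilizer W)
  | nondeg (W : Submodule F (Fin m ⊕ Fin m → F)) (h0 : W ≠ ⊥)
      (hnd : IsNondegenerateOn (Cfsg.sympForm m F) W) (hd : Module.finrank F W < m)
      (hle : H ≤ subspaceStabilizer W)
  | decomp (t k : ℕ) (D : Fin t → Submodule F (Fin m ⊕ Fin m → F))
      (hD : IsNondegenerateMDecomposition (Cfsg.sympForm m F) k D) (htk : t * k = 2 * m)
      (hle : H ≤ decompositionStabilizer D)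
  | pair (D : Fin 2 → Submodule F (Fin m ⊕ Fin m → F)) (hodd : Odd (Fintype.card F))
      (hD : IsMDecomposition m D) (hs : ∀ i, IsTotallySingularFor (Cfsg.sympForm m F) (D i))
      (hle : H ≤ decompositionStabilizer D)
  | selfField (r : ℕ) (K : Subalgebra F (Matrix (Fin m ⊕ Fin m) (Fin m ⊕ Fin m) F)) (hr : r.Prime)
      (hK : IsFieldSubalgebra r K) (hrm : r ∣ m) (hself : IsSelfAdjointFor (Cfsg.sympForm m F) K)
      (hskew : ∀ k ∈ K, ∀ v, Cfsg.sympForm m F (k *ᵥ v) v = 0) (hle : H ≤ subalgebraNormalizer K)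
  | adjField (K : Subalgebra F (Matrix (Fin m ⊕ Fin m) (Fin m ⊕ Fin m) F)) (hodd : Odd (Fintype.card F))
      (hK : IsFieldSubalgebra 2 K) (hadj : IsAdjointClosedFor (Cfsg.sympForm m F) K)
      (hns : ¬ IsSelfAdjointFor (Cfsg.sympForm m F) K) (hle : H ≤ subalgebraNormalizer K)
  | tensor (n₁ n₂ : ℕ) (e : (Fin m ⊕ Fin m) ≃ Fin n₁ × Fin n₂) (P : GL (Fin m ⊕ Fin m) F)
      (f₁ : (Fin n₁ → F) → (Fin n₁ → F) → F) (f₂ : (Fin n₂ → F) → (Fin n₂ → F) → F)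
      (hodd : Odd (Fintype.card F)) (h₁ : 2 ≤ n₁) (h₁e : Even n₁) (h₂ : 3 ≤ n₂) (hn : n₁ * n₂ = 2 * m)
      (hf₁ : IsSymplecticForm f₁) (hf₂ : IsSymmetricForm f₂)
      (hstr : IsTensorFormStructure id (Cfsg.sympForm m F) f₁ f₂ e P)
      (hle : H ≤ tensorProductSubgroup n₁ n₂ e P)
  | subfield (F₀ : Subfield F) (r : ℕ) (P : GL (Fin m ⊕ Fin m) F) (ζ : F) (hr : r.Prime)
      (hc : Fintype.card F = Nat.card F₀ ^ r) (hζ : ζ ≠ 0)
      (hrat : IsFormRationalStructure (Cfsg.sympForm m F) F₀ ζ P) (hle : H ≤ subfieldSubgroup F₀ P)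
  | sympType (R : Subgroup (GL (Fin m ⊕ Fin m) F)) (p k : ℕ) (hR : IsSymplecticTypeGroup 2 R)
      (hirr : ActsAbsolutelyIrreducibly (matrixSet R)) (hsim : R ≤ similarityGroup (Cfsg.sympForm m F))
      (hp : p.Prime) (hpo : Odd p) (hF : Fintype.card F = p) (hcard : Nat.card R = 2 ^ (1 + 2 * k))
      (hz : Nat.card (Subgroup.center R) = 2) (hminus : IsOfMinusType k R) (hk : 2 ^ k = 2 * m)
      (hle : H ≤ subgroupNormalizer R)
  | quad (Q : (Fin m ⊕ Fin m → F) → F) (heven : ¬ Odd (Fintype.card F))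
      (hQ : IsNondegenerateQuadraticForm Q)
      (hpol : ∀ u v, QuadraticMap.polar Q u v = Cfsg.sympForm m F u v) (hle : H ≤ quadSimilarityGroup Q)
  | wreath (k t : ℕ) (e : (Fin m ⊕ Fin m) ≃ (Fin t → Fin k)) (P : GL (Fin m ⊕ Fin m) F)
      (f₁ : (Fin k → F) → (Fin k → F) → F) (hodd : Odd (Fintype.card F)) (hk : 2 ≤ k) (ht : Odd t)
      (ht3 : 3 ≤ t) (hex : ¬ (Fintype.card F = 3 ∧ k = 2)) (hn : k ^ t = 2 * m)
      (hf₁ : IsSymplecticForm f₁) (hstr : IsTensorPowerFormStructure id (Cfsg.sympForm m F) f₁ e P)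
      (hle : H ≤ tensorWreathSubgroup k t e P)
  | residual (h : InSymplecticResidualClass H)

/-- where a subgroup of the unitary group lies -/
inductive UnitCase (n q : ℕ) (H : Subgroup (GL (Fin n) F)) : Prop
  | singular (W : Submodule F (Fin n → F)) (h0 : W ≠ ⊥)
      (hs : IsTotallySingularFor (Cfsg.hermForm n F q) W) (hle : H ≤ subspaceStabilizer W)
  | nondeg (W : Submodule F (Fin n → F)) (h0 : W ≠ ⊥) (hnd : IsNondegenerateOn (Cfsg.hermForm n F q) W)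
      (hd : 2 * Module.finrank F W < n) (hle : H ≤ subspaceStabilizer W)
  | decomp (t k : ℕ) (D : Fin t → Submodule F (Fin n → F))
      (hD : IsNondegenerateMDecomposition (Cfsg.hermForm n F q) k D) (htk : t * k = n)
      (hle : H ≤ decompositionStabilizer D)
  | pair (k : ℕ) (D : Fin 2 → Submodule F (Fin n → F)) (hk : 2 * k = n) (hD : IsMDecomposition k D)
      (hs : ∀ i, IsTotallySingularFor (Cfsg.hermForm n F q) (D i)) (hle : H ≤ decompositionStabilizer D)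
  | extField (r : ℕ) (K : Subalgebra F (Matrix (Fin n) (Fin n) F)) (hr : r.Prime) (hro : Odd r)
      (hrn : r ∣ n) (hK : IsFieldSubalgebra r K) (hadj : IsAdjointClosedFor (Cfsg.hermForm n F q) K)
      (hle : H ≤ subalgebraNormalizer K)
  | tensor (n₁ n₂ : ℕ) (e : Fin n ≃ Fin n₁ × Fin n₂) (P : GL (Fin n) F)
      (f₁ : (Fin n₁ → F) → (Fin n₁ → F) → F) (f₂ : (Fin n₂ → F) → (Fin n₂ → F) → F)
      (h₁ : 2 ≤ n₁) (h₁₂ : n₁ < n₂) (hn : n₁ * n₂ = n) (hf₁ : IsUnitaryFormPow q f₁)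
      (hf₂ : IsUnitaryFormPow q f₂)
      (hstr : IsTensorFormStructure (fun x : F => x ^ q) (Cfsg.hermForm n F q) f₁ f₂ e P)
      (hle : H ≤ tensorProductSubgroup n₁ n₂ e P)
  | wreath (k t : ℕ) (e : Fin n ≃ (Fin t → Fin k)) (P : GL (Fin n) F)
      (f₁ : (Fin k → F) → (Fin k → F) → F) (hk : 3 ≤ k) (ht : 2 ≤ t) (hex : ¬ (q = 2 ∧ k = 3))
      (hn : k ^ t = n) (hf₁ : IsUnitaryFormPow q f₁)
      (hstr : IsTensorPowerFormStructure (fun x : F => x ^ q) (Cfsg.hermForm n F q) f₁ e P)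
      (hle : H ≤ tensorWreathSubgroup k t e P)
  | subfieldOdd (F₀ : Subfield F) (r : ℕ) (P : GL (Fin n) F) (hr : r.Prime) (hro : Odd r)
      (hc : Fintype.card F = Nat.card F₀ ^ r) (hrat : IsFormRationalStructure (Cfsg.hermForm n F q) F₀ 1 P)
      (hle : H ≤ subfieldSubgroup F₀ P)
  | subfieldOrth (F₀ : Subfield F) (P : GL (Fin n) F) (hqo : Odd q) (hc : Fintype.card F = Nat.card F₀ ^ 2)
      (hrat : IsFormRationalStructure (Cfsg.hermForm n F q) F₀ 1 P) (hle : H ≤ subfieldSubgroup F₀ P)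
  | subfieldSymp (F₀ : Subfield F) (P : GL (Fin n) F) (ζ : F) (hne : Even n)
      (hc : Fintype.card F = Nat.card F₀ ^ 2) (hζ : ζ ≠ 0) (hζq : ζ + ζ ^ q = 0)
      (hrat : IsFormRationalStructure (Cfsg.hermForm n F q) F₀ ζ P)
      (halt : ∀ u : Fin n → F, (∀ i, u i ∈ F₀) → Cfsg.hermForm n F q ((P : Matrix (Fin n) (Fin n) F) *ᵥ u)
        ((P : Matrix (Fin n) (Fin n) F) *ᵥ u) = 0)
      (hle : H ≤ subfieldSubgroup F₀ P)
  | sympType (r : ℕ) (R : Subgroup (GL (Fin n) F)) (p e k : ℕ) (hR : IsSymplecticTypeGroup r R)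
      (hirr : ActsAbsolutelyIrreducibly (matrixSet R)) (hsim : R ≤ similarityGroup (Cfsg.hermForm n F q))
      (hrp : r ≠ p) (hmin : IsMinimalFieldFor (Nat.card (Subgroup.center R)) p e F) (hk : 1 ≤ k)
      (hn : r ^ k = n)
      (hcase : (Odd r ∧ Nat.card (Subgroup.center R) = r ∧ Nat.card R = r ^ (1 + 2 * k)) ∨
        (r = 2 ∧ e = 2 ∧ Nat.card (Subgroup.center R) = 4 ∧ Nat.card R = 2 ^ (2 + 2 * k)))
      (hle : H ≤ subgroupNormalizer R)
  | residual (h : InUnitaryResidualClass H)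

/-- where a subgroup of the odd-dimensional orthogonal group lies -/
inductive OddCase (m : ℕ) (H : Subgroup (GL (Unit ⊕ (Fin m ⊕ Fin m)) F)) : Prop
  | singular (W : Submodule F (Unit ⊕ (Fin m ⊕ Fin m) → F)) (h0 : W ≠ ⊥)
      (hs : IsTotallySingularQuad (Cfsg.quadFormOdd m F) W) (hle : H ≤ subspaceStabilizer W)
  | nondeg (W : Submodule F (Unit ⊕ (Fin m ⊕ Fin m) → F)) (h0 : W ≠ ⊥) (h1 : W ≠ ⊤)
      (hev : Even (Module.finrank F W))
      (hnd : IsNondegenerateOn (QuadraticMap.polar (Cfsg.quadFormOdd m F)) W)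
      (hle : H ≤ subspaceStabilizer W)
  | decomp (t k : ℕ) (D : Fin t → Submodule F (Unit ⊕ (Fin m ⊕ Fin m) → F)) (hk : 1 < k)
      (hD : IsOrthogonalMDecomposition (Cfsg.quadFormOdd m F) k D) (htk : t * k = 2 * m + 1)
      (hle : H ≤ decompositionStabilizer D)
  | lines (D : Fin (2 * m + 1) → Submodule F (Unit ⊕ (Fin m ⊕ Fin m) → F)) (hp : (Fintype.card F).Prime)
      (hD : IsOrthogonalMDecomposition (Cfsg.quadFormOdd m F) 1 D) (hle : H ≤ decompositionStabilizer D)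
  | extField (r : ℕ) (K : Subalgebra F (Matrix (Unit ⊕ (Fin m ⊕ Fin m)) (Unit ⊕ (Fin m ⊕ Fin m)) F))
      (hr : r.Prime) (hne : 2 * m + 1 ≠ r) (hrn : r ∣ 2 * m + 1) (hK : IsFieldSubalgebra r K)
      (hself : IsSelfAdjointFor (QuadraticMap.polar (Cfsg.quadFormOdd m F)) K)
      (hle : H ≤ subalgebraNormalizer K)
  | tensor (n₁ n₂ : ℕ) (e : (Unit ⊕ (Fin m ⊕ Fin m)) ≃ Fin n₁ × Fin n₂)
      (P : GL (Unit ⊕ (Fin m ⊕ Fin m)) F)
      (f₁ : (Fin n₁ → F) → (Fin n₁ → F) → F) (f₂ : (Fin n₂ → F) → (Fin n₂ → F) → F)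
      (h₁ : 3 ≤ n₁) (h₁₂ : n₁ < n₂) (hn : n₁ * n₂ = 2 * m + 1) (hf₁ : IsSymmetricForm f₁)
      (hf₂ : IsSymmetricForm f₂)
      (hstr : IsTensorFormStructure id (QuadraticMap.polar (Cfsg.quadFormOdd m F)) f₁ f₂ e P)
      (hle : H ≤ tensorProductSubgroup n₁ n₂ e P)
  | subfield (F₀ : Subfield F) (r : ℕ) (P : GL (Unit ⊕ (Fin m ⊕ Fin m)) F) (hr : r.Prime)
      (hc : Fintype.card F = Nat.card F₀ ^ r)
      (hrat : IsQuadFormRationalStructure (Cfsg.quadFormOdd m F) F₀ P) (hle : H ≤ subfieldSubgroup F₀ P)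
  | wreath (k t : ℕ) (e : (Unit ⊕ (Fin m ⊕ Fin m)) ≃ (Fin t → Fin k))
      (P : GL (Unit ⊕ (Fin m ⊕ Fin m)) F) (f₁ : (Fin k → F) → (Fin k → F) → F) (hk : 3 ≤ k) (ht : 2 ≤ t)
      (hex : ¬ (Fintype.card F = 3 ∧ k = 3)) (hn : k ^ t = 2 * m + 1) (hf₁ : IsSymmetricForm f₁)
      (hstr : IsTensorPowerFormStructure id (QuadraticMap.polar (Cfsg.quadFormOdd m F)) f₁ e P)
      (hle : H ≤ tensorWreathSubgroup k t e P)
  | residual (h : InOrthogonalResidualClass H)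

end CfsgLib.Asch
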