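import Cfsg.Agent.Lib.Aschbacher.OmegaProper
import Cfsg.Agent.Lib.Aschbacher.FormTypes
import Cfsg.Agent.Lib.OrthCrit.MaxSingular
import Cfsg.Agent.Lib.Classical.Quad.Std

/-!
# Maximal subgroups of `Ω` in odd dimension at most eleven: the list
-/

set_option autoImplicit false

namespace CfsgLib.Asch

open Matrix Cfsg.Geo QuadraticMap
open CfsgLib.Classical.Quad (NDPolar Orth Frame)
open CfsgLib.OrthCrit (oddForm)
open scoped MatrixGroups

section small

variable {ι : Type} [Fintype ι] [DecidableEq ι] {F : Type*} [Field F] [Fintype F]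

lemma elt_of_card_three (h3 : Fintype.card F = 3) (x : F) : x = 0 ∨ x = 1 ∨ x = -1 := by
  rcases eq_or_ne x 0 with rfl | hx
  · exact Or.inl rfl
  have h := FiniteField.pow_card_sub_one_eq_one x hx
  rw [h3] at h
  exact Or.inr (mul_self_eq_one_iff.mp (by rw [← _root_.sq]; exact h))

lemma three_eq_zero (h3 : Fintype.card F = 3) : (3 : F) = 0 := by
  have h := Nat.cast_card_eq_zero (R := F)
  rw [h3] at h
  exact_mod_cast h

variable {Q : QuadraticForm F (ι → F)}

omit [Fintype F] in
lemma isometry_polar {g : GL ι F} (hg : ∀ x, Q ((g : Matrix ι ι F) *ᵥ x) = Q x) (x y : ι → F) :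
    polar Q ((g : Matrix ι ι F) *ᵥ x) ((g : Matrix ι ι F) *ᵥ y) = polar Q x y := by
  simp only [polar, ← mulVec_add, hg]

/-- over three elements, a group fixing a hyperbolic plane fixes a non-degenerate hyperplane -/
lemma exists_hyperplane_of_plane (h3 : Fintype.card F = 3) (h2 : (2 : F) ≠ 0) (hnd : NDPolar Q)
    {W : Submodule F (ι → F)} (hd : Module.finrank F W = 2)
    (hW : IsNondegenerateOn (polar Q) W) (hplus : IsPlusTypeOn (⇑Q) W)
    {H : Subgroup (GL ι F)} (hiso : ∀ g ∈ H, ∀ x, Q ((g : Matrix ι ι F) *ᵥ x) = Q x)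
    (hle : H ≤ subspaceStabilizer W) :
    ∃ W' : Submodule F (ι → F), Module.finrank F W' + 1 = Fintype.card ι ∧
      IsNondegenerateOn (polar Q) W' ∧ H ≤ subspaceStabilizer W' := by
  obtain ⟨U, hUW, hUs, hUd⟩ := hplus
  obtain ⟨u, hu, hu0⟩ := (Submodule.ne_bot_iff U).mp fun h => by
    rw [h, finrank_bot, hd] at hUd
    omega
  have hQu := hUs u hu
  obtain ⟨-, v₀, hv₀, huv₀⟩ := hW u (hUW hu) hu0
  set v₁ := (polar Q u v₀)⁻¹ • v₀ with hv₁
  set v := v₁ + (-(Q v₁)) • u with hv
  have huv₁ : polar Q u v₁ = 1 := by simp [hv₁, inv_mul_cancel₀ huv₀]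
  have huu : polar Q u u = 0 := Classical.Quad.polar_singular_self hQu
  have hQv : Q v = 0 := by
    rw [hv, Classical.Quad.Q_comb1, hQu, polar_comm Q v₁ u, huv₁]
    ring
  have huv : polar Q u v = 1 := by simp [hv, huv₁, huu]
  have hvW : v ∈ W := add_mem (W.smul_mem _ hv₀) (W.smul_mem _ (hUW hu))
  have hQ : ∀ x y : F, Q (x • u + y • v) = x * y := by
    intro x y
    rw [QuadraticMap.map_add Q, QuadraticMap.map_smul, QuadraticMap.map_smul, hQu, hQv,
      polar_smul_left, polar_smul_right, huv]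
    simp
  have hspan : W = Submodule.span F (Set.range ![u, v]) := by
    refine (Submodule.eq_of_le_of_finrank_le (Submodule.span_le.mpr ?_) ?_).symm
    · rintro _ ⟨i, rfl⟩
      fin_cases i
      exacts [hUW hu, hvW]
    · rw [hd, finrank_span_eq_card, Fintype.card_fin]
      rw [Fintype.linearIndependent_iff]
      intro c hc
      simp only [Fin.sum_univ_two, Matrix.cons_val_zero, Matrix.cons_val_one] at hc
      have e1 := congrArg (fun z => polar Q z u) hc
      have e2 := congrArg (fun z => polar Q z v) hc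
      simp [huu, huv, polar_comm Q v u, Classical.Quad.polar_singular_self hQv] at e1 e2
      intro i
      fin_cases i
      exacts [e2, e1]
  set a := u + v with ha
  have hQa : Q a = 1 := by
    have := hQ 1 1
    simpa using this
  have haW : a ∈ W := add_mem (hUW hu) hvW
  have haa : polar Q a a = 2 := by rw [Classical.Quad.polar_self', hQa, mul_one]
  let φ : (ι → F) →ₗ[F] F := (polarBilin Q).flip a
  have hφ : ∀ x, φ x = polar Q x a := fun x => rfl
  refine ⟨LinearMap.ker φ, ?_, ?_, le_subspaceStabilizer fun g hg w hw => ?_⟩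
  · have hr : LinearMap.range φ = ⊤ := LinearMap.range_eq_top.mpr fun c => ⟨(c * 2⁻¹) • a, by
      rw [hφ, polar_smul_left, haa, smul_eq_mul, mul_assoc, inv_mul_cancel₀ h2, mul_one]⟩
    have h := LinearMap.finrank_range_add_finrank_ker φ
    rw [hr, finrank_top, Module.finrank_self, Module.finrank_fintype_fun_eq_card] at h
    omega
  · intro w hw hw0
    rw [LinearMap.mem_ker, hφ] at hw
    obtain ⟨x, hx⟩ : ∃ x, polar Q w x ≠ 0 := by
      by_contra hc
      push Not at hc
      exact hw0 (hnd w hc)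
    have hmem : x + (-(polar Q x a * 2⁻¹)) • a ∈ LinearMap.ker φ := by
      rw [LinearMap.mem_ker, hφ, polar_add_left, polar_smul_left, haa, smul_eq_mul, neg_mul,
        mul_assoc, inv_mul_cancel₀ h2, mul_one, add_neg_cancel]
    have hwx : polar Q w (x + (-(polar Q x a * 2⁻¹)) • a) ≠ 0 := by
      simpa [hw] using hx
    exact ⟨⟨_, hmem, by rw [polar_comm]; exact hwx⟩, ⟨_, hmem, hwx⟩⟩
  · rw [LinearMap.mem_ker, hφ] at hw ⊢
    have hga : (g : Matrix ι ι F) *ᵥ a ∈ W := (mem_subspaceStabilizer.mp (hle hg) a).mp haW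
    rw [hspan, Submodule.mem_span_range_iff_exists_fun] at hga
    obtain ⟨c, hc⟩ := hga
    simp only [Fin.sum_univ_two, Matrix.cons_val_zero, Matrix.cons_val_one] at hc
    have hval : c 0 * c 1 = 1 := by rw [← hQ, hc, hiso g hg, hQa]
    have hsgn : (g : Matrix ι ι F) *ᵥ a = c 0 • a := by
      have hcc : c 1 = c 0 := by
        rcases elt_of_card_three h3 (c 0) with h | h | h <;> rw [h] at hval ⊢
        · simp at hval
        · linear_combination hval
        · linear_combination -hval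
      rw [← hc, hcc, ← smul_add]
    have hc0 : c 0 ≠ 0 := left_ne_zero_of_mul_eq_one hval
    have h := isometry_polar (hiso g hg) w a
    rw [hw, hsgn, polar_smul_right, smul_eq_mul] at h
    exact (mul_eq_zero.mp h).resolve_left hc0

/-- over three elements a non-degenerate three-space has a frame, unique for its value -/
lemma exists_frame_three (h3 : Fintype.card F = 3) {W : Submodule F (ι → F)}
    (hd : Module.finrank F W = 3) (hW : IsNondegenerateOn (polar Q) W) :
    ∃ (c : F) (e : Fin 3 → ι → F), c ≠ 0 ∧ (∀ i, e i ∈ W ∧ Q (e i) = c) ∧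
      (∀ i j, i ≠ j → polar Q (e i) (e j) = 0) ∧
      ∀ w ∈ W, Q w = c → ∃ i, w = e i ∨ w = -e i := by
  have h30 := three_eq_zero h3
  have h20 : (2 : F) ≠ 0 := fun h => one_ne_zero (by linear_combination h30 - h : (1 : F) = 0)
  have hex : ∀ S : Submodule F (ι → F), IsNondegenerateOn (polar Q) S → 0 < Module.finrank F S →
      ∃ x ∈ S, Q x ≠ 0 := by
    intro S hS hpos
    by_contra hc
    push Not at hc
    obtain ⟨x, hx, hx0⟩ := (Submodule.ne_bot_iff S).mp fun h => by rw [h, finrank_bot] at hpos; omega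
    obtain ⟨-, y, hy, hxy⟩ := hS x hx hx0
    exact hxy (by simp [polar, hc x hx, hc y hy, hc _ (S.add_mem hx hy)])
  have hstep : ∀ (S : Submodule F (ι → F)) (v : ι → F), IsNondegenerateOn (polar Q) S → v ∈ S → Q v ≠ 0 →
      IsNondegenerateOn (polar Q) (S ⊓ LinearMap.ker ((polarBilin Q).flip v)) ∧
      Module.finrank F S ≤ Module.finrank F (S ⊓ LinearMap.ker ((polarBilin Q).flip v) : Submodule F _) + 1 := by
    intro S v hS hv hQv
    have hvv : polar Q v v ≠ 0 := by rw [Classical.Quad.polar_self']; exact mul_ne_zero h20 hQv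
    refine ⟨?_, OrthCrit.finrank_le_inf_ker_add_one S ((polarBilin Q).flip v)⟩
    rintro w ⟨hwS, hwv⟩ hw0
    have hwv' : polar Q w v = 0 := hwv
    obtain ⟨-, x, hx, hwx⟩ := hS w hwS hw0
    set y := x + (-(polar Q x v / polar Q v v)) • v
    have hy : y ∈ S ⊓ LinearMap.ker ((polarBilin Q).flip v) := by
      refine ⟨S.add_mem hx (S.smul_mem _ hv), ?_⟩
      show polar Q y v = 0
      rw [polar_add_left, polar_smul_left, smul_eq_mul, neg_mul, div_mul_cancel₀ _ hvv, add_neg_cancel]
    have hwy : polar Q w y ≠ 0 := by simpa [y, hwv'] using hwx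
    exact ⟨⟨y, hy, by rw [polar_comm]; exact hwy⟩, ⟨y, hy, hwy⟩⟩
  obtain ⟨a, ha, hQa⟩ := hex W hW (by omega)
  obtain ⟨hW1, hd1⟩ := hstep W a hW ha hQa
  obtain ⟨b, ⟨hb, hba⟩, hQb⟩ := hex _ hW1 (by omega)
  obtain ⟨hW2, hd2⟩ := hstep _ b hW1 ⟨hb, hba⟩ hQb
  obtain ⟨d, ⟨⟨hdW, hda⟩, hdb⟩, hQd⟩ := hex _ hW2 (by omega)
  have hba' : polar Q b a = 0 := hba
  have hda' : polar Q d a = 0 := hda
  have hdb' : polar Q d b = 0 := hdb
  -- from three orthogonal vectors of one value to the conclusion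
  have fin : ∀ (c : F) (e : Fin 3 → ι → F), c ≠ 0 → (∀ i, e i ∈ W ∧ Q (e i) = c) →
      (∀ i j, i ≠ j → polar Q (e i) (e j) = 0) →
      ∃ (c : F) (e : Fin 3 → ι → F), c ≠ 0 ∧ (∀ i, e i ∈ W ∧ Q (e i) = c) ∧
      (∀ i j, i ≠ j → polar Q (e i) (e j) = 0) ∧
      ∀ w ∈ W, Q w = c → ∃ i, w = e i ∨ w = -e i := by
    intro c e hc he horth
    refine ⟨c, e, hc, he, horth, fun w hw hQw => ?_⟩
    have hli : LinearIndependent F e := by
      rw [Fintype.linearIndependent_iff]
      intro g hg i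
      have h := congrArg ((polarBilin Q).flip (e i)) hg
      rw [map_sum, Finset.sum_eq_single i (fun j _ hji => ?_) (by simp), map_smul, map_zero] at h
      · change g i • polar Q (e i) (e i) = 0 at h
        rw [Classical.Quad.polar_self', (he i).2, smul_eq_mul] at h
        exact (mul_eq_zero.mp h).resolve_right (mul_ne_zero h20 hc)
      · rw [map_smul]
        show g j • polar Q (e j) (e i) = 0
        rw [horth j i hji, smul_zero]
    have hs : Submodule.span F (Set.range e) = W := by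
      refine Submodule.eq_of_le_of_finrank_le (Submodule.span_le.mpr ?_) ?_
      · rintro _ ⟨i, rfl⟩; exact (he i).1
      · rw [hd, finrank_span_eq_card hli, Fintype.card_fin]
    rw [← hs, Submodule.mem_span_range_iff_exists_fun] at hw
    obtain ⟨x, hx⟩ := hw
    rw [Fin.sum_univ_three] at hx
    have hQx : Q (x 0 • e 0 + x 1 • e 1 + x 2 • e 2) = (x 0 * x 0 + x 1 * x 1 + x 2 * x 2) * c := by
      simp only [QuadraticMap.map_add Q, QuadraticMap.map_smul, polar_add_left, polar_smul_left,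
        polar_smul_right, (he 0).2, (he 1).2, (he 2).2, horth 0 1 (by decide), horth 0 2 (by decide),
        horth 1 2 (by decide), smul_eq_mul]
      ring
    rw [hx, hQw] at hQx
    have hsq : x 0 * x 0 + x 1 * x 1 + x 2 * x 2 = 1 :=
      mul_right_cancel₀ hc (by rw [one_mul]; exact hQx.symm)
    have hne2 : (1 + 1 : F) ≠ 1 := by simp
    have hne3 : (1 + 1 + 1 : F) ≠ 1 := by
      intro h; exact one_ne_zero (by linear_combination h30 - h : (1 : F) = 0)
    rcases elt_of_card_three h3 (x 0) with h0 | h0 | h0 <;>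
      rcases elt_of_card_three h3 (x 1) with h1 | h1 | h1 <;>
      rcases elt_of_card_three h3 (x 2) with h2 | h2 | h2 <;>
      simp only [h0, h1, h2, mul_zero, mul_one, neg_mul_neg, add_zero, zero_add, zero_smul, one_smul,
        neg_smul] at hsq hx <;>
      first
        | exact absurd hsq zero_ne_one
        | exact absurd hsq hne2
        | exact absurd hsq hne3
        | exact ⟨0, Or.inl hx.symm⟩
        | exact ⟨0, Or.inr hx.symm⟩
        | exact ⟨1, Or.inl hx.symm⟩
        | exact ⟨1, Or.inr hx.symm⟩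
        | exact ⟨2, Or.inl hx.symm⟩
        | exact ⟨2, Or.inr hx.symm⟩
  -- two equal values and one opposite
  have mixed : ∀ x y z : ι → F, x ∈ W → y ∈ W → z ∈ W → polar Q x y = 0 → polar Q x z = 0 →
      polar Q y z = 0 → Q x = Q y → Q z = -Q x → Q x ≠ 0 →
      ∃ (c : F) (e : Fin 3 → ι → F), c ≠ 0 ∧ (∀ i, e i ∈ W ∧ Q (e i) = c) ∧
      (∀ i j, i ≠ j → polar Q (e i) (e j) = 0) ∧
      ∀ w ∈ W, Q w = c → ∃ i, w = e i ∨ w = -e i := by
    intro x y z hx hy hz hxy hxz hyz hQxy hQz hQx
    have hm : polar Q x (-y) = 0 := by rw [polar_neg_right, hxy, neg_zero]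
    have hsum : Q (x + y) = Q z := by
      rw [QuadraticMap.map_add Q, hxy, ← hQxy, hQz]
      linear_combination Q x * h30
    have hdif : Q (x + -y) = Q z := by
      rw [QuadraticMap.map_add Q, QuadraticMap.map_neg, hm, ← hQxy, hQz]
      linear_combination Q x * h30
    have hpd : polar Q (x + y) (x + -y) = 0 := by
      rw [polar_add_left, polar_add_right, polar_add_right, hm, polar_neg_right,
        Classical.Quad.polar_self', Classical.Quad.polar_self', polar_comm Q y x, hxy, hQxy]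
      ring
    have hz1 : polar Q (x + y) z = 0 := by rw [polar_add_left, hxz, hyz, add_zero]
    have hz2 : polar Q (x + -y) z = 0 := by
      rw [polar_add_left, polar_neg_left, hxz, hyz, neg_zero, add_zero]
    refine fin (Q z) ![x + y, x + -y, z] (by rw [hQz]; exact neg_ne_zero.mpr hQx) (fun i => ?_)
      fun i j hij => ?_
    · fin_cases i
      exacts [⟨W.add_mem hx hy, hsum⟩, ⟨W.add_mem hx (W.neg_mem hy), hdif⟩, ⟨hz, rfl⟩]
    · fin_cases i <;> fin_cases j <;>
        first
          | exact absurd rfl hij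
          | exact hpd
          | exact hz1
          | exact hz2
          | exact (polar_comm _ _ _).trans hpd
          | exact (polar_comm _ _ _).trans hz1
          | exact (polar_comm _ _ _).trans hz2
  have hsgn : ∀ x y : F, x ≠ 0 → y ≠ 0 → x = y ∨ y = -x := by
    intro x y hx hy
    rcases elt_of_card_three h3 x with rfl | rfl | rfl <;>
      rcases elt_of_card_three h3 y with rfl | rfl | rfl <;> simp at hx hy ⊢
  rcases hsgn _ _ hQa hQb with hab | hab <;> rcases hsgn _ _ hQa hQd with had | had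
  · refine fin (Q a) ![a, b, d] hQa (fun i => ?_) fun i j hij => ?_
    · fin_cases i
      exacts [⟨ha, rfl⟩, ⟨hb, hab.symm⟩, ⟨hdW, had.symm⟩]
    · fin_cases i <;> fin_cases j <;> simp at hij ⊢ <;>
        first
          | assumption
          | (rw [polar_comm]; assumption)
  · exact mixed a b d ha hb hdW (by rw [polar_comm]; exact hba') (by rw [polar_comm]; exact hda')
      (by rw [polar_comm]; exact hdb') hab had hQa
  · exact mixed a d b ha hdW hb (by rw [polar_comm]; exact hda') (by rw [polar_comm]; exact hba')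
      hdb' had hab hQa
  · exact mixed b d a hb hdW ha (by rw [polar_comm]; exact hdb') hba' hda' (by rw [hab, had])
      (by rw [hab, neg_neg]) hQb

/-- over three elements a decomposition into isometric three-spaces refines to one into lines -/
lemma exists_lines_of_threes (h3 : Fintype.card F = 3) {t : ℕ} {D : Fin t → Submodule F (ι → F)}
    (hD : IsOrthogonalMDecomposition (⇑Q) 3 D) (hdim : t * 3 = Fintype.card ι) {H : Subgroup (GL ι F)}
    (hiso : ∀ g ∈ H, ∀ x, Q ((g : Matrix ι ι F) *ᵥ x) = Q x) (hle : H ≤ decompositionStabilizer D) :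
    ∃ D' : Fin (t * 3) → Submodule F (ι → F),
      IsOrthogonalMDecomposition (⇑Q) 1 D' ∧ H ≤ decompositionStabilizer D' := by
  classical
  have h30 := three_eq_zero h3
  have h20 : (2 : F) ≠ 0 := fun h => one_ne_zero (by linear_combination h30 - h : (1 : F) = 0)
  have h2t := hD.decomp.decomp.two_le
  obtain ⟨c, e₀, hc, he₀, horth₀, hun₀⟩ := exists_frame_three h3
    (hD.decomp.decomp.finrank_eq ⟨0, by omega⟩) (hD.decomp.nondegenerate ⟨0, by omega⟩)
  choose φ hφ using fun i => hD.isometric ⟨0, by omega⟩ i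
  let e : Fin t → Fin 3 → ι → F := fun i a => (φ i ⟨e₀ a, (he₀ a).1⟩ : D i)
  have hemem : ∀ i a, e i a ∈ D i := fun i a => (φ i ⟨e₀ a, (he₀ a).1⟩).2
  have heQ : ∀ i a, Q (e i a) = c := fun i a => (hφ i _).trans (he₀ a).2
  have hepol : ∀ i a b, a ≠ b → polar Q (e i a) (e i b) = 0 := by
    intro i a b hab
    have h := hφ i (⟨e₀ a, (he₀ a).1⟩ + ⟨e₀ b, (he₀ b).1⟩)
    rw [map_add, Submodule.coe_add, Submodule.coe_add] at h
    rw [polar, hφ i _, hφ i _, h]
    exact horth₀ a b hab
  have hun : ∀ i, ∀ w ∈ D i, Q w = c → ∃ a, w = e i a ∨ w = -e i a := by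
    intro i w hw hQw
    obtain ⟨z, hz⟩ := (φ i).surjective ⟨w, hw⟩
    have hQz : Q (z : ι → F) = c := by
      rw [← hφ i z, hz]
      exact hQw
    obtain ⟨a, ha | ha⟩ := hun₀ z z.2 hQz
    · refine ⟨a, Or.inl ?_⟩
      have : z = ⟨e₀ a, (he₀ a).1⟩ := Subtype.ext ha
      rw [this] at hz
      exact (congrArg Subtype.val hz).symm
    · refine ⟨a, Or.inr ?_⟩
      have : z = -⟨e₀ a, (he₀ a).1⟩ := Subtype.ext ha
      rw [this, map_neg] at hz
      exact (congrArg Subtype.val hz).symm
  let d : Fin (t * 3) → ι → F := fun k => e (finProdFinEquiv.symm k).1 (finProdFinEquiv.symm k).2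
  have hdQ : ∀ k, Q (d k) = c := fun k => heQ _ _
  have hdpol : ∀ k l, k ≠ l → polar Q (d k) (d l) = 0 := by
    intro k l hkl
    have hne : finProdFinEquiv.symm k ≠ finProdFinEquiv.symm l :=
      fun h => hkl (finProdFinEquiv.symm.injective h)
    simp only [d]
    by_cases h1 : (finProdFinEquiv.symm k).1 = (finProdFinEquiv.symm l).1
    · rw [h1]
      exact hepol _ _ _ fun h2 => hne (Prod.ext h1 h2)
    · exact hD.decomp.orthogonal _ _ h1 _ (hemem _ _) _ (hemem _ _)
  have hd0 : ∀ k, d k ≠ 0 := fun k h => hc (by rw [← hdQ k, h, QuadraticMap.map_zero])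
  have hli : LinearIndependent F d := by
    rw [Fintype.linearIndependent_iff]
    intro g hg i
    have h := congrArg ((polarBilin Q).flip (d i)) hg
    rw [map_sum, Finset.sum_eq_single i (fun j _ hji => ?_) (by simp), map_smul, map_zero] at h
    · change g i • polar Q (d i) (d i) = 0 at h
      rw [Classical.Quad.polar_self', hdQ i, smul_eq_mul] at h
      exact (mul_eq_zero.mp h).resolve_right (mul_ne_zero h20 hc)
    · rw [map_smul]
      show g j • polar Q (d j) (d i) = 0
      rw [hdpol j i hji, smul_zero]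
  refine ⟨fun k => Submodule.span F {d k}, ⟨⟨⟨by omega, one_pos, fun k => finrank_span_singleton (hd0 k),
    hli.iSupIndep_span_singleton, ?_⟩, ?_, ?_⟩, ?_⟩, ?_⟩
  · rw [← Submodule.span_range_eq_iSup]
    refine hli.span_eq_top_of_card_eq_finrank' ?_
    rw [Fintype.card_fin, Module.finrank_fintype_fun_eq_card, hdim]
  · intro k w hw hw0
    obtain ⟨a, rfl⟩ := Submodule.mem_span_singleton.mp hw
    have hk := Submodule.mem_span_singleton_self (R := F) (d k)
    have hne : polar Q (a • d k) (d k) ≠ 0 := by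
      rw [polar_smul_left, Classical.Quad.polar_self', hdQ, smul_eq_mul]
      exact mul_ne_zero (fun h => hw0 (by rw [h, zero_smul])) (mul_ne_zero h20 hc)
    exact ⟨⟨_, hk, by rw [polar_comm]; exact hne⟩, ⟨_, hk, hne⟩⟩
  · intro k l hkl x hx y hy
    obtain ⟨a, rfl⟩ := Submodule.mem_span_singleton.mp hx
    obtain ⟨b, rfl⟩ := Submodule.mem_span_singleton.mp hy
    rw [polar_smul_left, polar_smul_right, hdpol k l hkl, smul_zero, smul_zero]
  · intro k l
    refine ⟨(LinearEquiv.toSpanNonzeroSingleton F _ _ (hd0 k)).symm.trans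
      (LinearEquiv.toSpanNonzeroSingleton F _ _ (hd0 l)), ?_⟩
    rintro ⟨w, hw⟩
    obtain ⟨a, rfl⟩ := Submodule.mem_span_singleton.mp hw
    have : (LinearEquiv.toSpanNonzeroSingleton F _ _ (hd0 k)).symm ⟨a • d k, hw⟩ = a :=
      (LinearEquiv.symm_apply_eq _).mpr rfl
    rw [LinearEquiv.trans_apply, this]
    simp [LinearEquiv.toSpanNonzeroSingleton_apply, QuadraticMap.map_smul, hdQ]
  · intro g hg
    obtain ⟨σ, hσ⟩ := hle hg
    have himg : ∀ k, ∃ l, (g : Matrix ι ι F) *ᵥ d k = d l ∨ (g : Matrix ι ι F) *ᵥ d k = -d l := by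
      intro k
      have hmem : (g : Matrix ι ι F) *ᵥ d k ∈ D (σ (finProdFinEquiv.symm k).1) :=
        hσ _ ▸ ⟨d k, hemem _ _, Matrix.toLin'_apply _ _⟩
      obtain ⟨a, ha⟩ := hun _ _ hmem ((hiso g hg _).trans (hdQ k))
      refine ⟨finProdFinEquiv (σ (finProdFinEquiv.symm k).1, a), ?_⟩
      simp only [d, Equiv.symm_apply_apply] at ha ⊢
      exact ha
    choose f hf using himg
    have hfinj : Function.Injective f := by
      intro k l hkl
      by_contra hne
      have hp := isometry_polar (hiso g hg) (d k) (d l)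
      rw [hdpol k l hne] at hp
      have h2c : polar Q (d (f l)) (d (f l)) ≠ 0 := by
        rw [Classical.Quad.polar_self', hdQ]; exact mul_ne_zero h20 hc
      rcases hf k with hk | hk <;> rcases hf l with hl | hl <;>
        rw [hk, hl, hkl] at hp <;> (try simp only [polar_neg_left, polar_neg_right, neg_neg, neg_eq_zero] at hp) <;>
        exact h2c hp
    refine ⟨Equiv.ofBijective f (Finite.injective_iff_bijective.mp hfinj), fun k => ?_⟩
    rw [Submodule.map_span, Set.image_singleton, Matrix.toLin'_apply, Equiv.ofBijective_apply]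
    rcases hf k with hk | hk <;> rw [hk]
    rw [← Set.neg_singleton, Submodule.span_neg]

end small

section card

variable {ι : Type} [Fintype ι] [DecidableEq ι] {F : Type*} [Field F] {m t : ℕ}

lemma standard_form {u : GL (Fin t → Fin m) F} (hu : u ∈ tensorWreathStandard m t F) :
    ∃ (a : Fin t → GL (Fin m) F) (σ : Equiv.Perm (Fin t)), u = pwUnit a * permUnit σ := by
  have hpp : ∀ a b : Fin t → GL (Fin m) F, pwUnit (a * b) = pwUnit a * pwUnit b := fun a b =>
    Units.ext (pw_mul _ _).symm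
  have hss : ∀ σ τ : Equiv.Perm (Fin t), (permUnit (σ * τ) : GL (Fin t → Fin m) F) = permUnit σ * permUnit τ := by
    intro σ τ
    refine Units.ext ?_
    show permMat (σ * τ) = permMat σ * permMat τ
    rw [permMat_mul]
    ext x y
    simp only [permMat, Matrix.of_apply, Equiv.Perm.coe_mul, Function.comp_assoc]
    congr
  have hp1 : pwUnit (1 : Fin t → GL (Fin m) F) = 1 := Units.ext pw_one
  have hs1 : (permUnit (1 : Equiv.Perm (Fin t)) : GL (Fin t → Fin m) F) = 1 := by
    have h := hss 1 1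
    rw [one_mul] at h
    exact mul_left_cancel (h.symm.trans (mul_one _).symm)
  have hsa : ∀ (σ : Equiv.Perm (Fin t)) (a : Fin t → GL (Fin m) F),
      permUnit σ * pwUnit a = pwUnit (fun i => a (σ⁻¹ i)) * permUnit σ := by
    intro σ a
    refine Units.ext ?_
    show permMat σ * pw _ = pw _ * permMat σ
    rw [← permMat_conj_pw σ (fun i => (a i : Matrix (Fin m) (Fin m) F)), mul_assoc]
    conv_lhs => rw [← mul_one (permMat σ * pw _)]
    congr 1
    simpa using (permMat_mul_inv (F := F) (m := m) σ⁻¹).symm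
  induction hu using Subgroup.closure_induction'' with
  | mem x hx =>
    rcases hx with ⟨a, ha⟩ | ⟨σ, hσ⟩
    · exact ⟨a, 1, by rw [hs1, mul_one]; exact Units.ext (Matrix.ext ha)⟩
    · exact ⟨1, σ, by rw [hp1, one_mul]; exact Units.ext (Matrix.ext hσ)⟩
  | inv_mem x hx =>
    rcases hx with ⟨a, ha⟩ | ⟨σ, hσ⟩
    · refine ⟨a⁻¹, 1, ?_⟩
      rw [hs1, mul_one, show x = pwUnit a from Units.ext (Matrix.ext ha)]
      exact inv_eq_of_mul_eq_one_right (by rw [← hpp, mul_inv_cancel, hp1])
    · refine ⟨1, σ⁻¹, ?_⟩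
      rw [hp1, one_mul, show x = permUnit σ from Units.ext (Matrix.ext hσ)]
      exact inv_eq_of_mul_eq_one_right (by rw [← hss, mul_inv_cancel, hs1])
  | one => exact ⟨1, 1, by rw [hp1, hs1, one_mul]⟩
  | mul x y _ _ hx hy =>
    obtain ⟨a, σ, rfl⟩ := hx
    obtain ⟨b, τ, rfl⟩ := hy
    refine ⟨a * fun i => b (σ⁻¹ i), σ * τ, ?_⟩
    rw [hpp, hss, mul_assoc (pwUnit a), ← mul_assoc (permUnit σ), hsa, ← mul_assoc, ← mul_assoc,
      ← mul_assoc, mul_assoc (pwUnit a * _)]

lemma card_tensorWreath_le [Fintype F] (e : ι ≃ (Fin t → Fin m)) (P : GL ι F) :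
    Nat.card (tensorWreathSubgroup m t e P) ≤ t.factorial * (Fintype.card F ^ (m * m)) ^ t := by
  have h1 : Nat.card (tensorWreathSubgroup m t e P) = Nat.card (tensorWreathStandard m t F) :=
    (Subgroup.card_map_of_injective (MulAut.conj P).injective).trans
      (Subgroup.card_map_of_injective (f := (glReindex e.symm).toMonoidHom) (glReindex e.symm).injective)
  let f : (Fin t → GL (Fin m) F) × Equiv.Perm (Fin t) → tensorWreathStandard m t F := fun p =>
    ⟨pwUnit p.1 * permUnit p.2, mul_mem (pwUnit_mem _) (permUnit_mem _)⟩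
  have hf : Function.Surjective f := fun u => by
    obtain ⟨a, σ, h⟩ := standard_form u.2
    exact ⟨(a, σ), Subtype.ext h.symm⟩
  rw [h1]
  refine (Nat.card_le_card_of_surjective f hf).trans ?_
  rw [Nat.card_prod, Nat.card_perm, Nat.card_fin, Nat.card_pi, Finset.prod_const, Finset.card_univ,
    Fintype.card_fin, mul_comm]
  refine Nat.mul_le_mul_left _ (Nat.pow_le_pow_left ?_ _)
  refine (Nat.card_le_card_of_injective _ Units.val_injective).trans_eq ?_
  rw [Nat.card_eq_fintype_card]
  show Fintype.card (Fin m → Fin m → F) = _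
  simp [← pow_mul]

end card

/-! ### The list -/

variable {m : ℕ} {F : Type*} [Field F] [Fintype F]

local notation "V" m => Unit ⊕ (Fin m ⊕ Fin m)

/-- the standard frame -/
def oddFrame (hm : 2 ≤ m) : Frame (oddForm m F) where
  e₁ := Pi.single (.inr (.inl ⟨0, by omega⟩)) 1
  f₁ := Pi.single (.inr (.inr ⟨0, by omega⟩)) 1
  e₂ := Pi.single (.inr (.inl ⟨1, by omega⟩)) 1
  f₂ := Pi.single (.inr (.inr ⟨1, by omega⟩)) 1
  a := Pi.single (.inl ()) 1
  pair₁ := ⟨by simp [Cfsg.quadFormOdd], by simp [Cfsg.quadFormOdd],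
    by simp [OrthCrit.polar_oddForm, OrthCrit.polar_plusForm, Pi.single_apply]⟩
  pair₂ := ⟨by simp [Cfsg.quadFormOdd], by simp [Cfsg.quadFormOdd],
    by simp [OrthCrit.polar_oddForm, OrthCrit.polar_plusForm, Pi.single_apply]⟩
  e₁e₂ := by simp [OrthCrit.polar_oddForm, OrthCrit.polar_plusForm, Pi.single_apply]
  e₁f₂ := by simp [OrthCrit.polar_oddForm, OrthCrit.polar_plusForm, Pi.single_apply]
  f₁e₂ := by simp [OrthCrit.polar_oddForm, OrthCrit.polar_plusForm, Pi.single_apply]
  f₁f₂ := by simp [OrthCrit.polar_oddForm, OrthCrit.polar_plusForm, Pi.single_apply]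
  ae₁ := by simp [OrthCrit.polar_oddForm, OrthCrit.polar_plusForm, Pi.single_apply]
  af₁ := by simp [OrthCrit.polar_oddForm, OrthCrit.polar_plusForm, Pi.single_apply]
  ae₂ := by simp [OrthCrit.polar_oddForm, OrthCrit.polar_plusForm, Pi.single_apply]
  af₂ := by simp [OrthCrit.polar_oddForm, OrthCrit.polar_plusForm, Pi.single_apply]
  Qa := by simp [Cfsg.quadFormOdd, Pi.single_apply]

/-- the possible types of a maximal subgroup of `Ω`, odd dimension at most eleven -/
inductive OddType (m : ℕ) (H : Subgroup (GL (V m) F)) : Prop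
  | singular (W : Submodule F ((V m) → F)) (h0 : W ≠ ⊥) (hs : IsTotallySingularQuad (Cfsg.quadFormOdd m F) W)
      (he : H = subspaceStabilizer W ⊓ omegaGL (Cfsg.quadFormOdd m F))
  | nondeg (W : Submodule F ((V m) → F)) (h0 : W ≠ ⊥) (hev : Even (Module.finrank F W))
      (hnd : IsNondegenerateOn (polar (Cfsg.quadFormOdd m F)) W)
      (hex : ¬ (Fintype.card F = 3 ∧ Module.finrank F W = 2 ∧ IsPlusTypeOn (Cfsg.quadFormOdd m F) W))
      (he : H = subspaceStabilizer W ⊓ omegaGL (Cfsg.quadFormOdd m F))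
  | lines (D : Fin (2 * m + 1) → Submodule F ((V m) → F)) (hp : (Fintype.card F).Prime)
      (hD : IsOrthogonalMDecomposition (Cfsg.quadFormOdd m F) 1 D)
      (he : H = decompositionStabilizer D ⊓ omegaGL (Cfsg.quadFormOdd m F))
  | threes (D : Fin 3 → Submodule F ((V m) → F)) (hm : m = 4) (hq : 5 ≤ Fintype.card F)
      (hD : IsOrthogonalMDecomposition (Cfsg.quadFormOdd m F) 3 D)
      (he : H = decompositionStabilizer D ⊓ omegaGL (Cfsg.quadFormOdd m F))
  | extField (K : Subalgebra F (Matrix (V m) (V m) F)) (hm : m = 4) (hK : IsFieldSubalgebra 3 K)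
      (hself : IsSelfAdjointFor (polar (Cfsg.quadFormOdd m F)) K)
      (he : H = subalgebraNormalizer K ⊓ omegaGL (Cfsg.quadFormOdd m F))
  | subfield (F₀ : Subfield F) (r : ℕ) (P : GL (V m) F) (hr : r.Prime)
      (hc : Fintype.card F = Nat.card F₀ ^ r) (hrat : IsQuadFormRationalStructure (Cfsg.quadFormOdd m F) F₀ P)
      (he : H = subfieldSubgroup F₀ P ⊓ omegaGL (Cfsg.quadFormOdd m F))
  | wreath (e : (V m) ≃ (Fin 2 → Fin 3)) (P : GL (V m) F) (f₁ : (Fin 3 → F) → (Fin 3 → F) → F)
      (hm : m = 4) (hq : 5 ≤ Fintype.card F) (hf₁ : IsSymmetricForm f₁)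
      (hstr : IsTensorPowerFormStructure id (polar (Cfsg.quadFormOdd m F)) f₁ e P)
      (he : H = tensorWreathSubgroup 3 2 e P ⊓ omegaGL (Cfsg.quadFormOdd m F))
  | residual (h : InOrthogonalResidualClass H)

lemma max_eq_gen {ι : Type} [Fintype ι] [DecidableEq ι] {Ω H M : Subgroup (GL ι F)} (hH : IsMaximalIn Ω H)
    (h : H ≤ M) (hns : ¬ Ω ≤ M) : H = M ⊓ Ω :=
  ((hH.2 _ (le_inf h hH.1.le) inf_le_right).resolve_right fun e => hns (e.ge.trans inf_le_left)).symm

lemma omega_not_le_wreath_nine (hodd : Odd (Fintype.card F)) (e : (V 4) ≃ (Fin 2 → Fin 3)) (P : GL (V 4) F) :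
    ¬ omegaGL (Cfsg.quadFormOdd 4 F) ≤ tensorWreathSubgroup 3 2 e P := by
  intro hle
  have h1 := Subgroup.card_le_of_le hle
  have h2 : Nat.card (omegaGL (Cfsg.quadFormOdd 4 F)) = Nat.card (Cfsg.Omega F (Cfsg.quadFormOdd 4 F)) :=
    Subgroup.card_map_of_injective (Subgroup.subtype_injective _)
  have h3 : Nat.card (Cfsg.POmega F (Cfsg.quadFormOdd 4 F)) ≤ Nat.card (Cfsg.Omega F (Cfsg.quadFormOdd 4 F)) :=
    Nat.card_le_card_of_surjective _ (QuotientGroup.mk'_surjective _)
  have h4 := card_tensorWreath_le e P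
  have h5 := Classical.Quad.card_pomega_odd (F := F) (by rwa [Nat.card_eq_fintype_card]) (m := 4) (by norm_num)
  rw [show Nat.card F = Fintype.card F from Nat.card_eq_fintype_card] at h5
  set q := Fintype.card F with hq
  have hq3 : 3 ≤ q := by
    have : 1 < q := Fintype.one_lt_card
    rcases hodd with ⟨k, hk⟩
    omega
  simp only [Finset.prod_range_succ, Finset.prod_range_zero, one_mul] at h5
  norm_num [Nat.factorial] at h4
  have hq2 : 9 ≤ q ^ 2 := by nlinarith
  have hq4 : 5 * q ^ 2 + 1 ≤ q ^ 4 := by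
    rw [show q ^ 4 = q ^ 2 * q ^ 2 by ring]; nlinarith
  have a : 5 * q ^ 2 ≤ q ^ (2 * (1 + 1)) - 1 := by norm_num; omega
  have b : ∀ k, 1 ≤ q ^ (2 * (k + 1)) - 1 := fun k => by
    have : q ≤ q ^ (2 * (k + 1)) := Nat.le_self_pow (by omega) q
    omega
  have hlow : q ^ 16 * (1 * (5 * q ^ 2) * 1 * 1) ≤ q ^ (4 ^ 2) *
      ((q ^ (2 * (0 + 1)) - 1) * (q ^ (2 * (1 + 1)) - 1) * (q ^ (2 * (2 + 1)) - 1) * (q ^ (2 * (3 + 1)) - 1)) := by
    norm_num only [show (4 : ℕ) ^ 2 = 16 by norm_num]
    exact Nat.mul_le_mul_left _ (Nat.mul_le_mul (Nat.mul_le_mul (Nat.mul_le_mul (b 0) a) (b 2)) (b 3))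
  have hpow : (q ^ 9) ^ 2 = q ^ 16 * q ^ 2 := by ring
  have hlow' : q ^ 16 * q ^ 2 * 5 = q ^ 16 * (1 * (5 * q ^ 2) * 1 * 1) := by ring
  have hpos : 0 < q ^ 16 * q ^ 2 := by positivity
  nlinarith

/-- every maximal subgroup of `Ω` in odd dimension 7, 9 or 11 is of one of the types, given its class -/
theorem oddType_of_case (hodd : Odd (Fintype.card F)) (hm : 3 ≤ m) (hm5 : m ≤ 5) {H : Subgroup (GL (V m) F)}
    (hH : IsMaximalIn (omegaGL (Cfsg.quadFormOdd m F)) H) (hc : OddCase m H) : OddType m H := by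
  have h2 : (2 : F) ≠ 0 := Classical.Quad.two_ne_zero_iff_odd.mpr (by rwa [Nat.card_eq_fintype_card])
  have hnd := OrthCrit.ndPolar_oddForm h2 m
  have P := oddFrame (F := F) (m := m) (by omega)
  have hiso : ∀ g ∈ H, ∀ x, oddForm m F ((g : Matrix _ _ F) *ᵥ x) = oddForm m F x := by
    intro g hg x
    obtain ⟨g', -, rfl⟩ := hH.1.le hg
    exact g'.2 x x
  have hdim : Fintype.card (V m) = 2 * m + 1 := by simp; omega
  rcases hc with ⟨W, h0, hs, hle⟩ | ⟨W, h0, h1, hev, hndW, hle⟩ | ⟨t, k, D, hk, hD, htk, hle⟩ |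
    ⟨D, hp, hD, hle⟩ | ⟨r, K, hr, hne, hrn, hK, hself, hle⟩ |
    ⟨n₁, n₂, e, Pe, f₁, f₂, h₁, h₁₂, hn, hf₁, hf₂, hstr, hle⟩ | ⟨F₀, r, P₀, hr, hc, hrat, hle⟩ |
    ⟨k, t, e, Pe, f₁, hk, ht, hex, hn, hf₁, hstr, hle⟩ | h
  · refine .singular W h0 hs (max_eq_gen hH hle (omega_not_le_subspace hnd P h0 ?_))
    rintro rfl
    exact P.Qa (hs _ Submodule.mem_top)
  · by_cases hex : Fintype.card F = 3 ∧ Module.finrank F W = 2 ∧ IsPlusTypeOn (Cfsg.quadFormOdd m F) W
    · obtain ⟨W', hd', hnd', hle'⟩ := exists_hyperplane_of_plane (Q := oddForm m F) hex.1 h2 hnd hex.2.1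
        hndW hex.2.2 hiso hle
      rw [hdim] at hd'
      have hW0 : W' ≠ ⊥ := fun h => by rw [h, finrank_bot] at hd'; omega
      have hW1 : W' ≠ ⊤ := fun h => by
        rw [h, finrank_top, Module.finrank_fintype_fun_eq_card, hdim] at hd'; omega
      exact .nondeg W' hW0 ⟨m, by omega⟩ hnd' (fun h => by omega)
        (max_eq_gen hH hle' (omega_not_le_subspace hnd P hW0 hW1))
    · exact .nondeg W h0 hev hndW hex (max_eq_gen hH hle (omega_not_le_subspace hnd P h0 h1))
  · have h2t := hD.decomp.decomp.two_le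
    have htle : t ≤ 11 := by
      have := Nat.le_mul_of_pos_right t (show 0 < k by omega)
      omega
    have hkle : k ≤ 11 := by
      have := Nat.le_mul_of_pos_left k (show 0 < t by omega)
      omega
    obtain ⟨rfl, rfl, rfl⟩ : m = 4 ∧ t = 3 ∧ k = 3 := by
      interval_cases m <;> interval_cases t <;> omega
    by_cases hq : Fintype.card F = 3
    · obtain ⟨D', hD', hle'⟩ := exists_lines_of_threes (Q := oddForm 4 F) hq hD (by simp) hiso hle
      exact .lines D' (by rw [hq]; exact Nat.prime_three) hD'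
        (max_eq_gen hH hle' (omega_not_le_decomposition hnd P h2 hD'.decomp.decomp))
    · refine .threes D rfl ?_ hD (max_eq_gen hH hle (omega_not_le_decomposition hnd P h2 hD.decomp.decomp))
      have : 1 < Fintype.card F := Fintype.one_lt_card
      obtain ⟨j, hj⟩ := hodd
      omega
  · exact .lines D hp hD (max_eq_gen hH hle (omega_not_le_decomposition hnd P h2 hD.decomp.decomp))
  · have hr2 := hr.two_le
    have hrle : r ≤ 2 * m + 1 := Nat.le_of_dvd (by omega) hrn
    obtain ⟨rfl, rfl⟩ : m = 4 ∧ r = 3 := by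
      interval_cases m <;> interval_cases r <;> norm_num at *
    exact .extField K rfl hK hself (max_eq_gen hH hle (omega_not_le_extField hnd P hr2 hK))
  · exfalso
    have : 3 * 4 ≤ n₁ * n₂ := Nat.mul_le_mul h₁ (by omega)
    omega
  · refine .subfield F₀ r P₀ hr hc hrat (max_eq_gen hH hle (omega_not_le_subfield hnd P ?_ P₀))
    rintro rfl
    have h1 : Nat.card (⊤ : Subfield F) = Fintype.card F := by
      rw [Nat.card_congr (Subfield.topEquiv (K := F)).toEquiv, Nat.card_eq_fintype_card]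
    rw [h1] at hc
    have h4 := Nat.pow_lt_pow_right (Fintype.one_lt_card : 1 < Fintype.card F) hr.one_lt
    rw [pow_one, ← hc] at h4
    exact lt_irrefl _ h4
  · have hkk : k ^ 2 ≤ k ^ t := Nat.pow_le_pow_right (by omega) ht
    have hkle : k ≤ 3 := by nlinarith
    obtain rfl : k = 3 := by omega
    have htle : t ≤ 2 := by
      by_contra hc'
      have := Nat.pow_le_pow_right (show 1 ≤ 3 by norm_num) (show 3 ≤ t by omega)
      omega
    obtain rfl : t = 2 := by omega
    obtain rfl : m = 4 := by omega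
    refine .wreath e Pe f₁ rfl ?_ hf₁ hstr (max_eq_gen hH hle (omega_not_le_wreath_nine hodd e Pe))
    have : 1 < Fintype.card F := Fintype.one_lt_card
    have : Fintype.card F ≠ 3 := fun h => hex ⟨h, rfl⟩
    obtain ⟨j, hj⟩ := hodd
    omega
  · exact .residual h

end CfsgLib.Asch
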