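import Cfsg.Agent.Lib.Aschbacher.EvenCases
import Cfsg.Agent.Lib.Aschbacher.OddList
import Cfsg.Agent.Lib.ClassicalMax.OrthEven

/-!
# Properness and small tools for the lists in dimensions 8, 10 and 12
-/

set_option autoImplicit false

namespace CfsgLib.Asch.Even

open Matrix Cfsg.Geo QuadraticMap Module
open CfsgLib.Classical.Quad (NDPolar polar_self' polar_singular_self Frame)
open CfsgLib.ClassicalMax.Tensor (pureL pureL_eq)
open scoped MatrixGroups Kronecker

variable {ι : Type} [Fintype ι] [DecidableEq ι] {F : Type*} [Field F]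

/-- a maximal subgroup is not contained in a smaller intersection -/
lemma not_maximal_elim {Ω H M : Subgroup (GL ι F)} (hH : IsMaximalIn Ω H) (hle : H ≤ M)
    (h : ∃ K, M ⊓ Ω < K ∧ K < Ω) : False := by
  obtain ⟨K, h1, h2⟩ := h
  have hHK : H < K := (le_inf hle hH.1.le).trans_lt h1
  rcases hH.2 K hHK.le h2.le with h | h
  · exact hHK.ne h.symm
  · exact h2.ne h

variable [Fintype F] {Q : QuadraticForm F (ι → F)}

/-- stabilisers of decompositions, any characteristic -/
lemma omega_not_le_decomp (hnd : NDPolar Q) (h7 : 7 ≤ Fintype.card ι) {t k : ℕ}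
    {D : Fin t → Submodule F (ι → F)} (hD : IsMDecomposition k D) : ¬ omegaGL ⇑Q ≤ decompositionStabilizer D := by
  classical
  intro hle
  obtain ⟨⟨P⟩, U, hU, hU3⟩ := ClassicalMax.OmE.exists_frame hnd h7
  refine omega_not_le_decomposition_of_singular hnd P hD ?_ hle
  have h2t := hD.two_le
  obtain ⟨v, hv, hv0⟩ := (Submodule.ne_bot_iff (D ⟨0, by omega⟩)).mp fun h => by
    have := hD.finrank_eq ⟨0, by omega⟩
    rw [h, finrank_bot] at this
    have := hD.pos
    omega
  by_cases hQv : Q v = 0
  · exact ⟨v, _, hQv, hv0, hv⟩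
  set φ : U →ₗ[F] F := (polarBilin Q v).comp U.subtype
  have hker : 2 ≤ finrank F (LinearMap.ker φ) := by
    have h := LinearMap.finrank_range_add_finrank_ker φ
    have h1 : finrank F (LinearMap.range φ) ≤ 1 :=
      (Submodule.finrank_le _).trans_eq (Module.finrank_self F)
    omega
  obtain ⟨f, hf⟩ := exists_linearIndependent_of_le_finrank hker
  let L : (Fin 2 → F) →ₗ[F] (ι → F) :=
    U.subtype.comp ((LinearMap.ker φ).subtype.comp (Fintype.linearCombination F f))
  have hLinj : Function.Injective L :=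
    U.injective_subtype.comp ((LinearMap.ker φ).injective_subtype.comp hf.fintypeLinearCombination_injective)
  have hsing : ∀ c, Q (L c) = 0 ∧ polar Q v (L c) = 0 := fun c =>
    ⟨hU _ (Subtype.coe_prop _), LinearMap.mem_ker.mp (Fintype.linearCombination F f c).2⟩
  have hin : ∀ a : ι → F, Q a = 0 → polar Q v a = 0 → ∃ j, v + a ∈ D j := by
    intro a hQa hva
    have hval : Q (v + a) = Q v := by rw [QuadraticMap.map_add (⇑Q), hQa, hva, add_zero, add_zero]
    obtain ⟨g, hg, he⟩ := omega_move_value hnd P hQv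
    obtain ⟨g', hg', he'⟩ := omega_move_value hnd P (show Q (v + a) ≠ 0 by rwa [hval])
    rw [hval] at he'
    obtain ⟨σ, hσ⟩ := hle (mul_mem (inv_mem hg') hg)
    refine ⟨σ ⟨0, by omega⟩, ?_⟩
    rw [← hσ]
    refine ⟨v, hv, ?_⟩
    rw [Matrix.toLin'_apply, Units.val_mul, ← mulVec_mulVec, he, ← he', mulVec_mulVec, ← Units.val_mul,
      inv_mul_cancel, Units.val_one, one_mulVec]
  let C : Fin 4 → Fin 2 → F := ![![0, 0], ![1, 0], ![0, 1], ![1, 1]]
  have hCinj : Function.Injective C := by
    intro l l' h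
    have h0 := congrFun h 0
    have h1 := congrFun h 1
    fin_cases l <;> fin_cases l' <;> simp [C] at h0 h1 ⊢
  let A : Fin 4 → ι → F := fun l => L (C l)
  choose j hj using fun l => hin (A l) (hsing (C l)).1 (hsing (C l)).2
  have hAsing : ∀ l l', Q (A l - A l') = 0 := fun l l' => by
    show Q (L (C l) - L (C l')) = 0
    rw [← map_sub]
    exact (hsing _).1
  have hAinj : Function.Injective A := hLinj.comp hCinj
  have hA0 : A 0 = 0 := by
    show L (C 0) = 0
    rw [show C 0 = 0 by funext i; fin_cases i <;> rfl, map_zero]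
  have hA3 : A 3 = A 1 + A 2 := by
    show L (C 3) = L (C 1) + L (C 2)
    rw [← map_add]
    congr 1
    funext i; fin_cases i <;> simp [C]
  by_cases hinj : Function.Injective j
  · exfalso
    let x : Fin 4 → ι → F := fun l => ![(1 : F), -1, -1, 1] l • (v + A l)
    have hx : ∀ l, x l ∈ D (j l) := fun l => (D (j l)).smul_mem _ (hj l)
    have hsum : ∑ l, x l = 0 := by
      simp [x, Fin.sum_univ_four, hA0, hA3]
      abel
    have h0 := ((iSupIndep_iff_finsetSum_eq_zero_imp_eq_zero _).mp (hD.indep.comp hinj)) Finset.univ x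
      (fun l _ => hx l) hsum 0 (Finset.mem_univ _)
    have : v = 0 := by simpa [x, hA0] using h0
    exact hv0 this
  · rw [Function.not_injective_iff] at hinj
    obtain ⟨l, l', hll, hne⟩ := hinj
    refine ⟨A l - A l', j l, hAsing l l', sub_ne_zero.mpr fun h => hne (hAinj h), ?_⟩
    rw [show A l - A l' = (v + A l) - (v + A l') by abel]
    exact sub_mem (hj l) (hll ▸ hj l')

/-- tensor stabilisers -/
lemma omega_not_le_tensor (hnd : NDPolar Q) (P₀ : Frame Q) {n₁ n₂ : ℕ} (e : ι ≃ Fin n₁ × Fin n₂) (P : GL ι F)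
    {u u' : Fin n₁ → F} (hu : LinearIndependent F ![u, u']) {v v' : Fin n₂ → F}
    (hv : LinearIndependent F ![v, v']) (h1 : Q (pureL e P u v) = 0) (h2 : Q (pureL e P u' v') = 0)
    (h12 : polar Q (pureL e P u v) (pureL e P u' v') = 0) :
    ¬ omegaGL ⇑Q ≤ tensorProductSubgroup n₁ n₂ e P := by
  classical
  intro hle
  have hu0 : u ≠ 0 := hu.ne_zero 0
  have hv0 : v ≠ 0 := hv.ne_zero 0
  obtain ⟨z, hz⟩ : ∃ z, z = pureL e P u v + pureL e P u' v' := ⟨_, rfl⟩
  have hQz : Q z = 0 := by rw [hz, QuadraticMap.map_add (⇑Q), h1, h2, h12, add_zero, add_zero]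
  have hz0 : z ≠ 0 := fun h => hv0
    (ClassicalMax.Tensor.eq_zero_of_add e P hu (i := 0) (j := 1) (by decide) (by simpa [hz] using h)).1
  obtain ⟨g, hg, he⟩ := omega_move_singular hnd P₀ h1 (ClassicalMax.Tensor.pureL_ne_zero e P hu0 hv0)
  obtain ⟨g', hg', he'⟩ := omega_move_singular hnd P₀ hQz hz0
  obtain ⟨a, b, hab⟩ := ClassicalMax.Tensor.exists_factors e P (hle (mul_mem (inv_mem hg') hg))
  have h := hab u v
  rw [Units.val_mul, ← mulVec_mulVec, he, ← he', mulVec_mulVec, ← Units.val_mul, inv_mul_cancel, Units.val_one,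
    one_mulVec] at h
  rw [hz] at h
  set a' := (a : Matrix (Fin n₁) (Fin n₁) F) *ᵥ u
  set b' := (b : Matrix (Fin n₂) (Fin n₂) F) *ᵥ v
  have hdep : ∀ c c' : F, v = c • b' → v' = c' • b' → False := by
    intro c c' h1 h2
    have h3 := Fintype.linearIndependent_iff.mp hv ![c', -c] (by
      simp [Fin.sum_univ_two, h1, h2, smul_smul, ← add_smul, mul_comm]) 1
    simp at h3
    exact hv0 (by rw [h1, h3, zero_smul])
  by_cases hspan : a' ∈ Submodule.span F (Set.range ![u, u'])
  · obtain ⟨c, hc⟩ := (Submodule.mem_span_range_iff_exists_fun F).mp hspan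
    simp only [Fin.sum_univ_two, Matrix.cons_val_zero, Matrix.cons_val_one] at hc
    refine hdep (c 0) (c 1) ?_ ?_ <;> rw [← sub_eq_zero]
    all_goals
      have h' : pureL e P (![u, u'] 0) (v - c 0 • b') + pureL e P (![u, u'] 1) (v' - c 1 • b') = 0 := by
        simp only [Matrix.cons_val_zero, Matrix.cons_val_one, map_sub]
        rw [← ClassicalMax.Tensor.smul_pureL, ← ClassicalMax.Tensor.smul_pureL]
        have hadd : pureL e P (c 0 • u) b' + pureL e P (c 1 • u') b' = pureL e P a' b' := by
          rw [← hc]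
          simp only [pureL_eq, ← mulVec_add]
          congr 1
          funext i
          simp [add_mul]
        linear_combination (norm := abel) h - hadd
    · exact (ClassicalMax.Tensor.eq_zero_of_add e P hu (i := 0) (j := 1) (by decide) h').1
    · exact (ClassicalMax.Tensor.eq_zero_of_add e P hu (i := 0) (j := 1) (by decide) h').2
  · have hli : LinearIndependent F ![a', u, u'] := linearIndependent_finCons.mpr ⟨hu, hspan⟩
    refine hv0 (ClassicalMax.Tensor.sum_eq_zero e P hli (w := ![-b', v, v']) ?_ 1)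
    simp only [Fin.sum_univ_three, Matrix.cons_val_zero, Matrix.cons_val_one, Matrix.cons_val_two,
      Matrix.head_cons, Matrix.tail_cons, map_neg]
    linear_combination (norm := abel) h

omit [Fintype ι] [DecidableEq ι] in
/-- proper subfields -/
lemma subfield_ne_top {F₀ : Subfield F} {r : ℕ} (hr : r.Prime) (hc : Fintype.card F = Nat.card F₀ ^ r) :
    F₀ ≠ ⊤ := by
  rintro rfl
  rw [Nat.card_congr (Subfield.topEquiv (K := F)).toEquiv, Nat.card_eq_fintype_card] at hc
  have h4 := Nat.pow_lt_pow_right (Fintype.one_lt_card : 1 < Fintype.card F) hr.one_lt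
  rw [pow_one, ← hc] at h4
  exact lt_irrefl _ h4

/-- characteristic two: non-degenerate subspaces have even dimension -/
lemma even_of_char_two (h2 : (2 : F) = 0) {W : Submodule F (ι → F)} (hW : IsNondegenerateOn (polar ⇑Q) W) :
    Even (finrank F W) := by
  obtain ⟨k, r, e, f, R, hn, hr, -, hR, -, -, hndR⟩ :=
    FormsDisc.exists_decomp (finrank F W) (res Q W) (ndPolar_res hW) rfl
  rcases (by omega : r = 0 ∨ r = 1 ∨ r = 2) with rfl | rfl | rfl
  · exact ⟨k, by omega⟩
  · exfalso
    haveI : Nontrivial R := Module.nontrivial_of_finrank_pos (R := F) (by omega)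
    obtain ⟨x, hx⟩ := exists_ne (0 : R)
    refine hx (Subtype.ext (hndR x x.2 fun y hy => ?_))
    obtain ⟨c, hc⟩ := exists_smul_eq_of_finrank_eq_one (K := F) (V := R) hR hx (⟨y, hy⟩ : R)
    rw [show y = c • (x : W) from (congrArg Subtype.val hc).symm, polar_smul_right, polar_self', h2, zero_mul,
      smul_zero]
  · exact ⟨k + 1, by omega⟩

omit [Fintype ι] [DecidableEq ι] in
lemma two_ne_zero_iff : (2 : F) ≠ 0 ↔ Odd (Fintype.card F) := by
  rw [Classical.Quad.two_ne_zero_iff_odd, Nat.card_eq_fintype_card]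

end CfsgLib.Asch.Even
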