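import Cfsg.Agent.Lib.Aschbacher.EvenListBasic
import Cfsg.Agent.Lib.Aschbacher.EvenTensor
import Cfsg.Agent.Lib.ClassicalMax.OrthTensor

/-!
# Maximal subgroups of `Ω` of minus type in dimension twelve
-/

set_option autoImplicit false

namespace CfsgLib.Asch.Even

open Matrix Cfsg.Geo QuadraticMap Module
open CfsgLib.Classical.Quad (NDPolar)
open scoped MatrixGroups Kronecker

variable {ι : Type} [Fintype ι] [DecidableEq ι] {F : Type*} [Field F] [Fintype F]

/-- the possible types of a maximal subgroup -/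
inductive TwelveMinusType (Q : QuadraticForm F (ι → F)) (H : Subgroup (GL ι F)) : Prop
  | singular (W : Submodule F (ι → F)) (h0 : W ≠ ⊥) (hs : IsTotallySingularQuad ⇑Q W)
      (he : H = subspaceStabilizer W ⊓ omegaGL ⇑Q)
  | oddDim (W : Submodule F (ι → F)) (hq : Odd (Fintype.card F)) (h0 : W ≠ ⊥) (h1 : W ≠ ⊤)
      (hd : Odd (finrank F W)) (hd6 : 2 * finrank F W ≠ 12) (hW : IsNondegenerateOn (polar ⇑Q) W)
      (he : H = subspaceStabilizer W ⊓ omegaGL ⇑Q)
  | planeMinus (W : Submodule F (ι → F)) (hd : finrank F W = 2) (hW : IsNondegenerateOn (polar ⇑Q) W)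
      (hp : ¬ IsPlusTypeOn ⇑Q W) (he : H = subspaceStabilizer W ⊓ omegaGL ⇑Q)
  | planePlus (W : Submodule F (ι → F)) (hq : 4 ≤ Fintype.card F) (hd : finrank F W = 2)
      (hW : IsNondegenerateOn (polar ⇑Q) W) (hp : IsPlusTypeOn ⇑Q W)
      (he : H = subspaceStabilizer W ⊓ omegaGL ⇑Q)
  | four (W : Submodule F (ι → F)) (hd : finrank F W = 4) (hW : IsNondegenerateOn (polar ⇑Q) W)
      (he : H = subspaceStabilizer W ⊓ omegaGL ⇑Q)
  | six (W : Submodule F (ι → F)) (hd : finrank F W = 6) (hW : IsNondegenerateOn (polar ⇑Q) W)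
      (he : H = subspaceStabilizer W ⊓ omegaGL ⇑Q)
  | point (v : ι → F) (hq : ¬ Odd (Fintype.card F)) (hv : Q v ≠ 0)
      (he : H = subspaceStabilizer (Submodule.span F {v}) ⊓ omegaGL ⇑Q)
  | quads (D : Fin 3 → Submodule F (ι → F)) (hD : IsOrthogonalMDecomposition ⇑Q 4 D)
      (hp : ∀ i, ¬ IsPlusTypeOn ⇑Q (D i)) (he : H = decompositionStabilizer D ⊓ omegaGL ⇑Q)
  | fieldTwo (K : Subalgebra F (Matrix ι ι F)) (hK : IsFieldSubalgebra 2 K)
      (he : H = subalgebraNormalizer K ⊓ omegaGL ⇑Q)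
  | fieldThree (K : Subalgebra F (Matrix ι ι F)) (hK : IsFieldSubalgebra 3 K)
      (he : H = subalgebraNormalizer K ⊓ omegaGL ⇑Q)
  | tensor (e : ι ≃ Fin 3 × Fin 4) (P : GL ι F) (f₁ : (Fin 3 → F) → (Fin 3 → F) → F)
      (f₂ : (Fin 4 → F) → (Fin 4 → F) → F) (hq : Odd (Fintype.card F)) (hq5 : 5 ≤ Fintype.card F)
      (hf₁ : IsSymmetricForm f₁) (hf₂ : IsSymmetricForm f₂)
      (hm : ¬ IsPlusTypeOn (fun v : Fin 4 → F => f₂ v v) ⊤)
      (hstr : IsTensorFormStructure id (polar ⇑Q) f₁ f₂ e P)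
      (he : H = tensorProductSubgroup 3 4 e P ⊓ omegaGL ⇑Q)
  | subfield (F₀ : Subfield F) (r : ℕ) (P : GL ι F) (ζ : F) (hr : r.Prime) (hodd : Odd r)
      (hc : Fintype.card F = Nat.card F₀ ^ r) (hζ : ζ ≠ 0)
      (hrat : IsQuadFormRationalStructure (fun v => ζ * Q v) F₀ P) (he : H = subfieldSubgroup F₀ P ⊓ omegaGL ⇑Q)
  | residual (h : InOrthogonalResidualClass H)

theorem twelveMinus_type {Q : QuadraticForm F (ι → F)} (hnd : NDPolar Q)
    (hQ : IsNondegenerateQuadraticForm ⇑Q) (hn : Fintype.card ι = 12)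
    (hminus : ¬ IsPlusTypeOn ⇑Q ⊤) {H : Subgroup (GL ι F)} (hH : IsMaximalIn (omegaGL ⇑Q) H) :
    TwelveMinusType Q H := by
  have h7 : 7 ≤ Fintype.card ι := by omega
  haveI : Nonempty ι := Fintype.card_pos_iff.mp (by omega)
  obtain ⟨⟨P₀⟩, -⟩ := ClassicalMax.OmE.exists_frame hnd h7
  rcases evenCase_of_le (hnd := hnd) (m := 6) hn (by omega) le_rfl hH.1.le with
    ⟨W, h0, hs, hle⟩ | ⟨v, h2, hv, hle⟩ | ⟨W, h0, hd, hW, hle⟩ | ⟨D, hD, hle, h⟩ |
    ⟨t, k, D, ht, htk, hD, hk, hle⟩ | ⟨D, hD, hs, hle⟩ | ⟨r, K, G, hHG, hG, hirr, hr, hrn, hK, hadj, hle, -⟩ |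
    ⟨k, e, P, f₁, f₂, hf₁, hf₂, hstr, hpure, hle⟩ | ⟨e, P, f₁, f₂, h2, hf₁, hf₂, hstr, hle⟩ |
    ⟨F₀, r, P, ζ, hr, hc, hζ, hrat, hle⟩ | ⟨hm, hplus⟩ | h
  · exact .singular W h0 hs (eq_singular hnd h7 hH h0 hs hle)
  · exact .point v (fun ho => two_ne_zero_iff.mpr ho h2) hv (eq_point hnd h7 hH hv hle)
  · have hpos : 0 < finrank F W := Nat.pos_of_ne_zero fun h => h0 (Submodule.finrank_eq_zero.mp h)
    by_cases ho : Odd (finrank F W)
    · exact .oddDim W (odd_of_nondeg hW ho) h0 (ne_top_of_lt (by omega)) ho (by omega) hW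
        (eq_stab hnd h7 hH h0 (ne_top_of_lt (by omega)) hle)
    rw [Nat.odd_iff] at ho
    obtain hd2 | hd4 : finrank F W = 2 ∨ finrank F W = 4 := by omega
    · rcases plane_cases hnd h7 hH hd2 hW hle with ⟨hp, he⟩ | ⟨hq, hp, he⟩ | ⟨hq, W', hd', hW', he⟩
      · exact .planeMinus W hd2 hW hp he
      · exact .planePlus W hq hd2 hW hp he
      · exact .oddDim W' hq (fun h => by rw [h, finrank_bot] at hd'; omega) (ne_top_of_lt (by omega))
          (by rw [Nat.odd_iff]; omega) (by omega) hW' he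
    · exact .four W hd4 hW (eq_stab hnd h7 hH h0 (ne_top_of_lt (by omega)) hle)
  · rcases h with h | h
    · have h0 : D 0 ≠ ⊥ := fun h0 => by
        have := hD.decomp.finrank_eq 0
        rw [h0, finrank_bot] at this
        omega
      exact .six (D 0) (hD.decomp.finrank_eq 0) (hD.nondegenerate 0)
        (eq_stab hnd h7 hH h0 (ne_top_of_lt (by rw [hD.decomp.finrank_eq 0]; omega)) h)
    · exact absurd ((singIn_two (orth_pair hD h) ⟨3, rfl⟩ (show (0 : Fin 2) ≠ 1 by decide)).plus (by omega)) hminus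
  · have ht12 : t ≤ 12 := by
      have := Nat.le_mul_of_pos_right t hD.decomp.decomp.pos
      omega
    obtain ⟨rfl, rfl⟩ | ⟨rfl, rfl⟩ | ⟨rfl, rfl⟩ | ⟨rfl, rfl⟩ :
        (t = 3 ∧ k = 4) ∨ (t = 4 ∧ k = 3) ∨ (t = 6 ∧ k = 2) ∨ (t = 12 ∧ k = 1) := by
      interval_cases t <;> omega
    · refine .quads D hD (fun i hp => hminus ?_) (eq_decomp hnd h7 hH hD.decomp.decomp hle)
      obtain ⟨U, hUD, hU, hUd⟩ := (plus_member_iff hD i 2).mp hp
      rw [hD.decomp.decomp.finrank_eq 2] at hUd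
      exact ((singIn_two hD ⟨2, rfl⟩ (show (0 : Fin 3) ≠ 1 by decide)).union hD.decomp
        (SingIn.single (Q := Q) (D := D) 2 hUD hU) (by decide)).plus (by omega)
    · exact absurd ((singIn_four hD (a := 0) (b := 1) (c := 2) (d := 3) (by decide)).plus (by omega)) hminus
    · exact absurd (((singIn_four hD (a := 0) (b := 1) (c := 2) (d := 3) (by decide)).union hD.decomp
        (singIn_two hD ⟨1, rfl⟩ (show (4 : Fin 6) ≠ 5 by decide)) (by decide)).plus (by omega)) hminus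
    · exact absurd ((((singIn_four hD (a := 0) (b := 1) (c := 2) (d := 3) (by decide)).union hD.decomp
        (singIn_four hD (a := 4) (b := 5) (c := 6) (d := 7) (by decide)) (by decide)).union hD.decomp
        (singIn_four hD (a := 8) (b := 9) (c := 10) (d := 11) (by decide)) (by decide)).plus (by omega)) hminus
  · exact absurd (plus_of_pair hD hs hn) hminus
  · have hr12 : r ≤ 12 := Nat.le_of_dvd (by omega) hrn
    have hr2 := hr.two_le
    obtain rfl | rfl : r = 2 ∨ r = 3 := by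
      interval_cases r <;> simp at hrn ⊢ <;> norm_num at hr
    · exact .fieldTwo K hK (eq_field hnd h7 hH hr hK (hHG.trans hle))
    · exact .fieldThree K hK (eq_field hnd h7 hH hr hK (hHG.trans hle))
  · exact absurd (plus_of_pure e P hpure) hminus
  · have hodd := two_ne_zero_iff.mp h2
    have hm := fun hp => hminus (plus_of_plus_factor h2 hf₁ hf₂ hstr hp)
    have hq1 : 1 < Fintype.card F := Fintype.one_lt_card
    by_cases hq : Fintype.card F = 3
    · obtain ⟨c, hc0, hc⟩ := hstr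
      exact (not_maximal_elim hH hle
        (ClassicalMax.Om.tensor_three_not_maximal hq hQ (by omega) e P hf₁ hf₂ hc0 hc)).elim
    · refine .tensor e P f₁ f₂ hodd ?_ hf₁ hf₂ hm hstr
        (max_eq_gen hH hle (omega_not_le_tensor_sym hnd P₀ h2 (by omega) (by omega) hf₁ hf₂ hstr))
      rw [Nat.odd_iff] at hodd
      omega
  · refine .subfield F₀ r P ζ hr ?_ hc hζ hrat (eq_subfield hnd h7 hH hr hc hle)
    refine (hr.eq_two_or_odd').resolve_left ?_
    rintro rfl
    exact hminus (plus_of_index_two hnd (j := 6) hn hc hζ hrat)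
  · omega
  · exact .residual h

end CfsgLib.Asch.Even
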