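import Cfsg.Agent.Lib.Aschbacher.EvenListBasic
import Cfsg.Agent.Lib.Aschbacher.EvenThreeFour
import Cfsg.Agent.Lib.ClassicalMax.OrthPlanesPlus
import Cfsg.Agent.Lib.ClassicalMax.OrthPlanesFrames

/-!
# Maximal subgroups of `Ω` of plus type in dimension twelve
-/

set_option autoImplicit false

namespace CfsgLib.Asch.Even

open Matrix Cfsg.Geo QuadraticMap Module
open CfsgLib.Classical.Quad (NDPolar Frame)
open CfsgLib.ClassicalMax.Tensor (pureL pureL_eq)
open scoped MatrixGroups Kronecker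

variable {ι : Type} [Fintype ι] [DecidableEq ι] {F : Type*} [Field F] [Fintype F]

/-- the possible types of a maximal subgroup -/
inductive TwelvePlusType (Q : QuadraticForm F (ι → F)) (H : Subgroup (GL ι F)) : Prop
  | singular (W : Submodule F (ι → F)) (h0 : W ≠ ⊥) (hs : IsTotallySingularQuad ⇑Q W) (hd : finrank F W ≠ 5)
      (he : H = subspaceStabilizer W ⊓ omegaGL ⇑Q)
  | oddDim (W : Submodule F (ι → F)) (hq : Odd (Fintype.card F)) (h0 : W ≠ ⊥) (h1 : W ≠ ⊤)
      (hd : Odd (finrank F W)) (hd6 : 2 * finrank F W ≠ 12) (hW : IsNondegenerateOn (polar ⇑Q) W)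
      (he : H = subspaceStabilizer W ⊓ omegaGL ⇑Q)
  | planeMinus (W : Submodule F (ι → F)) (hd : finrank F W = 2) (hW : IsNondegenerateOn (polar ⇑Q) W)
      (hp : ¬ IsPlusTypeOn ⇑Q W) (he : H = subspaceStabilizer W ⊓ omegaGL ⇑Q)
  | planePlus (W : Submodule F (ι → F)) (hq : 4 ≤ Fintype.card F) (hd : finrank F W = 2)
      (hW : IsNondegenerateOn (polar ⇑Q) W) (hp : IsPlusTypeOn ⇑Q W)
      (he : H = subspaceStabilizer W ⊓ omegaGL ⇑Q)
  | four (W : Submodule F (ι → F)) (hd : finrank F W = 4) (hW : IsNondegenerateOn (polar ⇑Q) W)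
      (he : H = subspaceStabilizer W ⊓ omegaGL ⇑Q)
  | point (v : ι → F) (hq : ¬ Odd (Fintype.card F)) (hv : Q v ≠ 0)
      (he : H = subspaceStabilizer (Submodule.span F {v}) ⊓ omegaGL ⇑Q)
  | lines (D : Fin 12 → Submodule F (ι → F)) (hp : (Fintype.card F).Prime) (hq : Odd (Fintype.card F))
      (hD : IsOrthogonalMDecomposition ⇑Q 1 D) (he : H = decompositionStabilizer D ⊓ omegaGL ⇑Q)
  | planesPlus (D : Fin 6 → Submodule F (ι → F)) (hq : 7 ≤ Fintype.card F)
      (hD : IsOrthogonalMDecomposition ⇑Q 2 D) (hp : ∀ i, IsPlusTypeOn ⇑Q (D i))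
      (he : H = decompositionStabilizer D ⊓ omegaGL ⇑Q)
  | planesMinus (D : Fin 6 → Submodule F (ι → F)) (hq : Fintype.card F ≠ 3)
      (hD : IsOrthogonalMDecomposition ⇑Q 2 D) (hp : ∀ i, ¬ IsPlusTypeOn ⇑Q (D i))
      (he : H = decompositionStabilizer D ⊓ omegaGL ⇑Q)
  | threes (D : Fin 4 → Submodule F (ι → F)) (hq : Odd (Fintype.card F)) (hq5 : 5 ≤ Fintype.card F)
      (hD : IsOrthogonalMDecomposition ⇑Q 3 D) (he : H = decompositionStabilizer D ⊓ omegaGL ⇑Q)
  | quads (D : Fin 3 → Submodule F (ι → F)) (hq : 3 ≤ Fintype.card F)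
      (hD : IsOrthogonalMDecomposition ⇑Q 4 D) (he : H = decompositionStabilizer D ⊓ omegaGL ⇑Q)
  | sixes (D : Fin 2 → Submodule F (ι → F))
      (hD : IsOrthogonalMDecomposition ⇑Q 6 D) (he : H = decompositionStabilizer D ⊓ omegaGL ⇑Q)
  | pair (D : Fin 2 → Submodule F (ι → F)) (hD : IsMDecomposition 6 D)
      (hs : ∀ i, IsTotallySingularQuad ⇑Q (D i)) (he : H = decompositionStabilizer D ⊓ omegaGL ⇑Q)
  | fieldTwo (K : Subalgebra F (Matrix ι ι F)) (hK : IsFieldSubalgebra 2 K)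
      (he : H = subalgebraNormalizer K ⊓ omegaGL ⇑Q)
  | fieldThree (K : Subalgebra F (Matrix ι ι F)) (hK : IsFieldSubalgebra 3 K)
      (he : H = subalgebraNormalizer K ⊓ omegaGL ⇑Q)
  | tensor (e : ι ≃ Fin 2 × Fin 6) (P : GL ι F) (f₁ : (Fin 2 → F) → (Fin 2 → F) → F)
      (f₂ : (Fin 6 → F) → (Fin 6 → F) → F) (hq : 3 ≤ Fintype.card F)
      (hf₁ : IsSymplecticForm f₁) (hf₂ : IsSymplecticForm f₂)
      (hstr : IsTensorFormStructure id (polar ⇑Q) f₁ f₂ e P) (hpure : ∀ u v, Q (pureL e P u v) = 0)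
      (he : H = tensorProductSubgroup 2 6 e P ⊓ omegaGL ⇑Q)
  | subfield (F₀ : Subfield F) (r : ℕ) (P : GL ι F) (ζ : F) (hr : r.Prime)
      (hc : Fintype.card F = Nat.card F₀ ^ r) (hζ : ζ ≠ 0)
      (hrat : IsQuadFormRationalStructure (fun v => ζ * Q v) F₀ P) (he : H = subfieldSubgroup F₀ P ⊓ omegaGL ⇑Q)
  | residual (h : InOrthogonalResidualClass H)

variable {Q : QuadraticForm F (ι → F)}

/-- two halves of different type: not of plus type -/
theorem not_plus_of_mixed (hnd : NDPolar Q) (hn : Fintype.card ι = 12) {D : Fin 2 → Submodule F (ι → F)}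
    (hD : IsNondegenerateMDecomposition (polar ⇑Q) 6 D) {a b : Fin 2} (hab : a ≠ b)
    (ha : IsPlusTypeOn ⇑Q (D a)) (hb : ¬ IsPlusTypeOn ⇑Q (D b)) : ¬ IsPlusTypeOn ⇑Q ⊤ := by
  obtain ⟨U, hUD, hU, hUd⟩ := ha
  rw [hD.decomp.finrank_eq a] at hUd
  obtain ⟨U', R, hU'D, hRD, hU', hU'd, hRd, hR, hUR⟩ :=
    exists_parts (hD.nondegenerate b) (j := 2) (by rw [hD.decomp.finrank_eq b]) hb
  have hperp : Perp Q (D a) (D b) := fun u hu v hv => hD.orthogonal a b hab u hu v hv
  have hdis : Disjoint (D a) (D b) := hD.decomp.indep.pairwiseDisjoint hab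
  refine not_plus_of_aniso hnd (singular_sup hU hU' (hperp.mono hUD hU'D)) ?_ hRd hR ?_
  · rw [finrank_sup_disjoint (hdis.mono hUD hU'D), hU'd, hn]
    omega
  · intro u hu v hv
    obtain ⟨y, hy, z, hz, rfl⟩ := Submodule.mem_sup.mp hu
    rw [polar_add_left, hperp y (hUD hy) v (hRD hv), hUR z hz v hv, add_zero]

theorem twelvePlus_type (hnd : NDPolar Q)
    (hQ : IsNondegenerateQuadraticForm ⇑Q) (hn : Fintype.card ι = 12)
    (hplus : IsPlusTypeOn ⇑Q ⊤) {H : Subgroup (GL ι F)} (hH : IsMaximalIn (omegaGL ⇑Q) H) :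
    TwelvePlusType Q H := by
  have h7 : 7 ≤ Fintype.card ι := by omega
  haveI : Nonempty ι := Fintype.card_pos_iff.mp (by omega)
  obtain ⟨⟨P₀⟩, -⟩ := ClassicalMax.OmE.exists_frame hnd h7
  have hq1 : 1 < Fintype.card F := Fintype.one_lt_card
  have alt : ∀ (k : ℕ) (e : ι ≃ Fin 2 × Fin k) (P : GL ι F) (f₁ : (Fin 2 → F) → (Fin 2 → F) → F)
      (f₂ : (Fin k → F) → (Fin k → F) → F), IsSymplecticForm f₁ → IsSymplecticForm f₂ →
      IsTensorFormStructure id (polar ⇑Q) f₁ f₂ e P → (∀ u v, Q (pureL e P u v) = 0) →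
      H ≤ tensorProductSubgroup 2 k e P → TwelvePlusType Q H := by
    intro k e P f₁ f₂ hf₁ hf₂ hstr hpure hle
    obtain rfl : k = 6 := by
      have := Fintype.card_congr e
      simp at this
      omega
    obtain ⟨c, hc0, hpol⟩ := pure_polar hf₁.bilinear hf₂.bilinear hstr
    by_cases hq : Fintype.card F = 2
    · have hc1 : c = 1 := by
        have := FiniteField.pow_card_sub_one_eq_one c hc0
        rwa [hq, pow_one] at this
      exact (not_maximal_elim hH hle (ClassicalMax.OmT.symp_square_not_maximal hnd P₀ hq (by omega) e P hf₁ hf₂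
        (fun u u' w w' => by rw [hpol, hc1, one_mul]) hpure)).elim
    refine .tensor e P f₁ f₂ (by omega) hf₁ hf₂ hstr hpure (max_eq_gen hH hle ?_)
    obtain ⟨v', hliv, hvv⟩ := exists_orth_indep (F := F) (n := 6) (by omega) hf₂.bilinear
      (v := Pi.single 0 1) (by simp)
    have hliu : LinearIndependent F ![(Pi.single 0 1 : Fin 2 → F), Pi.single 1 1] :=
      (LinearIndependent.pair_iff' (by simp)).mpr fun a ha => by simpa using congrFun ha 1
    exact omega_not_le_tensor hnd P₀ e P hliu hliv (hpure _ _) (hpure _ _) (by rw [hpol, hvv, mul_zero, mul_zero])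
  rcases evenCase_of_le (hnd := hnd) (m := 6) hn (by omega) le_rfl hH.1.le with
    ⟨W, h0, hs, hle⟩ | ⟨v, h2, hv, hle⟩ | ⟨W, h0, hd, hW, hle⟩ | ⟨D, hD, hle, h⟩ |
    ⟨t, k, D, ht, htk, hD, hk, hle⟩ | ⟨D, hD, hs, hle⟩ | ⟨r, K, G, hHG, hG, hirr, hr, hrn, hK, hadj, hle, -⟩ |
    ⟨k, e, P, f₁, f₂, hf₁, hf₂, hstr, hpure, hle⟩ | ⟨e, P, f₁, f₂, h2, hf₁, hf₂, hstr, hle⟩ |
    ⟨F₀, r, P, ζ, hr, hc, hζ, hrat, hle⟩ | ⟨hm, hp8⟩ | h
  · refine .singular W h0 hs (fun hd => ?_) (eq_singular hnd h7 hH h0 hs hle)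
    obtain ⟨U₀, -, hU₀, hU₀d⟩ := hplus
    rw [finrank_top, finrank_fintype_fun_eq_card] at hU₀d
    exact not_maximal_elim hH hle
      (ClassicalMax.OmE.submaximal_not_maximal hnd P₀ h7 hU₀ hU₀d hs (by omega))
  · exact .point v (fun ho => two_ne_zero_iff.mpr ho h2) hv (eq_point hnd h7 hH hv hle)
  · have hpos : 0 < finrank F W := Nat.pos_of_ne_zero fun h => h0 (Submodule.finrank_eq_zero.mp h)
    by_cases ho : Odd (finrank F W)
    · exact .oddDim W (odd_of_nondeg hW ho) h0 (ne_top_of_lt (by omega)) ho (by omega) hW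
        (eq_stab hnd h7 hH h0 (ne_top_of_lt (by omega)) hle)
    rw [Nat.odd_iff] at ho
    obtain hd2 | hd4 : finrank F W = 2 ∨ finrank F W = 4 := by omega
    · rcases plane_cases hnd h7 hH hd2 hW hle with ⟨hp, he⟩ | ⟨hq, hp, he⟩ | ⟨hq, W', hd', hW', he⟩
      · exact .planeMinus W hd2 hW hp he
      · exact .planePlus W hq hd2 hW hp he
      · exact .oddDim W' hq (fun h => by rw [h, finrank_bot] at hd'; omega) (ne_top_of_lt (by omega))
          (by rw [Nat.odd_iff]; omega) (by omega) hW' he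
    · exact .four W hd4 hW (eq_stab hnd h7 hH h0 (ne_top_of_lt (by omega)) hle)
  · have hiso : AreIsometricFor ⇑Q (D 0) (D 1) := by
      rcases h with - | h
      · refine isometric_of_type (hD.nondegenerate 0) (hD.nondegenerate 1) (j := 3) (hD.decomp.finrank_eq 0)
          (hD.decomp.finrank_eq 1) ⟨fun h0 => ?_, fun h1 => ?_⟩ <;> by_contra hne
        · exact not_plus_of_mixed hnd hn hD (by decide) h0 hne hplus
        · exact not_plus_of_mixed hnd hn hD (by decide) h1 hne hplus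
      · exact h
    exact .sixes D (orth_pair hD hiso) (eq_decomp hnd h7 hH hD.decomp hle)
  · have ht12 : t ≤ 12 := by
      have := Nat.le_mul_of_pos_right t hD.decomp.decomp.pos
      omega
    have heq := eq_decomp hnd h7 hH hD.decomp.decomp hle
    obtain ⟨rfl, rfl⟩ | ⟨rfl, rfl⟩ | ⟨rfl, rfl⟩ | ⟨rfl, rfl⟩ :
        (t = 3 ∧ k = 4) ∨ (t = 4 ∧ k = 3) ∨ (t = 6 ∧ k = 2) ∨ (t = 12 ∧ k = 1) := by
      interval_cases t <;> omega
    · by_cases hq : Fintype.card F = 2
      swap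
      · exact .quads D (by omega) hD heq
      by_cases hp : IsPlusTypeOn ⇑Q (D 2)
      · exact (not_maximal_elim hH hle (ClassicalMax.OmP.plus_quads_two hnd P₀ hQ hq le_rfl hD
          fun i => (plus_member_iff hD i 2).mpr hp)).elim
      · exfalso
        obtain ⟨U', R, hU'D, hRD, hU', hU'd, hRd, hR, hUR⟩ :=
          exists_parts (hD.decomp.nondegenerate 2) (j := 1) (by rw [hD.decomp.decomp.finrank_eq 2]) hp
        obtain ⟨U, hUle, hU, hUd⟩ := singIn_two hD ⟨2, rfl⟩ (show (0 : Fin 3) ≠ 1 by decide)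
        have hperp : Perp Q (⨆ i ∈ ({0, 1} : Finset (Fin 3)), D i) (D 2) := by
          have h := perp_biSup hD.decomp (s := {0, 1}) (s' := {2}) (by decide)
          simpa using h
        have hdis : Disjoint (⨆ i ∈ ({0, 1} : Finset (Fin 3)), D i) (D 2) := by
          have h := disjoint_biSup hD.decomp (s := {0, 1}) (s' := {2}) (by decide)
          simpa using h
        refine not_plus_of_aniso hnd (singular_sup hU hU' (hperp.mono hUle hU'D)) ?_ hRd hR ?_ hplus
        · rw [finrank_sup_disjoint (hdis.mono hUle hU'D), hU'd, hUd, hn]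
        · intro u hu v hv
          obtain ⟨y, hy, z, hz, rfl⟩ := Submodule.mem_sup.mp hu
          rw [polar_add_left, hperp y (hUle hy) v (hRD hv), hUR z hz v hv, add_zero]
    · have hodd : Odd (Fintype.card F) := odd_of_nondeg (hD.decomp.nondegenerate 0)
        (by rw [hD.decomp.decomp.finrank_eq 0]; decide)
      by_cases hq : Fintype.card F = 3
      · obtain ⟨D', hD', hle'⟩ := exists_lines_of_threes (Q := Q) hq hD (by omega) (fixes_omega hH.1.le) hle
        exact .lines D' (by rw [hq]; exact Nat.prime_three) hodd hD'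
          (eq_decomp hnd h7 hH hD'.decomp.decomp hle')
      · refine .threes D hodd ?_ hD heq
        rw [Nat.odd_iff] at hodd
        omega
    · by_cases hp : IsPlusTypeOn ⇑Q (D 0)
      · have hall : ∀ i, IsPlusTypeOn ⇑Q (D i) := fun i => (plus_member_iff hD i 0).mpr hp
        refine .planesPlus D ?_ hD hall heq
        by_contra hc
        have h6 : Fintype.card F ≠ 6 := fun h6 => by
          obtain ⟨p, f, hp, -, -, hcard⟩ := exists_prime_pow (F := F)
          rw [h6] at hcard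
          have h2 := (Nat.prime_dvd_prime_iff_eq Nat.prime_two hp).mp
            (Nat.prime_two.dvd_of_dvd_pow (hcard ▸ (by norm_num : 2 ∣ 6)))
          have h3 := (Nat.prime_dvd_prime_iff_eq Nat.prime_three hp).mp
            (Nat.prime_three.dvd_of_dvd_pow (hcard ▸ (by norm_num : 3 ∣ 6)))
          omega
        rcases (by omega : Fintype.card F = 2 ∨ Fintype.card F = 3 ∨ Fintype.card F = 4 ∨ Fintype.card F = 5) with
          hq | hq | hq | hq
        · exact not_maximal_elim hH hle (ClassicalMax.OmP.plus_planes_two hnd P₀ hq (by omega) hD hall)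
        · exact not_maximal_elim hH hle (ClassicalMax.OmP.plus_planes_three hnd P₀ hq (by omega) hD hall)
        · exact not_maximal_elim hH hle (ClassicalMax.OmP.plus_planes_four hnd P₀ hQ hq (by omega) hD hall)
        · exact not_maximal_elim hH hle (ClassicalMax.OmP.plus_planes_five hnd P₀ hQ hq h7 (by omega) hD 0 hp)
      · refine .planesMinus D (fun hq => ?_) hD (fun i h => hp ((plus_member_iff hD i 0).mp h)) heq
        exact not_maximal_elim hH hle (ClassicalMax.OmP.minus_planes_three hnd P₀ hQ hq h7 (by omega) hD 0 hp)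
    · obtain ⟨h2, hp⟩ := hk rfl
      exact .lines D hp (two_ne_zero_iff.mp h2) hD heq
  · exact .pair D hD hs (eq_decomp hnd h7 hH hD hle)
  · have hr12 : r ≤ 12 := Nat.le_of_dvd (by omega) hrn
    have hr2 := hr.two_le
    obtain rfl | rfl : r = 2 ∨ r = 3 := by
      interval_cases r <;> simp at hrn ⊢ <;> norm_num at hr
    · exact .fieldTwo K hK (eq_field hnd h7 hH hr hK (hHG.trans hle))
    · exact .fieldThree K hK (eq_field hnd h7 hH hr hK (hHG.trans hle))
  · exact alt k e P f₁ f₂ hf₁ hf₂ hstr hpure hle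
  · obtain ⟨e', P', g₁, g₂, hg₁, hg₂, hstr', hpure', hle'⟩ := alt_of_sym hnd h2 hf₁ hf₂ hstr hplus hH.1.le hle
    exact alt 6 e' P' g₁ g₂ hg₁ hg₂ hstr' hpure' hle'
  · exact .subfield F₀ r P ζ hr hc hζ hrat (eq_subfield hnd h7 hH hr hc hle)
  · omega
  · exact .residual h

end CfsgLib.Asch.Even
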