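import Cfsg.Agent.Lib.Aschbacher.EvenTensor
import Cfsg.Agent.Lib.ClassicalMax.OrthTensorTwo

/-!
# Recognising a tensor structure with a plane factor
-/

set_option autoImplicit false

namespace CfsgLib.Asch.Even

open Matrix Cfsg.Geo QuadraticMap Module
open CfsgLib.ClassicalMax.Tensor (pureL pureL_eq)
open scoped MatrixGroups Kronecker

variable {ι : Type} [Fintype ι] [DecidableEq ι] {F : Type*} [Field F] {n₁ n₂ : ℕ}

lemma mulVec_sum_single (P : GL ι F) (e : ι ≃ Fin n₁ × Fin n₂) (x : Fin n₁ × Fin n₂ → F) :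
    (P : Matrix ι ι F) *ᵥ (x ∘ e) = ∑ p, x p • pureL e P (Pi.single p.1 1) (Pi.single p.2 1) := by
  simp only [pureL_eq, ← mulVec_smul, ← Matrix.mulVec_sum]
  congr 1
  funext i
  rw [Finset.sum_apply, Finset.sum_eq_single (e i)]
  · simp
  · intro p _ hp
    simp only [Pi.smul_apply, Function.comp_apply, smul_eq_mul, Pi.single_apply]
    by_cases h1 : (e i).1 = p.1
    · have h2 : ¬ (e i).2 = p.2 := fun h2 => hp (Prod.ext h1 h2).symm
      simp [h2]
    · simp [h1]
  · simp

/-- a form given on pure tensors -/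
lemma structure_of_pure {Q : QuadraticForm F (ι → F)} {e : ι ≃ Fin n₁ × Fin n₂} {P : GL ι F}
    {f₁ : (Fin n₁ → F) → (Fin n₁ → F) → F} {f₂ : (Fin n₂ → F) → (Fin n₂ → F) → F} {c : F} (hc : c ≠ 0)
    (h : ∀ u u' w w', polar Q (pureL e P u w) (pureL e P u' w') = c * (f₁ u u' * f₂ w w')) :
    IsTensorFormStructure id (polar ⇑Q) f₁ f₂ e P := by
  refine ⟨c, hc, fun x y => ?_⟩
  rw [mulVec_sum_single, mulVec_sum_single, ← polarBilin_apply_apply]
  simp only [map_sum, LinearMap.sum_apply, map_smul, LinearMap.smul_apply, polarBilin_apply_apply, h,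
    smul_eq_mul, formOfGram, Finset.mul_sum, kroneckerMap_apply, gramMatrix, id_eq, Matrix.of_apply]
  rw [Finset.sum_comm]
  exact Finset.sum_congr rfl fun p _ => Finset.sum_congr rfl fun q _ => by ring

/-- coordinates in a given basis of pure tensors -/
lemma exists_pure_basis (e : ι ≃ Fin n₁ × Fin n₂) {B : Fin n₁ × Fin n₂ → ι → F} (hB : LinearIndependent F B) :
    ∃ P : GL ι F, ∀ x z, pureL e P x z = ∑ p : Fin n₁ × Fin n₂, (x p.1 * z p.2) • B p := by
  let M : Matrix ι ι F := Matrix.of fun i k => B (e k) i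
  have hM : IsUnit M := Matrix.linearIndependent_cols_iff_isUnit.mp (hB.comp e e.injective)
  refine ⟨hM.unit, fun x z => ?_⟩
  rw [pureL_eq, IsUnit.unit_spec, ← e.sum_comp (fun p => (x p.1 * z p.2) • B p)]
  funext i
  rw [Finset.sum_apply]
  simp only [Matrix.mulVec, dotProduct, Function.comp_apply, M, Matrix.of_apply, Pi.smul_apply, smul_eq_mul]
  exact Finset.sum_congr rfl fun k _ => mul_comm _ _

variable {k : ℕ} (e : ι ≃ Fin 2 × Fin k) (P : GL ι F)

/-- a map respecting the factor subspaces is a tensor product -/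
theorem mem_tensor_two (hk : 0 < k) {g : GL ι F}
    (h : ∀ x : Fin 2 → F, x ≠ 0 → ∃ x', ∀ z, (g : Matrix ι ι F) *ᵥ pureL e P x z ∈ LinearMap.range (pureL e P x')) :
    g ∈ tensorProductSubgroup 2 k e P := by
  classical
  have hinj : ∀ {p : Fin 2 → F}, p ≠ 0 → Function.Injective (pureL e P p) := fun {p} hp => by
    rw [injective_iff_map_eq_zero]
    intro z hz
    by_contra hz0
    exact ClassicalMax.Tensor.pureL_ne_zero e P hp hz0 hz
  have lin : ∀ x : Fin 2 → F, x ≠ 0 → ∃ (p : Fin 2 → F) (C : (Fin k → F) →ₗ[F] (Fin k → F)), p ≠ 0 ∧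
      Function.Injective C ∧ ∀ z, (g : Matrix ι ι F) *ᵥ pureL e P x z = pureL e P p (C z) := by
    intro x hx
    obtain ⟨p, hp⟩ := h x hx
    have hp0 : p ≠ 0 := by
      rintro rfl
      obtain ⟨w, hw⟩ := hp (Pi.single ⟨0, hk⟩ 1)
      have h0 : pureL e P (0 : Fin 2 → F) w = 0 := by
        rw [pureL_eq, ← mulVec_zero (P : Matrix ι ι F)]
        congr 1
        funext i
        simp
      rw [h0] at hw
      exact ClassicalMax.Tensor.pureL_ne_zero e P hx (by simp : (Pi.single ⟨0, hk⟩ 1 : Fin k → F) ≠ 0)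
        (ClassicalMax.gl_mulVec_injective g (hw.symm.trans (mulVec_zero _).symm))
    let E := LinearEquiv.ofInjective (pureL e P p) (hinj hp0)
    let C : (Fin k → F) →ₗ[F] (Fin k → F) := E.symm.toLinearMap.comp
      (((Matrix.toLin' (g : Matrix ι ι F)).comp (pureL e P x)).codRestrict (LinearMap.range (pureL e P p))
        fun z => by simpa [Matrix.toLin'_apply] using hp z)
    have hC : ∀ z, (g : Matrix ι ι F) *ᵥ pureL e P x z = pureL e P p (C z) := fun z => by
      have := LinearEquiv.ofInjective_apply (pureL e P p) (h := hinj hp0) (C z)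
      rw [← this]
      simp [C, E, Matrix.toLin'_apply]
    refine ⟨p, C, hp0, fun z z' hzz => hinj hx (ClassicalMax.gl_mulVec_injective g ?_), hC⟩
    show (g : Matrix ι ι F) *ᵥ _ = (g : Matrix ι ι F) *ᵥ _
    rw [hC, hC, hzz]
  have h10 : (Pi.single 0 1 : Fin 2 → F) ≠ 0 := by simp
  have h01 : (Pi.single 1 1 : Fin 2 → F) ≠ 0 := by simp
  have hss : (Pi.single 0 1 + Pi.single 1 1 : Fin 2 → F) ≠ 0 := fun h => by simpa using congrFun h 0
  obtain ⟨p, C₀, hp, hC₀, hg₀⟩ := lin _ h10
  obtain ⟨q, C₁, hq, hC₁, hg₁⟩ := lin _ h01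
  obtain ⟨r, C, -, hC, hg⟩ := lin _ hss
  have hpq : LinearIndependent F ![p, q] := by
    refine (LinearIndependent.pair_iff' hp).mpr fun a ha => ?_
    let z : Fin k → F := Pi.single ⟨0, hk⟩ 1
    obtain ⟨z', hz'⟩ := LinearMap.injective_iff_surjective.mp hC₀ (a • C₁ z)
    have h1 : (g : Matrix ι ι F) *ᵥ pureL e P (Pi.single 0 1) z'
        = (g : Matrix ι ι F) *ᵥ pureL e P (Pi.single 1 1) z := by
      rw [hg₀, hg₁, hz', ← ha, ClassicalMax.Tensor.smul_pureL]
    have h2 := ClassicalMax.Tensor.eq_zero_of_add e P (u := fun i : Fin 2 => (Pi.single i 1 : Fin 2 → F))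
      (Pi.linearIndependent_single_one (Fin 2) F) (i := 0) (j := 1) (by decide) (w := z') (w' := -z)
      (by rw [map_neg, ClassicalMax.gl_mulVec_injective g h1, add_neg_cancel])
    exact (by simp [z] : z ≠ 0) (neg_eq_zero.mp h2.2)
  obtain ⟨c, hr⟩ := (Submodule.mem_span_range_iff_exists_fun F).mp
    (show r ∈ Submodule.span F (Set.range ![p, q]) by
      rw [hpq.span_eq_top_of_card_eq_finrank (by simp)]; trivial)
  simp only [Fin.sum_univ_two, Matrix.cons_val_zero, Matrix.cons_val_one] at hr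
  have hadd := ClassicalMax.OmT.add_pureL e P
  have hrel : ∀ z, C₀ z = c 0 • C z ∧ C₁ z = c 1 • C z := fun z => by
    have h0 := hg z
    rw [hadd, mulVec_add, hg₀, hg₁, ← hr, hadd, ClassicalMax.Tensor.smul_pureL,
      ClassicalMax.Tensor.smul_pureL] at h0
    have h1 := ClassicalMax.Tensor.eq_zero_of_add e P hpq (i := 0) (j := 1) (by decide)
      (w := C₀ z - c 0 • C z) (w' := C₁ z - c 1 • C z) (by
        simp only [Matrix.cons_val_zero, Matrix.cons_val_one, map_sub]
        linear_combination (norm := abel) h0)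
    exact ⟨sub_eq_zero.mp h1.1, sub_eq_zero.mp h1.2⟩
  have hc : ∀ (i : Fin 2), c i ≠ 0 := by
    intro i hi
    let z : Fin k → F := Pi.single ⟨0, hk⟩ 1
    obtain ⟨h0, h1⟩ := hrel z
    fin_cases i
    · exact (by simp [z] : z ≠ 0) (hC₀ (h0.trans (by simp [show c 0 = 0 from hi])))
    · exact (by simp [z] : z ≠ 0) (hC₁ (h1.trans (by simp [show c 1 = 0 from hi])))
  let A : Matrix (Fin 2) (Fin 2) F := Matrix.of fun i j => c j * ![p, q] j i
  have hA : ∀ x, A *ᵥ x = (x 0 * c 0) • p + (x 1 * c 1) • q := fun x => by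
    funext i
    simp [A, Matrix.mulVec, dotProduct, Fin.sum_univ_two]
    ring
  have hAu : IsUnit A := by
    refine Matrix.mulVec_injective_iff_isUnit.mp fun x y hxy => ?_
    rw [hA, hA] at hxy
    have h3 := Fintype.linearIndependent_iff.mp hpq ![x 0 * c 0 - y 0 * c 0, x 1 * c 1 - y 1 * c 1] (by
      simp [Fin.sum_univ_two, sub_smul]
      linear_combination (norm := abel) hxy)
    funext i
    have := h3 i
    fin_cases i <;> simpa [sub_eq_zero, hc] using this
  have hCu : IsUnit (LinearMap.toMatrix' C) := by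
    refine Matrix.mulVec_injective_iff_isUnit.mp fun x y hxy => hC ?_
    simpa [LinearMap.toMatrix'_mulVec] using hxy
  obtain ⟨g', hg', hgg⟩ := ClassicalMax.OmT.exists_pure_map e P hAu.unit hCu.unit
  rw [ClassicalMax.OmT.ext_pure e P (g := g) (h := g') fun u z => ?_]
  · exact hg'
  have hu : u = u 0 • (Pi.single 0 1 : Fin 2 → F) + u 1 • Pi.single 1 1 := by
    funext i; fin_cases i <;> simp
  rw [hgg, IsUnit.unit_spec, IsUnit.unit_spec, hA, LinearMap.toMatrix'_mulVec]
  conv_lhs => rw [hu]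
  rw [hadd, hadd, mulVec_add, ClassicalMax.Tensor.smul_pureL, ClassicalMax.Tensor.smul_pureL, hg₀, hg₁,
    map_smul C₀, map_smul C₁, (hrel z).1, (hrel z).2, smul_smul, smul_smul, ← ClassicalMax.Tensor.smul_pureL,
    ← ClassicalMax.Tensor.smul_pureL]

end CfsgLib.Asch.Even
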