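import Cfsg.Agent.Lib.ClassicalMax.OrthPlanes
import Cfsg.Agent.Lib.RootCount.QuadType
import Cfsg.Agent.Lib.OrthCrit.MaxSingular

/-!
# Plus and minus type of even-dimensional quadratic spaces built from orthogonal pieces
-/

set_option autoImplicit false

namespace CfsgLib.Asch.Even

open Cfsg.Geo QuadraticMap Module
open CfsgLib.Classical.Quad (NDPolar polar_singular_self polar_self')
open CfsgLib.RootCount (IsPlus classify_even classify_odd)
open CfsgLib.OrthCrit (oddForm)

section forms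

variable {F : Type*} [Field F] [Fintype F]
  {V V' : Type*} [AddCommGroup V] [Module F V] [FiniteDimensional F V]
  [AddCommGroup V'] [Module F V'] [FiniteDimensional F V']

/-- non-degenerate spaces of the same even dimension and type are isometric -/
theorem exists_equiv_of_type (Q : QuadraticForm F V) (Q' : QuadraticForm F V') (hnd : NDPolar Q)
    (hnd' : NDPolar Q') {m : ℕ} (hd : finrank F V = 2 * m) (hd' : finrank F V' = 2 * m)
    (h : IsPlus Q ↔ IsPlus Q') : ∃ E : V ≃ₗ[F] V', ∀ v, Q' (E v) = Q v := by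
  obtain ⟨a, c, hac⟩ := RootCount.exists_aniso (F := F)
  rcases classify_even Q hnd hd hac with ⟨hp, E, hE⟩ | ⟨hp, k, hk, E, hE⟩ <;>
    rcases classify_even Q' hnd' hd' hac with ⟨hp', E', hE'⟩ | ⟨hp', k', hk', E', hE'⟩
  · exact ⟨E.symm.trans E', fun v => by rw [LinearEquiv.trans_apply, hE', ← hE, E.apply_symm_apply]⟩
  · exact absurd (h.mp hp) hp'
  · exact absurd (h.mpr hp') hp
  · obtain rfl : k = k' := by omega
    exact ⟨E.symm.trans E', fun v => by rw [LinearEquiv.trans_apply, hE', ← hE, E.apply_symm_apply]⟩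

end forms

variable {ι : Type} [Fintype ι] [DecidableEq ι] {F : Type*} [Field F]
  {Q : QuadraticForm F (ι → F)}

/-- `Q` restricted to a subspace -/
abbrev res (Q : QuadraticForm F (ι → F)) (W : Submodule F (ι → F)) : QuadraticForm F W :=
  Q.comp W.subtype

/-- the two subspaces are perpendicular -/
def Perp (Q : QuadraticForm F (ι → F)) (U W : Submodule F (ι → F)) : Prop :=
  ∀ u ∈ U, ∀ w ∈ W, polar Q u w = 0

lemma Perp.mono {U U' W W' : Submodule F (ι → F)} (h : Perp Q U W) (hU : U' ≤ U) (hW : W' ≤ W) :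
    Perp Q U' W' := fun u hu w hw => h u (hU hu) w (hW hw)

lemma Perp.symm {U W : Submodule F (ι → F)} (h : Perp Q U W) : Perp Q W U := fun w hw u hu => by
  rw [polar_comm]; exact h u hu w hw

lemma Perp.sup_left {U U' W : Submodule F (ι → F)} (h : Perp Q U W) (h' : Perp Q U' W) :
    Perp Q (U ⊔ U') W := fun x hx w hw => by
  obtain ⟨a, ha, b, hb, rfl⟩ := Submodule.mem_sup.mp hx
  rw [polar_add_left, h a ha w hw, h' b hb w hw, add_zero]

lemma singular_polar {U : Submodule F (ι → F)} (hU : IsTotallySingularQuad ⇑Q U) : Perp Q U U :=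
  fun u hu w hw => by simp [polar, hU u hu, hU w hw, hU _ (U.add_mem hu hw)]

lemma singular_sup {U W : Submodule F (ι → F)} (hU : IsTotallySingularQuad ⇑Q U)
    (hW : IsTotallySingularQuad ⇑Q W) (h : Perp Q U W) : IsTotallySingularQuad ⇑Q (U ⊔ W) := by
  intro x hx
  obtain ⟨a, ha, b, hb, rfl⟩ := Submodule.mem_sup.mp hx
  rw [QuadraticMap.map_add (⇑Q), hU a ha, hW b hb, h a ha b hb, add_zero, add_zero]

lemma finrank_sup_disjoint {U W : Submodule F (ι → F)} (h : Disjoint U W) :
    finrank F ↥(U ⊔ W) = finrank F U + finrank F W := by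
  have := Submodule.finrank_sup_add_finrank_inf_eq U W
  rw [disjoint_iff.mp h, finrank_bot] at this
  omega

lemma ndPolar_res {W : Submodule F (ι → F)} (hW : IsNondegenerateOn (polar ⇑Q) W) : NDPolar (res Q W) := by
  intro x hx
  by_contra h
  obtain ⟨-, y, hy, hne⟩ := hW _ x.2 (fun h0 => h (Subtype.ext h0))
  exact hne (hx ⟨y, hy⟩)

lemma isPlus_res_iff {W : Submodule F (ι → F)} : IsPlus (res Q W) ↔ IsPlusTypeOn ⇑Q W := by
  constructor
  · rintro ⟨U, hU, hd⟩
    refine ⟨U.map W.subtype, Submodule.map_subtype_le _ _, ?_, ?_⟩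
    · rintro _ ⟨u, hu, rfl⟩; exact hU u hu
    · rw [← (Submodule.equivMapOfInjective _ W.injective_subtype U).finrank_eq, hd]
  · rintro ⟨U, hUW, hU, hd⟩
    exact ⟨U.comap W.subtype, fun x hx => hU _ hx,
      by rw [(Submodule.comapSubtypeEquivOfLe hUW).finrank_eq, hd]⟩

/-- a half-dimensional totally singular subspace gives plus type -/
lemma plus_top {U : Submodule F (ι → F)} (hU : IsTotallySingularQuad ⇑Q U)
    (hd : 2 * finrank F U = Fintype.card ι) : IsPlusTypeOn ⇑Q ⊤ :=
  ⟨U, le_top, hU, by rw [hd, finrank_top, finrank_fintype_fun_eq_card]⟩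

/-- no non-zero vector of value zero -/
def Aniso (Q : QuadraticForm F (ι → F)) (P : Submodule F (ι → F)) : Prop := ∀ x ∈ P, Q x = 0 → x = 0

lemma aniso_of_minus_plane {W : Submodule F (ι → F)} (hd : finrank F W = 2)
    (hW : ¬ IsPlusTypeOn ⇑Q W) : Aniso Q W := by
  intro x hx hQx
  by_contra hx0
  refine hW ⟨Submodule.span F {x}, (Submodule.span_singleton_le_iff_mem _ _).mpr hx, fun y hy => ?_, ?_⟩
  · obtain ⟨c, rfl⟩ := Submodule.mem_span_singleton.mp hy
    rw [QuadraticMap.map_smul, hQx, smul_zero]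
  · rw [finrank_span_singleton hx0, hd]

lemma not_plus_of_aniso_plane {W : Submodule F (ι → F)} (hd : finrank F W = 2) (hW : Aniso Q W) :
    ¬ IsPlusTypeOn ⇑Q W := by
  rintro ⟨U, hUW, hU, hUd⟩
  obtain ⟨x, hx, hx0⟩ := (Submodule.ne_bot_iff U).mp fun h => by rw [h, finrank_bot, hd] at hUd; omega
  exact hx0 (hW x (hUW hx) (hU x hx))

/-- a singular subspace one short of half and an anisotropic plane orthogonal to it: minus type -/
theorem not_plus_of_aniso (hnd : NDPolar Q) {U P : Submodule F (ι → F)}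
    (hU : IsTotallySingularQuad ⇑Q U) (hd : 2 * (finrank F U + 1) = Fintype.card ι)
    (hP : finrank F P = 2) (hani : Aniso Q P) (hperp : Perp Q U P) : ¬ IsPlusTypeOn ⇑Q ⊤ := by
  rintro ⟨U₀, -, hU₀, hd₀⟩
  rw [finrank_top, finrank_fintype_fun_eq_card] at hd₀
  have hmax : OrthCrit.IsMaxSing Q U₀ := ⟨hU₀, by rw [finrank_fintype_fun_eq_card]; exact hd₀⟩
  have hUP : Disjoint U P := Submodule.disjoint_def.mpr fun x hx hxP => hani x hxP (hU x hx)
  have hdn : finrank F (ι → F) = Fintype.card ι := finrank_fintype_fun_eq_card F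
  have hperpU : U ⊔ P = LinearMap.BilinForm.orthogonal (polarBilin Q) U := by
    refine Submodule.eq_of_le_of_finrank_le (fun x hx u hu => ?_) ?_
    · show polar Q u x = 0
      rw [polar_comm]
      exact Perp.sup_left (singular_polar hU) hperp.symm x hx u hu
    · rw [CfsgLib.Orth.finrank_polar_orthogonal hnd, finrank_sup_disjoint hUP, hdn]
      omega
  have hle : LinearMap.BilinForm.orthogonal (polarBilin Q) (U₀ ⊔ U) ≤ U₀ ⊓ U := by
    intro x hx
    have hx₀ : x ∈ U₀ := hmax.mem_of_orth hnd fun y hy => hx y (Submodule.mem_sup_left hy)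
    refine ⟨hx₀, ?_⟩
    have hxU : x ∈ U ⊔ P := by
      rw [hperpU]; exact fun y hy => hx y (Submodule.mem_sup_right hy)
    obtain ⟨a, ha, b, hb, rfl⟩ := Submodule.mem_sup.mp hxU
    have h0 := hU₀ _ hx₀
    rw [QuadraticMap.map_add (⇑Q), hU a ha, hperp a ha b hb, zero_add, add_zero] at h0
    rw [hani b hb h0, add_zero]
    exact ha
  have h1 := Submodule.finrank_mono hle
  rw [CfsgLib.Orth.finrank_polar_orthogonal hnd, hdn] at h1
  have h2 := Submodule.finrank_sup_add_finrank_inf_eq U₀ U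
  have h3 := Submodule.finrank_le (U₀ ⊔ U)
  rw [hdn] at h3
  omega

/-- four perpendicular copies contain a singular subspace of twice the dimension -/
theorem half_of_four {W S : Submodule F (ι → F)} (hW : IsNondegenerateOn (polar ⇑Q) W)
    (L : Fin 4 → W →ₗ[F] (ι → F)) (hQ : ∀ i x, Q (L i x) = Q (x : ι → F))
    (hperp : ∀ i j, i ≠ j → ∀ x y, polar Q (L i x) (L j y) = 0) (hS : ∀ i x, L i x ∈ S)
    {a b : F} (hab : a ^ 2 + b ^ 2 = -1) :
    ∃ U : Submodule F (ι → F), U ≤ S ∧ IsTotallySingularQuad ⇑Q U ∧ finrank F U = 2 * finrank F W := by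
  have hpol : ∀ i x y, polar Q (L i x) (L i y) = polar Q (x : ι → F) (y : ι → F) := fun i x y => by
    simp only [polar, ← map_add, hQ, Submodule.coe_add]
  let M : W × W →ₗ[F] (ι → F) :=
    (L 0).comp (LinearMap.fst F W W) + (L 1).comp (LinearMap.snd F W W)
      + (L 2).comp (a • LinearMap.fst F W W + b • LinearMap.snd F W W)
      + (L 3).comp (b • LinearMap.fst F W W - a • LinearMap.snd F W W)
  have hM : ∀ p, M p = L 0 p.1 + L 1 p.2 + L 2 (a • p.1 + b • p.2) + L 3 (b • p.1 - a • p.2) := fun p => rfl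
  have hinj : Function.Injective M := by
    rw [injective_iff_map_eq_zero]
    intro p hp
    rw [hM] at hp
    have key : ∀ x : W, (∀ z : W, polar Q (x : ι → F) (z : ι → F) = 0) → x = 0 := fun x hx =>
      ndPolar_res hW x hx
    have e0 : p.1 = 0 := key _ fun z => by
      have := congrArg (fun v => polar Q v (L 0 z)) hp
      simpa only [polar_add_left, hpol, hperp 1 0 (by decide), hperp 2 0 (by decide), hperp 3 0 (by decide),
        add_zero, polar_zero_left] using this
    have e1 : p.2 = 0 := key _ fun z => by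
      have := congrArg (fun v => polar Q v (L 1 z)) hp
      simpa only [polar_add_left, hpol, hperp 0 1 (by decide), hperp 2 1 (by decide), hperp 3 1 (by decide),
        add_zero, zero_add, polar_zero_left] using this
    exact Prod.ext e0 e1
  refine ⟨LinearMap.range M, ?_, ?_, ?_⟩
  · rintro _ ⟨p, rfl⟩
    rw [hM]
    exact add_mem (add_mem (add_mem (hS _ _) (hS _ _)) (hS _ _)) (hS _ _)
  · rintro _ ⟨p, rfl⟩
    rw [hM, QuadraticMap.map_add (⇑Q), QuadraticMap.map_add (⇑Q), QuadraticMap.map_add (⇑Q)]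
    simp only [polar_add_left, hperp 0 1 (by decide), hperp 0 2 (by decide), hperp 0 3 (by decide),
      hperp 1 2 (by decide), hperp 1 3 (by decide), hperp 2 3 (by decide), hQ, add_zero]
    simp only [Submodule.coe_add, Submodule.coe_sub, Submodule.coe_smul]
    rw [sub_eq_add_neg ((b : F) • (p.1 : ι → F)), ← neg_smul]
    simp only [QuadraticMap.map_add (⇑Q), QuadraticMap.map_smul, polar_smul_left, polar_smul_right, smul_eq_mul]
    linear_combination (Q (p.1 : ι → F) + Q (p.2 : ι → F)) * hab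
  · rw [LinearMap.finrank_range_of_inj hinj, finrank_prod, two_mul]

/-- two perpendicular copies and a sign-reversing map: a singular subspace of the same dimension -/
theorem half_of_two {W S : Submodule F (ι → F)} (hW : IsNondegenerateOn (polar ⇑Q) W)
    (L : Fin 2 → W →ₗ[F] (ι → F)) (hQ : ∀ i x, Q (L i x) = Q (x : ι → F))
    (hperp : ∀ x y, polar Q (L 0 x) (L 1 y) = 0) (hS : ∀ i x, L i x ∈ S)
    (ψ : W →ₗ[F] W) (hψ : ∀ x : W, Q (ψ x : ι → F) = -Q (x : ι → F)) :
    ∃ U : Submodule F (ι → F), U ≤ S ∧ IsTotallySingularQuad ⇑Q U ∧ finrank F U = finrank F W := by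
  have hpol : ∀ i x y, polar Q (L i x) (L i y) = polar Q (x : ι → F) (y : ι → F) := fun i x y => by
    simp only [polar, ← map_add, hQ, Submodule.coe_add]
  let M : W →ₗ[F] (ι → F) := L 0 + (L 1).comp ψ
  have hM : ∀ x, M x = L 0 x + L 1 (ψ x) := fun x => rfl
  have hinj : Function.Injective M := by
    rw [injective_iff_map_eq_zero]
    intro p hp
    refine ndPolar_res hW p fun z => ?_
    show polar Q (p : ι → F) (z : ι → F) = 0
    have := congrArg (fun v => polar Q v (L 0 z)) hp
    simpa only [hM, polar_add_left, hpol, polar_comm Q (L 1 (ψ p)) (L 0 z), hperp, add_zero,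
      polar_zero_left] using this
  refine ⟨LinearMap.range M, ?_, ?_, LinearMap.finrank_range_of_inj hinj⟩
  · rintro _ ⟨p, rfl⟩
    exact add_mem (hS _ _) (hS _ _)
  · rintro _ ⟨p, rfl⟩
    rw [hM, QuadraticMap.map_add (⇑Q), hperp, hQ, hQ, hψ]
    ring

variable [Fintype F]

omit [Fintype ι] [DecidableEq ι] in
/-- minus one is a sum of two squares -/
theorem exists_sq_sum_neg_one : ∃ a b : F, a ^ 2 + b ^ 2 = -1 := by
  by_cases h2 : (2 : F) = 0
  · exact ⟨1, 0, by linear_combination h2⟩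
  · obtain ⟨x, y, h⟩ := FormsDisc.binary_represents_one h2 (neg_ne_zero.mpr one_ne_zero)
      (neg_ne_zero.mpr (one_ne_zero (α := F)))
    exact ⟨x, y, by linear_combination -h⟩

/-- an even-dimensional non-degenerate space is isometric to its negative -/
theorem exists_neg_isometry {W : Submodule F (ι → F)} (hW : IsNondegenerateOn (polar ⇑Q) W) {j : ℕ}
    (hd : finrank F W = 2 * j) : ∃ ψ : W →ₗ[F] W, ∀ x : W, Q (ψ x : ι → F) = -Q (x : ι → F) := by
  have hnd := ndPolar_res hW
  have hneg : ∀ x, (-res Q W) x = -(res Q W x) := fun x => rfl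
  have hnd' : NDPolar (-res Q W) := fun x hx => hnd x fun y => by
    have := hx y
    simp only [polar, hneg] at this ⊢
    linear_combination -this
  obtain ⟨E, hE⟩ := exists_equiv_of_type (res Q W) (-res Q W) hnd hnd' hd hd
    ⟨fun ⟨U, hU, h⟩ => ⟨U, fun x hx => by rw [hneg, hU x hx, neg_zero], h⟩,
      fun ⟨U, hU, h⟩ => ⟨U, fun x hx => by
        have h0 := hU x hx
        rwa [hneg, neg_eq_zero] at h0, h⟩⟩
  refine ⟨E.toLinearMap, fun x => ?_⟩
  have : -Q (E x : ι → F) = Q (x : ι → F) := hE x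
  show Q (E x : ι → F) = _
  rw [← this, neg_neg]

/-- subspaces of the same even dimension and type are isometric -/
theorem isometric_of_type {W W' : Submodule F (ι → F)} (hW : IsNondegenerateOn (polar ⇑Q) W)
    (hW' : IsNondegenerateOn (polar ⇑Q) W') {j : ℕ} (hd : finrank F W = 2 * j) (hd' : finrank F W' = 2 * j)
    (h : IsPlusTypeOn ⇑Q W ↔ IsPlusTypeOn ⇑Q W') : AreIsometricFor ⇑Q W W' := by
  obtain ⟨E, hE⟩ := exists_equiv_of_type (res Q W) (res Q W') (ndPolar_res hW) (ndPolar_res hW') hd hd'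
    (isPlus_res_iff.trans (h.trans isPlus_res_iff.symm))
  exact ⟨E, hE⟩

/-- the pieces of a minus-type subspace -/
theorem exists_parts {W : Submodule F (ι → F)} (hW : IsNondegenerateOn (polar ⇑Q) W) {j : ℕ}
    (hd : finrank F W = 2 * (j + 1)) (hm : ¬ IsPlusTypeOn ⇑Q W) :
    ∃ U P : Submodule F (ι → F), U ≤ W ∧ P ≤ W ∧ IsTotallySingularQuad ⇑Q U ∧ finrank F U = j ∧
      finrank F P = 2 ∧ Aniso Q P ∧ Perp Q U P := by
  obtain ⟨k, r, e, f, R, hn, hr, hfam, hR, hani, horth, -⟩ :=
    FormsDisc.exists_decomp (finrank F W) (res Q W) (ndPolar_res hW) rfl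
  have hli := FormsDisc.linearIndependent_family (res Q W) hfam (κ := Fin 0) Fin.elim0
    linearIndependent_empty_type (fun c => c.elim0)
  have hlie : LinearIndependent F e := (hli.comp Sum.inl Sum.inl_injective).comp Sum.inl Sum.inl_injective
  set U := (Submodule.span F (Set.range e)).map W.subtype with hU
  have hUd : finrank F U = k := by
    rw [hU, ← (Submodule.equivMapOfInjective _ W.injective_subtype _).finrank_eq,
      finrank_span_eq_card hlie, Fintype.card_fin]
  have hUs : IsTotallySingularQuad ⇑Q U := by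
    rintro _ ⟨u, hu, rfl⟩
    obtain ⟨c, rfl⟩ := (Submodule.mem_span_range_iff_exists_fun F).1 hu
    exact RootCount.Q_sum_singular (res Q W) _ c e (fun i => (hfam.sing i).1) fun i l => (hfam.iso i l).1
  rcases (by omega : r = 0 ∨ r = 2) with rfl | rfl
  · exact absurd ⟨U, Submodule.map_subtype_le _ _, hUs, by rw [hUd]; omega⟩ hm
  refine ⟨U, R.map W.subtype, Submodule.map_subtype_le _ _, Submodule.map_subtype_le _ _, hUs,
    by omega, ?_, ?_, ?_⟩
  · rw [← (Submodule.equivMapOfInjective _ W.injective_subtype _).finrank_eq, hR]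
  · rintro _ ⟨x, hx, rfl⟩ h0
    rw [hani x hx h0, map_zero]
  · rintro _ ⟨u, hu, rfl⟩ _ ⟨x, hx, rfl⟩
    show polar (res Q W) u x = 0
    induction hu using Submodule.span_induction with
    | mem u hu => obtain ⟨i, rfl⟩ := hu; exact (horth x hx i).1
    | zero => exact polar_zero_left _ _
    | add u v _ _ h h' => rw [polar_add_left, h, h', add_zero]
    | smul c u _ h => rw [polar_smul_left, h, smul_zero]

/-- the standard model of an odd-dimensional subspace -/
def OddModel (Q : QuadraticForm F (ι → F)) (W : Submodule F (ι → F)) (j : ℕ) (d : F) : Prop :=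
  ∃ E : (Unit ⊕ (Fin j ⊕ Fin j) → F) ≃ₗ[F] W, ∀ v, Q (E v : ι → F) = d * oddForm j F v

theorem exists_oddModel (h2 : (2 : F) ≠ 0) {W : Submodule F (ι → F)}
    (hW : IsNondegenerateOn (polar ⇑Q) W) {j : ℕ} (hd : finrank F W = 2 * j + 1) :
    ∃ d, d ≠ 0 ∧ OddModel Q W j d := by
  obtain ⟨d, hd0, E, hE⟩ := classify_odd h2 (res Q W) (ndPolar_res hW) hd
  exact ⟨d, hd0, E, hE⟩

omit [Fintype F] in
theorem OddModel.parts {W : Submodule F (ι → F)} {j : ℕ} {d : F} (h : OddModel Q W j d) :
    ∃ (U : Submodule F (ι → F)) (a : ι → F), U ≤ W ∧ IsTotallySingularQuad ⇑Q U ∧ finrank F U = j ∧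
      a ∈ W ∧ Q a = d ∧ ∀ u ∈ U, polar Q u a = 0 := by
  obtain ⟨E, hE⟩ := h
  let ext : (Fin j → F) →ₗ[F] (Unit ⊕ (Fin j ⊕ Fin j) → F) :=
    { toFun := fun c => Sum.elim (fun _ => 0) (Sum.elim c fun _ => 0)
      map_add' := fun c c' => by funext x; rcases x with x | x | x <;> simp
      map_smul' := fun s c => by funext x; rcases x with x | x | x <;> simp }
  let M : (Fin j → F) →ₗ[F] (ι → F) := W.subtype.comp (E.toLinearMap.comp ext)
  have hM : Function.Injective M := W.injective_subtype.comp (E.injective.comp fun c c' h => funext fun i =>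
    congrFun h (.inr (.inl i)))
  set a₀ : Unit ⊕ (Fin j ⊕ Fin j) → F := Pi.single (.inl ()) 1 with ha₀
  have hQ0 : ∀ c, Q (M c) = 0 := fun c => by
    show Q (E (ext c) : ι → F) = 0
    rw [hE]; simp [ext, Cfsg.quadFormOdd]
  have hQa : Q (E a₀ : ι → F) = d := by rw [hE]; simp [ha₀, Cfsg.quadFormOdd, Pi.single_apply]
  refine ⟨LinearMap.range M, E a₀, ?_, ?_, ?_, (E a₀).2, hQa, ?_⟩
  · rintro _ ⟨c, rfl⟩; exact (E (ext c)).2
  · rintro _ ⟨c, rfl⟩; exact hQ0 c
  · rw [LinearMap.finrank_range_of_inj hM, finrank_fintype_fun_eq_card, Fintype.card_fin]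
  · rintro _ ⟨c, rfl⟩
    have h1 : Q (M c + (E a₀ : ι → F)) = d := by
      show Q ((E (ext c) : ι → F) + (E a₀ : ι → F)) = d
      rw [← Submodule.coe_add, ← map_add, hE]
      simp [ha₀, ext, Cfsg.quadFormOdd, Pi.single_apply]
    rw [polar, h1, hQ0, hQa, sub_zero, sub_self]

omit [Fintype F] in
/-- values in the same square class: isometric -/
theorem OddModel.isometric {W W' : Submodule F (ι → F)} {j : ℕ} {d d' s : F} (h : OddModel Q W j d)
    (h' : OddModel Q W' j d') (hd'0 : d' ≠ 0) (hs : s * s * d = d') : AreIsometricFor ⇑Q W W' := by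
  obtain ⟨E, hE⟩ := h
  obtain ⟨E', hE'⟩ := h'
  by_cases hs0 : s = 0
  · exfalso
    have hd' : d' = 0 := by rw [← hs, hs0, zero_mul, zero_mul]
    exact absurd hd' hd'0
  · let T : (Unit ⊕ (Fin j ⊕ Fin j) → F) ≃ₗ[F] (Unit ⊕ (Fin j ⊕ Fin j) → F) :=
      LinearEquiv.smulOfUnit (Units.mk0 s⁻¹ (inv_ne_zero hs0))
    refine ⟨E.symm.trans (T.trans E'), fun w => ?_⟩
    show Q (E' (T (E.symm w)) : ι → F) = _
    conv_rhs => rw [← E.apply_symm_apply w, hE]
    rw [hE', show T (E.symm w) = s⁻¹ • E.symm w from rfl, QuadraticMap.map_smul, smul_eq_mul, ← hs]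
    field_simp

section decomp

variable {t k : ℕ} {D : Fin t → Submodule F (ι → F)}

/-- a singular subspace of the given dimension inside the span of some members -/
def SingIn (Q : QuadraticForm F (ι → F)) (D : Fin t → Submodule F (ι → F)) (s : Finset (Fin t)) (d : ℕ) :
    Prop :=
  ∃ U : Submodule F (ι → F), U ≤ ⨆ i ∈ s, D i ∧ IsTotallySingularQuad ⇑Q U ∧ finrank F U = d

omit [Fintype F] in
lemma perp_biSup (hD : IsNondegenerateMDecomposition (polar ⇑Q) k D) {s s' : Finset (Fin t)}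
    (h : Disjoint s s') : Perp Q (⨆ i ∈ s, D i) (⨆ i ∈ s', D i) := by
  intro x hx y hy
  have h1 : ∀ i ∈ s, ∀ u ∈ D i, polar Q u y = 0 := by
    intro i hi u hu
    have hle : (⨆ l ∈ s', D l) ≤ LinearMap.ker (polarBilin Q u) := iSup₂_le fun l hl v hv => by
      rw [LinearMap.mem_ker, polarBilin_apply_apply]
      exact hD.orthogonal i l (fun e => Finset.disjoint_left.mp h hi (e ▸ hl)) u hu v hv
    exact hle hy
  have hle : (⨆ i ∈ s, D i) ≤ LinearMap.ker ((polarBilin Q).flip y) := iSup₂_le fun i hi u hu => by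
    rw [LinearMap.mem_ker, LinearMap.flip_apply, polarBilin_apply_apply]
    exact h1 i hi u hu
  exact hle hx

omit [Fintype F] in
lemma disjoint_biSup (hD : IsNondegenerateMDecomposition (polar ⇑Q) k D) {s s' : Finset (Fin t)}
    (h : Disjoint s s') : Disjoint (⨆ i ∈ s, D i) (⨆ i ∈ s', D i) := by
  have h' := hD.decomp.indep.disjoint_biSup_biSup' (s := (s : Set (Fin t))) (t := (s' : Set (Fin t)))
    (Finset.disjoint_coe.mpr h) s.finite_toSet
  exact h'

omit [Fintype F] in
lemma SingIn.union (hD : IsNondegenerateMDecomposition (polar ⇑Q) k D) {s s' : Finset (Fin t)} {d d' : ℕ}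
    (h : SingIn Q D s d) (h' : SingIn Q D s' d') (hs : Disjoint s s') : SingIn Q D (s ∪ s') (d + d') := by
  obtain ⟨U, hUs, hU, hd⟩ := h
  obtain ⟨U', hUs', hU', hd'⟩ := h'
  refine ⟨U ⊔ U', ?_, singular_sup hU hU' ((perp_biSup hD hs).mono hUs hUs'), ?_⟩
  · rw [Finset.iSup_union]
    exact sup_le_sup hUs hUs'
  · rw [finrank_sup_disjoint ((disjoint_biSup hD hs).mono hUs hUs'), hd, hd']

omit [Fintype F] in
lemma SingIn.plus {s : Finset (Fin t)} {d : ℕ} (h : SingIn Q D s d) (hd : 2 * d = Fintype.card ι) :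
    IsPlusTypeOn ⇑Q ⊤ := by
  obtain ⟨U, -, hU, hUd⟩ := h
  exact plus_top hU (by rw [hUd, hd])

omit [Fintype F] in
lemma SingIn.single (i : Fin t) {U : Submodule F (ι → F)} (hle : U ≤ D i) (hU : IsTotallySingularQuad ⇑Q U) :
    SingIn Q D {i} (finrank F U) :=
  ⟨U, by simpa using hle, hU, rfl⟩

omit [Fintype F] in
lemma SingIn.not_plus (hnd : NDPolar Q) (hD : IsNondegenerateMDecomposition (polar ⇑Q) k D)
    {s s' : Finset (Fin t)} {d : ℕ} (h : SingIn Q D s d) (hd : 2 * (d + 1) = Fintype.card ι)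
    (hs : Disjoint s s') {P : Submodule F (ι → F)} (hP : P ≤ ⨆ i ∈ s', D i) (hP2 : finrank F P = 2)
    (hani : Aniso Q P) : ¬ IsPlusTypeOn ⇑Q ⊤ := by
  obtain ⟨U, hUs, hU, hUd⟩ := h
  exact not_plus_of_aniso hnd hU (by rw [hUd, hd]) hP2 hani ((perp_biSup hD hs).mono hUs hP)

/-- four members -/
lemma singIn_four (hD : IsOrthogonalMDecomposition ⇑Q k D) {a b c d : Fin t}
    (hne : Function.Injective ![a, b, c, d]) : SingIn Q D {a, b, c, d} (2 * k) := by
  choose e he using fun i => ClassicalMax.OmP.transport hD a i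
  obtain ⟨α, β, hab⟩ := exists_sq_sum_neg_one (F := F)
  obtain ⟨U, hUS, hU, hUd⟩ := half_of_four (Q := Q) (S := ⨆ i ∈ ({a, b, c, d} : Finset (Fin t)), D i)
    (hD.decomp.nondegenerate a) (fun l => (D (![a, b, c, d] l)).subtype.comp (e (![a, b, c, d] l)).toLinearMap)
    (fun l x => (he _).1 x)
    (fun i l hil x y => hD.decomp.orthogonal _ _ (fun h => hil (hne h)) _ (e _ x).2 _ (e _ y).2)
    (fun l x => by
      refine le_biSup D ?_ (e (![a, b, c, d] l) x).2
      fin_cases l <;> simp) hab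
  exact ⟨U, hUS, hU, by rw [hUd, hD.decomp.decomp.finrank_eq a]⟩

/-- two members and a sign-reversing map on one of them -/
lemma singIn_two_of (hD : IsOrthogonalMDecomposition ⇑Q k D) {a b : Fin t} (hne : a ≠ b)
    (ψ : D a →ₗ[F] D a) (hψ : ∀ x : D a, Q (ψ x : ι → F) = -Q (x : ι → F)) : SingIn Q D {a, b} k := by
  choose e he using fun i => ClassicalMax.OmP.transport hD a i
  obtain ⟨U, hUS, hU, hUd⟩ := half_of_two (Q := Q) (S := ⨆ i ∈ ({a, b} : Finset (Fin t)), D i)
    (hD.decomp.nondegenerate a) (fun l => (D (![a, b] l)).subtype.comp (e (![a, b] l)).toLinearMap)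
    (fun l x => (he _).1 x)
    (fun x y => hD.decomp.orthogonal _ _ hne _ (e a x).2 _ (e b y).2)
    (fun l x => by
      refine le_biSup D ?_ (e (![a, b] l) x).2
      fin_cases l <;> simp) ψ hψ
  exact ⟨U, hUS, hU, by rw [hUd, hD.decomp.decomp.finrank_eq a]⟩

/-- two members of even dimension -/
lemma singIn_two (hD : IsOrthogonalMDecomposition ⇑Q k D) (hk : Even k) {a b : Fin t} (hne : a ≠ b) :
    SingIn Q D {a, b} k := by
  obtain ⟨j, hj⟩ := hk
  obtain ⟨ψ, hψ⟩ := exists_neg_isometry (hD.decomp.nondegenerate a) (j := j)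
    (by rw [hD.decomp.decomp.finrank_eq a]; omega)
  exact singIn_two_of hD hne ψ hψ

/-- two members when minus one is a square -/
lemma singIn_two_sq (hD : IsOrthogonalMDecomposition ⇑Q k D) {s : F} (hs : s * s = -1) {a b : Fin t}
    (hne : a ≠ b) : SingIn Q D {a, b} k :=
  singIn_two_of hD hne (s • LinearMap.id) fun x => by
    show Q (s • (x : ι → F)) = _
    rw [QuadraticMap.map_smul, hs]
    simp

/-- the type is the same for all members -/
lemma plus_member_iff (hD : IsOrthogonalMDecomposition ⇑Q k D) (i j : Fin t) :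
    IsPlusTypeOn ⇑Q (D i) ↔ IsPlusTypeOn ⇑Q (D j) := by
  suffices h : ∀ i j, IsPlusTypeOn ⇑Q (D i) → IsPlusTypeOn ⇑Q (D j) from ⟨h i j, h j i⟩
  rintro i j ⟨U, hUW, hU, hd⟩
  obtain ⟨e, he⟩ := hD.isometric i j
  refine ⟨((U.comap (D i).subtype).map e.toLinearMap).map (D j).subtype, Submodule.map_subtype_le _ _, ?_, ?_⟩
  · rintro _ ⟨_, ⟨x, hx, rfl⟩, rfl⟩
    exact (he x).trans (hU _ hx)
  · rw [← (Submodule.equivMapOfInjective _ (D j).injective_subtype _).finrank_eq,
      ← (Submodule.equivMapOfInjective _ e.injective _).finrank_eq,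
      (Submodule.comapSubtypeEquivOfLe hUW).finrank_eq, hd, hD.decomp.decomp.finrank_eq i,
      hD.decomp.decomp.finrank_eq j]

end decomp

end CfsgLib.Asch.Even
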