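import Cfsg.Agent.Lib.Aschbacher.Forms
import Cfsg.Agent.Lib.Aschbacher.MatrixUnits

/-!
# Membership in the tensor classes; the invariant form of a tensor power of planes
-/

set_option autoImplicit false

namespace CfsgLib.Asch

open Matrix Cfsg.Geo
open scoped MatrixGroups Kronecker

variable {ι : Type} [Fintype ι] [DecidableEq ι] {F : Type*} [Field F]

/-- contained in the stabiliser of a tensor decomposition into two factors of different dimensions -/
def InTensor (G : Subgroup (GL ι F)) : Prop :=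
  ∃ (n₁ n₂ : ℕ) (e : ι ≃ Fin n₁ × Fin n₂) (P : GL ι F), 2 ≤ n₁ ∧ n₁ < n₂ ∧
    n₁ * n₂ = Fintype.card ι ∧ G ≤ tensorProductSubgroup n₁ n₂ e P

/-- contained in the stabiliser of a tensor power decomposition -/
def InWreath (G : Subgroup (GL ι F)) : Prop :=
  ∃ (m t : ℕ) (e : ι ≃ (Fin t → Fin m)) (P : GL ι F), 3 ≤ m ∧ 2 ≤ t ∧
    m ^ t = Fintype.card ι ∧ G ≤ tensorWreathSubgroup m t e P

lemma mem_tensorProductSubgroup {n₁ n₂ : ℕ} {e : ι ≃ Fin n₁ × Fin n₂} {P : GL ι F} {g : GL ι F}
    {a : GL (Fin n₁) F} {b : GL (Fin n₂) F}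
    (h : (g : Matrix ι ι F) = tens e P (a : Matrix _ _ F) (b : Matrix _ _ F)) :
    g ∈ tensorProductSubgroup n₁ n₂ e P := by
  let k : GL (Fin n₁ × Fin n₂) F :=
    ⟨(a : Matrix _ _ F) ⊗ₖ (b : Matrix _ _ F),
      ((a⁻¹ : GL _ F) : Matrix _ _ F) ⊗ₖ ((b⁻¹ : GL _ F) : Matrix _ _ F),
      by rw [← Matrix.mul_kronecker_mul, a.mul_inv, b.mul_inv, one_kronecker_one],
      by rw [← Matrix.mul_kronecker_mul, a.inv_mul, b.inv_mul, one_kronecker_one]⟩
  refine ⟨glReindex e.symm k, ⟨k, ⟨a, b, rfl⟩, rfl⟩, Units.ext ?_⟩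
  rw [h]
  rfl

lemma tens_swap {X Y : Type} [Fintype X] [DecidableEq X] [Fintype Y] [DecidableEq Y]
    (e : ι ≃ X × Y) (P : GL ι F) (A : Matrix X X F) (B : Matrix Y Y F) :
    tens e P A B = tens (e.trans (Equiv.prodComm X Y)) P B A := by
  unfold tens
  refine congrArg (cj P) ?_
  ext i j
  simp [mul_comm]

section power

variable {m t : ℕ}

/-- tensor product of a family of matrices -/
def pw (A : Fin t → Matrix (Fin m) (Fin m) F) : Matrix (Fin t → Fin m) (Fin t → Fin m) F :=
  Matrix.of fun x y => ∏ i, A i (x i) (y i)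

lemma pw_mul (A B : Fin t → Matrix (Fin m) (Fin m) F) : pw A * pw B = pw (A * B) := by
  ext x y
  simp only [pw, Matrix.mul_apply, Matrix.of_apply, Pi.mul_apply, ← Finset.prod_mul_distrib]
  exact (Fintype.prod_sum (fun i a => A i (x i) a * B i a (y i))).symm

lemma pw_transpose (A : Fin t → Matrix (Fin m) (Fin m) F) : (pw A)ᵀ = pw fun i => (A i)ᵀ := by
  ext x y; simp [pw]

lemma pw_smul (c : Fin t → F) (A : Fin t → Matrix (Fin m) (Fin m) F) :
    pw (fun i => c i • A i) = (∏ i, c i) • pw A := by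
  ext x y; simp [pw, Finset.prod_mul_distrib]

lemma pw_one : pw (1 : Fin t → Matrix (Fin m) (Fin m) F) = 1 := by
  ext x y
  rcases eq_or_ne x y with rfl | h
  · simp [pw]
  · obtain ⟨i, hi⟩ := Function.ne_iff.mp h
    rw [one_apply_ne h, pw, Matrix.of_apply]
    exact Finset.prod_eq_zero (Finset.mem_univ i) (by simp [one_apply_ne hi])

/-- the matrix permuting the tensor factors -/
def permMat (σ : Equiv.Perm (Fin t)) : Matrix (Fin t → Fin m) (Fin t → Fin m) F :=
  Matrix.of fun x y => if y = x ∘ σ then 1 else 0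

lemma permMat_mul (σ : Equiv.Perm (Fin t)) (M : Matrix (Fin t → Fin m) (Fin t → Fin m) F) :
    permMat σ * M = Matrix.of fun x y => M (x ∘ σ) y := by
  ext x y; simp [permMat, Matrix.mul_apply]

lemma permMat_transpose (σ : Equiv.Perm (Fin t)) :
    (permMat σ : Matrix (Fin t → Fin m) (Fin t → Fin m) F)ᵀ = permMat σ⁻¹ := by
  ext x y
  have : x = y ∘ σ ↔ y = x ∘ (σ⁻¹ : Equiv.Perm (Fin t)) := by
    constructor <;> rintro rfl <;> funext i <;> simp
  simp [permMat, this]

lemma mul_permMat (σ : Equiv.Perm (Fin t)) (M : Matrix (Fin t → Fin m) (Fin t → Fin m) F) :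
    M * permMat σ = Matrix.of fun x y => M x (y ∘ (σ⁻¹ : Equiv.Perm (Fin t))) := by
  have h := congrArg Matrix.transpose (permMat_mul σ⁻¹ Mᵀ)
  rw [transpose_mul, transpose_transpose, permMat_transpose, inv_inv] at h
  rw [h]
  ext x y; simp

lemma permMat_conj_pw (σ : Equiv.Perm (Fin t)) (A : Fin t → Matrix (Fin m) (Fin m) F) :
    permMat σ * pw A * permMat σ⁻¹ = pw fun i => A (σ⁻¹ i) := by
  rw [mul_permMat, permMat_mul]
  ext x y
  simp only [pw, Matrix.of_apply, inv_inv, Function.comp_apply]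
  rw [← Equiv.prod_comp σ⁻¹]
  simp

lemma permMat_mul_inv (σ : Equiv.Perm (Fin t)) :
    (permMat σ : Matrix (Fin t → Fin m) (Fin t → Fin m) F) * permMat σ⁻¹ = 1 := by
  simpa [pw_one] using permMat_conj_pw σ (1 : Fin t → Matrix (Fin m) (Fin m) F) |>.trans pw_one

/-- the unit given by a family of invertible matrices -/
def pwUnit (a : Fin t → GL (Fin m) F) : GL (Fin t → Fin m) F :=
  ⟨pw fun i => (a i : Matrix _ _ F), pw fun i => ((a i)⁻¹ : GL (Fin m) F),
    by rw [pw_mul, ← pw_one]; congr 1; funext i; exact (a i).mul_inv,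
    by rw [pw_mul, ← pw_one]; congr 1; funext i; exact (a i).inv_mul⟩

/-- the unit permuting the tensor factors -/
def permUnit (σ : Equiv.Perm (Fin t)) : GL (Fin t → Fin m) F :=
  ⟨permMat σ, permMat σ⁻¹, permMat_mul_inv σ, by
    simpa using permMat_mul_inv (F := F) (m := m) σ⁻¹⟩

lemma pwUnit_mem (a : Fin t → GL (Fin m) F) : pwUnit a ∈ tensorWreathStandard m t F :=
  Subgroup.subset_closure (Or.inl ⟨a, fun _ _ => rfl⟩)

lemma permUnit_mem (σ : Equiv.Perm (Fin t)) : permUnit (F := F) (m := m) σ ∈ tensorWreathStandard m t F :=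
  Subgroup.subset_closure (Or.inr ⟨σ, fun _ _ => rfl⟩)

/-- transport to `ι` -/
def cw (e : ι ≃ (Fin t → Fin m)) (P : GL ι F)
    (M : Matrix (Fin t → Fin m) (Fin t → Fin m) F) : Matrix ι ι F :=
  cj P (Matrix.reindexAlgEquiv F F e.symm M)

lemma mem_tensorWreathSubgroup {e : ι ≃ (Fin t → Fin m)} {P : GL ι F} {g : GL ι F}
    {u : GL (Fin t → Fin m) F} (hu : u ∈ tensorWreathStandard m t F)
    (h : (g : Matrix ι ι F) = cw e P (u : Matrix _ _ F)) : g ∈ tensorWreathSubgroup m t e P := by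
  refine ⟨glReindex e.symm u, ⟨u, hu, rfl⟩, Units.ext ?_⟩
  rw [h]
  rfl

end power

/-- the stabiliser of a tensor power of planes fixes a bilinear form up to scalars -/
theorem inForm_of_wreath_two [Fintype F] {G : Subgroup (GL ι F)} {t : ℕ} (ht : 0 < t)
    {e : ι ≃ (Fin t → Fin 2)} {P : GL ι F} (hG : G ≤ tensorWreathSubgroup 2 t e P) :
    InQuad G ∨ InSymp G := by
  classical
  let J : Matrix (Fin 2) (Fin 2) F := !![0, 1; -1, 0]
  let B₀ : Matrix (Fin t → Fin 2) (Fin t → Fin 2) F := pw fun _ => J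
  let R := Matrix.reindexAlgEquiv F F e.symm
  set Pi' : Matrix ι ι F := ((P⁻¹ : GL ι F) : Matrix ι ι F)
  let B : Matrix ι ι F := Pi'ᵀ * R B₀ * Pi'
  have hR : ∀ M, (R M)ᵀ = R Mᵀ := fun M => by
    ext i j; simp [R]
  have hJJ : J * J = (-1 : F) • 1 := by
    ext a b; fin_cases a <;> fin_cases b <;> simp [J, Matrix.mul_apply]
  have hBB : B₀ * B₀ = ((-1 : F) ^ t) • 1 := by
    rw [pw_mul, show (fun _ : Fin t => J) * (fun _ : Fin t => J)
      = fun i => ((-1 : F)) • (1 : Fin t → Matrix (Fin 2) (Fin 2) F) i from funext fun i => hJJ,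
      pw_smul, pw_one]
    simp
  have hB₀u : IsUnit B₀ := by
    refine isUnit_iff_exists_inv.mpr ⟨((-1 : F) ^ t) • B₀, ?_⟩
    rw [Matrix.mul_smul, hBB, smul_smul, ← mul_pow]
    simp
  have hBu : IsUnit B :=
    (((Matrix.isUnit_transpose _).mpr (P⁻¹).isUnit).mul (hB₀u.map R)).mul (P⁻¹).isUnit
  have hBt : Bᵀ = ((-1 : F) ^ t) • B := by
    have hJt : B₀ᵀ = ((-1 : F) ^ t) • B₀ := by
      rw [pw_transpose, show (fun _ : Fin t => Jᵀ) = fun _ => (-1 : F) • J from funext fun _ => by
        ext a b; fin_cases a <;> fin_cases b <;> simp [J], pw_smul]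
      simp [B₀]
    simp only [B, transpose_mul, transpose_transpose, hR, hJt, map_smul, Matrix.mul_smul,
      Matrix.smul_mul, mul_assoc]
  have hdiag₀ : ∀ x, B₀ x x = 0 := by
    intro x
    show ∏ i, J (x i) (x i) = 0
    exact Finset.prod_eq_zero (Finset.mem_univ (⟨0, ht⟩ : Fin t)) (by
      generalize x ⟨0, ht⟩ = a
      fin_cases a <;> simp [J])
  have hdiag : (2 : F) = 0 → ∀ i, B i i = 0 := by
    intro h2 i
    -- in characteristic two `vᵀ B₀ v` only sees the diagonal
    have hsym : ∀ x y, B₀ y x = - B₀ x y := by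
      intro x y
      have h1 := congrFun (congrFun (show B₀ᵀ = ((-1 : F) ^ t) • B₀ from by
        rw [pw_transpose, show (fun _ : Fin t => Jᵀ) = fun _ => (-1 : F) • J from funext fun _ => by
          ext a b; fin_cases a <;> fin_cases b <;> simp [J], pw_smul]
        simp [B₀]) x) y
      have hneg : (-1 : F) = 1 := by linear_combination -h2
      simp only [transpose_apply, Matrix.smul_apply, hneg, one_pow, one_smul] at h1
      rw [h1]
      linear_combination B₀ x y * h2
    set v : (Fin t → Fin 2) → F := fun x => Pi' (e.symm x) i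
    have hval : B i i = ∑ p : (Fin t → Fin 2) × (Fin t → Fin 2), v p.1 * B₀ p.1 p.2 * v p.2 := by
      simp only [B, Matrix.mul_apply, transpose_apply, Finset.sum_mul]
      rw [Finset.sum_comm, ← Equiv.sum_comp e.symm, Fintype.sum_prod_type]
      refine Finset.sum_congr rfl fun x _ => ?_
      rw [← Equiv.sum_comp e.symm]
      simp [R, v]
    rw [hval]
    refine Finset.sum_involution (fun p _ => (p.2, p.1)) (fun p _ => ?_) (fun p _ hne heq => ?_)
      (fun p _ => Finset.mem_univ _) (fun p _ => rfl)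
    · rw [hsym p.1 p.2]; ring
    · obtain ⟨a, b⟩ := p
      simp only [Prod.mk.injEq] at heq
      obtain ⟨rfl, -⟩ := heq
      exact hne (by simp [hdiag₀])
  have hsim : G ≤ similarityGroup (sform (RingHom.id F) B) := by
    refine hG.trans ?_
    unfold tensorWreathSubgroup
    rw [Subgroup.map_map, Subgroup.map_le_iff_le_comap, tensorWreathStandard, Subgroup.closure_le]
    have main : ∀ (u : GL (Fin t → Fin 2) F) (c : Fˣ),
        (u : Matrix _ _ F)ᵀ * B₀ * (u : Matrix _ _ F) = (c : F) • B₀ →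
        ((MulAut.conj P).toMonoidHom.comp (glReindex e.symm).toMonoidHom) u
          ∈ similarityGroup (sform (RingHom.id F) B) := by
      intro u c hu
      refine mem_similarity_sform (c := c) ?_
      have hval : ((((MulAut.conj P).toMonoidHom.comp (glReindex e.symm).toMonoidHom) u : GL ι F)
          : Matrix ι ι F) = (P : Matrix ι ι F) * R (u : Matrix _ _ F) * Pi' := rfl
      have hPP : Pi' * (P : Matrix ι ι F) = 1 := P.inv_mul
      have hPPt : (P : Matrix ι ι F)ᵀ * Pi'ᵀ = 1 := by rw [← transpose_mul, hPP, transpose_one]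
      rw [hval, show ((P : Matrix ι ι F) * R (u : Matrix _ _ F) * Pi').map (RingHom.id F)
        = (P : Matrix ι ι F) * R (u : Matrix _ _ F) * Pi' by ext; simp]
      calc _ = Pi'ᵀ * (R (u : Matrix _ _ F))ᵀ * ((P : Matrix ι ι F)ᵀ * Pi'ᵀ) * R B₀
            * (Pi' * (P : Matrix ι ι F)) * R (u : Matrix _ _ F) * Pi' := by
            simp only [B, transpose_mul, mul_assoc]
        _ = _ := by
            rw [hPP, hPPt, mul_one, mul_one, hR, mul_assoc Pi'ᵀ, ← map_mul, mul_assoc Pi'ᵀ, ← map_mul,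
              hu, map_smul]
            simp [B]
    rintro u (⟨a, ha⟩ | ⟨σ, hσ⟩)
    · refine main u (∏ i, GeneralLinearGroup.det (a i)) ?_
      have hu : (u : Matrix (Fin t → Fin 2) (Fin t → Fin 2) F) = pw fun i => (a i : Matrix (Fin 2) (Fin 2) F) := by ext x y; exact ha x y
      rw [hu, pw_transpose, pw_mul, pw_mul, Units.coe_prod]
      have : ((fun i => (a i : Matrix (Fin 2) (Fin 2) F)ᵀ) * (fun _ => J)) * (fun i => (a i : Matrix (Fin 2) (Fin 2) F))
          = fun i => (GeneralLinearGroup.det (a i) : F) • J := by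
        funext i
        have hd : ((GeneralLinearGroup.det (a i) : Fˣ) : F) = (a i : Matrix (Fin 2) (Fin 2) F).det := rfl
        rw [hd, Matrix.det_fin_two]
        ext p q
        fin_cases p <;> fin_cases q <;> simp [J, Matrix.mul_apply] <;> ring
      rw [this, pw_smul]
    · refine main u 1 ?_
      have hu : (u : Matrix (Fin t → Fin 2) (Fin t → Fin 2) F) = permMat σ := by ext x y; exact hσ x y
      rw [hu, permMat_transpose, Units.val_one, one_smul]
      simpa using permMat_conj_pw σ⁻¹ (fun _ : Fin t => J)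
  exact inForm_of_sign hBu hBt (neg_one_pow_eq_or F t) hdiag hsim

/-- an element normalising the left factor of equal dimensions lies in the wreath stabiliser -/
lemma mem_wreath_two {w : ℕ} {e : ι ≃ Fin w × Fin w} {P : GL ι F} {g : GL ι F}
    {a b : GL (Fin w) F} (h : (g : Matrix ι ι F) = tens e P (a : Matrix _ _ F) (b : Matrix _ _ F)) :
    g ∈ tensorWreathSubgroup w 2 (e.trans (piFinTwoEquiv fun _ => Fin w).symm) P := by
  refine mem_tensorWreathSubgroup (pwUnit_mem ![a, b]) ?_
  rw [h, tens, cw]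
  congr 1
  ext i j
  simp [pwUnit, pw, Fin.prod_univ_two]

/-- the left factor of a tensor algebra is normalised -/
theorem cases_of_normalizes [Fintype F] {G : Subgroup (GL ι F)} {w k : ℕ} (hw : 2 ≤ w) (hk : 2 ≤ k)
    (e : ι ≃ Fin w × Fin k) (P : GL ι F)
    (h : ∀ g ∈ G, ∀ A : Matrix (Fin w) (Fin w) F, ∃ A', cj g (tens e P A 1) = tens e P A' 1) :
    InTensor G ∨ InWreath G ∨ InQuad G ∨ InSymp G := by
  haveI : Nonempty (Fin w) := ⟨⟨0, by omega⟩⟩
  haveI : Nonempty (Fin k) := ⟨⟨0, by omega⟩⟩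
  have hab := fun g hg => exists_tens_of_normalizes (h g hg)
  have hcard : Fintype.card ι = w * k := by simp [Fintype.card_congr e]
  rcases lt_trichotomy w k with hlt | rfl | hgt
  · refine Or.inl ⟨w, k, e, P, hw, hlt, hcard.symm, fun g hg => ?_⟩
    obtain ⟨a, b, hg'⟩ := hab g hg
    exact mem_tensorProductSubgroup hg'
  · have hle : G ≤ tensorWreathSubgroup w 2 (e.trans (piFinTwoEquiv fun _ => Fin w).symm) P := by
      intro g hg
      obtain ⟨a, b, hg'⟩ := hab g hg
      exact mem_wreath_two hg'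
    rcases eq_or_lt_of_le hw with rfl | hw3
    · exact Or.inr (Or.inr (inForm_of_wreath_two two_pos hle))
    · exact Or.inr (Or.inl ⟨w, 2, _, P, hw3, le_rfl, by rw [hcard, sq], hle⟩)
  · refine Or.inl ⟨k, w, e.trans (Equiv.prodComm _ _), P, hk, hgt, by rw [hcard, mul_comm], fun g hg => ?_⟩
    obtain ⟨a, b, hg'⟩ := hab g hg
    exact mem_tensorProductSubgroup (hg'.trans (tens_swap e P _ _))

end CfsgLib.Asch
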