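import Cfsg.Agent.Lib.Aschbacher.Forms
import Cfsg.Agent.Lib.Aschbacher.Center
import Cfsg.Agent.Lib.Aschbacher.Tensor

/-!
# A non-degenerate reflexive sesquilinear form: adjoints, orthogonals, change of coordinates
-/

set_option autoImplicit false

namespace CfsgLib.Asch

open Matrix Cfsg.Geo
open scoped MatrixGroups Kronecker

/-- a non-degenerate sesquilinear form with `σ B` transposed equal to `ε B` -/
structure FData (ι : Type) [Fintype ι] [DecidableEq ι] (F : Type*) [Field F] where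
  σ : F →+* F
  σσ : ∀ a, σ (σ a) = a
  B : GL ι F
  ε : F
  herm : ((B : Matrix ι ι F).map σ)ᵀ = ε • (B : Matrix ι ι F)

variable {ι : Type} [Fintype ι] [DecidableEq ι] {F : Type*} [Field F]

/-- transport of a matrix to the coordinates given by `e` and `P` -/
def pullMat {κ : Type} [Fintype κ] [DecidableEq κ] (e : ι ≃ κ) (P : GL ι F) (M : Matrix ι ι F) :
    Matrix κ κ F := Matrix.reindexAlgEquiv F F e (cj P⁻¹ M)

/-- the inverse of `pullMat` -/
def pushMat {κ : Type} [Fintype κ] [DecidableEq κ] (e : ι ≃ κ) (P : GL ι F) (X : Matrix κ κ F) :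
    Matrix ι ι F := cj P (Matrix.reindexAlgEquiv F F e.symm X)

section coords

variable {κ : Type} [Fintype κ] [DecidableEq κ] (e : ι ≃ κ) (P : GL ι F)

lemma pullMat_pushMat (X : Matrix κ κ F) : pullMat e P (pushMat e P X) = X := by
  rw [pullMat, pushMat, cj_cj, inv_mul_cancel, cj_one_left]
  ext i j; simp

lemma pushMat_pullMat (M : Matrix ι ι F) : pushMat e P (pullMat e P M) = M := by
  rw [pushMat, pullMat]
  have : Matrix.reindexAlgEquiv F F e.symm (Matrix.reindexAlgEquiv F F e (cj P⁻¹ M)) = cj P⁻¹ M := by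
    ext i j; simp
  rw [this, cj_cj, mul_inv_cancel, cj_one_left]

lemma tens_eq_push {X Y : Type} [Fintype X] [DecidableEq X] [Fintype Y] [DecidableEq Y]
    (e : ι ≃ X × Y) (A : Matrix X X F) (B : Matrix Y Y F) :
    tens e P A B = pushMat e P (A ⊗ₖ B) := rfl

lemma cw_eq_push {m t : ℕ} (e : ι ≃ (Fin t → Fin m)) (M : Matrix (Fin t → Fin m) (Fin t → Fin m) F) :
    cw e P M = pushMat e P M := rfl

/-- transport of an invertible matrix -/
def pull : GL ι F →* GL κ F :=
  (glReindex e).toMonoidHom.comp (MulAut.conj P⁻¹).toMonoidHom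

lemma coe_pull (g : GL ι F) :
    (pull e P g : Matrix κ κ F) = pullMat e P (g : Matrix ι ι F) := by
  rw [pullMat, cj_coe]
  rfl

lemma pullMat_cj (g : GL ι F) (M : Matrix ι ι F) :
    pullMat e P (cj g M) = cj (pull e P g) (pullMat e P M) := by
  have h1 : cj P⁻¹ (cj g M) = cj (P⁻¹ * g * P) (cj P⁻¹ M) := by
    rw [cj_cj, cj_cj]; congr 1; group
  rw [pullMat, h1]
  show _ = cj (pull e P g) (Matrix.reindexAlgEquiv F F e (cj P⁻¹ M))
  generalize cj P⁻¹ M = N
  simp only [cj, map_mul, coe_pull, ← map_inv, pullMat, inv_inv]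
  simp only [_root_.mul_inv_rev, inv_inv, Units.val_mul, map_mul, mul_assoc]

end coords

namespace FData

variable (D : FData ι F)

/-- the form -/
def form : (ι → F) → (ι → F) → F := sform D.σ (D.B : Matrix ι ι F)

/-- its isometry group -/
def isom : Subgroup (GL ι F) := Cfsg.preserving (Cfsg.glToMat ι F) D.form

lemma σ_surjective : Function.Surjective D.σ := fun a => ⟨D.σ a, D.σσ a⟩

lemma map_map (M : Matrix ι ι F) : (M.map D.σ).map D.σ = M := by
  ext i j; exact D.σσ _

lemma herm' : ((D.B : Matrix ι ι F)ᵀ) = D.σ D.ε • (D.B : Matrix ι ι F).map D.σ := by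
  have h := congrArg (fun M : Matrix ι ι F => M.map D.σ) D.herm
  simp only [← Matrix.transpose_map, Matrix.map_map] at h
  ext i j
  have h1 := congrFun (congrFun h i) j
  simpa [D.σσ] using h1

lemma ε_ne_zero [Nonempty ι] : D.ε ≠ 0 := by
  intro h0
  have h := D.herm
  rw [h0, zero_smul] at h
  refine D.B.ne_zero ?_
  ext i j
  have h1 := congrFun (congrFun h j) i
  simp only [transpose_apply, Matrix.map_apply, Matrix.zero_apply] at h1
  exact D.σ.injective (h1.trans (map_zero D.σ).symm)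

lemma σε_mul_ε [Nonempty ι] : D.σ D.ε * D.ε = 1 := by
  have h := congrArg (fun M : Matrix ι ι F => (M.map D.σ)ᵀ) D.herm
  have h1 : D.σ D.ε • ((D.B : Matrix ι ι F).map D.σ)ᵀ = (D.B : Matrix ι ι F) := by
    ext i j
    have h2 := congrFun (congrFun h i) j
    simpa [D.σσ] using h2.symm
  rw [D.herm, smul_smul] at h1
  have h2 : (D.σ D.ε * D.ε - 1) • (D.B : Matrix ι ι F) = 0 := by rw [sub_smul, h1, one_smul, sub_self]
  exact sub_eq_zero.mp ((smul_eq_zero.mp h2).resolve_right D.B.ne_zero)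

lemma form_add_left (x y v : ι → F) : D.form (x + y) v = D.form x v + D.form y v := sform_add_left _ _ x y v

lemma form_smul_left (c : F) (x v : ι → F) : D.form (c • x) v = c * D.form x v := sform_smul_left _ _ c x v

lemma form_add_right (v x y : ι → F) : D.form v (x + y) = D.form v x + D.form v y := sform_add_right _ _ v x y

lemma form_smul_right (c : F) (v x : ι → F) : D.form v (c • x) = D.σ c * D.form v x := sform_smul_right _ _ c v x

lemma form_zero_left (v : ι → F) : D.form 0 v = 0 := by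
  simpa using D.form_smul_left 0 0 v

lemma form_zero_right (v : ι → F) : D.form v 0 = 0 := by
  simpa using D.form_smul_right 0 v 0

lemma nondeg : IsNondegenerateForm D.form := sform_nondegenerate D.B.isUnit

lemma flip (u v : ι → F) : D.σ (D.form v u) = D.ε * D.form u v := by
  have hs : (fun i => D.σ (D.σ (u i))) = u := funext fun i => D.σσ _
  simp only [form, sform]
  rw [RingHom.map_dotProduct, ← smul_eq_mul, ← dotProduct_smul, ← Matrix.smul_mulVec, ← D.herm]
  have h1 : D.σ ∘ ((D.B : Matrix ι ι F) *ᵥ fun i => D.σ (u i)) = (D.B : Matrix ι ι F).map D.σ *ᵥ u := by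
    funext i
    rw [Function.comp_apply, RingHom.map_mulVec]
    exact congrArg (fun w => ((D.B : Matrix ι ι F).map D.σ *ᵥ w) i) hs
  rw [h1, Matrix.mulVec_transpose, dotProduct_comm u, ← Matrix.dotProduct_mulVec]
  rfl

lemma form_eq_zero_comm [Nonempty ι] {u v : ι → F} : D.form u v = 0 ↔ D.form v u = 0 := by
  constructor <;> intro h
  · have := D.flip u v
    rw [h, mul_zero] at this
    exact D.σ.injective (this.trans (map_zero D.σ).symm)
  · have := D.flip v u
    rw [h, mul_zero] at this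
    exact D.σ.injective (this.trans (map_zero D.σ).symm)

lemma mem_isom {g : GL ι F} : g ∈ D.isom ↔
    (g : Matrix ι ι F)ᵀ * (D.B : Matrix ι ι F) * (g : Matrix ι ι F).map D.σ = (D.B : Matrix ι ι F) := by
  show (∀ u v, D.form ((g : Matrix ι ι F) *ᵥ u) ((g : Matrix ι ι F) *ᵥ v) = D.form u v) ↔ _
  simp only [form, sform_mulVec]
  refine ⟨fun h => sform_injective (σ := D.σ) (funext₂ h), fun h u v => by rw [h]⟩

lemma isom_le_similarity : D.isom ≤ similarityGroup D.form :=
  fun g hg => ⟨1, fun u v => by rw [Units.val_one, one_mul]; exact hg u v⟩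

lemma scalar_mem_isom {g : GL ι F} {c : F} (hg : (g : Matrix ι ι F) = c • 1) (hc : c * D.σ c = 1) :
    g ∈ D.isom := by
  rw [mem_isom, hg]
  have : (c • (1 : Matrix ι ι F)).map D.σ = D.σ c • 1 := by
    ext i j; rcases eq_or_ne i j with rfl | hij <;> simp [*]
  rw [this]
  simp [smul_smul, mul_comm, hc]

lemma norm_of_scalar_mem_isom [Nonempty ι] {g : GL ι F} {c : F} (hg : (g : Matrix ι ι F) = c • 1)
    (h : g ∈ D.isom) : c * D.σ c = 1 := by
  rw [mem_isom, hg] at h
  have : (c • (1 : Matrix ι ι F)).map D.σ = D.σ c • 1 := by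
    ext i j; rcases eq_or_ne i j with rfl | hij <;> simp [*]
  rw [this] at h
  simp [smul_smul] at h
  have h2 : (D.σ c * c - 1) • (D.B : Matrix ι ι F) = 0 := by rw [sub_smul, h, one_smul, sub_self]
  rw [mul_comm]
  exact sub_eq_zero.mp ((smul_eq_zero.mp h2).resolve_right D.B.ne_zero)

/-- the adjoint: `f (X u) v = f u (adj X v)` -/
def adj (X : Matrix ι ι F) : Matrix ι ι F :=
  (((D.B⁻¹ : GL ι F) : Matrix ι ι F) * Xᵀ * (D.B : Matrix ι ι F)).map D.σ

lemma form_adj (X : Matrix ι ι F) (u v : ι → F) : D.form (X *ᵥ u) v = D.form u (D.adj X *ᵥ v) := by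
  have h : (fun i => D.σ ((D.adj X *ᵥ v) i))
      = (((D.B⁻¹ : GL ι F) : Matrix ι ι F) * Xᵀ * (D.B : Matrix ι ι F)) *ᵥ fun i => D.σ (v i) := by
    funext i
    rw [RingHom.map_mulVec]
    show ((D.adj X).map D.σ *ᵥ fun i => D.σ (v i)) i = _
    rw [adj, D.map_map]
  simp only [form, sform, h, mulVec_mulVec]
  rw [mul_assoc (((D.B⁻¹ : GL ι F) : Matrix ι ι F)), Units.mul_inv_cancel_left, ← Matrix.mulVec_mulVec,
    Matrix.dotProduct_mulVec u Xᵀ, Matrix.vecMul_transpose]

lemma adj_add (X Y : Matrix ι ι F) : D.adj (X + Y) = D.adj X + D.adj Y := by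
  simp [adj, mul_add, add_mul, Matrix.map_add]

lemma adj_smul (c : F) (X : Matrix ι ι F) : D.adj (c • X) = D.σ c • D.adj X := by
  rw [adj, transpose_smul, Matrix.mul_smul, Matrix.smul_mul, adj]
  ext i j; simp only [Matrix.map_apply, Matrix.smul_apply, smul_eq_mul, map_mul]

@[simp] lemma adj_zero : D.adj 0 = 0 := by simp [adj]

@[simp] lemma adj_one : D.adj 1 = 1 := by simp [adj]

lemma adj_mul (X Y : Matrix ι ι F) : D.adj (X * Y) = D.adj Y * D.adj X := by
  rw [adj, adj, adj, ← Matrix.map_mul, transpose_mul]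
  simp [mul_assoc]

lemma adj_sub (X Y : Matrix ι ι F) : D.adj (X - Y) = D.adj X - D.adj Y := by
  rw [eq_sub_iff_add_eq, ← adj_add, sub_add_cancel]

lemma eq_of_form_eq {X Y : Matrix ι ι F} (h : ∀ u v, D.form u (X *ᵥ v) = D.form u (Y *ᵥ v)) : X = Y := by
  refine Matrix.ext_of_mulVec_single fun i => ?_
  by_contra hne
  obtain ⟨⟨u, hu⟩, -⟩ := D.nondeg _ (sub_ne_zero.mpr hne)
  refine hu ?_
  rw [sub_eq_add_neg, ← neg_one_smul F (Y *ᵥ _), D.form_add_right, D.form_smul_right, h, map_neg, map_one]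
  ring

lemma adj_adj [Nonempty ι] (X : Matrix ι ι F) : D.adj (D.adj X) = X := by
  refine D.eq_of_form_eq fun u v => ?_
  rw [← D.form_adj]
  have h1 := D.flip (D.adj X *ᵥ u) v
  rw [← D.form_adj, D.flip u (X *ᵥ v)] at h1
  exact (mul_left_cancel₀ D.ε_ne_zero h1).symm

lemma adj_coe {g : GL ι F} (hg : g ∈ D.isom) :
    D.adj (g : Matrix ι ι F) = ((g⁻¹ : GL ι F) : Matrix ι ι F) := by
  refine D.eq_of_form_eq fun u v => ?_
  rw [← D.form_adj]
  conv_lhs => rw [show v = (g : Matrix ι ι F) *ᵥ (((g⁻¹ : GL ι F) : Matrix ι ι F) *ᵥ v) by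
    simp [mulVec_mulVec]]
  exact hg _ _

lemma adj_cj {g : GL ι F} (hg : g ∈ D.isom) (X : Matrix ι ι F) : D.adj (cj g X) = cj g (D.adj X) := by
  rw [cj, D.adj_mul, D.adj_mul, D.adj_coe hg, D.adj_coe (D.isom.inv_mem hg), inv_inv, cj, mul_assoc]

lemma adj_mem_alg {N : Subgroup (GL ι F)} (hN : N ≤ D.isom) {M : Matrix ι ι F} (hM : M ∈ alg N) :
    D.adj M ∈ alg N := by
  refine alg_induction (fun M => D.adj M ∈ alg N) ?_ (by simp) ?_ ?_ hM
  · intro g hg
    rw [D.adj_coe (hN hg)]
    exact coe_mem_alg (N.inv_mem hg)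
  · intro x y hx hy; rw [adj_add]; exact add_mem hx hy
  · intro c x hx; rw [adj_smul]; exact Subalgebra.smul_mem _ hx _

lemma adj_mem_ctr {N : Subgroup (GL ι F)} (hN : N ≤ D.isom) {z : Matrix ι ι F} (hz : z ∈ ctr N) :
    D.adj z ∈ ctr N := by
  refine mem_ctr.mpr ⟨D.adj_mem_alg hN (mem_ctr.mp hz).1, fun g hg => ?_⟩
  have h1 := congrArg D.adj ((mem_ctr.mp hz).2 g⁻¹ (N.inv_mem hg))
  rw [D.adj_mul, D.adj_mul, D.adj_coe (hN (N.inv_mem hg)), inv_inv] at h1
  exact h1.symm

lemma adjointClosed {K : Subalgebra F (Matrix ι ι F)} (h : ∀ k ∈ K, D.adj k ∈ K) :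
    IsAdjointClosedFor D.form K := fun k hk => ⟨D.adj k, h k hk, D.form_adj k⟩

lemma selfAdjoint {K : Subalgebra F (Matrix ι ι F)} (h : ∀ k ∈ K, D.adj k = k) :
    IsSelfAdjointFor D.form K := fun k hk u v => by rw [D.form_adj, h k hk]

/-- the orthogonal of a subspace -/
def orth (W : Submodule F (ι → F)) : Submodule F (ι → F) where
  carrier := {v | ∀ w ∈ W, D.form v w = 0}
  add_mem' := fun {a b} ha hb w hw => by rw [D.form_add_left, ha w hw, hb w hw, add_zero]
  zero_mem' := fun w _ => D.form_zero_left w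
  smul_mem' := fun c a ha w hw => by rw [D.form_smul_left, ha w hw, mul_zero]

lemma mem_orth {W : Submodule F (ι → F)} {v : ι → F} : v ∈ D.orth W ↔ ∀ w ∈ W, D.form v w = 0 := Iff.rfl

lemma finrank_add_orth (W : Submodule F (ι → F)) :
    Module.finrank F W + Module.finrank F (D.orth W) = Fintype.card ι := by
  classical
  set b := Module.finBasis F W
  let L : (ι → F) →ₗ[F] (Fin (Module.finrank F W) → F) :=
  { toFun := fun v i => D.form v (b i : ι → F)
    map_add' := fun x y => funext fun i => D.form_add_left x y _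
    map_smul' := fun c x => funext fun i => D.form_smul_left c x _ }
  have hsurj : LinearMap.range L = ⊤ := by
    by_contra hne
    obtain ⟨φ, hφ0, hφ⟩ := Submodule.exists_dual_map_eq_bot_of_lt_top (lt_top_iff_ne_top.mpr hne) inferInstance
    set c : Fin (Module.finrank F W) → F := fun i => φ (fun j => if i = j then 1 else 0)
    have hφc : ∀ y, φ y = ∑ i, y i * c i := fun y => by
      rw [LinearMap.pi_apply_eq_sum_univ φ y]; rfl
    set w : W := ∑ i, D.σ (c i) • b i
    have hw : ∀ v, D.form v (w : ι → F) = φ (L v) := by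
      intro v
      rw [hφc]
      have hsum : ∀ s : Finset (Fin (Module.finrank F W)),
          D.form v ((∑ i ∈ s, D.σ (c i) • b i : W) : ι → F) = ∑ i ∈ s, L v i * c i := by
        intro s
        induction s using Finset.induction with
        | empty => simpa using D.form_zero_right v
        | @insert i s hi ih =>
          rw [Finset.sum_insert hi, Finset.sum_insert hi, Submodule.coe_add, D.form_add_right, ih,
            Submodule.coe_smul, D.form_smul_right, D.σσ, mul_comm]
          rfl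
      exact hsum Finset.univ
    have hw0 : (w : ι → F) = 0 := by
      by_contra hw0
      obtain ⟨⟨v, hv⟩, -⟩ := D.nondeg _ hw0
      refine hv ?_
      rw [hw]
      exact (Submodule.mem_bot F).mp (hφ ▸ Submodule.mem_map_of_mem (LinearMap.mem_range_self L v))
    have hw' : w = 0 := Subtype.ext hw0
    refine hφ0 (LinearMap.ext fun y => ?_)
    rw [hφc, LinearMap.zero_apply]
    refine Finset.sum_eq_zero fun i _ => ?_
    have := Fintype.linearIndependent_iff.mp b.linearIndependent _ hw' i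
    rw [show c i = 0 from D.σ.injective (this.trans (map_zero D.σ).symm), mul_zero]
  have hker : LinearMap.ker L = D.orth W := by
    ext v
    refine ⟨fun hv w hw => ?_, fun hv => funext fun i => hv _ (b i).2⟩
    have h2 := congrArg W.subtype (b.sum_repr ⟨w, hw⟩)
    simp only [map_sum, map_smul, Submodule.subtype_apply] at h2
    have hsum : ∀ s : Finset (Fin (Module.finrank F W)),
        D.form v (∑ i ∈ s, b.repr ⟨w, hw⟩ i • (b i : ι → F)) = 0 := by
      intro s
      induction s using Finset.induction with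
      | empty => exact D.form_zero_right v
      | @insert i s hi ih =>
        rw [Finset.sum_insert hi, D.form_add_right, D.form_smul_right, ih,
          show D.form v (b i : ι → F) = 0 from congrFun hv i, mul_zero, add_zero]
    rw [← h2]
    exact hsum _
  have h1 := L.finrank_range_add_finrank_ker
  rw [hsurj, hker, finrank_top, Module.finrank_fintype_fun_eq_card, Fintype.card_fin,
    Module.finrank_fintype_fun_eq_card] at h1
  exact h1

lemma orth_stable {g : GL ι F} (hg : g ∈ D.isom) {W : Submodule F (ι → F)}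
    (hW : ∀ w ∈ W, ((g⁻¹ : GL ι F) : Matrix ι ι F) *ᵥ w ∈ W) {v : ι → F} (hv : v ∈ D.orth W) :
    (g : Matrix ι ι F) *ᵥ v ∈ D.orth W := by
  intro w hw
  have h := hv _ (hW w hw)
  rw [← hg v] at h
  simpa [mulVec_mulVec] using h

lemma nondegenerateOn_of_disjoint [Nonempty ι] {W : Submodule F (ι → F)} (h : W ⊓ D.orth W = ⊥) :
    IsNondegenerateOn D.form W := by
  intro w hw hw0
  have hx : ∃ x ∈ W, D.form w x ≠ 0 := by
    by_contra hc
    push_neg at hc
    exact hw0 ((Submodule.mem_bot F).mp (h ▸ (⟨hw, hc⟩ : w ∈ W ⊓ D.orth W)))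
  obtain ⟨x, hx, hne⟩ := hx
  exact ⟨⟨x, hx, fun h0 => hne (D.form_eq_zero_comm.mp h0)⟩, x, hx, hne⟩

/-- the reducible case -/
theorem reducible_cases [Nonempty ι] {G : Subgroup (GL ι F)} (hG : G ≤ D.isom)
    (hW : ∃ W : Submodule F (ι → F), W ≠ ⊥ ∧ W ≠ ⊤ ∧ G ≤ subspaceStabilizer W) :
    (∃ W : Submodule F (ι → F), W ≠ ⊥ ∧ IsTotallySingularFor D.form W ∧ G ≤ subspaceStabilizer W) ∨
    (∃ W : Submodule F (ι → F), W ≠ ⊥ ∧ W ≠ ⊤ ∧ IsNondegenerateOn D.form W ∧
      2 * Module.finrank F W < Fintype.card ι ∧ G ≤ subspaceStabilizer W) ∨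
    (∃ (k : ℕ) (V : Fin 2 → Submodule F (ι → F)), 2 * k = Fintype.card ι ∧
      IsNondegenerateMDecomposition D.form k V ∧ G ≤ decompositionStabilizer V) := by
  classical
  obtain ⟨W, h0, h1, hW⟩ := hW
  have hinv : ∀ g ∈ G, ∀ w ∈ W, (g : Matrix ι ι F) *ᵥ w ∈ W := fun g hg w hw =>
    (mem_subspaceStabilizer.mp (hW hg) w).mp hw
  have hinv' : ∀ g ∈ G, ∀ v ∈ D.orth W, (g : Matrix ι ι F) *ᵥ v ∈ D.orth W := fun g hg v hv =>
    D.orth_stable (hG hg) (hinv _ (G.inv_mem hg)) hv
  by_cases hd : W ⊓ D.orth W = ⊥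
  swap
  · exact Or.inl ⟨W ⊓ D.orth W, hd, fun u hu v hv => hu.2 v hv.1,
      le_subspaceStabilizer fun g hg w hw => ⟨hinv g hg w hw.1, hinv' g hg w hw.2⟩⟩
  right
  have hdim : Module.finrank F W + Module.finrank F (D.orth W) = Fintype.card ι := by
    exact D.finrank_add_orth W
  have htop : W ⊔ D.orth W = ⊤ := by
    refine Submodule.eq_top_of_finrank_eq ?_
    have h := Submodule.finrank_sup_add_finrank_inf_eq W (D.orth W)
    rw [hd, finrank_bot, add_zero, hdim] at h
    rw [h, Module.finrank_fintype_fun_eq_card]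
  have hnd := D.nondegenerateOn_of_disjoint hd
  have hle : W ≤ D.orth (D.orth W) := fun w hw v hv => D.form_eq_zero_comm.mp (hv w hw)
  have hd' : D.orth W ⊓ D.orth (D.orth W) = ⊥ := by
    refine (Submodule.eq_bot_iff _).mpr fun v hv => ?_
    by_contra hv0
    obtain ⟨-, x, hx⟩ := D.nondeg v hv0
    obtain ⟨a, ha, b, hb, rfl⟩ := Submodule.mem_sup.mp (htop ▸ Submodule.mem_top : x ∈ W ⊔ D.orth W)
    exact hx (by rw [D.form_add_right, hv.1 a ha, hv.2 b hb, add_zero])
  have hnd' := D.nondegenerateOn_of_disjoint hd'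
  have hW0 : 0 < Module.finrank F W := Nat.pos_of_ne_zero fun h => h0 (Submodule.finrank_eq_zero.mp h)
  have hO0 : D.orth W ≠ ⊥ := fun h => h1 (by rwa [h, sup_bot_eq] at htop)
  have hO1 : D.orth W ≠ ⊤ := fun h => h0 (by rwa [h, inf_top_eq] at hd)
  rcases lt_trichotomy (Module.finrank F W) (Module.finrank F (D.orth W)) with hlt | heq | hgt
  · exact Or.inl ⟨W, h0, h1, hnd, by omega, hW⟩
  · refine Or.inr ⟨Module.finrank F W, ![W, D.orth W], by omega,
      ⟨⟨le_rfl, hW0, ?_, ?_, ?_⟩, ?_, ?_⟩, fun g hg => ⟨1, fun i => ?_⟩⟩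
    · intro i; fin_cases i
      · rfl
      · exact heq.symm
    · rw [iSupIndep_pair (i := (0 : Fin 2)) (j := 1) (by decide) (fun k => by fin_cases k <;> simp)]
      exact disjoint_iff.mpr hd
    · rw [eq_top_iff, ← htop]
      exact sup_le (le_iSup ![W, D.orth W] 0) (le_iSup ![W, D.orth W] 1)
    · intro i; fin_cases i
      · exact hnd
      · exact hnd'
    · intro i j hij u hu v hv
      fin_cases i <;> fin_cases j <;> simp at hij hu hv
      · exact D.form_eq_zero_comm.mp (hv u hu)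
      · exact hu v hv
    · have hmap : ∀ U : Submodule F (ι → F), (∀ g ∈ G, ∀ w ∈ U, (g : Matrix ι ι F) *ᵥ w ∈ U) →
          U.map (Matrix.toLin' (g : Matrix ι ι F)) = U := by
        intro U hU
        refine le_antisymm (map_le_iff_mulVec.mpr (hU g hg)) fun u hu => ?_
        exact ⟨_, hU g⁻¹ (G.inv_mem hg) u hu, by simp [Matrix.toLin'_apply, mulVec_mulVec]⟩
      fin_cases i
      · exact hmap W hinv
      · exact hmap _ hinv'
  · exact Or.inl ⟨D.orth W, hO0, hO1, hnd', by omega,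
      le_subspaceStabilizer hinv'⟩

section trans

variable {κ : Type} [Fintype κ] [DecidableEq κ] (e : ι ≃ κ) (P : GL ι F)

lemma isUnit_transB : IsUnit (Matrix.reindexAlgEquiv F F e
    ((P : Matrix ι ι F)ᵀ * (D.B : Matrix ι ι F) * (P : Matrix ι ι F).map D.σ)) :=
  ((((Matrix.isUnit_transpose _).mpr P.isUnit).mul D.B.isUnit).mul (P.isUnit.map D.σ.mapMatrix)).map _

/-- the form in the coordinates given by `e` and `P` -/
noncomputable def trans : FData κ F where
  σ := D.σ
  σσ := D.σσ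
  B := (D.isUnit_transB e P).unit
  ε := D.ε
  herm := by
    have h := D.herm
    have h1 : (((P : Matrix ι ι F)ᵀ * (D.B : Matrix ι ι F) * (P : Matrix ι ι F).map D.σ).map D.σ)ᵀ
        = D.ε • ((P : Matrix ι ι F)ᵀ * (D.B : Matrix ι ι F) * (P : Matrix ι ι F).map D.σ) := by
      rw [Matrix.map_mul, Matrix.map_mul, D.map_map, transpose_mul, transpose_mul, h, Matrix.smul_mul,
        Matrix.mul_smul, transpose_map, transpose_transpose, mul_assoc]
    ext i j
    have h2 := congrFun (congrFun h1 (e.symm i)) (e.symm j)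
    rw [Matrix.transpose_apply, Matrix.map_apply, Matrix.smul_apply, IsUnit.unit_spec,
      Matrix.reindexAlgEquiv_apply, Matrix.reindex_apply, Matrix.submatrix_apply, Matrix.submatrix_apply]
    rw [Matrix.transpose_apply, Matrix.map_apply, Matrix.smul_apply] at h2
    exact h2

lemma trans_B : ((D.trans e P).B : Matrix κ κ F) = Matrix.reindexAlgEquiv F F e
    ((P : Matrix ι ι F)ᵀ * (D.B : Matrix ι ι F) * (P : Matrix ι ι F).map D.σ) := rfl

lemma trans_form (x y : κ → F) :
    D.form ((P : Matrix ι ι F) *ᵥ (x ∘ e)) ((P : Matrix ι ι F) *ᵥ (y ∘ e)) = (D.trans e P).form x y := by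
  simp only [form, sform_mulVec]
  simp only [sform, dotProduct, Matrix.mulVec, Function.comp_apply]
  rw [← Equiv.sum_comp e.symm]
  refine Finset.sum_congr rfl fun a _ => ?_
  rw [← Equiv.sum_comp e.symm]
  simp [trans, Matrix.mul_apply]

lemma pull_mem_isom {g : GL ι F} (hg : g ∈ D.isom) : pull e P g ∈ (D.trans e P).isom := by
  intro x y
  show (D.trans e P).form _ _ = (D.trans e P).form x y
  rw [← trans_form, ← trans_form]
  have hx : ∀ x : κ → F, (P : Matrix ι ι F) *ᵥ ((Cfsg.glToMat κ F (pull e P g) *ᵥ x) ∘ e)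
      = (g : Matrix ι ι F) *ᵥ ((P : Matrix ι ι F) *ᵥ (x ∘ e)) := by
    intro x
    have h1 : (Cfsg.glToMat κ F (pull e P g) *ᵥ x) ∘ e = ((P⁻¹ * g * P : GL ι F) : Matrix ι ι F) *ᵥ (x ∘ e) := by
      show ((pull e P g : Matrix κ κ F) *ᵥ x) ∘ e = _
      rw [coe_pull, pullMat, cj_coe, inv_inv]
      funext i
      simp [Matrix.mulVec, dotProduct, ← Equiv.sum_comp e]
    rw [h1, mulVec_mulVec, mulVec_mulVec, ← Units.val_mul, ← Units.val_mul]
    simp [mul_assoc]
  rw [hx, hx]
  exact hg _ _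

lemma trans_adj [Nonempty ι] (M : Matrix ι ι F) :
    (D.trans e P).adj (pullMat e P M) = pullMat e P (D.adj M) := by
  refine (D.trans e P).eq_of_form_eq fun x y => ?_
  rw [← form_adj]
  have hx : ∀ (M : Matrix ι ι F) (x : κ → F), (P : Matrix ι ι F) *ᵥ ((pullMat e P M *ᵥ x) ∘ e)
      = M *ᵥ ((P : Matrix ι ι F) *ᵥ (x ∘ e)) := by
    intro M x
    have h1 : (pullMat e P M *ᵥ x) ∘ e = cj P⁻¹ M *ᵥ (x ∘ e) := by
      funext i
      simp [pullMat, Matrix.mulVec, dotProduct, ← Equiv.sum_comp e]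
    rw [h1, ← cj_mulVec, cj_cj, mul_inv_cancel, cj_one_left]
  rw [← trans_form, ← trans_form, hx, hx, form_adj]

end trans

end FData

end CfsgLib.Asch
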