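import Cfsg.Agent.Lib.Aschbacher.FormBasic
import Cfsg.Agent.Lib.Aschbacher.FormImprim
import Cfsg.Agent.Lib.Aschbacher.FormQuad

/-!
# Forms on tensor products
-/

set_option autoImplicit false

namespace CfsgLib.Asch

open Matrix Cfsg.Geo
open scoped MatrixGroups Kronecker

variable {ι : Type} [Fintype ι] [DecidableEq ι] {F : Type*} [Field F]
variable {X Y : Type} [Fintype X] [DecidableEq X] [Fintype Y] [DecidableEq Y]

lemma tens_refl (A : Matrix X X F) (B : Matrix Y Y F) :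
    tens (Equiv.refl (X × Y)) (1 : GL (X × Y) F) A B = A ⊗ₖ B := by
  simp [tens]

omit [Fintype X] [DecidableEq X] [Fintype Y] [DecidableEq Y] in
/-- the factors of a Kronecker product are determined up to scalars -/
lemma kron_factor_unique {A A' : Matrix X X F} {B B' : Matrix Y Y F} (h : A ⊗ₖ B = A' ⊗ₖ B')
    (hA : A' ≠ 0) (hB : B' ≠ 0) : ∃ c : F, A = c • A' ∧ c • B = B' := by
  obtain ⟨j, k, hjk⟩ : ∃ j k, B' j k ≠ 0 := by
    by_contra hc
    push_neg at hc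
    exact hB (Matrix.ext fun i j => hc i j)
  obtain ⟨a, b, hab⟩ : ∃ a b, A' a b ≠ 0 := by
    by_contra hc
    push_neg at hc
    exact hA (Matrix.ext fun i j => hc i j)
  have hent : ∀ a b j k, A a b * B j k = A' a b * B' j k := fun a b j k => congrFun (congrFun h (a, j)) (b, k)
  have hBjk : B j k ≠ 0 := fun h0 => by
    have := hent a b j k
    rw [h0, mul_zero] at this
    exact mul_ne_zero hab hjk this.symm
  refine ⟨B' j k / B j k, Matrix.ext fun a b => ?_, Matrix.ext fun j' k' => ?_⟩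
  · rw [Matrix.smul_apply, smul_eq_mul, div_mul_eq_mul_div, eq_div_iff hBjk, hent, mul_comm]
  · rw [Matrix.smul_apply, smul_eq_mul]
    have h1 : A a b = B' j k / B j k * A' a b := by
      rw [div_mul_eq_mul_div, eq_div_iff hBjk, hent, mul_comm]
    have h2 := hent a b j' k'
    rw [h1] at h2
    exact mul_left_cancel₀ hab (by linear_combination h2)

/-- the unit given by a Kronecker product -/
def kronUnit (a : GL X F) (b : GL Y F) : GL (X × Y) F :=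
  ⟨(a : Matrix X X F) ⊗ₖ (b : Matrix Y Y F), ((a⁻¹ : GL X F) : Matrix X X F) ⊗ₖ ((b⁻¹ : GL Y F) : Matrix Y Y F),
    by rw [← Matrix.mul_kronecker_mul, a.mul_inv, b.mul_inv, one_kronecker_one],
    by rw [← Matrix.mul_kronecker_mul, a.inv_mul, b.inv_mul, one_kronecker_one]⟩

lemma transpose_kron (A : Matrix X X F) (B : Matrix Y Y F) : (A ⊗ₖ B)ᵀ = Aᵀ ⊗ₖ Bᵀ :=
  (Matrix.kroneckerMap_transpose _ _ _).symm

lemma map_kron (φ : F →+* F) (A : Matrix X X F) (B : Matrix Y Y F) :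
    (A ⊗ₖ B).map φ = A.map φ ⊗ₖ B.map φ := by
  ext i j; simp

omit [DecidableEq ι] in
lemma sform_eq_formOfGram (σ : F →+* F) (B : Matrix ι ι F) (x y : ι → F) :
    sform σ B x y = formOfGram σ B x y := by
  simp only [sform, formOfGram, dotProduct, Matrix.mulVec, Finset.mul_sum, mul_assoc]

lemma gramMatrix_sform (σ : F →+* F) (B : Matrix ι ι F) : gramMatrix (sform σ B) = B := by
  ext i j; exact sform_single σ B i j

lemma isSymmetricForm_sform {G : GL ι F} (hG : (G : Matrix ι ι F)ᵀ = (G : Matrix ι ι F)) :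
    IsSymmetricForm (sform (RingHom.id F) (G : Matrix ι ι F)) :=
  ⟨sform_bilinear _, fun u v => by
    have h := sform_flip (G : Matrix ι ι F) u v
    rwa [hG] at h, sform_nondegenerate G.isUnit⟩

lemma isUnitaryFormPow_sform {σ : F →+* F} {q : ℕ} (hq : ∀ a, σ a = a ^ q) (hinv : ∀ a, σ (σ a) = a)
    {G : GL ι F} (hG : ((G : Matrix ι ι F).map σ)ᵀ = (G : Matrix ι ι F)) :
    IsUnitaryFormPow q (sform σ (G : Matrix ι ι F)) := by
  let D : FData ι F := ⟨σ, hinv, G, 1, by rw [hG, one_smul]⟩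
  refine ⟨sform_add_left σ _, sform_smul_left σ _, fun v w => ?_, sform_nondegenerate G.isUnit⟩
  rw [← hq]
  have := D.flip v w
  rw [show D.ε = 1 from rfl, one_mul] at this
  exact this.symm

/-- a scalar making a twisted-symmetric matrix hermitian -/
lemma exists_herm_scalar {σ : F →+* F} (hinv : ∀ a, σ (σ a) = a) (hσ : σ ≠ RingHom.id F) {c : F}
    (hcc : σ c * c = 1) : ∃ μ : F, μ ≠ 0 ∧ σ μ * c = μ := by
  by_cases h1 : c + 1 = 0
  · obtain ⟨a, ha⟩ : ∃ a, σ a ≠ a := by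
      by_contra hall
      push_neg at hall
      exact hσ (RingHom.ext hall)
    refine ⟨a - σ a, sub_ne_zero.mpr (Ne.symm ha), ?_⟩
    rw [map_sub, hinv, eq_neg_of_add_eq_zero_left h1]
    ring
  · refine ⟨c + 1, h1, ?_⟩
    rw [map_add, map_one, add_mul, hcc, one_mul, add_comm]

lemma pull_of_tens (e : ι ≃ X × Y) (P : GL ι F) {g : GL ι F} {a : Matrix X X F} {b : Matrix Y Y F}
    (h : (g : Matrix ι ι F) = tens e P a b) : (pull e P g : Matrix (X × Y) (X × Y) F) = a ⊗ₖ b := by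
  rw [coe_pull, h, tens_eq_push, pullMat_pushMat]

namespace FData

section factor

variable [Nonempty X] [Nonempty Y] (D : FData (X × Y) F)

/-- the two factor forms when the left factor is closed under adjoints -/
theorem exists_factor_forms (h : ∀ A : Matrix X X F, ∃ A', D.adj (A ⊗ₖ (1 : Matrix Y Y F)) = A' ⊗ₖ 1) :
    ∃ (G₁ : GL X F) (G₂ : GL Y F) (ε₁ ε₂ : F),
      (D.B : Matrix (X × Y) (X × Y) F) = (G₁ : Matrix X X F) ⊗ₖ (G₂ : Matrix Y Y F) ∧
      ((G₁ : Matrix X X F).map D.σ)ᵀ = ε₁ • (G₁ : Matrix X X F) ∧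
      ((G₂ : Matrix Y Y F).map D.σ)ᵀ = ε₂ • (G₂ : Matrix Y Y F) ∧
      ε₁ * ε₂ = D.ε ∧ D.σ ε₁ * ε₁ = 1 ∧ D.σ ε₂ * ε₂ = 1 := by
  obtain ⟨a, b, hab⟩ := exists_tens_of_normalizes (e := Equiv.refl (X × Y)) (P := 1) (g := D.B⁻¹) (fun A => by
    obtain ⟨A', hA'⟩ := h Aᵀ
    refine ⟨A'.map D.σ, ?_⟩
    simp only [tens_refl]
    have h1 := congrArg (fun M : Matrix (X × Y) (X × Y) F => M.map D.σ) hA'
    simp only [adj, D.map_map, transpose_kron, transpose_transpose, transpose_one, map_kron,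
      Matrix.map_one D.σ (map_zero D.σ) (map_one D.σ)] at h1
    rw [cj, inv_inv]
    exact h1)
  rw [tens_refl] at hab
  have hB : D.B = kronUnit a⁻¹ b⁻¹ := by
    rw [← _root_.inv_inj]
    exact Units.ext hab
  have hBm : (D.B : Matrix (X × Y) (X × Y) F)
      = ((a⁻¹ : GL X F) : Matrix X X F) ⊗ₖ ((b⁻¹ : GL Y F) : Matrix Y Y F) := by rw [hB]; rfl
  have h1 := D.herm
  rw [hBm, map_kron, transpose_kron, ← smul_kronecker] at h1
  obtain ⟨c, hc1, hc2⟩ := kron_factor_unique h1 (by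
    intro h0
    rcases smul_eq_zero.mp h0 with h0 | h0
    · exact D.ε_ne_zero h0
    · exact (a⁻¹).ne_zero h0) (b⁻¹).ne_zero
  have hc0 : c ≠ 0 := by
    rintro rfl
    rw [zero_smul] at hc2
    exact (b⁻¹).ne_zero hc2.symm
  have hkey : ∀ {Z : Type} [Fintype Z] [DecidableEq Z] [Nonempty Z] (G : GL Z F) (e : F),
      ((G : Matrix Z Z F).map D.σ)ᵀ = e • (G : Matrix Z Z F) → D.σ e * e = 1 := fun G e he =>
    FData.σε_mul_ε ⟨D.σ, D.σσ, G, e, he⟩
  have hc3 : (((b⁻¹ : GL Y F) : Matrix Y Y F).map D.σ)ᵀ = c⁻¹ • ((b⁻¹ : GL Y F) : Matrix Y Y F) := by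
    conv_rhs => rw [← hc2, smul_smul, inv_mul_cancel₀ hc0, one_smul]
  exact ⟨a⁻¹, b⁻¹, c * D.ε, c⁻¹, hBm, by rw [hc1, smul_smul], hc3, by field_simp,
    hkey _ _ (by rw [hc1, smul_smul]), hkey b⁻¹ _ hc3⟩

/-- hermitian factor forms -/
theorem exists_factor_herm (hσ : D.σ ≠ RingHom.id F) (hε : D.ε = 1)
    (h : ∀ A : Matrix X X F, ∃ A', D.adj (A ⊗ₖ (1 : Matrix Y Y F)) = A' ⊗ₖ 1) :
    ∃ (G₁ : GL X F) (G₂ : GL Y F),
      (D.B : Matrix (X × Y) (X × Y) F) = (G₁ : Matrix X X F) ⊗ₖ (G₂ : Matrix Y Y F) ∧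
      ((G₁ : Matrix X X F).map D.σ)ᵀ = (G₁ : Matrix X X F) ∧
      ((G₂ : Matrix Y Y F).map D.σ)ᵀ = (G₂ : Matrix Y Y F) := by
  obtain ⟨G₁, G₂, e₁, e₂, hB, h1, h2, he, he1, -⟩ := D.exists_factor_forms h
  obtain ⟨μ, hμ, hμe⟩ := exists_herm_scalar D.σσ hσ he1
  let s : Fˣ := Units.mk0 μ hμ
  let U₁ : GL X F := Units.map (Matrix.scalar X : F →+* Matrix X X F).toMonoidHom s * G₁
  let U₂ : GL Y F := Units.map (Matrix.scalar Y : F →+* Matrix Y Y F).toMonoidHom s⁻¹ * G₂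
  have hU₁ : (U₁ : Matrix X X F) = μ • (G₁ : Matrix X X F) := by simp [U₁, s, Matrix.smul_eq_diagonal_mul]
  have hU₂ : (U₂ : Matrix Y Y F) = μ⁻¹ • (G₂ : Matrix Y Y F) := by simp [U₂, s, Matrix.smul_eq_diagonal_mul]
  have hm : ∀ {Z : Type} [Fintype Z] [DecidableEq Z] (t : F) (M : Matrix Z Z F),
      ((t • M).map D.σ)ᵀ = D.σ t • (M.map D.σ)ᵀ := fun t M => by ext i j; simp
  refine ⟨U₁, U₂, ?_, ?_, ?_⟩
  · rw [hU₁, hU₂, smul_kronecker, kronecker_smul, smul_smul, mul_inv_cancel₀ hμ, one_smul, hB]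
  · rw [hU₁, hm, h1, smul_smul, hμe]
  · rw [hU₂, hm, h2, smul_smul]
    congr 1
    have hμσ : D.σ μ ≠ 0 := fun h0 => hμ (D.σ.injective (h0.trans (map_zero D.σ).symm))
    rw [hε] at he
    rw [map_inv₀]
    have he0 : e₁ ≠ 0 := fun h0 => by rw [h0, zero_mul] at he; exact zero_ne_one he
    have : e₂ = e₁⁻¹ := eq_inv_of_mul_eq_one_right he
    rw [this, ← mul_inv, hμe]

/-- isometries of a product are products of similitudes -/
theorem similitude_factors {G₁ : GL X F} {G₂ : GL Y F}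
    (hB : (D.B : Matrix (X × Y) (X × Y) F) = (G₁ : Matrix X X F) ⊗ₖ (G₂ : Matrix Y Y F))
    {g : GL (X × Y) F} (hg : g ∈ D.isom) {a : GL X F} {b : GL Y F}
    (hab : (g : Matrix (X × Y) (X × Y) F) = (a : Matrix X X F) ⊗ₖ (b : Matrix Y Y F)) :
    ∃ μ : F, μ ≠ 0 ∧ (a : Matrix X X F)ᵀ * (G₁ : Matrix X X F) * (a : Matrix X X F).map D.σ = μ • (G₁ : Matrix X X F) ∧
      (b : Matrix Y Y F)ᵀ * (G₂ : Matrix Y Y F) * (b : Matrix Y Y F).map D.σ = μ⁻¹ • (G₂ : Matrix Y Y F) := by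
  have h := D.mem_isom.mp hg
  rw [hab, hB, map_kron, transpose_kron, ← Matrix.mul_kronecker_mul, ← Matrix.mul_kronecker_mul] at h
  obtain ⟨c, hc1, hc2⟩ := kron_factor_unique h G₁.ne_zero G₂.ne_zero
  have hc0 : c ≠ 0 := by
    rintro rfl
    rw [zero_smul] at hc2
    exact G₂.ne_zero hc2.symm
  exact ⟨c, hc0, hc1, by rw [← hc2, smul_smul, inv_mul_cancel₀ hc0, one_smul, hc2]⟩

end factor

variable (D : FData ι F)

lemma trans_equiv {κ κ' : Type} [Fintype κ] [DecidableEq κ] [Fintype κ'] [DecidableEq κ'] (e : ι ≃ κ)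
    (f : κ ≃ κ') (P : GL ι F) :
    ((D.trans (e.trans f) P).B : Matrix κ' κ' F)
      = Matrix.reindexAlgEquiv F F f ((D.trans e P).B : Matrix κ κ F) := by
  ext i j; simp [trans_B]

lemma trans_swap (e : ι ≃ X × Y) (P : GL ι F) {G₁ : Matrix X X F} {G₂ : Matrix Y Y F}
    (hB : ((D.trans e P).B : Matrix (X × Y) (X × Y) F) = G₁ ⊗ₖ G₂) :
    ((D.trans (e.trans (Equiv.prodComm X Y)) P).B : Matrix (Y × X) (Y × X) F) = G₂ ⊗ₖ G₁ := by
  rw [trans_equiv, hB]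
  ext i j
  simp [mul_comm]

/-- a tensor form structure -/
lemma isTensorFormStructure {n₁ n₂ : ℕ} (e : ι ≃ Fin n₁ × Fin n₂) (P : GL ι F)
    {G₁ : Matrix (Fin n₁) (Fin n₁) F} {G₂ : Matrix (Fin n₂) (Fin n₂) F}
    (hB : ((D.trans e P).B : Matrix (Fin n₁ × Fin n₂) (Fin n₁ × Fin n₂) F) = G₁ ⊗ₖ G₂) :
    IsTensorFormStructure D.σ D.form (sform D.σ G₁) (sform D.σ G₂) e P := by
  refine ⟨1, one_ne_zero, fun x y => ?_⟩
  rw [one_mul, D.trans_form, form, hB, gramMatrix_sform, gramMatrix_sform, sform_eq_formOfGram]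
  rfl

/-- the left factor of a tensor algebra of isometries is closed under adjoints -/
lemma adj_left_of_tensorAlg [Nonempty ι] {N : Subgroup (GL ι F)} (hN : N ≤ D.isom) {w k : ℕ}
    {e : ι ≃ Fin w × Fin k} {P : GL ι F} (h : IsTensorAlg N e P) (A : Matrix (Fin w) (Fin w) F) :
    ∃ A', (D.trans e P).adj (A ⊗ₖ (1 : Matrix (Fin k) (Fin k) F)) = A' ⊗ₖ 1 := by
  obtain ⟨A', hA'⟩ := (h _).mp (D.adj_mem_alg hN ((h _).mpr ⟨A, rfl⟩))
  refine ⟨A', ?_⟩
  have h1 := congrArg (pullMat e P) hA'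
  rw [← D.trans_adj] at h1
  simp only [tens_eq_push, pullMat_pushMat] at h1
  exact h1

end FData

end CfsgLib.Asch
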