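import Cfsg.Agent.Lib.Aschbacher.Components
import Cfsg.Agent.Lib.Aschbacher.FormKron

/-!
# Components of a perfect group of isometries: the form is a tensor power
-/

set_option autoImplicit false

namespace CfsgLib.Asch

open Matrix Cfsg.Geo
open scoped MatrixGroups

variable {ι : Type} [Fintype ι] [DecidableEq ι] {F : Type*} [Field F] {m t : ℕ}

lemma pw_map (φ : F →+* F) (A : Fin t → Matrix (Fin m) (Fin m) F) : (pw A).map φ = pw fun i => (A i).map φ := by
  ext x y; simp [pw, map_prod]

/-- the factors of a pure tensor are determined up to scalars -/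
lemma pw_factor_unique {A B : Fin t → Matrix (Fin m) (Fin m) F} (h : pw A = pw B) (hB : ∀ i, B i ≠ 0) :
    ∃ c : Fin t → F, ∀ i, A i = c i • B i := by
  classical
  have hne : ∀ i, ∃ a b, B i a b ≠ 0 := fun i => by
    by_contra hc
    push_neg at hc
    exact hB i (Matrix.ext hc)
  choose a b hab using hne
  have hall : ∀ i, A i (a i) (b i) ≠ 0 := by
    intro i h0
    have h1 := congrFun (congrFun h a) b
    simp only [pw, Matrix.of_apply] at h1
    rw [Finset.prod_eq_zero (Finset.mem_univ i) h0] at h1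
    exact Finset.prod_ne_zero_iff.mpr (fun j _ => hab j) h1.symm
  refine ⟨fun i => A i (a i) (b i) / B i (a i) (b i), fun i => Matrix.ext fun p q => ?_⟩
  have h0 := congrFun (congrFun h a) b
  have h1 := congrFun (congrFun h (Function.update a i p)) (Function.update b i q)
  simp only [pw, Matrix.of_apply] at h0 h1
  rw [← Finset.mul_prod_erase _ _ (Finset.mem_univ i), ← Finset.mul_prod_erase _ _ (Finset.mem_univ i)] at h0 h1
  simp only [Function.update_self] at h1
  have he : ∀ (C : Fin t → Matrix (Fin m) (Fin m) F),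
      (∏ j ∈ Finset.univ.erase i, C j (Function.update a i p j) (Function.update b i q j))
        = ∏ j ∈ Finset.univ.erase i, C j (a j) (b j) := fun C => Finset.prod_congr rfl fun j hj => by
    rw [Function.update_of_ne (Finset.ne_of_mem_erase hj), Function.update_of_ne (Finset.ne_of_mem_erase hj)]
  rw [he A, he B] at h1
  have hA0 : (∏ j ∈ Finset.univ.erase i, A j (a j) (b j)) ≠ 0 :=
    Finset.prod_ne_zero_iff.mpr fun j _ => hall j
  rw [Matrix.smul_apply, smul_eq_mul, div_mul_eq_mul_div, eq_div_iff (hab i)]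
  refine mul_right_cancel₀ hA0 ?_
  linear_combination (B i (a i) (b i)) * h1 - (B i p q) * h0

variable [Nonempty ι] [Fintype F]

namespace FData

variable (D : FData ι F) {G P : Subgroup (GL ι F)}

set_option maxHeartbeats 800000 in
/-- the form in component coordinates is a power of one factor form -/
theorem exists_power_form (C : CompData G P) (hGI : G ≤ D.isom) (hPG : P ≤ G) :
    ∃ (Q : GL ι F) (c ε₀ : F) (G₀ : GL (Fin C.w) F), c ≠ 0 ∧
      ((D.trans C.e Q).B : Matrix (Fin C.t → Fin C.w) (Fin C.t → Fin C.w) F)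
        = c • pw (fun _ => (G₀ : Matrix (Fin C.w) (Fin C.w) F)) ∧
      ((G₀ : Matrix (Fin C.w) (Fin C.w) F).map D.σ)ᵀ = ε₀ • (G₀ : Matrix (Fin C.w) (Fin C.w) F) ∧
      D.σ c * ε₀ ^ C.t = D.ε * c ∧ G ≤ tensorWreathSubgroup C.w C.t C.e Q ∧
      ∀ i, ∃ L : Subgroup (GL ι F), L ≤ P ∧ ⁅L, L⁆ = L ∧ ¬ L ≤ scalars ι F ∧
        ∀ x ∈ L, ∃ A, (x : Matrix ι ι F) = cw C.e Q (pw (Function.update 1 i A)) := by
  classical
  obtain ⟨w, t, e, Q, hw, ht, hcard, hle, hslot, htrans, -⟩ := C
  dsimp only
  haveI : Nonempty (Fin w) := ⟨⟨0, by omega⟩⟩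
  set D' := D.trans e Q with hD'
  have hslotadj : ∀ i (A : Matrix (Fin w) (Fin w) F), ∃ A',
      D'.adj (pw (Function.update 1 i A)) = pw (Function.update 1 i A') := by
    intro i A
    obtain ⟨L, hLP, -, -, hL⟩ := hslot i
    obtain ⟨A', hA'⟩ := (hL _).mp (D.adj_mem_alg ((hLP.trans hPG).trans hGI) ((hL _).mpr ⟨A, rfl⟩))
    refine ⟨A', ?_⟩
    have h1 := congrArg (pullMat e Q) hA'
    rw [← D.trans_adj] at h1
    simp only [cw_eq_push, pullMat_pushMat] at h1
    exact h1
  have hmm : ∀ M : Matrix (Fin w) (Fin w) F, (M.map D.σ).map D.σ = M := fun M => by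
    ext i j; exact D.σσ _
  obtain ⟨b, hb⟩ := eq_pwUnit_of_fixes (by omega) (by omega) (w := D'.B⁻¹) fun i A => by
    obtain ⟨A', hA'⟩ := hslotadj i Aᵀ
    refine ⟨A'.map D.σ, ?_⟩
    have h1 := congrArg (fun M : Matrix (Fin t → Fin w) (Fin t → Fin w) F => M.map D.σ) hA'
    simp only [adj, show D'.σ = D.σ from rfl, pw_map, pw_transpose] at h1
    have hupd : ∀ (f : Matrix (Fin w) (Fin w) F → Matrix (Fin w) (Fin w) F) (B : Matrix (Fin w) (Fin w) F), f 1 = 1 →
        (fun j => f (Function.update (1 : Fin t → Matrix (Fin w) (Fin w) F) i B j))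
          = Function.update (1 : Fin t → Matrix (Fin w) (Fin w) F) i (f B) := by
      intro f B hf; funext j; rcases eq_or_ne j i with rfl | hj <;> simp [*]
    rw [hupd (fun M => M.map D.σ) A' (by simp), hupd Matrix.transpose Aᵀ transpose_one, transpose_transpose] at h1
    rw [cj, inv_inv, ← h1]
    exact (D'.map_map _).symm
  let f : Fin t → GL (Fin w) F := fun i => (b i)⁻¹
  have hB : (D'.B : Matrix (Fin t → Fin w) (Fin t → Fin w) F) = pw fun i => (f i : Matrix (Fin w) (Fin w) F) := by
    rw [show D'.B = (pwUnit b)⁻¹ by rw [← hb, inv_inv]]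
    rfl
  have hBi : ((D'.B⁻¹ : GL (Fin t → Fin w) F) : Matrix (Fin t → Fin w) (Fin t → Fin w) F)
      = pw fun i => (b i : Matrix (Fin w) (Fin w) F) := by rw [hb]; rfl
  have hfh : ∀ i, ∃ c : F, ((f i : Matrix (Fin w) (Fin w) F).map D.σ)ᵀ = c • (f i : Matrix (Fin w) (Fin w) F) := by
    have h1 := D'.herm
    rw [hB, pw_map, pw_transpose, show D'.σ = D.σ from rfl] at h1
    obtain ⟨t', ht'⟩ : ∃ t', t = t' + 1 := ⟨t - 1, by omega⟩
    let s : Fin t → F := fun i => if i = ⟨0, by omega⟩ then D'.ε else 1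
    have h2 : D'.ε • pw (fun i => (f i : Matrix (Fin w) (Fin w) F))
        = pw fun i => s i • (f i : Matrix (Fin w) (Fin w) F) := by
      rw [pw_smul]; simp [s]
    obtain ⟨c, hc⟩ := pw_factor_unique (h1.trans h2) fun i h0 => by
      rcases smul_eq_zero.mp h0 with h0 | h0
      · simp only [s] at h0
        split_ifs at h0
        · exact D'.ε_ne_zero h0
        · exact one_ne_zero h0
      · exact (f i).ne_zero h0
    exact fun i => ⟨c i * s i, by rw [hc i, smul_smul]⟩
  let i₀ : Fin t := ⟨0, by omega⟩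
  -- congruence of the factors
  have hcong : ∀ j, ∃ (a : GL (Fin w) F) (c : F),
      (a : Matrix (Fin w) (Fin w) F)ᵀ * (f j : Matrix (Fin w) (Fin w) F) * (a : Matrix (Fin w) (Fin w) F).map D.σ
        = c • (f i₀ : Matrix (Fin w) (Fin w) F) := by
    intro j
    obtain ⟨g, hg, hgA⟩ := htrans i₀ j
    set u := pull e Q g
    have hu : ∀ A, ∃ A', cj u (pw (Function.update 1 i₀ A)) = pw (Function.update 1 j A') := fun A => by
      obtain ⟨A', hA'⟩ := hgA A
      refine ⟨A', ?_⟩
      have h1 := congrArg (pullMat e Q) hA'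
      simp only [pullMat_cj, cw_eq_push, pullMat_pushMat] at h1
      exact h1
    choose θ hθ using hu
    have hm : 0 < w := by omega
    let Φ : Matrix (Fin w) (Fin w) F →ₐ[F] Matrix (Fin w) (Fin w) F :=
      AlgHom.ofLinearMap { toFun := θ
                           map_add' := fun A B => update_one_injective hm j (by
                             rw [← hθ, update_one_add, update_one_add, cj_add, hθ, hθ])
                           map_smul' := fun c A => update_one_injective hm j (by
                             simp only [RingHom.id_apply]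
                             rw [← hθ, update_one_smul, update_one_smul, cj_smul, hθ]) }
        (update_one_injective hm j (by
          show pw (Function.update 1 j (θ 1)) = _
          rw [← hθ, Function.update_eq_self_iff.mpr (by rfl), Function.update_eq_self_iff.mpr (by rfl), pw_one, cj_one]))
        (fun A B => update_one_injective hm j (by
          show pw (Function.update 1 j (θ (A * B))) = pw (Function.update 1 j (θ A * θ B))
          rw [← hθ, ← update_one_mul, ← update_one_mul, cj_mul, hθ, hθ]))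
    have hinj : Function.Injective Φ := fun A B hAB => update_one_injective hm i₀ (cj_injective u (by
      rw [hθ, hθ]; exact congrArg (fun C => pw (Function.update 1 j C)) hAB))
    obtain ⟨a, ha⟩ := exists_conj_of_algEquiv
      (AlgEquiv.ofBijective Φ ⟨hinj, (LinearMap.injective_iff_surjective (f := Φ.toLinearMap)).mp hinj⟩)
    have hadj : ∀ i A, D'.adj (pw (Function.update 1 i A)) = pw (Function.update 1 i
        (((b i : Matrix (Fin w) (Fin w) F) * Aᵀ * (f i : Matrix (Fin w) (Fin w) F)).map D.σ)) := by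
      intro i A
      rw [adj, hB, hBi, show D'.σ = D.σ from rfl, pw_transpose, pw_mul, pw_mul, pw_map]
      congr 1
      funext k
      rcases eq_or_ne k i with rfl | hk <;> simp [f, *]
    refine ⟨a, ?_⟩
    have hua : u ∈ D'.isom := D.pull_mem_isom e Q (hGI hg)
    set ai : Matrix (Fin w) (Fin w) F := ((a⁻¹ : GL (Fin w) F) : Matrix (Fin w) (Fin w) F)
    have ha' : ∀ A, θ A = (a : Matrix (Fin w) (Fin w) F) * A * ai := ha
    set aσ := (a : Matrix (Fin w) (Fin w) F).map D.σ
    set aiσ := ai.map D.σ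
    have hai : aiσ * aσ = 1 := by
      rw [← Matrix.map_mul, show ai * (a : Matrix (Fin w) (Fin w) F) = 1 from a.inv_mul,
        Matrix.map_one D.σ (map_zero _) (map_one _)]
    set M : Matrix (Fin w) (Fin w) F :=
      (a : Matrix (Fin w) (Fin w) F)ᵀ * (f j : Matrix (Fin w) (Fin w) F) * aσ * (b i₀ : Matrix (Fin w) (Fin w) F)
    obtain ⟨c, hc⟩ : IsScalarMat M := by
      refine isScalarMat_of_commute_all fun X => ?_
      have h1 := D'.adj_cj hua (pw (Function.update 1 i₀ Xᵀ))
      rw [hθ, hadj, hadj, hθ] at h1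
      have h2 := congrArg (fun M : Matrix (Fin w) (Fin w) F => M.map D.σ) (update_one_injective hm j h1)
      simp only [ha', Matrix.map_mul, hmm, transpose_mul, transpose_transpose] at h2
      have h3 := congrArg (fun N => (a : Matrix (Fin w) (Fin w) F)ᵀ * (f j : Matrix (Fin w) (Fin w) F) * N * aσ * (b i₀ : Matrix (Fin w) (Fin w) F)) h2
      have hbf : ∀ i, (f i : Matrix (Fin w) (Fin w) F) * (b i : Matrix (Fin w) (Fin w) F) = 1 := fun i => (b i).inv_mul
      have hait : (a : Matrix (Fin w) (Fin w) F)ᵀ * aiᵀ = 1 := by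
        rw [← transpose_mul, show ai * (a : Matrix (Fin w) (Fin w) F) = 1 from a.inv_mul, transpose_one]
      simp only [← mul_assoc] at h3
      rw [mul_assoc ((a : Matrix (Fin w) (Fin w) F)ᵀ) (f j : Matrix (Fin w) (Fin w) F), hbf, mul_one, hait, one_mul] at h3
      simp only [mul_assoc] at h3
      simp only [M, mul_assoc]
      rw [← mul_assoc aiσ, hai, one_mul, hbf, mul_one] at h3
      exact h3.symm
    refine ⟨c, ?_⟩
    have h4 := congrArg (fun N => N * (f i₀ : Matrix (Fin w) (Fin w) F)) hc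
    simp only [M, mul_assoc, smul_mul_assoc, one_mul] at h4
    rw [show (b i₀ : Matrix (Fin w) (Fin w) F) * (f i₀ : Matrix (Fin w) (Fin w) F) = 1 from (b i₀).mul_inv, mul_one] at h4
    rw [mul_assoc]
    exact h4
  choose a ca hca using hcong
  obtain ⟨ε₀, hε₀⟩ := hfh i₀
  set R := pwUnit a
  set R' : GL ι F := glReindex e.symm R
  have hBnew : ((D.trans e (Q * R')).B : Matrix (Fin t → Fin w) (Fin t → Fin w) F)
      = (∏ i, ca i) • pw (fun _ => (f i₀ : Matrix (Fin w) (Fin w) F)) := by
    rw [trans_B, show ((Q * R' : GL ι F) : Matrix ι ι F)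
        = (Q : Matrix ι ι F) * Matrix.reindexAlgEquiv F F e.symm (R : Matrix _ _ F) from rfl,
      transpose_mul, Matrix.map_mul]
    set X := (Q : Matrix ι ι F)ᵀ * (D.B : Matrix ι ι F) * (Q : Matrix ι ι F).map D.σ with hX
    have hX' : Matrix.reindexAlgEquiv F F e X = (D'.B : Matrix (Fin t → Fin w) (Fin t → Fin w) F) := rfl
    rw [show ∀ (p q r s u : Matrix ι ι F), p * q * r * (s * u) = p * (q * r * s) * u from
      fun p q r s u => by simp only [mul_assoc], ← hX, map_mul, map_mul, hX', hB]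
    rw [show Matrix.reindexAlgEquiv F F e (Matrix.reindexAlgEquiv F F e.symm (R : Matrix _ _ F))ᵀ
        = (R : Matrix (Fin t → Fin w) (Fin t → Fin w) F)ᵀ by ext i j; simp,
      show Matrix.reindexAlgEquiv F F e ((Matrix.reindexAlgEquiv F F e.symm (R : Matrix _ _ F)).map D.σ)
        = (R : Matrix (Fin t → Fin w) (Fin t → Fin w) F).map D.σ by ext i j; simp,
      show (R : Matrix (Fin t → Fin w) (Fin t → Fin w) F) = pw fun i => (a i : Matrix (Fin w) (Fin w) F) from rfl,
      pw_transpose, pw_map, pw_mul, pw_mul, ← pw_smul]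
    congr 1
    funext i
    exact hca i
  have hc0 : (∏ i, ca i) ≠ 0 := fun h0 => by
    rw [h0, zero_smul] at hBnew
    exact (D.trans e (Q * R')).B.ne_zero hBnew
  refine ⟨Q * R', ∏ i, ca i, ε₀, f i₀, hc0, hBnew, hε₀, ?_, fun g hg => ?_, fun i => ?_⟩
  · have h1 := (D.trans e (Q * R')).herm
    rw [hBnew, show (D.trans e (Q * R')).σ = D.σ from rfl, show (D.trans e (Q * R')).ε = D.ε from rfl] at h1
    have h2 : ((((∏ i, ca i) • pw fun _ : Fin t => (f i₀ : Matrix (Fin w) (Fin w) F))).map D.σ)ᵀ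
        = (D.σ (∏ i, ca i) * ε₀ ^ t) • pw fun _ : Fin t => (f i₀ : Matrix (Fin w) (Fin w) F) := by
      rw [show ((∏ i, ca i) • pw fun _ : Fin t => (f i₀ : Matrix (Fin w) (Fin w) F)).map D.σ
          = D.σ (∏ i, ca i) • (pw fun _ : Fin t => (f i₀ : Matrix (Fin w) (Fin w) F)).map D.σ by ext x y; simp,
        transpose_smul, pw_map, pw_transpose]
      simp only [hε₀, pw_smul, Finset.prod_const, Finset.card_univ, Fintype.card_fin, smul_smul]
    rw [h2, smul_smul] at h1
    refine smul_left_injective F (fun h0 => hc0 ?_) h1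
    exfalso
    refine (D.trans e (Q * R')).B.ne_zero ?_
    rw [hBnew, h0, smul_zero]
  · obtain ⟨_, ⟨v, hv, rfl⟩, hgv⟩ := hle hg
    refine ⟨glReindex e.symm (R⁻¹ * v * R), ⟨_, Subgroup.mul_mem _ (Subgroup.mul_mem _ (Subgroup.inv_mem _ (pwUnit_mem a)) hv) (pwUnit_mem a), rfl⟩, ?_⟩
    rw [← hgv]
    simp [R', mul_assoc]
  · obtain ⟨L, hLP, hL1, hL2, hL⟩ := hslot i
    refine ⟨L, hLP, hL1, hL2, fun x hx => ?_⟩
    obtain ⟨A, hA⟩ := (hL _).mp (coe_mem_alg hx)
    refine ⟨cj (a i)⁻¹ A, ?_⟩
    have h1 : cj R (pw (Function.update 1 i (cj (a i)⁻¹ A))) = pw (Function.update 1 i A) := by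
      show pw (fun j => (a j : Matrix (Fin w) (Fin w) F)) * pw _ * pw (fun j => ((a j)⁻¹ : GL (Fin w) F).val) = _
      rw [pw_mul, pw_mul]
      congr 1
      funext j
      rcases eq_or_ne j i with rfl | hj <;> simp [cj, *, mul_assoc]
    rw [hA, ← h1, cw, cw, ← cj_cj]
    congr 1
    show Matrix.reindexAlgEquiv F F e.symm ((R : Matrix _ _ F) * _ * ((R⁻¹ : GL (Fin t → Fin w) F) : Matrix _ _ F)) = _
    rw [map_mul, map_mul]
    rfl

end FData

end CfsgLib.Asch
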