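import Cfsg.Agent.Lib.Aschbacher.FormSubfield
import Cfsg.Agent.Lib.Aschbacher.FormKronSymp

/-!
# Normalised rational structures of a hermitian form
-/

set_option autoImplicit false

namespace CfsgLib.Asch

open Matrix Cfsg.Geo
open scoped MatrixGroups

variable {ι : Type} [Fintype ι] [DecidableEq ι] [Nonempty ι] {F : Type*} [Field F] [Fintype F]

namespace FData

variable (D : FData ι F)

omit [Nonempty ι] in
lemma card_rel_of_fixed (hσ : D.σ ≠ RingHom.id F) {F₁ : Subfield F} {r : ℕ}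
    (hc : Fintype.card F = Nat.card F₁ ^ r) (hfix : ∀ x ∈ F₁, D.σ x = x) : Even r := by
  classical
  have hle : F₁ ≤ fixedField D.σ := fun x hx => mem_fixedField.mpr (hfix x hx)
  letI : Algebra F₁ (fixedField D.σ) := (Subfield.inclusion hle).toAlgebra
  have h1 := Module.natCard_eq_pow_finrank (K := F₁) (V := fixedField D.σ)
  have h2 := card_eq_sq_fixedField D.σσ hσ
  rw [hc, h1, ← pow_mul] at h2
  exact ⟨_, (Nat.pow_right_injective Finite.one_lt_card h2).trans (mul_two _)⟩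

omit [Nonempty ι] in
lemma fixes_of_index_two (hσ : D.σ ≠ RingHom.id F) {F₁ : Subfield F}
    (hc : Fintype.card F = Nat.card F₁ ^ 2) {x : F} (hx : x ∈ F₁) : D.σ x = x := by
  have h2 := card_eq_sq_fixedField D.σσ hσ
  rw [hc] at h2
  have h3 : Nat.card F₁ = Nat.card (fixedField D.σ) := Nat.pow_left_injective two_ne_zero h2
  rw [eq_pow_card_fixedField D.σσ hσ, ← h3, (mem_subfield_iff_pow F₁ x).mp hx]

/-- the change of basis scaled by a unit -/
def scaleUnit (ν : Fˣ) (P : GL ι F) : GL ι F :=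
  Units.map (Matrix.scalar ι : F →+* Matrix ι ι F).toMonoidHom ν * P

omit [Nonempty ι] [Fintype F] in
lemma coe_scaleUnit (ν : Fˣ) (P : GL ι F) :
    (scaleUnit ν P : Matrix ι ι F) = (ν : F) • (P : Matrix ι ι F) := by
  simp [scaleUnit, Matrix.smul_eq_diagonal_mul]

omit [Nonempty ι] [Fintype F] in
lemma subfieldSubgroup_scale (F₁ : Subfield F) (ν : Fˣ) (P : GL ι F) :
    subfieldSubgroup F₁ P ≤ subfieldSubgroup F₁ (scaleUnit ν P) := by
  rintro _ ⟨M, hM, rfl⟩
  refine ⟨M, hM, ?_⟩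
  have hz : Units.map (Matrix.scalar ι : F →+* Matrix ι ι F).toMonoidHom ν ∈ scalars ι F := ⟨ν, rfl⟩
  show scaleUnit ν P * M * (scaleUnit ν P)⁻¹ = P * M * P⁻¹
  rw [scaleUnit, _root_.mul_inv_rev]
  set z := Units.map (Matrix.scalar ι : F →+* Matrix ι ι F).toMonoidHom ν
  calc z * P * M * (P⁻¹ * z⁻¹) = z * (P * M * P⁻¹) * z⁻¹ := by simp [mul_assoc]
    _ = _ := by rw [scalar_commute hz, mul_assoc, mul_inv_cancel, mul_one]

/-- odd index: a hermitian rational form -/
theorem subfield_normal_odd (hσ : D.σ ≠ RingHom.id F) (hε : D.ε = 1) {G : Subgroup (GL ι F)}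
    {F₁ : Subfield F} {r : ℕ} {P : GL ι F} {B₀ : Matrix ι ι F} {l : F} (hr : Odd r)
    (hc : Fintype.card F = Nat.card F₁ ^ r) (hB₀ : ∀ i j, B₀ i j ∈ F₁) (hu : IsUnit B₀) (hl : l ≠ 0)
    (hPB : (P : Matrix ι ι F)ᵀ * (D.B : Matrix ι ι F) * (P : Matrix ι ι F).map D.σ = l • B₀)
    (hle : G ≤ subfieldSubgroup F₁ P) :
    ∃ P' : GL ι F, (∀ i j, ((P' : Matrix ι ι F)ᵀ * (D.B : Matrix ι ι F) * (P' : Matrix ι ι F).map D.σ) i j ∈ F₁) ∧
      G ≤ subfieldSubgroup F₁ P' := by
  set c := l / D.σ l with hcdef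
  have hσl : D.σ l ≠ 0 := fun h0 => hl (D.σ.injective (h0.trans (map_zero D.σ).symm))
  have hherm : (B₀.map D.σ)ᵀ = c • B₀ := by
    have h1 : ((l • B₀).map D.σ)ᵀ = l • B₀ := by
      rw [← hPB, Matrix.map_mul, Matrix.map_mul, transpose_mul, transpose_mul, D.map_map, transpose_map,
        transpose_transpose, D.herm, hε, one_smul, mul_assoc]
    rw [show (l • B₀).map D.σ = D.σ l • B₀.map D.σ by ext i j; simp, transpose_smul] at h1
    rw [hcdef, div_eq_inv_mul, ← smul_smul, ← h1, smul_smul, inv_mul_cancel₀ hσl, one_smul]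
  obtain ⟨i, j, hij⟩ : ∃ i j, B₀ i j ≠ 0 := by
    by_contra h
    push_neg at h
    exact hu.ne_zero (Matrix.ext h)
  have hcF : c ∈ F₁ := by
    have h1 := congrFun (congrFun hherm i) j
    simp only [transpose_apply, Matrix.map_apply, Matrix.smul_apply, smul_eq_mul] at h1
    rw [show c = D.σ (B₀ j i) / B₀ i j by rw [h1]; field_simp]
    exact F₁.div_mem (D.σ_mem_subfield F₁ (hB₀ j i)) (hB₀ i j)
  obtain ⟨μ, hμF, hμ0, hμ⟩ : ∃ μ ∈ F₁, μ ≠ 0 ∧ D.σ μ * c = μ := by
    by_cases h1 : c + 1 = 0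
    · by_cases h2 : (2 : F) = 0
      · refine ⟨1, F₁.one_mem, one_ne_zero, ?_⟩
        rw [map_one, one_mul]
        linear_combination h1 - h2
      · obtain ⟨a, ha, hane⟩ : ∃ a ∈ F₁, D.σ a ≠ a := by
          by_contra hall
          push_neg at hall
          exact Nat.not_even_iff_odd.mpr hr (D.card_rel_of_fixed hσ hc hall)
        refine ⟨a - D.σ a, F₁.sub_mem ha (D.σ_mem_subfield F₁ ha), sub_ne_zero.mpr (Ne.symm hane), ?_⟩
        rw [map_sub, D.σσ, eq_neg_of_add_eq_zero_left h1]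
        ring
    · refine ⟨c + 1, F₁.add_mem hcF F₁.one_mem, h1, ?_⟩
      have hcc : D.σ c * c = 1 := by
        rw [hcdef, map_div₀, D.σσ]
        field_simp
      rw [map_add, map_one, add_mul, hcc, one_mul, add_comm]
  set l₁ := l / μ
  have hσμ : D.σ μ ≠ 0 := fun h0 => hμ0 (D.σ.injective (h0.trans (map_zero D.σ).symm))
  have hl₁ : D.σ l₁ = l₁ := by
    have hμ' : μ * D.σ l = D.σ μ * l := by
      conv_lhs => rw [← hμ, hcdef]
      field_simp
    rw [map_div₀, div_eq_div_iff hσμ hμ0]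
    linear_combination hμ'
  obtain ⟨ν, hν⟩ := exists_norm D.σσ hσ (c := l₁⁻¹) (by rw [map_inv₀, hl₁])
  have hl₁0 : l₁ ≠ 0 := div_ne_zero hl hμ0
  have hν0 : ν ≠ 0 := fun h0 => by rw [h0, zero_mul] at hν; exact inv_ne_zero hl₁0 hν.symm
  refine ⟨scaleUnit (Units.mk0 ν hν0) P, fun a b => ?_, hle.trans (subfieldSubgroup_scale F₁ _ P)⟩
  rw [coe_scaleUnit, Units.val_mk0, transpose_smul, show ((ν • (P : Matrix ι ι F)).map D.σ)
    = D.σ ν • (P : Matrix ι ι F).map D.σ by ext x y; simp]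
  simp only [Matrix.smul_mul, Matrix.mul_smul, smul_smul, hPB]
  rw [Matrix.smul_apply, smul_eq_mul, show D.σ ν * (ν * l) = μ by
    rw [← mul_assoc, mul_comm (D.σ ν), hν]
    simp only [l₁]
    field_simp]
  exact F₁.mul_mem hμF (hB₀ a b)

/-- index two: symmetric with trivial multiplier, or alternating -/
theorem subfield_normal_two (hσ : D.σ ≠ RingHom.id F) (hε : D.ε = 1) (hn : 2 ≤ Fintype.card ι)
    {G : Subgroup (GL ι F)} (hGI : G ≤ D.isom) (hirr : ActsIrreducibly (matrixSet G))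
    {F₁ : Subfield F} {P : GL ι F} {B₀ : Matrix ι ι F} {l : F}
    (hc : Fintype.card F = Nat.card F₁ ^ 2) (hB₀ : ∀ i j, B₀ i j ∈ F₁) (hu : IsUnit B₀) (hl : l ≠ 0)
    (hPB : (P : Matrix ι ι F)ᵀ * (D.B : Matrix ι ι F) * (P : Matrix ι ι F).map D.σ = l • B₀)
    (hle : G ≤ subfieldSubgroup F₁ P) :
    ((2 : F) ≠ 0 ∧ ∃ P' : GL ι F,
        (∀ i j, ((P' : Matrix ι ι F)ᵀ * (D.B : Matrix ι ι F) * (P' : Matrix ι ι F).map D.σ) i j ∈ F₁) ∧
        G ≤ subfieldSubgroup F₁ P') ∨
      ∃ (P' : GL ι F) (ζ : F), ζ ≠ 0 ∧ ζ + D.σ ζ = 0 ∧ Even (Fintype.card ι) ∧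
        (∀ i j, ζ * ((P' : Matrix ι ι F)ᵀ * (D.B : Matrix ι ι F) * (P' : Matrix ι ι F).map D.σ) i j ∈ F₁) ∧
        (∀ u : ι → F, (∀ i, u i ∈ F₁) → D.form ((P' : Matrix ι ι F) *ᵥ u) ((P' : Matrix ι ι F) *ᵥ u) = 0) ∧
        G ≤ subfieldSubgroup F₁ P' := by
  classical
  have hB₀σ : B₀.map D.σ = B₀ := Matrix.ext fun i j => D.fixes_of_index_two hσ hc (hB₀ i j)
  have hσl : D.σ l ≠ 0 := fun h0 => hl (D.σ.injective (h0.trans (map_zero D.σ).symm))
  have hherm : D.σ l • B₀ᵀ = l • B₀ := by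
    have h1 : ((l • B₀).map D.σ)ᵀ = l • B₀ := by
      rw [← hPB, Matrix.map_mul, Matrix.map_mul, transpose_mul, transpose_mul, D.map_map, transpose_map,
        transpose_transpose, D.herm, hε, one_smul, mul_assoc]
    rw [show (l • B₀).map D.σ = D.σ l • B₀.map D.σ by ext i j; simp, transpose_smul, hB₀σ] at h1
    exact h1
  obtain ⟨i, j, hij⟩ : ∃ i j, B₀ i j ≠ 0 := by
    by_contra h
    push_neg at h
    exact hu.ne_zero (Matrix.ext h)
  have he1 : D.σ l * B₀ j i = l * B₀ i j := congrFun (congrFun hherm i) j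
  have he2 : D.σ l * B₀ i j = l * B₀ j i := congrFun (congrFun hherm j) i
  have hll : (D.σ l - l) * (D.σ l + l) = 0 := by
    have h3 : D.σ l * D.σ l * B₀ i j = l * l * B₀ i j := by linear_combination (D.σ l) * he2 + l * he1
    exact mul_right_cancel₀ hij (by rw [zero_mul]; linear_combination h3)
  have halt : ∀ (S : Matrix ι ι F), Sᵀ = -S → (∀ a, S a a = 0) → IsUnit S →
      Even (Fintype.card ι) ∧ ∀ u, sform (RingHom.id F) S u u = 0 := fun S h1 h2 h3 =>
    ⟨even_card_of_alternating (fun a b => by simpa using congrFun (congrFun h1 a) b) h2 h3,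
      (isSymplecticForm_of_alternating h3 h1 h2).alternating⟩
  have hform : ∀ (P' : GL ι F) (c : F), (P' : Matrix ι ι F)ᵀ * (D.B : Matrix ι ι F) * (P' : Matrix ι ι F).map D.σ = c • B₀ →
      (∀ u, sform (RingHom.id F) B₀ u u = 0) → ∀ u : ι → F, (∀ a, u a ∈ F₁) →
        D.form ((P' : Matrix ι ι F) *ᵥ u) ((P' : Matrix ι ι F) *ᵥ u) = 0 := by
    intro P' c h h0 u hu'
    rw [D.form_mulVec_of_eq h]
    have : sform D.σ B₀ u u = sform (RingHom.id F) B₀ u u := by
      simp only [sform, RingHom.id_apply, fun a => D.fixes_of_index_two hσ hc (hu' a)]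
    rw [this, h0, mul_zero]
  by_cases hsym : D.σ l = l
  · have hBt : B₀ᵀ = B₀ := smul_right_injective (Matrix ι ι F) hl (by
      show l • B₀ᵀ = l • B₀
      conv_lhs => rw [← hsym]
      exact hherm)
    obtain ⟨ν, hν⟩ := exists_norm D.σσ hσ (c := l⁻¹) (by rw [map_inv₀, hsym])
    have hν0 : ν ≠ 0 := fun h0 => by rw [h0, zero_mul] at hν; exact inv_ne_zero hl hν.symm
    set P' := scaleUnit (Units.mk0 ν hν0) P
    have hP' : (P' : Matrix ι ι F)ᵀ * (D.B : Matrix ι ι F) * (P' : Matrix ι ι F).map D.σ = B₀ := by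
      rw [coe_scaleUnit, Units.val_mk0, transpose_smul, show ((ν • (P : Matrix ι ι F)).map D.σ)
        = D.σ ν • (P : Matrix ι ι F).map D.σ by ext x y; simp]
      simp only [Matrix.smul_mul, Matrix.mul_smul, smul_smul, hPB]
      conv_rhs => rw [← one_smul F B₀, ← inv_mul_cancel₀ hl, ← hν]
      congr 1
      ring
    have hle' : G ≤ subfieldSubgroup F₁ P' := hle.trans (subfieldSubgroup_scale F₁ _ P)
    by_cases h2 : (2 : F) = 0
    swap
    · exact Or.inl ⟨h2, P', fun a b => by rw [hP']; exact hB₀ a b, hle'⟩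
    set Pi' : Matrix ι ι F := ((P'⁻¹ : GL ι F) : Matrix ι ι F)
    have hPP : Pi' * (P' : Matrix ι ι F) = 1 := P'.inv_mul
    have hPPt : (P' : Matrix ι ι F)ᵀ * Pi'ᵀ = 1 := by rw [← transpose_mul, hPP, transpose_one]
    set S := Pi'ᵀ * B₀ * Pi'
    have hSsym : Sᵀ = S := by simp [S, transpose_mul, hBt, mul_assoc]
    have hsim : ∀ g ∈ G, ∃ c : F, (g : Matrix ι ι F)ᵀ * S * (g : Matrix ι ι F) = c • S := by
      intro g hg
      have hmem : P'⁻¹ * g * P' ∈ (Matrix.GeneralLinearGroup.map (F₁.subtype : F₁ →+* F)).range ⊔ scalars ι F := by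
        obtain ⟨M, hM, hMg⟩ := hle' hg
        rw [← hMg]
        simpa [mul_assoc] using hM
      obtain ⟨_, ⟨a, rfl⟩, z, hz, hg'⟩ := Subgroup.mem_sup_of_normal_right.mp hmem
      obtain ⟨s, hs⟩ := mem_scalars_iff_isScalarMat.mp hz
      have hs0 : s ≠ 0 := fun h0 => z.ne_zero (by rw [hs, h0, zero_smul])
      have hσs : D.σ s ≠ 0 := fun h0 => hs0 (D.σ.injective (h0.trans (map_zero D.σ).symm))
      set A : Matrix ι ι F := (a : Matrix ι ι F₁).map F₁.subtype
      have hAσ : A.map D.σ = A := Matrix.ext fun x y => D.fixes_of_index_two hσ hc ((a : Matrix ι ι F₁) x y).2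
      set M : Matrix ι ι F := ((P'⁻¹ * g * P' : GL ι F) : Matrix ι ι F)
      have hMA : M = s • A := by
        show ((P'⁻¹ * g * P' : GL ι F) : Matrix ι ι F) = _
        rw [← hg', Units.val_mul, hs, Matrix.mul_smul, mul_one]
        rfl
      have hMσ : M.map D.σ = (D.σ s / s) • M := by
        rw [hMA, show (s • A).map D.σ = D.σ s • A.map D.σ by ext x y; simp, hAσ, smul_smul, div_mul_cancel₀ _ hs0]
      have hgP : (P' : Matrix ι ι F) * M = (g : Matrix ι ι F) * (P' : Matrix ι ι F) := by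
        simp [M, ← mul_assoc]
      have hM : Mᵀ * B₀ * M = (s / D.σ s) • B₀ := by
        have h1 : Mᵀ * B₀ * M.map D.σ = B₀ := by
          have h0 := D.mem_isom.mp (hGI hg)
          calc Mᵀ * B₀ * M.map D.σ = ((P' : Matrix ι ι F) * M)ᵀ * (D.B : Matrix ι ι F) * ((P' : Matrix ι ι F) * M).map D.σ := by
                rw [← hP']; simp only [transpose_mul, Matrix.map_mul, mul_assoc]
            _ = (P' : Matrix ι ι F)ᵀ * ((g : Matrix ι ι F)ᵀ * (D.B : Matrix ι ι F) * (g : Matrix ι ι F).map D.σ)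
                * (P' : Matrix ι ι F).map D.σ := by
                rw [hgP]; simp only [transpose_mul, Matrix.map_mul, mul_assoc]
            _ = B₀ := by rw [h0, hP']
        rw [hMσ, Matrix.mul_smul] at h1
        conv_rhs => rw [← h1]
        rw [smul_smul]
        field_simp
        rw [one_smul]
      refine ⟨s / D.σ s, ?_⟩
      have hgM : Pi' * (g : Matrix ι ι F) = M * Pi' := by
        simp only [M, Pi', ← Units.val_mul, mul_assoc, mul_inv_cancel, mul_one]
      calc (g : Matrix ι ι F)ᵀ * S * (g : Matrix ι ι F) = (Pi' * (g : Matrix ι ι F))ᵀ * B₀ * (Pi' * (g : Matrix ι ι F)) := by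
            simp only [S, transpose_mul, mul_assoc]
        _ = Pi'ᵀ * (Mᵀ * B₀ * M) * Pi' := by rw [hgM]; simp only [transpose_mul, mul_assoc]
        _ = _ := by rw [hM, Matrix.mul_smul, Matrix.smul_mul]
    have hSd : ∀ a, S a a = 0 := fun a => diag_eq_zero_of_symmetric h2 hn hirr hSsym hsim a
    have hS0 : ∀ v, sform (RingHom.id F) S v v = 0 := sform_self_eq_zero h2 hSsym hSd
    have hBd : ∀ a, B₀ a a = 0 := fun a => by
      have h := hS0 ((P' : Matrix ι ι F) *ᵥ Pi.single a 1)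
      rw [sform_mulVec, show (P' : Matrix ι ι F).map (RingHom.id F) = (P' : Matrix ι ι F) by ext; simp,
        show (P' : Matrix ι ι F)ᵀ * S * (P' : Matrix ι ι F) = B₀ by
          simp only [S]
          rw [show (P' : Matrix ι ι F)ᵀ * (Pi'ᵀ * B₀ * Pi') * (P' : Matrix ι ι F)
            = ((P' : Matrix ι ι F)ᵀ * Pi'ᵀ) * B₀ * (Pi' * (P' : Matrix ι ι F)) by simp only [mul_assoc],
            hPP, hPPt, one_mul, mul_one], sform_single] at h
      exact h
    have hneg : B₀ᵀ = -B₀ := by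
      rw [hBt]
      refine Matrix.ext fun a b => ?_
      rw [Matrix.neg_apply]
      linear_combination B₀ a b * h2
    obtain ⟨hev, h0⟩ := halt B₀ hneg hBd hu
    refine Or.inr ⟨P', 1, one_ne_zero, by rw [map_one, one_add_one_eq_two, h2], hev,
      fun a b => by rw [one_mul, hP']; exact hB₀ a b, hform P' 1 (by rw [one_smul, hP']) h0, hle'⟩
  · have hneg' : D.σ l = -l := eq_neg_of_add_eq_zero_left ((mul_eq_zero.mp hll).resolve_left (sub_ne_zero.mpr hsym))
    have h2 : (2 : F) ≠ 0 := fun h2 => hsym (by rw [hneg']; linear_combination (-l) * h2)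
    have hBt : B₀ᵀ = -B₀ := smul_right_injective (Matrix ι ι F) hσl (by
      show D.σ l • B₀ᵀ = D.σ l • -B₀
      rw [hherm, hneg', neg_smul, smul_neg, neg_neg])
    have hBd : ∀ a, B₀ a a = 0 := fun a => by
      have := congrFun (congrFun hBt a) a
      rw [transpose_apply, Matrix.neg_apply] at this
      exact (mul_eq_zero.mp (show (2 : F) * B₀ a a = 0 by linear_combination this)).resolve_left h2
    obtain ⟨hev, h0⟩ := halt B₀ hBt hBd hu
    refine Or.inr ⟨P, l⁻¹, inv_ne_zero hl, by rw [map_inv₀, hneg', inv_neg, add_neg_cancel], hev,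
      fun a b => ?_, hform P l hPB h0, hle⟩
    rw [hPB, Matrix.smul_apply, smul_eq_mul, ← mul_assoc, inv_mul_cancel₀ hl, one_mul]
    exact hB₀ a b

end FData

end CfsgLib.Asch
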