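import Cfsg.Agent.Lib.Aschbacher.FormMain
import Cfsg.Agent.Lib.Aschbacher.FormTypes
import Cfsg.Agent.Lib.Aschbacher.FormCongr
import Cfsg.Agent.Lib.Aschbacher.FormSmall
import Cfsg.Agent.Lib.Aschbacher.FormSubfieldHerm
import Cfsg.Agent.Lib.Aschbacher.FormLines
import Cfsg.Agent.Lib.OrthCrit.Forms

/-!
# The outcomes for subgroups of `Ω` in odd dimension
-/

set_option autoImplicit false

namespace CfsgLib.Asch

open Matrix Cfsg.Geo QuadraticMap
open CfsgLib.OrthCrit (oddForm)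
open scoped MatrixGroups Kronecker

variable {F : Type*} [Field F] [Fintype F] {m : ℕ}

omit [Fintype F] in
lemma bilinear_polar_odd (m : ℕ) :
    IsBilinearForm (QuadraticMap.polar (Cfsg.quadFormOdd m F)) where
  add_left x y v := polar_add_left (oddForm m F) x y v
  smul_left c x v := (polar_smul_left (oddForm m F) c x v).trans (smul_eq_mul c _)
  add_right v x y := polar_add_right (oddForm m F) v x y
  smul_right c v x := (polar_smul_right (oddForm m F) c v x).trans (smul_eq_mul c _)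

omit [Fintype F] in
lemma nondegenerate_polar_odd (h2 : (2 : F) ≠ 0) (m : ℕ) :
    IsNondegenerateForm (QuadraticMap.polar (Cfsg.quadFormOdd m F)) := by
  intro v hv
  obtain ⟨x, hx⟩ : ∃ x, polar (oddForm m F) v x ≠ 0 := by
    by_contra hc
    push_neg at hc
    exact hv (OrthCrit.ndPolar_oddForm h2 m v hc)
  exact ⟨⟨x, by rw [QuadraticMap.polar_comm]; exact hx⟩, x, hx⟩

/-- the polar form of the standard quadratic form in odd dimension with its data -/
noncomputable def oddData (m : ℕ) (F : Type*) [Field F] (h2 : (2 : F) ≠ 0) :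
    FData (Unit ⊕ (Fin m ⊕ Fin m)) F where
  σ := RingHom.id F
  σσ := fun _ => rfl
  B := (isUnit_of_nondegenerate (σ := RingHom.id F) Function.surjective_id
    (bilinear_eq_sform (bilinear_polar_odd (F := F) m) ▸ nondegenerate_polar_odd h2 m)).unit
  ε := 1
  herm := by
    ext i j
    simpa [gramMatrix] using
      QuadraticMap.polar_comm (Cfsg.quadFormOdd m F) (Pi.single j 1) (Pi.single i 1)

omit [Fintype F] in
lemma oddData_form (h2 : (2 : F) ≠ 0) :
    (oddData m F h2).form = QuadraticMap.polar (Cfsg.quadFormOdd m F) :=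
  (bilinear_eq_sform (bilinear_polar_odd m)).symm

omit [Fintype F] in
lemma oddData_form_self (h2 : (2 : F) ≠ 0) (v : Unit ⊕ (Fin m ⊕ Fin m) → F) :
    (oddData m F h2).form v v = 2 * Cfsg.quadFormOdd m F v := by
  rw [oddData_form]
  exact Classical.Quad.polar_self' (Q := oddForm m F) v

omit [Fintype F] in
lemma quadFormOdd_mem_subfield (K : Subfield F) {u : Unit ⊕ (Fin m ⊕ Fin m) → F} (hu : ∀ i, u i ∈ K) :
    Cfsg.quadFormOdd m F u ∈ K :=
  K.add_mem (pow_mem (hu _) 2) (K.sum_mem fun _ _ => K.mul_mem (hu _) (hu _))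

set_option maxHeartbeats 1000000 in
/-- Aschbacher's reduction for `Ω` in odd dimension, given the abelian step -/
theorem oddCase_of_step (hodd : Odd (Fintype.card F)) (hm : 3 ≤ m) (h2 : (2 : F) ≠ 0)
    (hab : (oddData m F h2).AbelianStep) {H : Subgroup (GL (Unit ⊕ (Fin m ⊕ Fin m)) F)}
    (hH : H ≤ omegaGL (Cfsg.quadFormOdd m F)) : OddCase m H := by
  classical
  set D := oddData m F h2 with hDdef
  have hσ : D.σ = RingHom.id F := rfl
  have hε : D.ε = 1 := rfl
  have hf : D.form = QuadraticMap.polar (Cfsg.quadFormOdd m F) := oddData_form h2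
  have hQ : ∀ v, D.form v v = 2 * Cfsg.quadFormOdd m F v := oddData_form_self h2
  have hcard : Fintype.card (Unit ⊕ (Fin m ⊕ Fin m)) = 2 * m + 1 := by simp; omega
  set G := H ⊔ (scalars (Unit ⊕ (Fin m ⊕ Fin m)) F ⊓ D.isom)
  have hHG : H ≤ G := le_sup_left
  have hHI : H ≤ D.isom := by
    intro g hg u v
    obtain ⟨g', -, rfl⟩ := hH hg
    have hiso : ∀ x, oddForm m F ((g' : GL _ F).val *ᵥ x) = oddForm m F x := fun x => g'.2 x x
    show D.form _ _ = D.form u v
    rw [hf]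
    show polar (oddForm m F) _ _ = polar (oddForm m F) u v
    simp only [polar, ← mulVec_add]
    exact congrArg₂ (· - ·) (congrArg₂ (· - ·) (hiso (u + v)) (hiso u)) (hiso v)
  have hGI : G ≤ D.isom := sup_le hHI inf_le_right
  have hQG : ∀ g ∈ G, ∀ v, Cfsg.quadFormOdd m F
      ((g : Matrix (Unit ⊕ (Fin m ⊕ Fin m)) (Unit ⊕ (Fin m ⊕ Fin m)) F) *ᵥ v) = Cfsg.quadFormOdd m F v := by
    intro g hg v
    refine mul_left_cancel₀ h2 ?_
    rw [← hQ, ← hQ]
    exact hGI hg v v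
  have hwodd : ∀ {a b : ℕ}, a * b = 2 * m + 1 → Odd a ∧ Odd b := fun {a b} h =>
    Nat.odd_mul.mp (h ▸ ⟨m, rfl⟩)
  have hsubfield : D.InSubfieldForm G → OddCase m H := by
    rintro ⟨F₁, r, P, B₀, l, hr, hc, hB₀, hu, hl, hPB, hle⟩
    have hB : ∀ i j, (D.B : Matrix (Unit ⊕ (Fin m ⊕ Fin m)) (Unit ⊕ (Fin m ⊕ Fin m)) F) i j ∈ F₁ := by
      intro i j
      have h1 : ∀ k l, (Pi.single k 1 : Unit ⊕ (Fin m ⊕ Fin m) → F) l ∈ F₁ := fun k l => by
        rw [Pi.single_apply]; split_ifs; exacts [F₁.one_mem, F₁.zero_mem]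
      rw [← sform_single D.σ (D.B : Matrix (Unit ⊕ (Fin m ⊕ Fin m)) (Unit ⊕ (Fin m ⊕ Fin m)) F) i j]
      show D.form _ _ ∈ F₁
      rw [hf]
      exact F₁.sub_mem (F₁.sub_mem (quadFormOdd_mem_subfield F₁ fun k => F₁.add_mem (h1 i k) (h1 j k))
        (quadFormOdd_mem_subfield F₁ (h1 i))) (quadFormOdd_mem_subfield F₁ (h1 j))
    have hμ : (D.B : Matrix (Unit ⊕ (Fin m ⊕ Fin m)) (Unit ⊕ (Fin m ⊕ Fin m)) F).det ∈ F₁ := by
      let M : Matrix (Unit ⊕ (Fin m ⊕ Fin m)) (Unit ⊕ (Fin m ⊕ Fin m)) F₁ := Matrix.of fun i j => ⟨_, hB i j⟩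
      have : (D.B : Matrix (Unit ⊕ (Fin m ⊕ Fin m)) (Unit ⊕ (Fin m ⊕ Fin m)) F) = F₁.subtype.mapMatrix M := rfl
      rw [this, ← RingHom.map_det]
      exact (M.det).2
    have hν0 : B₀.det ∈ F₁ := by
      let M : Matrix (Unit ⊕ (Fin m ⊕ Fin m)) (Unit ⊕ (Fin m ⊕ Fin m)) F₁ := Matrix.of fun i j => ⟨_, hB₀ i j⟩
      have : B₀ = F₁.subtype.mapMatrix M := rfl
      rw [this, ← RingHom.map_det]
      exact (M.det).2
    have hB0 : B₀.det ≠ 0 := ((Matrix.isUnit_iff_isUnit_det _).mp hu).ne_zero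
    have hP0 : (P : Matrix (Unit ⊕ (Fin m ⊕ Fin m)) (Unit ⊕ (Fin m ⊕ Fin m)) F).det ≠ 0 := ((Matrix.isUnit_iff_isUnit_det _).mp P.isUnit).ne_zero
    have hdet := congrArg Matrix.det hPB
    rw [hσ, map_refl_id, Matrix.det_mul, Matrix.det_mul, Matrix.det_transpose, Matrix.det_smul, hcard] at hdet
    set ν : Fˣ := Units.mk0 (l ^ m * (P : Matrix (Unit ⊕ (Fin m ⊕ Fin m)) (Unit ⊕ (Fin m ⊕ Fin m)) F).det⁻¹) (mul_ne_zero (pow_ne_zero _ hl) (inv_ne_zero hP0))
    have hνl : (ν : F) * ν * l = (D.B : Matrix (Unit ⊕ (Fin m ⊕ Fin m)) (Unit ⊕ (Fin m ⊕ Fin m)) F).det * B₀.det⁻¹ := by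
      show l ^ m * (P : Matrix (Unit ⊕ (Fin m ⊕ Fin m)) (Unit ⊕ (Fin m ⊕ Fin m)) F).det⁻¹ * (l ^ m * (P : Matrix (Unit ⊕ (Fin m ⊕ Fin m)) (Unit ⊕ (Fin m ⊕ Fin m)) F).det⁻¹) * l = _
      field_simp
      linear_combination -hdet
    refine .subfield F₁ r (FData.scaleUnit ν P) hr hc (fun u hu => ?_)
      (hHG.trans (hle.trans (FData.subfieldSubgroup_scale F₁ ν P)))
    have h1 : (2 : F) * Cfsg.quadFormOdd m F ((FData.scaleUnit ν P : Matrix (Unit ⊕ (Fin m ⊕ Fin m)) (Unit ⊕ (Fin m ⊕ Fin m)) F) *ᵥ u) ∈ F₁ := by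
      rw [← hQ, FData.coe_scaleUnit, smul_mulVec, D.form_smul_left, D.form_smul_right, D.form_mulVec_of_eq hPB, hσ,
        RingHom.id_apply, show (ν : F) * ((ν : F) * (l * sform (RingHom.id F) B₀ u u))
          = ((ν : F) * ν * l) * sform (RingHom.id F) B₀ u u by ring, hνl]
      exact F₁.mul_mem (F₁.mul_mem hμ (F₁.inv_mem hν0)) (D.sform_mem_subfield F₁ hB₀ hu hu)
    have h3 : (2 : F) ∈ F₁ := by
      have := F₁.add_mem F₁.one_mem F₁.one_mem
      rwa [one_add_one_eq_two] at this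
    have := F₁.mul_mem (F₁.inv_mem h3) h1
    rwa [← mul_assoc, inv_mul_cancel₀ h2, one_mul] at this
  have hdecomp : ActsIrreducibly (matrixSet G) → D.InNondegDecomp G → OddCase m H := by
    rintro hirr ⟨t, k, V, hV, htk, hle⟩
    have hiso : ∀ i j, AreIsometricFor (Cfsg.quadFormOdd m F) (V i) (V j) := by
      intro i j
      obtain ⟨g, hg, hgV⟩ := transitive_of_irred hirr hV.decomp hle i j
      let e : (Unit ⊕ (Fin m ⊕ Fin m) → F) ≃ₗ[F] (Unit ⊕ (Fin m ⊕ Fin m) → F) :=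
        { Matrix.toLin' (g : Matrix (Unit ⊕ (Fin m ⊕ Fin m)) (Unit ⊕ (Fin m ⊕ Fin m)) F) with
          invFun := fun x => ((g⁻¹ : GL (Unit ⊕ (Fin m ⊕ Fin m)) F) : Matrix (Unit ⊕ (Fin m ⊕ Fin m)) (Unit ⊕ (Fin m ⊕ Fin m)) F) *ᵥ x
          left_inv := fun x => by simp [Matrix.toLin'_apply, mulVec_mulVec]
          right_inv := fun x => by simp [Matrix.toLin'_apply, mulVec_mulVec] }
      refine ⟨(e.submoduleMap (V i)).trans (LinearEquiv.ofEq _ _ hgV), fun w => ?_⟩
      exact hQG g hg (w : Unit ⊕ (Fin m ⊕ Fin m) → F)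
    have hk0 := hV.decomp.pos
    rcases Nat.lt_or_ge 1 k with hk | hk
    · exact .decomp t k V hk ⟨hf ▸ hV, hiso⟩ (htk.trans hcard) (hHG.trans hle)
    obtain rfl : k = 1 := by omega
    obtain rfl : t = 2 * m + 1 := by omega
    by_cases hp : (Fintype.card F).Prime
    · exact .lines V hp ⟨hf ▸ hV, hiso⟩ (hHG.trans hle)
    refine hsubfield ?_
    obtain ⟨p, f, hp', hchar, hf', hcardF⟩ := exists_prime_pow (F := F)
    haveI := Fact.mk hp'
    haveI := hchar
    refine D.inSubfieldForm_of_lines hσ hirr hGI hV (by omega) hle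
      (F₀ := (ZMod.castHom dvd_rfl F : ZMod p →+* F).fieldRange) fun htop => hp ?_
    have hs : Function.Surjective (ZMod.castHom dvd_rfl F : ZMod p →+* F) := fun x => by
      have hx : x ∈ (ZMod.castHom dvd_rfl F : ZMod p →+* F).fieldRange := by rw [htop]; trivial
      exact hx
    have hle' := Fintype.card_le_of_surjective _ hs
    rw [ZMod.card, hcardF] at hle'
    have : f = 1 := by
      by_contra hne
      have := Nat.pow_lt_pow_right hp'.one_lt (show 1 < f by omega)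
      rw [pow_one] at this
      omega
    rw [hcardF, this, pow_one]
    exact hp'
  rcases D.outcome_of_abelianStep hab (by omega) H hHI with
    hW | ⟨hirr, h⟩ | ⟨-, h⟩ | ⟨hirr, r, K, hr, hK, hrn, hle, hadj⟩ | ⟨hirr, hsp, h⟩ | h |
    ⟨r, R, p, f, k, hR, hRs, hRI, hle, hrp, hmin, hk, hn, h⟩ | ⟨P, hPG, hPn, hPs, -, h, hk⟩ |
    ⟨P, hPG, hPn, hPs, hres⟩
  · obtain ⟨W, h0, h1, hW⟩ := hW
    rcases D.reducible_cases hGI ⟨W, h0, h1, hW⟩ with
      ⟨W, h0, hs, hle⟩ | ⟨W, h0, h1, hnd, hd, hle⟩ | ⟨k, V, hk, hV, hle⟩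
    · refine .singular W h0 (fun w hw => ?_) (hHG.trans hle)
      have := hs w hw w hw
      rw [hQ] at this
      exact (mul_eq_zero.mp this).resolve_left h2
    · rcases Nat.even_or_odd (Module.finrank F W) with hev | hev
      · exact .nondeg W h0 h1 hev (hf ▸ hnd) (hHG.trans hle)
      have hrk := D.finrank_add_orth W
      rw [hcard] at hrk
      have hev' : Even (Module.finrank F (D.orth W)) := by
        rw [Nat.even_iff]; rw [Nat.odd_iff] at hev; omega
      have hW0 : 0 < Module.finrank F W := Nat.pos_of_ne_zero fun h => h0 (Submodule.finrank_eq_zero.mp h)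
      have hpos : 0 < Module.finrank F (D.orth W) := by omega
      have ho0 : D.orth W ≠ ⊥ := fun h => by rw [h, finrank_bot] at hpos; omega
      have ho1 : D.orth W ≠ ⊤ := fun h => by
        rw [h, finrank_top, Module.finrank_fintype_fun_eq_card, hcard] at hrk; omega
      have hWoo : W = D.orth (D.orth W) := by
        refine Submodule.eq_of_le_of_finrank_le (fun w hw v hv => D.form_eq_zero_comm.mp (hv w hw)) ?_
        have := D.finrank_add_orth (D.orth W)
        rw [hcard] at this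
        omega
      have hond : IsNondegenerateOn D.form (D.orth W) := by
        refine D.nondegenerateOn_of_disjoint ?_
        rw [← hWoo, eq_bot_iff]
        rintro v ⟨hv, hvW⟩
        rw [Submodule.mem_bot]
        by_contra hv0
        obtain ⟨-, x, hx, hvx⟩ := hnd v hvW hv0
        exact hvx (hv x hx)
      refine .nondeg (D.orth W) ho0 ho1 hev' (hf ▸ hond) (hHG.trans (le_subspaceStabilizer fun g hg v hv => ?_))
      exact D.orth_stable (hGI hg)
        (fun w hw => (mem_subspaceStabilizer.mp (hle (G.inv_mem hg)) w).mp hw) hv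
    · omega
  · exact hdecomp hirr h
  · obtain ⟨m', V, k, -, -, hm', -⟩ := h
    omega
  · have hro : Odd r := Odd.of_dvd_nat (odd_two_mul_add_one m) (hcard ▸ hrn)
    rcases D.selfAdjoint_or_two hσ hr hK hadj with hself | rfl
    swap
    · exact absurd hro (by decide)
    by_cases hrm : 2 * m + 1 = r
    · exact (D.not_fullField hσ h2 hr hro (hcard.trans hrm) hirr hGI hK hself hle).elim
    exact .extField r K hr hrm (hcard ▸ hrn) hK (hf ▸ D.selfAdjoint hself) (hHG.trans hle)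
  · obtain ⟨w, k, e, P, G₁, G₂, ε₁, ε₂, hw, hk, hwk, hB, h1, h2', hεε, he1, he2, hdec⟩ := h
    haveI : Nonempty (Fin w) := ⟨⟨0, by omega⟩⟩
    haveI : Nonempty (Fin k) := ⟨⟨0, by omega⟩⟩
    obtain ⟨hwo, hko⟩ := hwodd (hwk.trans hcard)
    rw [hσ, map_refl_id] at h1 h2'
    rw [hσ, RingHom.id_apply] at he1 he2
    have hsym : (G₁ : Matrix (Fin w) (Fin w) F)ᵀ = (G₁ : Matrix (Fin w) (Fin w) F) ∧
        (G₂ : Matrix (Fin k) (Fin k) F)ᵀ = (G₂ : Matrix (Fin k) (Fin k) F) := by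
      rcases mul_self_eq_one_iff.mp he1 with he | he
      · rw [he, one_mul] at hεε
        rw [he, one_smul] at h1
        rw [hεε.trans hε, one_smul] at h2'
        exact ⟨h1, h2'⟩
      · exfalso
        rw [he, neg_one_smul] at h1
        have hdiag : ∀ i, (G₁ : Matrix (Fin w) (Fin w) F) i i = 0 := fun i => by
          have := congrFun (congrFun h1 i) i
          rw [transpose_apply, Matrix.neg_apply] at this
          exact (mul_eq_zero.mp (show (2 : F) * (G₁ : Matrix (Fin w) (Fin w) F) i i = 0 by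
            linear_combination this)).resolve_left h2
        have hwe : Even w := by simpa using symplectic_even (isSymplecticForm_of_alternating G₁.isUnit h1 hdiag)
        exact Nat.not_even_iff_odd.mpr hwo hwe
    obtain ⟨hs1, hs2⟩ := hsym
    have hw3 : 3 ≤ w := by obtain ⟨j, rfl⟩ := hwo; omega
    have hk3 : 3 ≤ k := by obtain ⟨j, rfl⟩ := hko; omega
    have htens : ∀ (w k : ℕ) (e : (Unit ⊕ (Fin m ⊕ Fin m)) ≃ Fin w × Fin k) (G₁ : GL (Fin w) F) (G₂ : GL (Fin k) F),
        3 ≤ w → w < k → w * k = 2 * m + 1 →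
        ((D.trans e P).B : Matrix (Fin w × Fin k) (Fin w × Fin k) F)
          = (G₁ : Matrix (Fin w) (Fin w) F) ⊗ₖ (G₂ : Matrix (Fin k) (Fin k) F) →
        (G₁ : Matrix (Fin w) (Fin w) F)ᵀ = (G₁ : Matrix (Fin w) (Fin w) F) →
        (G₂ : Matrix (Fin k) (Fin k) F)ᵀ = (G₂ : Matrix (Fin k) (Fin k) F) →
        (∀ g ∈ G, ∃ (a : GL (Fin w) F) (b : GL (Fin k) F),
          (g : Matrix (Unit ⊕ (Fin m ⊕ Fin m)) (Unit ⊕ (Fin m ⊕ Fin m)) F)
            = tens e P (a : Matrix _ _ F) (b : Matrix _ _ F)) →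
        OddCase m H := by
      intro w k e G₁ G₂ hw hlt hwk hB h1 h2' hdec
      haveI : Nonempty (Fin w) := ⟨⟨0, by omega⟩⟩
      haveI : Nonempty (Fin k) := ⟨⟨0, by omega⟩⟩
      have hstr := D.isTensorFormStructure e P hB
      rw [hf] at hstr
      refine .tensor w k e P _ _ hw hlt hwk (isSymmetricForm_sform h1) (isSymmetricForm_sform h2') hstr
        fun g hg => ?_
      obtain ⟨a, b, hab⟩ := hdec g (hHG hg)
      exact mem_tensorProductSubgroup hab
    rcases lt_trichotomy w k with hlt | rfl | hgt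
    · exact htens w k e G₁ G₂ hw3 hlt (hwk.trans hcard) hB hs1 hs2 hdec
    swap
    · obtain ⟨hB', hdec'⟩ := D.inKronForm_swap hB hdec
      exact htens k w _ G₂ G₁ hk3 hgt (by rw [mul_comm, hwk, hcard]) hB' hs2 hs1 hdec'
    by_cases h33 : Fintype.card F = 3 ∧ w = 3
    · obtain ⟨h3, rfl⟩ := h33
      obtain ⟨V, hV, hle⟩ := nondegDecomp_of_tensorSquare_three h3 D hσ hGI e P G₁.isUnit G₂.isUnit hs1 hs2 hB hdec
      exact hdecomp hirr ⟨9, 1, V, hV, by omega, hle⟩
    obtain ⟨R, c, hc, hR⟩ := FData.exists_congr_scalar_odd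
      ⟨RingHom.id F, fun _ => rfl, G₂, 1, by rw [map_refl_id, one_smul]; exact hs2⟩ rfl h2 hwo hs2 hs1
    obtain ⟨e', Q, hwt, hBf, -, hle⟩ := D.square_data (by omega) e P hB (R := R) (c := c) (ε₁ := 1)
      (by rw [hσ, map_refl_id]; exact hR) (by rw [hσ, map_refl_id, one_smul]; exact hs1) hdec
    have hstr := D.isTensorPowerFormStructure e' Q hc hBf
    rw [hf] at hstr
    exact .wreath w 2 e' Q _ hw3 le_rfl h33 (hwt.trans hcard) (isSymmetricForm_sform hs1) hstr (hHG.trans hle)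
  · exact hsubfield h
  · exfalso
    rcases h with ⟨h, -⟩ | ⟨h, -⟩ | ⟨-, rfl, -⟩
    · exact h hσ
    · exact h hσ
    obtain ⟨j, rfl⟩ := Nat.exists_eq_add_of_le hk
    rw [hcard, pow_add, pow_one] at hn
    omega
  · obtain ⟨w, t, e, Q, c, ε₀, G₀, hw, ht, hwt, hc0, hB, hε₀, hcε, hee, -, -, hex3, hle⟩ := h
    haveI : Nonempty (Fin w) := ⟨⟨0, by omega⟩⟩
    rw [hσ, RingHom.id_apply] at hcε hee
    rw [hσ, map_refl_id] at hε₀
    have hwo : Odd w := by
      have : Odd (w ^ t) := hwt.trans hcard ▸ ⟨m, rfl⟩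
      exact (Nat.odd_pow_iff (by omega)).mp this
    have hε1 : ε₀ = 1 := by
      rcases mul_self_eq_one_iff.mp hee with he | he
      · exact he
      exfalso
      rw [he, neg_one_smul] at hε₀
      have hdiag : ∀ i, (G₀ : Matrix (Fin w) (Fin w) F) i i = 0 := fun i => by
        have := congrFun (congrFun hε₀ i) i
        rw [transpose_apply, Matrix.neg_apply] at this
        exact (mul_eq_zero.mp (show (2 : F) * (G₀ : Matrix (Fin w) (Fin w) F) i i = 0 by
          linear_combination this)).resolve_left h2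
      have hwe : Even w := by simpa using symplectic_even (isSymplecticForm_of_alternating G₀.isUnit hε₀ hdiag)
      exact Nat.not_even_iff_odd.mpr hwo hwe
    rw [hε1, one_smul] at hε₀
    have hstr := D.isTensorPowerFormStructure e Q hc0 hB
    rw [hf] at hstr
    exact .wreath w t e Q _ (by obtain ⟨j, rfl⟩ := hwo; omega) ht (fun hh => hex3 hh.1 hσ hε1 hh.2)
      (hwt.trans hcard) (isSymmetricForm_sform hε₀) hstr (hHG.trans hle)
  · by_cases hu : ∃ (τ : F ≃+* F) (f : (Unit ⊕ (Fin m ⊕ Fin m) → F) → (Unit ⊕ (Fin m ⊕ Fin m) → F) → F),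
        IsUnitaryForm τ f ∧ FixesForm (matrixSet P) f
    · obtain ⟨τ, f, hu1, hu2⟩ := hu
      exact hsubfield (D.subfield_of_fixed_unitary hσ hGI hPG hPn hPs hu1 hu2)
    exact .residual ⟨P, hres, hu⟩

end CfsgLib.Asch
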