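import Cfsg.Agent.Lib.Aschbacher.FormSubfield
import Cfsg.Agent.Lib.Aschbacher.FormKron

/-!
# A hermitian form with an invariant bilinear form up to scalars; the tensor square of planes
-/

set_option autoImplicit false

namespace CfsgLib.Asch

open Matrix Cfsg.Geo
open scoped MatrixGroups Kronecker

variable {ι : Type} [Fintype ι] [DecidableEq ι] [Nonempty ι] {F : Type*} [Field F] [Fintype F]

namespace FData

variable (D : FData ι F)

/-- isometries of a hermitian form that are similitudes of a bilinear form -/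
theorem inSubfieldForm_of_similitudes (hσ : D.σ ≠ RingHom.id F) (hε : D.ε = 1) {G : Subgroup (GL ι F)}
    (hGI : G ≤ D.isom) (hsp : Spans (matrixSet G)) (S : GL ι F) {η : F}
    (hSη : (S : Matrix ι ι F)ᵀ = η • (S : Matrix ι ι F))
    (hS : ∀ g ∈ G, ∃ μ : F, D.σ μ * μ = 1 ∧
      (g : Matrix ι ι F)ᵀ * (S : Matrix ι ι F) * (g : Matrix ι ι F) = μ • (S : Matrix ι ι F)) :
    D.InSubfieldForm G := by
  classical
  set C : Matrix ι ι F := (((S⁻¹ * D.B : GL ι F)) : Matrix ι ι F) with hCdef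
  have hCu : IsUnit C := (S⁻¹ * D.B).isUnit
  have hSC : (S : Matrix ι ι F) * C = (D.B : Matrix ι ι F) := by rw [hCdef, Units.val_mul]; simp
  have hC : ∀ g ∈ G, ∃ μ : F, D.σ μ * μ = 1 ∧
      (g : Matrix ι ι F) * C = μ • (C * (g : Matrix ι ι F).map D.σ) := by
    intro g hg
    obtain ⟨μ, hμ, hgS⟩ := hS g hg
    refine ⟨μ, hμ, ?_⟩
    have hgt : IsUnit (g : Matrix ι ι F)ᵀ := (Matrix.isUnit_transpose _).mpr g.isUnit
    refine (hgt.mul S.isUnit).mul_left_cancel ?_
    calc (g : Matrix ι ι F)ᵀ * (S : Matrix ι ι F) * ((g : Matrix ι ι F) * C)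
        = μ • (D.B : Matrix ι ι F) := by rw [← mul_assoc, hgS, smul_mul_assoc, hSC]
      _ = μ • ((g : Matrix ι ι F)ᵀ * (D.B : Matrix ι ι F) * (g : Matrix ι ι F).map D.σ) := by
          rw [D.mem_isom.mp (hGI hg)]
      _ = _ := by rw [Matrix.mul_smul, ← hSC]; simp only [mul_assoc]
  have hmm : ∀ M : Matrix ι ι F, (M.map D.σ).map D.σ = M := fun M => by ext i j; exact D.σσ _
  have hsm : ∀ (c : F) (M : Matrix ι ι F), (c • M).map D.σ = D.σ c • M.map D.σ := fun c M => by ext i j; simp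
  obtain ⟨l, hl⟩ : IsScalarMat (C * C.map D.σ) := by
    refine hsp.scalar_of_commute fun g hg => ?_
    obtain ⟨μ, hμ, h⟩ := hC g hg
    have h1 := congrArg (fun M : Matrix ι ι F => M.map D.σ) h
    simp only [Matrix.map_mul, hsm, hmm] at h1
    rw [← mul_assoc (g : Matrix ι ι F), h, smul_mul_assoc, mul_assoc C ((g : Matrix ι ι F).map D.σ), h1,
      Matrix.mul_smul, smul_smul, mul_comm μ, hμ, one_smul, mul_assoc]
  have hCσ : IsUnit (C.map D.σ) := hCu.map D.σ.mapMatrix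
  have hl0 : l ≠ 0 := by
    rintro rfl
    rw [zero_smul] at hl
    exact not_isUnit_zero (hl ▸ hCu.mul hCσ)
  have hlσ : D.σ l = l := by
    have h2 : C.map D.σ * C = l • (1 : Matrix ι ι F) := by
      refine hCu.mul_left_cancel ?_
      rw [← mul_assoc, hl, smul_mul_assoc, one_mul, mul_smul_comm, mul_one]
    have h3 := congrArg (fun M : Matrix ι ι F => M.map D.σ) hl
    simp only [Matrix.map_mul, hmm] at h3
    rw [h2] at h3
    have := congrFun (congrFun h3 (Classical.arbitrary ι)) (Classical.arbitrary ι)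
    simpa using this.symm
  obtain ⟨t, ht⟩ := exists_norm D.σσ hσ (c := l⁻¹) (by rw [map_inv₀, hlσ])
  obtain ⟨P, hP⟩ := exists_eq_mul_map D.σσ hσ (C := t • C) (by
    rw [hsm, smul_mul_smul_comm, ht, hl, smul_smul, inv_mul_cancel₀ hl0, one_smul])
  have ht0 : t ≠ 0 := fun h0 => by
    rw [h0, zero_mul] at ht; exact inv_ne_zero hl0 ht.symm
  have hX : (P : Matrix ι ι F)ᵀ * (D.B : Matrix ι ι F) * (P : Matrix ι ι F).map D.σ
      = t⁻¹ • ((P : Matrix ι ι F)ᵀ * (S : Matrix ι ι F) * (P : Matrix ι ι F)) := by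
    calc _ = t⁻¹ • ((P : Matrix ι ι F)ᵀ * (S : Matrix ι ι F) * (t • C * (P : Matrix ι ι F).map D.σ)) := by
          rw [← hSC, smul_mul_assoc, Matrix.mul_smul, smul_smul, inv_mul_cancel₀ ht0, one_smul]
          simp only [mul_assoc]
      _ = _ := by rw [hP]
  set X := (P : Matrix ι ι F)ᵀ * (D.B : Matrix ι ι F) * (P : Matrix ι ι F).map D.σ with hXdef
  have hXu : IsUnit X :=
    (((Matrix.isUnit_transpose _).mpr P.isUnit).mul D.B.isUnit).mul (P.isUnit.map D.σ.mapMatrix)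
  obtain ⟨i₀, j₀, hij⟩ : ∃ i j, X i j ≠ 0 := by
    by_contra hc
    push_neg at hc
    exact hXu.ne_zero (Matrix.ext hc)
  have hXσ : X.map D.σ = η • X := by
    have h1 : Xᵀ = η • X := by
      rw [hX, transpose_smul, transpose_mul, transpose_mul, transpose_transpose, hSη, smul_comm]
      congr 1
      simp only [Matrix.smul_mul, Matrix.mul_smul, mul_assoc]
    have h2 : (X.map D.σ)ᵀ = X := by
      rw [hXdef, Matrix.map_mul, Matrix.map_mul, transpose_mul, transpose_mul, D.map_map, transpose_map,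
        transpose_transpose, ← mul_assoc]
      congr 1
      congr 1
      rw [D.herm, hε, one_smul]
    calc X.map D.σ = ((X.map D.σ)ᵀ)ᵀ := (transpose_transpose _).symm
      _ = η • X := by rw [h2, h1]
  refine ⟨fixedField D.σ, 2, P, (X i₀ j₀)⁻¹ • X, X i₀ j₀, Nat.prime_two, card_eq_sq_fixedField D.σσ hσ,
    fun i j => mem_fixedField.mpr ?_, ?_, hij, ?_, fun g hg => ?_⟩
  · have h1 := congrFun (congrFun hXσ i) j
    have h2 := congrFun (congrFun hXσ i₀) j₀
    simp only [Matrix.map_apply, Matrix.smul_apply, smul_eq_mul] at h1 h2 ⊢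
    have hη : η ≠ 0 := fun h0 => by
      rw [h0, zero_mul] at h2
      exact hij (D.σ.injective (h2.trans (map_zero D.σ).symm))
    rw [map_mul, map_inv₀, h1, h2]
    field_simp
  · exact isUnit_iff_exists_inv.mpr ⟨X i₀ j₀ • ((hXu.unit⁻¹ : GL ι F) : Matrix ι ι F), by
      rw [smul_mul_smul_comm, inv_mul_cancel₀ hij, one_smul]; exact hXu.mul_val_inv⟩
  · rw [smul_smul, mul_inv_cancel₀ hij, one_smul]
  · obtain ⟨μ, hμ, h⟩ := hC g hg
    have hμ0 : μ ≠ 0 := fun h0 => by rw [h0, mul_zero] at hμ; exact zero_ne_one hμ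
    set M := cj P⁻¹ (g : Matrix ι ι F) with hM
    have hPM : (P : Matrix ι ι F) * M = (g : Matrix ι ι F) * (P : Matrix ι ι F) := by
      simp [M, cj, ← mul_assoc]
    have hMσ : (P : Matrix ι ι F) * M.map D.σ = μ⁻¹ • ((P : Matrix ι ι F) * M) := by
      have h1 : (t • C) * (((P : Matrix ι ι F) * M).map D.σ) = μ⁻¹ • ((g : Matrix ι ι F) * (P : Matrix ι ι F)) := by
        conv_rhs => rw [← hP, ← mul_assoc, Matrix.mul_smul, h, smul_mul_assoc, smul_mul_assoc, smul_smul, smul_smul,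
          mul_comm μ⁻¹ t, mul_assoc t, inv_mul_cancel₀ hμ0, mul_one]
        rw [hPM, Matrix.map_mul, ← mul_assoc, smul_mul_assoc t C]
        simp only [smul_mul_assoc]
      rw [hPM, ← h1, Matrix.map_mul, ← mul_assoc, hP]
    have hMσ' : M.map D.σ = μ⁻¹ • M := P.isUnit.mul_left_cancel (by rw [hMσ, Matrix.mul_smul])
    have hMu : IsUnit M := by
      rw [hM, cj_coe]; exact (P⁻¹ * g * P⁻¹⁻¹).isUnit
    obtain ⟨a, b, hab⟩ : ∃ a b, M a b ≠ 0 := by
      by_contra hc
      push_neg at hc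
      exact hMu.ne_zero (Matrix.ext hc)
    let N : Matrix ι ι (fixedField D.σ) := Matrix.of fun i j => ⟨(M a b)⁻¹ * M i j, mem_fixedField.mpr (by
      have h1 := congrFun (congrFun hMσ' i) j
      have h2 := congrFun (congrFun hMσ' a) b
      simp only [Matrix.map_apply, Matrix.smul_apply, smul_eq_mul] at h1 h2
      rw [map_mul, map_inv₀, h1, h2]
      field_simp)⟩
    have hNM : N.map (fixedField D.σ).subtype = (M a b)⁻¹ • M := by ext i j; simp [N]
    have hdet : N.det ≠ 0 := fun h0 => by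
      have h1 := RingHom.map_det (fixedField D.σ).subtype N
      rw [h0, map_zero, RingHom.mapMatrix_apply, hNM, Matrix.det_smul] at h1
      rcases mul_eq_zero.mp h1.symm with h2 | h2
      · exact pow_ne_zero _ (inv_ne_zero hab) h2
      · exact ((Matrix.isUnit_iff_isUnit_det _).mp hMu).ne_zero h2
    let N' : GL ι (fixedField D.σ) := Matrix.GeneralLinearGroup.mkOfDetNeZero N hdet
    refine ⟨Matrix.GeneralLinearGroup.map (fixedField D.σ).subtype N'
      * Units.map (Matrix.scalar ι : F →+* Matrix ι ι F).toMonoidHom (Units.mk0 _ hab),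
      Subgroup.mul_mem_sup ⟨N', rfl⟩ ⟨_, rfl⟩, Units.ext ?_⟩
    show (P : Matrix ι ι F) * (N.map (fixedField D.σ).subtype * Matrix.scalar ι (M a b)) * ((P⁻¹ : GL ι F) : Matrix ι ι F) = _
    rw [hNM]
    have : (M a b)⁻¹ • M * Matrix.scalar ι (M a b) = M := by
      ext i j
      simp only [Matrix.scalar_apply, Matrix.mul_diagonal, Matrix.smul_apply, smul_eq_mul]
      field_simp
    rw [this, hPM, mul_assoc, Units.mul_inv, mul_one]

/-- the tensor square of planes -/
theorem inSubfieldForm_of_square_two (hσ : D.σ ≠ RingHom.id F) (hε : D.ε = 1) {G : Subgroup (GL ι F)}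
    (hGI : G ≤ D.isom) (hsp : Spans (matrixSet G)) (e : ι ≃ Fin 2 × Fin 2) (P : GL ι F)
    {G₁ G₂ : GL (Fin 2) F}
    (hB : ((D.trans e P).B : Matrix (Fin 2 × Fin 2) (Fin 2 × Fin 2) F)
      = (G₁ : Matrix (Fin 2) (Fin 2) F) ⊗ₖ (G₂ : Matrix (Fin 2) (Fin 2) F))
    (hdec : ∀ g ∈ G, ∃ (a : GL (Fin 2) F) (b : GL (Fin 2) F),
      (g : Matrix ι ι F) = tens e P (a : Matrix _ _ F) (b : Matrix _ _ F)) :
    D.InSubfieldForm G := by
  set J : Matrix (Fin 2) (Fin 2) F := !![0, 1; -1, 0] with hJ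
  have hJJ : J * J = (-1 : F) • 1 := by
    ext a b; fin_cases a <;> fin_cases b <;> simp [J, Matrix.mul_apply]
  have hJt : Jᵀ = -J := by ext a b; fin_cases a <;> fin_cases b <;> simp [J]
  have hJu : IsUnit J := isUnit_iff_exists_inv.mpr ⟨(-1 : F) • J, by
    rw [Matrix.mul_smul, hJJ, smul_smul]; simp⟩
  have hJb : ∀ a : Matrix (Fin 2) (Fin 2) F, aᵀ * J * a = a.det • J := fun a => by
    rw [Matrix.det_fin_two]
    ext p q
    fin_cases p <;> fin_cases q <;> simp [J, Matrix.mul_apply] <;> ring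
  set Pi' : Matrix ι ι F := ((P⁻¹ : GL ι F) : Matrix ι ι F)
  set R := Matrix.reindexAlgEquiv F F e.symm
  have hRt : ∀ M, (R M)ᵀ = R Mᵀ := fun M => by ext i j; simp [R]
  set S : Matrix ι ι F := Pi'ᵀ * R (J ⊗ₖ J) * Pi' with hSdef
  have hSu : IsUnit S :=
    (((Matrix.isUnit_transpose _).mpr (P⁻¹).isUnit).mul ((kronUnit hJu.unit hJu.unit).isUnit.map R)).mul (P⁻¹).isUnit
  refine D.inSubfieldForm_of_similitudes hσ hε hGI hsp hSu.unit (η := 1) ?_ fun g hg => ?_
  · rw [IsUnit.unit_spec, one_smul, hSdef, transpose_mul, transpose_mul, transpose_transpose, hRt,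
      transpose_kron, hJt, ← mul_assoc]
    congr 3
    ext i j; simp
  obtain ⟨a, b, hab⟩ := hdec g hg
  obtain ⟨lam, hlam, ha, hb⟩ := (D.trans e P).similitude_factors hB (D.pull_mem_isom e P (hGI hg)) (pull_of_tens e P hab)
  rw [show (D.trans e P).σ = D.σ from rfl] at ha hb
  refine ⟨(a : Matrix (Fin 2) (Fin 2) F).det * (b : Matrix (Fin 2) (Fin 2) F).det, ?_, ?_⟩
  · have hd : ∀ (X G₁ : GL (Fin 2) F) (c : F),
        (X : Matrix (Fin 2) (Fin 2) F)ᵀ * (G₁ : Matrix (Fin 2) (Fin 2) F) * (X : Matrix (Fin 2) (Fin 2) F).map D.σ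
          = c • (G₁ : Matrix (Fin 2) (Fin 2) F) →
        (X : Matrix (Fin 2) (Fin 2) F).det * D.σ (X : Matrix (Fin 2) (Fin 2) F).det = c ^ 2 := by
      intro X G₁ c h
      have h1 := congrArg Matrix.det h
      rw [Matrix.det_mul, Matrix.det_mul, Matrix.det_transpose, Matrix.det_smul, Fintype.card_fin,
        show ((X : Matrix (Fin 2) (Fin 2) F).map D.σ).det = D.σ (X : Matrix (Fin 2) (Fin 2) F).det from
          (RingHom.map_det D.σ _).symm] at h1
      have h0 : (G₁ : Matrix (Fin 2) (Fin 2) F).det ≠ 0 := ((Matrix.isUnit_iff_isUnit_det _).mp G₁.isUnit).ne_zero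
      refine mul_right_cancel₀ h0 ?_
      linear_combination h1
    have h1 := hd a G₁ lam ha
    have h2 := hd b G₂ lam⁻¹ hb
    rw [map_mul]
    calc _ = ((a : Matrix (Fin 2) (Fin 2) F).det * D.σ (a : Matrix (Fin 2) (Fin 2) F).det)
          * ((b : Matrix (Fin 2) (Fin 2) F).det * D.σ (b : Matrix (Fin 2) (Fin 2) F).det) := by ring
      _ = 1 := by rw [h1, h2, ← mul_pow, mul_inv_cancel₀ hlam, one_pow]
  · rw [IsUnit.unit_spec, hSdef, hab, tens, cj]
    set K := (a : Matrix (Fin 2) (Fin 2) F) ⊗ₖ (b : Matrix (Fin 2) (Fin 2) F)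
    have hPP : Pi' * (P : Matrix ι ι F) = 1 := P.inv_mul
    have hPPt : (P : Matrix ι ι F)ᵀ * Pi'ᵀ = 1 := by rw [← transpose_mul, hPP, transpose_one]
    calc _ = Pi'ᵀ * (R K)ᵀ * ((P : Matrix ι ι F)ᵀ * Pi'ᵀ) * R (J ⊗ₖ J) * (Pi' * (P : Matrix ι ι F)) * R K * Pi' := by
          simp only [transpose_mul, mul_assoc]; rfl
      _ = _ := by
          rw [hPP, hPPt, mul_one, mul_one, hRt, mul_assoc Pi'ᵀ, ← map_mul, mul_assoc Pi'ᵀ, ← map_mul,
            transpose_kron, ← Matrix.mul_kronecker_mul, ← Matrix.mul_kronecker_mul, hJb, hJb,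
            smul_kronecker, kronecker_smul, smul_smul, map_smul, Matrix.mul_smul, Matrix.smul_mul]

end FData

end CfsgLib.Asch
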