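import Cfsg.Agent.Lib.Aschbacher.FormMain
import Cfsg.Agent.Lib.Aschbacher.FormTypes
import Cfsg.Agent.Lib.Aschbacher.FormTwoSquare
import Cfsg.Agent.Lib.Aschbacher.FormSubfieldHerm
import Cfsg.Agent.Lib.ClassicalMax.UnitStd

/-!
# The outcomes for subgroups of the unitary group
-/

set_option autoImplicit false

namespace CfsgLib.Asch

open Matrix Cfsg.Geo
open scoped MatrixGroups Kronecker commutatorElement

section generic

variable {ι : Type} [Fintype ι] [DecidableEq ι] [Nonempty ι] {F : Type*} [Field F] [Fintype F]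

omit [Nonempty ι] [Fintype F] in
/-- a perfect group of similitudes consists of isometries -/
lemma fixesForm_of_perfect {P : Subgroup (GL ι F)} (hperf : ⁅P, P⁆ = P) {f : (ι → F) → (ι → F) → F}
    (h : P ≤ similarityGroup f) : FixesForm (matrixSet P) f := by
  have hle : P ≤ Cfsg.preserving (Cfsg.glToMat ι F) f := by
    conv_lhs => rw [← hperf]
    refine Subgroup.commutator_le.mpr fun a ha b hb => ?_
    obtain ⟨ca, hca⟩ := h ha
    obtain ⟨cb, hcb⟩ := h hb
    obtain ⟨da, hda⟩ := h (P.inv_mem ha)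
    obtain ⟨db, hdb⟩ := h (P.inv_mem hb)
    intro u v
    show f ((⁅a, b⁆ : GL ι F).val *ᵥ u) ((⁅a, b⁆ : GL ι F).val *ᵥ v) = f u v
    have ha1 : ∀ u v, (ca : F) * ((da : F) * f u v) = f u v := fun u v => by
      rw [← hda, ← hca]; simp only [mulVec_mulVec, Units.mul_inv, one_mulVec]
    have hb1 : ∀ u v, (cb : F) * ((db : F) * f u v) = f u v := fun u v => by
      rw [← hdb, ← hcb]; simp only [mulVec_mulVec, Units.mul_inv, one_mulVec]
    rw [commutatorElement_def, Units.val_mul, Units.val_mul, Units.val_mul]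
    simp only [← mulVec_mulVec]
    rw [hca, hcb, hda, hdb]
    calc (ca : F) * ((cb : F) * ((da : F) * ((db : F) * f u v)))
        = (ca : F) * ((da : F) * ((cb : F) * ((db : F) * f u v))) := by ring
      _ = _ := by rw [hb1, ha1]
  rintro _ ⟨g, hg, rfl⟩ u v
  exact hle hg u v

omit [Nonempty ι] in
/-- the Gram matrix of a fixed non-degenerate bilinear form -/
lemma gram_of_fixed_bilinear {P : Subgroup (GL ι F)} {f : (ι → F) → (ι → F) → F} (hb : IsBilinearForm f)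
    (hnd : IsNondegenerateForm f) (hfix : FixesForm (matrixSet P) f) :
    ∃ S : GL ι F, ∀ x ∈ P, (x : Matrix ι ι F)ᵀ * (S : Matrix ι ι F) * (x : Matrix ι ι F) = (S : Matrix ι ι F) := by
  have hfB := bilinear_eq_sform hb
  have hB : IsUnit (gramMatrix f) :=
    isUnit_of_nondegenerate (σ := RingHom.id F) Function.surjective_id (hfB ▸ hnd)
  refine ⟨hB.unit, fun x hx => sform_injective (σ := RingHom.id F) (funext₂ fun u v => ?_)⟩
  rw [IsUnit.unit_spec]
  have h := sform_mulVec (RingHom.id F) (gramMatrix f) (x : Matrix ι ι F) u v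
  rw [map_refl_id] at h
  rw [← h, ← hfB]
  exact hfix _ (coe_mem_matrixSet hx) u v

namespace FData

variable (D : FData ι F)

omit [Nonempty ι] in
/-- hermitian rescaling of the factors -/
lemma herm_factors (hσ : D.σ ≠ RingHom.id F) (hε : D.ε = 1) {w k : ℕ} {G₁ : GL (Fin w) F} {G₂ : GL (Fin k) F}
    {ε₁ ε₂ : F} (h1 : ((G₁ : Matrix (Fin w) (Fin w) F).map D.σ)ᵀ = ε₁ • (G₁ : Matrix (Fin w) (Fin w) F))
    (h2 : ((G₂ : Matrix (Fin k) (Fin k) F).map D.σ)ᵀ = ε₂ • (G₂ : Matrix (Fin k) (Fin k) F))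
    (he : ε₁ * ε₂ = D.ε) (he1 : D.σ ε₁ * ε₁ = 1) :
    ∃ (U₁ : GL (Fin w) F) (U₂ : GL (Fin k) F),
      (U₁ : Matrix (Fin w) (Fin w) F) ⊗ₖ (U₂ : Matrix (Fin k) (Fin k) F)
        = (G₁ : Matrix (Fin w) (Fin w) F) ⊗ₖ (G₂ : Matrix (Fin k) (Fin k) F) ∧
      ((U₁ : Matrix (Fin w) (Fin w) F).map D.σ)ᵀ = (U₁ : Matrix (Fin w) (Fin w) F) ∧
      ((U₂ : Matrix (Fin k) (Fin k) F).map D.σ)ᵀ = (U₂ : Matrix (Fin k) (Fin k) F) := by
  obtain ⟨μ, hμ, hμe⟩ := exists_herm_scalar D.σσ hσ he1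
  let s : Fˣ := Units.mk0 μ hμ
  let U₁ : GL (Fin w) F := Units.map (Matrix.scalar (Fin w) : F →+* Matrix (Fin w) (Fin w) F).toMonoidHom s * G₁
  let U₂ : GL (Fin k) F := Units.map (Matrix.scalar (Fin k) : F →+* Matrix (Fin k) (Fin k) F).toMonoidHom s⁻¹ * G₂
  have hU₁ : (U₁ : Matrix (Fin w) (Fin w) F) = μ • (G₁ : Matrix (Fin w) (Fin w) F) := by simp [U₁, s, Matrix.smul_eq_diagonal_mul]
  have hU₂ : (U₂ : Matrix (Fin k) (Fin k) F) = μ⁻¹ • (G₂ : Matrix (Fin k) (Fin k) F) := by simp [U₂, s, Matrix.smul_eq_diagonal_mul]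
  have hm : ∀ {Z : Type} [Fintype Z] [DecidableEq Z] (t : F) (M : Matrix Z Z F),
      ((t • M).map D.σ)ᵀ = D.σ t • (M.map D.σ)ᵀ := fun t M => by ext i j; simp
  refine ⟨U₁, U₂, ?_, ?_, ?_⟩
  · rw [hU₁, hU₂, smul_kronecker, kronecker_smul, smul_smul, mul_inv_cancel₀ hμ, one_smul]
  · rw [hU₁, hm, h1, smul_smul, hμe]
  · rw [hU₂, hm, h2, smul_smul]
    congr 1
    rw [hε] at he
    rw [show ε₂ = ε₁⁻¹ from eq_inv_of_mul_eq_one_right he, map_inv₀, ← mul_inv, hμe]

end FData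

end generic

section unitary

variable {F : Type*} [Field F] [Fintype F] {n q : ℕ}

/-- the standard hermitian form with its data -/
noncomputable def hermData (n q : ℕ) (hF : Fintype.card F = q ^ 2) : FData (Fin n) F where
  σ := (ClassicalMax.Unit.exists_powEquiv hF).choose.toRingHom
  σσ := fun a => (ClassicalMax.Unit.exists_powEquiv hF).choose_spec.2.1 a
  B := 1
  ε := 1
  herm := by rw [Units.val_one, Matrix.map_one _ (map_zero _) (map_one _), transpose_one, one_smul]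

lemma hermData_apply (hF : Fintype.card F = q ^ 2) (a : F) : (hermData n q hF).σ a = a ^ q :=
  (ClassicalMax.Unit.exists_powEquiv hF).choose_spec.1 a

lemma hermData_σ_ne (hF : Fintype.card F = q ^ 2) : (hermData n q hF).σ ≠ RingHom.id F := fun h =>
  (ClassicalMax.Unit.exists_powEquiv hF).choose_spec.2.2 (RingEquiv.ext fun a => RingHom.congr_fun h a)

lemma hermData_form (hF : Fintype.card F = q ^ 2) : (hermData n q hF).form = Cfsg.hermForm n F q := by
  funext u v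
  rw [FData.form, show ((hermData n q hF).B : Matrix (Fin n) (Fin n) F) = 1 from rfl, sform, one_mulVec]
  simp only [hermData_apply]
  rfl

lemma hermData_isom (hF : Fintype.card F = q ^ 2) : (hermData n q hF).isom = Cfsg.GU n F q := by
  rw [FData.isom, hermData_form]; rfl

set_option maxHeartbeats 1000000 in
/-- Aschbacher's reduction for the unitary group, given the abelian step -/
theorem unitCase_of_step (hF : Fintype.card F = q ^ 2) (hn : 3 ≤ n) (hab : (hermData n q hF).AbelianStep)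
    {H : Subgroup (GL (Fin n) F)} (hH : H ≤ Cfsg.GU n F q) : UnitCase n q H := by
  classical
  haveI : Nonempty (Fin n) := ⟨⟨0, by omega⟩⟩
  set D := hermData n q hF with hDdef
  have hσ : D.σ ≠ RingHom.id F := hermData_σ_ne hF
  have hσq : ∀ a, D.σ a = a ^ q := hermData_apply hF
  have hσf : (D.σ : F → F) = fun x => x ^ q := funext hσq
  have hε : D.ε = 1 := rfl
  have hf : D.form = Cfsg.hermForm n F q := hermData_form hF
  have hcard : Fintype.card (Fin n) = n := Fintype.card_fin n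
  set G := H ⊔ (scalars (Fin n) F ⊓ D.isom)
  have hHG : H ≤ G := le_sup_left
  have hHI : H ≤ D.isom := by rw [hermData_isom]; exact hH
  have hGI : G ≤ D.isom := sup_le hHI inf_le_right
  have hq2 : Odd q ↔ (2 : F) ≠ 0 := by
    rw [two_ne_zero_iff_odd, hF, Nat.odd_pow_iff two_ne_zero]
  have hq3 : ∀ {w : ℕ}, w = 3 → (Fintype.card F = 4 ↔ q = 2 ∧ w = 3) := by
    intro w hw
    rw [hF]
    refine ⟨fun h => ⟨Nat.pow_left_injective two_ne_zero (h : q ^ 2 = 2 ^ 2), hw⟩, fun h => by rw [h.1]; rfl⟩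
  have hrat : ∀ (F₁ : Subfield F) (ζ : F) (P : GL (Fin n) F),
      (∀ i j, ζ * ((P : Matrix (Fin n) (Fin n) F)ᵀ * (D.B : Matrix (Fin n) (Fin n) F)
        * (P : Matrix (Fin n) (Fin n) F).map D.σ) i j ∈ F₁) →
      IsFormRationalStructure (Cfsg.hermForm n F q) F₁ ζ P := by
    intro F₁ ζ P h u v hu hv
    rw [← hf, FData.form, sform_mulVec, ← sform_smul_matrix]
    exact D.sform_mem_subfield F₁ (fun i j => by rw [Matrix.smul_apply, smul_eq_mul]; exact h i j) hu hv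
  have hsing : ∀ (W : Submodule F (Fin n → F)), W ≠ ⊥ → IsTotallySingularFor D.form W →
      G ≤ subspaceStabilizer W → UnitCase n q H := fun W h0 hs hle =>
    .singular W h0 (hf ▸ hs) (hHG.trans hle)
  have hred : InSubspace G → UnitCase n q H := by
    rintro ⟨W, h0, h1, hW⟩
    rcases D.reducible_cases hGI ⟨W, h0, h1, hW⟩ with
      ⟨W, h0, hs, hle⟩ | ⟨W, h0, -, hnd, hd, hle⟩ | ⟨k, V, hk, hV, hle⟩
    · exact hsing W h0 hs hle
    · exact .nondeg W h0 (hf ▸ hnd) (by omega) (hHG.trans hle)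
    · exact .decomp 2 k V (hf ▸ hV) (hk.trans hcard) (hHG.trans hle)
  have hsub : D.InSubfieldForm G → UnitCase n q H := by
    rintro ⟨F₁, r, P, B₀, l, hr, hc, hB₀, hu, hl, hPB, hle⟩
    rcases hr.eq_two_or_odd' with rfl | hro
    · rcases irred_or_subspace G with hirr | hW
      swap
      · exact hred hW
      rcases D.subfield_normal_two hσ hε (by omega) hGI hirr hc hB₀ hu hl hPB hle with
        ⟨h2, P', hP', hle'⟩ | ⟨P', ζ, hζ, hζσ, hev, hP', h0, hle'⟩
      · exact .subfieldOrth F₁ P' (hq2.mpr h2) hc (hrat F₁ 1 P' fun i j => by rw [one_mul]; exact hP' i j)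
          (hHG.trans hle')
      · exact .subfieldSymp F₁ P' ζ (by rwa [hcard] at hev) hc hζ (by rw [← hσq]; exact hζσ) (hrat F₁ ζ P' hP')
          (fun u hu => by rw [← hf]; exact h0 u hu) (hHG.trans hle')
    · obtain ⟨P', hP', hle'⟩ := D.subfield_normal_odd hσ hε hro hc hB₀ hu hl hPB hle
      exact .subfieldOdd F₁ r P' hr hro hc (hrat F₁ 1 P' fun i j => by rw [one_mul]; exact hP' i j) (hHG.trans hle')
  have hwreath : ∀ (w t : ℕ) (e : Fin n ≃ (Fin t → Fin w)) (Q : GL (Fin n) F) (c : F) (U : GL (Fin w) F),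
      3 ≤ w → 2 ≤ t → c ≠ 0 → w ^ t = Fintype.card (Fin n) →
      ((D.trans e Q).B : Matrix (Fin t → Fin w) (Fin t → Fin w) F) = c • pw (fun _ => (U : Matrix (Fin w) (Fin w) F)) →
      ((U : Matrix (Fin w) (Fin w) F).map D.σ)ᵀ = (U : Matrix (Fin w) (Fin w) F) →
      ¬ (q = 2 ∧ w = 3) → G ≤ tensorWreathSubgroup w t e Q → UnitCase n q H := by
    intro w t e Q c U hw ht hc hwt hB hU hex hle
    have hstr := D.isTensorPowerFormStructure e Q hc hB
    rw [hf, hσf] at hstr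
    exact .wreath w t e Q _ hw ht hex (hwt.trans hcard) (isUnitaryFormPow_sform hσq D.σσ hU) hstr (hHG.trans hle)
  have hpower : D.InPowerForm G → (∀ w t : ℕ, ∀ (e : Fin n ≃ (Fin t → Fin w)) (Q : GL (Fin n) F), w = 2 → 2 ≤ t →
      G ≤ tensorWreathSubgroup w t e Q → UnitCase n q H) → UnitCase n q H := by
    rintro ⟨w, t, e, Q, c, ε₀, G₀, hw, ht, hwt, hc0, hB, hε₀, hcε, hee, -, hex4, -, hle⟩ h2
    haveI : Nonempty (Fin w) := ⟨⟨0, by omega⟩⟩
    rcases Nat.lt_or_ge w 3 with hw3 | hw3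
    · exact h2 w t e Q (by omega) ht hle
    obtain ⟨μ, hμ, hμe⟩ := exists_herm_scalar D.σσ hσ hee
    let U : GL (Fin w) F := Units.map (Matrix.scalar (Fin w) : F →+* Matrix (Fin w) (Fin w) F).toMonoidHom (Units.mk0 μ hμ) * G₀
    have hU : (U : Matrix (Fin w) (Fin w) F) = μ • (G₀ : Matrix (Fin w) (Fin w) F) := by
      simp [U, Matrix.smul_eq_diagonal_mul]
    have hUh : ((U : Matrix (Fin w) (Fin w) F).map D.σ)ᵀ = (U : Matrix (Fin w) (Fin w) F) := by
      rw [hU, show (μ • (G₀ : Matrix (Fin w) (Fin w) F)).map D.σ = D.σ μ • (G₀ : Matrix (Fin w) (Fin w) F).map D.σ by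
        ext i j; simp, transpose_smul, hε₀, smul_smul, hμe]
    have hB' : ((D.trans e Q).B : Matrix (Fin t → Fin w) (Fin t → Fin w) F)
        = (c / μ ^ t) • pw (fun _ => (U : Matrix (Fin w) (Fin w) F)) := by
      simp only [hU, pw_smul, Finset.prod_const, Finset.card_univ, Fintype.card_fin, smul_smul]
      rw [div_mul_cancel₀ _ (pow_ne_zero _ hμ), hB]
    exact hwreath w t e Q _ U hw3 ht (div_ne_zero hc0 (pow_ne_zero _ hμ)) hwt hB' hUh
      (fun hh => hex4 ((hq3 hh.2).mpr hh) hσ hh.2) hle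
  rcases D.outcome_of_abelianStep hab (by omega) H hHI with
    hW | ⟨-, t, k, V, hV, htk, hle⟩ | ⟨-, k, V, e, hV, hs, hk, hle, -⟩ | ⟨-, r, K, hr, hK, hrn, hle, hadj⟩ |
    ⟨hirr, hsp, h⟩ | h | ⟨r, R, p, f, k, hR, hRs, hRI, hle, hrp, hmin, hk, hn', h⟩ |
    ⟨P, hPG, hPn, hPs, hperf, h, -⟩ | ⟨P, hPG, hPn, hPs, hres⟩
  · exact hred hW
  · exact .decomp t k V (hf ▸ hV) (htk.trans hcard) (hHG.trans hle)
  · exact .pair k V (hk.trans hcard) hV (fun i => hf ▸ hs i) (hHG.trans hle)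
  · exact .extField r K hr (hr.eq_two_or_odd'.resolve_left (D.ne_two_of_adjoint hσ hK hadj))
      (by rwa [hcard] at hrn) hK (hf ▸ D.adjointClosed hadj) (hHG.trans hle)
  · obtain ⟨w, k, e, P, G₁, G₂, ε₁, ε₂, hw, hk, hwk, hB, h1, h2, hεε, he1, he2, hdec⟩ := h
    haveI : Nonempty (Fin w) := ⟨⟨0, by omega⟩⟩
    haveI : Nonempty (Fin k) := ⟨⟨0, by omega⟩⟩
    obtain ⟨U₁, U₂, hU, hU₁, hU₂⟩ := D.herm_factors hσ hε h1 h2 hεε he1
    rw [← hU] at hB
    have main : ∀ (w k : ℕ) (e : Fin n ≃ Fin w × Fin k) (U₁ : GL (Fin w) F) (U₂ : GL (Fin k) F),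
        2 ≤ w → w < k → w * k = Fintype.card (Fin n) →
        ((D.trans e P).B : Matrix (Fin w × Fin k) (Fin w × Fin k) F)
          = (U₁ : Matrix (Fin w) (Fin w) F) ⊗ₖ (U₂ : Matrix (Fin k) (Fin k) F) →
        ((U₁ : Matrix (Fin w) (Fin w) F).map D.σ)ᵀ = (U₁ : Matrix (Fin w) (Fin w) F) →
        ((U₂ : Matrix (Fin k) (Fin k) F).map D.σ)ᵀ = (U₂ : Matrix (Fin k) (Fin k) F) →
        (∀ g ∈ G, ∃ (a : GL (Fin w) F) (b : GL (Fin k) F),
          (g : Matrix (Fin n) (Fin n) F) = tens e P (a : Matrix _ _ F) (b : Matrix _ _ F)) → UnitCase n q H := by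
      intro w k e U₁ U₂ hw hwk' hwk hB h1 h2 hdec
      have hstr := D.isTensorFormStructure e P hB
      rw [hf, hσf] at hstr
      refine .tensor w k e P _ _ hw hwk' (hwk.trans hcard) (isUnitaryFormPow_sform hσq D.σσ h1)
        (isUnitaryFormPow_sform hσq D.σσ h2) hstr fun g hg => ?_
      obtain ⟨a, b, hab⟩ := hdec g (hHG hg)
      exact mem_tensorProductSubgroup hab
    rcases lt_trichotomy w k with hlt | rfl | hgt
    · exact main w k e U₁ U₂ hw hlt hwk hB hU₁ hU₂ hdec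
    swap
    · obtain ⟨hB', hdec'⟩ := D.inKronForm_swap hB hdec
      exact main k w _ U₂ U₁ hk hgt (by rw [mul_comm, hwk]) hB' hU₂ hU₁ hdec'
    rcases eq_or_lt_of_le hw with rfl | hw3
    · exact hsub (D.inSubfieldForm_of_square_two hσ hε hGI hsp e P hB hdec)
    by_cases h23 : Fintype.card F = 4 ∧ w = 3
    · obtain ⟨h4, rfl⟩ := h23
      obtain ⟨R, hR, hRi, hRs, hz, hRc, hle⟩ := sympType_of_tensorSquare_two h4 D hσ hGI e P U₁.isUnit U₂.isUnit
        hU₁ hU₂ hB hdec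
      haveI : Fact (Nat.Prime 2) := ⟨Nat.prime_two⟩
      refine .sympType 3 R 2 2 2 hR hRi (hf ▸ hRs) (by decide) ?_ (by omega)
        (by rw [← hcard, ← hwk]; rfl) (Or.inl ⟨by decide, hz, by rw [hRc]⟩) (hHG.trans hle)
      rw [hz]
      refine ⟨Nat.prime_two, ?_, h4, by decide, fun d h0 h2 => ?_⟩
      · obtain ⟨p, f, hp, hchar, hf0, hc⟩ := exists_prime_pow (F := F)
        have : p ∣ 2 := by
          refine hp.dvd_of_dvd_pow (n := 2) ?_
          rw [show 2 ^ 2 = p ^ f by rw [← hc, h4]; rfl]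
          exact dvd_pow_self p hf0.ne'
        obtain rfl := (Nat.prime_dvd_prime_iff_eq hp Nat.prime_two).mp this
        exact hchar
      · obtain rfl : d = 1 := by omega
        decide
    · let D₁ : FData (Fin w) F := ⟨D.σ, D.σσ, U₁, 1, by rw [one_smul]; exact hU₁⟩
      let D₂ : FData (Fin w) F := ⟨D.σ, D.σσ, U₂, 1, by rw [one_smul]; exact hU₂⟩
      obtain ⟨R₁, hR₁⟩ := D₁.exists_congr_one hσ rfl
      obtain ⟨R₂, hR₂⟩ := D₂.exists_congr_one hσ rfl
      set Ri : Matrix (Fin w) (Fin w) F := ((R₁⁻¹ : GL (Fin w) F) : Matrix (Fin w) (Fin w) F)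
      have hR : ((R₂ * R₁⁻¹ : GL (Fin w) F) : Matrix (Fin w) (Fin w) F)ᵀ * (U₂ : Matrix (Fin w) (Fin w) F)
          * ((R₂ * R₁⁻¹ : GL (Fin w) F) : Matrix (Fin w) (Fin w) F).map D.σ = (1 : F) • (U₁ : Matrix (Fin w) (Fin w) F) := by
        have hRR : (R₁ : Matrix (Fin w) (Fin w) F) * Ri = 1 := R₁.mul_inv
        have hRR' : ((R₁ : Matrix (Fin w) (Fin w) F) * Ri).map D.σ = 1 := by
          rw [hRR, Matrix.map_one D.σ (map_zero _) (map_one _)]
        rw [Units.val_mul, transpose_mul, Matrix.map_mul, one_smul,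
          show Riᵀ * (R₂ : Matrix (Fin w) (Fin w) F)ᵀ * (U₂ : Matrix (Fin w) (Fin w) F)
            * ((R₂ : Matrix (Fin w) (Fin w) F).map D.σ * Ri.map D.σ)
            = Riᵀ * ((R₂ : Matrix (Fin w) (Fin w) F)ᵀ * (U₂ : Matrix (Fin w) (Fin w) F)
              * (R₂ : Matrix (Fin w) (Fin w) F).map D.σ) * Ri.map D.σ by simp only [mul_assoc]]
        rw [show (R₂ : Matrix (Fin w) (Fin w) F)ᵀ * (U₂ : Matrix (Fin w) (Fin w) F)
              * (R₂ : Matrix (Fin w) (Fin w) F).map D.σ = 1 from hR₂,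
          ← show (R₁ : Matrix (Fin w) (Fin w) F)ᵀ * (U₁ : Matrix (Fin w) (Fin w) F)
              * (R₁ : Matrix (Fin w) (Fin w) F).map D.σ = 1 from hR₁]
        calc _ = ((R₁ : Matrix (Fin w) (Fin w) F) * Ri)ᵀ * (U₁ : Matrix (Fin w) (Fin w) F)
              * ((R₁ : Matrix (Fin w) (Fin w) F) * Ri).map D.σ := by
              simp only [transpose_mul, Matrix.map_mul, mul_assoc]
          _ = _ := by rw [hRR', hRR, transpose_one, one_mul, mul_one]
      obtain ⟨e', Q, hcw, hB', -, hle⟩ := D.square_data hw e P (R := R₂ * R₁⁻¹) (ε₁ := 1) hB hR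
        (by rw [one_smul]; exact hU₁) hdec
      exact hwreath w 2 e' Q 1 U₁ hw3 le_rfl one_ne_zero hcw hB' hU₁ (fun hh => h23 ⟨(hq3 hh.2).mpr hh, hh.2⟩) hle
  · exact hsub h
  · rcases h with ⟨-, ho, hz, hRc⟩ | ⟨-, h2, hf2, hz, hRc⟩ | ⟨h, -⟩
    · exact .sympType r R p f k hR hRs.absIrred (hf ▸ hRI.trans D.isom_le_similarity) hrp hmin hk
        (hn'.trans hcard) (Or.inl ⟨ho, hz, hRc⟩) (hHG.trans hle)
    · exact .sympType r R p f k hR hRs.absIrred (hf ▸ hRI.trans D.isom_le_similarity) hrp hmin hk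
        (hn'.trans hcard) (Or.inr ⟨h2, hf2, hz, hRc⟩) (hHG.trans hle)
    · exact absurd h hσ
  · refine hpower h fun w t e Q hw ht hle => hsub ?_
    subst hw
    rcases inForm_of_wreath_two (by omega) hle with ⟨Qf, hQ, -, hsim⟩ | ⟨f, hfs, -, hsim⟩
    · obtain ⟨S, hS⟩ := gram_of_fixed_bilinear hQ.polar_bilinear hQ.nondegenerate (fixesForm_of_perfect hperf
        ((hPG.trans hsim).trans fun g hg => by
          obtain ⟨c, hc⟩ := hg
          exact ⟨c, fun u v => by simp only [QuadraticMap.polar, ← mulVec_add, hc]; ring⟩))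
      exact D.subfield_of_fixed_bilinear hσ hGI hPG hPn hPs S hS
    · obtain ⟨S, hS⟩ := gram_of_fixed_symp hfs (fixesForm_of_perfect hperf (hPG.trans hsim))
      exact D.subfield_of_fixed_bilinear hσ hGI hPG hPn hPs S hS
  · by_cases hq : ∃ Q : (Fin n → F) → F, IsNondegenerateQuadraticForm Q ∧ FixesQuadForm (matrixSet P) Q
    · obtain ⟨Q, h1, h2⟩ := hq
      obtain ⟨S, -, -, hS⟩ := gram_of_fixed_quad h1 h2
      exact hsub (D.subfield_of_fixed_bilinear hσ hGI hPG hPn hPs S hS)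
    by_cases hs : ∃ f : (Fin n → F) → (Fin n → F) → F, IsSymplecticForm f ∧ FixesForm (matrixSet P) f
    · obtain ⟨f, h1, h2⟩ := hs
      obtain ⟨S, hS⟩ := gram_of_fixed_symp h1 h2
      exact hsub (D.subfield_of_fixed_bilinear hσ hGI hPG hPn hPs S hS)
    exact .residual ⟨P, hres, hq, hs⟩

end unitary

end CfsgLib.Asch
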