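import Cfsg.Agent.Lib.Aschbacher.FormSympCases
import Cfsg.Agent.Lib.Aschbacher.FormUnitCases
import Cfsg.Agent.Lib.Aschbacher.FormOddCases
import Cfsg.Agent.Lib.Aschbacher.FormAbelian

/-!
# Aschbacher's theorem for symplectic, unitary and odd orthogonal groups
-/

set_option autoImplicit false

namespace CfsgLib.Asch

open Matrix Cfsg.Geo
open scoped MatrixGroups

variable {F : Type*} [Field F] [Fintype F]

/-- the cases for a subgroup of the symplectic group -/
theorem sympCase_of_le {m : ℕ} (hm : 2 ≤ m) {H : Subgroup (GL (Fin m ⊕ Fin m) F)}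
    (hH : H ≤ Cfsg.spGL m F) : SympCase m H :=
  haveI : Nonempty (Fin m ⊕ Fin m) := ⟨.inl ⟨0, by omega⟩⟩
  sympCase_of_step hm (FData.abelianStep _) hH

/-- the cases for a subgroup of the unitary group -/
theorem unitCase_of_le {n q : ℕ} (hF : Fintype.card F = q ^ 2) (hn : 3 ≤ n) {H : Subgroup (GL (Fin n) F)}
    (hH : H ≤ Cfsg.GU n F q) : UnitCase n q H :=
  haveI : Nonempty (Fin n) := ⟨⟨0, by omega⟩⟩
  unitCase_of_step hF hn (FData.abelianStep _) hH

/-- the cases for a subgroup of `Ω` in odd dimension -/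
theorem oddCase_of_le {m : ℕ} (hodd : Odd (Fintype.card F)) (hm : 3 ≤ m)
    {H : Subgroup (GL (Unit ⊕ (Fin m ⊕ Fin m)) F)} (hH : H ≤ omegaGL (Cfsg.quadFormOdd m F)) : OddCase m H :=
  oddCase_of_step hodd hm (two_ne_zero_iff_odd.mpr hodd) (FData.abelianStep _) hH

end CfsgLib.Asch
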