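import Cfsg.Agent.Lib.Aschbacher.FormBasic
import Cfsg.Agent.Lib.Char.Burnside
import Cfsg.Agent.Lib.Classical.Herm.Std

/-!
# Forms in dimension three over the fields with three and four elements
-/

set_option autoImplicit false

namespace CfsgLib.Asch.Tiny

open Matrix Cfsg.Geo
open scoped MatrixGroups Kronecker

section general

/-- a map from a perfect subgroup to a solvable group is trivial -/
lemma perfect_hom_eq_one {G H : Type*} [Group G] [Group H] [Group.IsSolvable H] {A : Subgroup G}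
    (hA : ⁅A, A⁆ = A) (f : A →* H) (a : A) : f a = 1 := by
  have hc : ⁅(⊤ : Subgroup A), (⊤ : Subgroup A)⁆ = (⊤ : Subgroup A) := by
    refine Subgroup.map_injective A.subtype_injective ?_
    rw [Subgroup.map_commutator, ← MonoidHom.range_eq_map, Subgroup.range_subtype]
    exact hA
  have hd : ∀ n : ℕ, f.range ≤ derivedSeries H n := by
    intro n
    induction n with
    | zero => simp
    | succ n ih =>
      rw [derivedSeries_succ, MonoidHom.range_eq_map, ← hc, Subgroup.map_commutator, ← MonoidHom.range_eq_map]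
      exact Subgroup.commutator_mono ih ih
  obtain ⟨n, hn⟩ := (Group.isSolvable_def H).mp inferInstance
  have h1 : f a ∈ derivedSeries H n := hd n ⟨a, rfl⟩
  rwa [hn, Subgroup.mem_bot] at h1

/-- perfect subgroups of solvable groups -/
lemma perfect_eq_bot_of_le_solvable {G : Type*} [Group G] {A K : Subgroup G} [Group.IsSolvable K]
    (hA : ⁅A, A⁆ = A) (hle : A ≤ K) : A = ⊥ :=
  (Subgroup.eq_bot_iff_forall _).mpr fun a ha => by
    simpa using congrArg Subtype.val (perfect_hom_eq_one hA (Subgroup.inclusion hle) ⟨a, ha⟩)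

variable {F : Type*} [Field F]

/-- orthogonalisation in dimension three -/
theorem exists_congr_diag (D : FData (Fin 3) F) (h : D.σ ≠ RingHom.id F ∨ D.ε ≠ -1) :
    ∃ (P : GL (Fin 3) F) (d : Fin 3 → F), (∀ i, d i ≠ 0 ∧ D.σ (d i) = D.ε * d i) ∧
      (P : Matrix (Fin 3) (Fin 3) F)ᵀ * (D.B : Matrix (Fin 3) (Fin 3) F) * (P : Matrix (Fin 3) (Fin 3) F).map D.σ
        = diagonal d := by
  have hanis : ∀ W : Submodule F (Fin 3 → F), (∀ w ∈ W, D.form w w = 0) →
      ∀ u ∈ W, ∀ v ∈ W, D.form u v = 0 := by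
    intro W hW u hu v hv
    by_contra ht
    have hx : ∀ x : F, x + D.σ (D.ε * x) = 0 := by
      intro x
      have h1 : D.σ (D.σ (D.form v ((x / D.form u v) • u)))
          = D.σ (D.ε * D.form ((x / D.form u v) • u) v) := by rw [D.flip]
      rw [D.σσ, D.form_smul_left, div_mul_cancel₀ x ht] at h1
      have h2 := hW _ (W.add_mem (W.smul_mem (x / D.form u v) hu) hv)
      rw [D.form_add_left, D.form_add_right, D.form_add_right, hW _ (W.smul_mem _ hu), hW v hv,
        D.form_smul_left, div_mul_cancel₀ x ht, h1] at h2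
      simpa using h2
    have hε : D.ε = -1 := D.σ.injective (by
      have := hx 1
      rw [mul_one] at this
      rw [map_neg, map_one]
      linear_combination this)
    refine h.elim (fun hσ => hσ (RingHom.ext fun x => ?_)) (fun h' => h' hε)
    have := hx x
    rw [hε, map_mul, map_neg, map_one] at this
    simp only [RingHom.id_apply]
    linear_combination -this
  obtain ⟨v₁, h₁⟩ : ∃ v, D.form v v ≠ 0 := by
    by_contra hc
    push_neg at hc
    obtain ⟨⟨u, hu⟩, -⟩ := D.nondeg (Pi.single (0 : Fin 3) (1 : F)) (by simp)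
    exact hu (hanis ⊤ (fun w _ => hc w) u trivial _ trivial)
  have hv₁ : v₁ ≠ 0 := fun h0 => h₁ (by rw [h0]; exact D.form_zero_left 0)
  set W₁ := Submodule.span F ({v₁} : Set (Fin 3 → F)) with hW₁
  have hO₁ : ∀ w ∈ D.orth W₁, D.form w v₁ = 0 ∧ D.form v₁ w = 0 := fun w hw =>
    ⟨hw v₁ (Submodule.mem_span_singleton_self v₁),
      D.form_eq_zero_comm.mp (hw v₁ (Submodule.mem_span_singleton_self v₁))⟩
  have hw₁ : Module.finrank F W₁ = 1 := finrank_span_singleton hv₁
  have hf₁ : Module.finrank F (D.orth W₁) = 2 := by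
    have := D.finrank_add_orth W₁
    rw [hw₁, Fintype.card_fin] at this
    omega
  obtain ⟨v₂, hv₂O, h₂⟩ : ∃ v ∈ D.orth W₁, D.form v v ≠ 0 := by
    by_contra hc
    push_neg at hc
    have htop : W₁ ⊔ D.orth W₁ = ⊤ := by
      refine Submodule.eq_top_of_finrank_eq ?_
      have hd : W₁ ⊓ D.orth W₁ = ⊥ := by
        refine (Submodule.eq_bot_iff _).mpr fun w hw => ?_
        obtain ⟨a, rfl⟩ := Submodule.mem_span_singleton.mp hw.1
        have := (hO₁ _ hw.2).1
        rw [D.form_smul_left, mul_eq_zero] at this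
        rw [this.resolve_right h₁, zero_smul]
      have h' := Submodule.finrank_sup_add_finrank_inf_eq W₁ (D.orth W₁)
      rw [hd, finrank_bot, hf₁, hw₁] at h'
      rw [Module.finrank_fintype_fun_eq_card, Fintype.card_fin]
      omega
    obtain ⟨w, hw, hw0⟩ := Submodule.exists_mem_ne_zero_of_ne_bot (p := D.orth W₁) fun h0 => by
      rw [h0, finrank_bot] at hf₁; omega
    obtain ⟨-, x, hx⟩ := D.nondeg w hw0
    obtain ⟨a, ha, b, hb, rfl⟩ := Submodule.mem_sup.mp (htop ▸ Submodule.mem_top : x ∈ W₁ ⊔ D.orth W₁)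
    exact hx (by rw [D.form_add_right, hw a ha, hanis _ hc w hw b hb, add_zero])
  obtain ⟨h12, h12'⟩ := hO₁ _ hv₂O
  set W₂ := Submodule.span F (Set.range ![v₁, v₂]) with hW₂
  obtain ⟨v₃, hv₃O, hv₃⟩ := Submodule.exists_mem_ne_zero_of_ne_bot (p := D.orth W₂) fun h0 => by
    have h' := D.finrank_add_orth W₂
    rw [h0, finrank_bot, Fintype.card_fin] at h'
    have := finrank_range_le_card (R := F) ![v₁, v₂]
    rw [Set.finrank, ← hW₂, Fintype.card_fin] at this
    omega
  have h31 : D.form v₃ v₁ = 0 := hv₃O _ (Submodule.subset_span ⟨0, rfl⟩)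
  have h32 : D.form v₃ v₂ = 0 := hv₃O _ (Submodule.subset_span ⟨1, rfl⟩)
  have h31' := D.form_eq_zero_comm.mp h31
  have h32' := D.form_eq_zero_comm.mp h32
  set v : Fin 3 → (Fin 3 → F) := ![v₁, v₂, v₃]
  have horth : ∀ i j, i ≠ j → D.form (v i) (v j) = 0 := by
    intro i j hij
    fin_cases i <;> fin_cases j <;> simp_all [v]
  have hli : LinearIndependent F v := by
    rw [Fintype.linearIndependent_iff]
    intro c hc
    rw [Fin.sum_univ_three] at hc
    simp only [v, Matrix.cons_val_zero, Matrix.cons_val_one, Matrix.cons_val, Matrix.head_cons] at hc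
    have e1 := congrArg (fun x => D.form x v₁) hc
    simp only [D.form_add_left, D.form_smul_left, h12, h31, D.form_zero_left, mul_zero, add_zero] at e1
    have e2 := congrArg (fun x => D.form x v₂) hc
    simp only [D.form_add_left, D.form_smul_left, h12', h32, D.form_zero_left, mul_zero, add_zero, zero_add] at e2
    have c0 : c 0 = 0 := (mul_eq_zero.mp e1).resolve_right h₁
    have c1 : c 1 = 0 := (mul_eq_zero.mp e2).resolve_right h₂
    rw [c0, c1, zero_smul, zero_smul, zero_add, zero_add, smul_eq_zero] at hc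
    intro i
    fin_cases i
    · exact c0
    · exact c1
    · exact hc.resolve_right hv₃
  let P : Matrix (Fin 3) (Fin 3) F := Matrix.of fun i j => v j i
  have hP : IsUnit P := Matrix.linearIndependent_cols_iff_isUnit.mp hli
  have key : ∀ i j, (Pᵀ * (D.B : Matrix (Fin 3) (Fin 3) F) * P.map D.σ) i j = D.form (v i) (v j) := by
    intro i j
    rw [← sform_single D.σ (Pᵀ * (D.B : Matrix (Fin 3) (Fin 3) F) * P.map D.σ) i j, ← sform_mulVec]
    have : ∀ k, P *ᵥ Pi.single k 1 = v k := fun k => by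
      ext m; simp [P]
    rw [this, this]
    rfl
  refine ⟨hP.unit, fun i => D.form (v i) (v i), fun i => ?_, ?_⟩
  · refine ⟨fun h0 => ?_, D.flip _ _⟩
    obtain ⟨-, x, hx⟩ := D.nondeg (v i) (hli.ne_zero i)
    have hsp : x ∈ Submodule.span F (Set.range v) := by
      rw [hli.span_eq_top_of_card_eq_finrank (by simp)]; trivial
    refine hx ?_
    have hle : Submodule.span F (Set.range v) ≤ D.orth (Submodule.span F {v i}) := by
      refine Submodule.span_le.mpr ?_
      rintro _ ⟨j, rfl⟩ w hw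
      obtain ⟨a, rfl⟩ := Submodule.mem_span_singleton.mp hw
      rw [D.form_smul_right]
      rcases eq_or_ne j i with rfl | hji
      · exact mul_eq_zero_of_right _ h0
      · rw [horth j i hji, mul_zero]
    exact D.form_eq_zero_comm.mp (hle hsp _ (Submodule.mem_span_singleton_self _))
  · ext i j
    rw [IsUnit.unit_spec, key]
    rcases eq_or_ne i j with rfl | hij
    · simp
    · rw [diagonal_apply_ne _ hij, horth i j hij]

/-- the standard condition: columns orthonormal -/
def Orth (σ : F →+* F) (M : Matrix (Fin 3) (Fin 3) F) : Prop := Mᵀ * M.map σ = 1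

lemma Orth.col {σ : F →+* F} {M : Matrix (Fin 3) (Fin 3) F} (h : Orth σ M) (i j : Fin 3) :
    M 0 i * σ (M 0 j) + M 1 i * σ (M 1 j) + M 2 i * σ (M 2 j) = if i = j then 1 else 0 := by
  have := congrFun (congrFun h i) j
  simpa [Matrix.mul_apply, Fin.sum_univ_three, Matrix.one_apply] using this

/-- the isometry equation of a form similar to the standard one -/
lemma orth_of_congr (σ : F →+* F) {B : Matrix (Fin 3) (Fin 3) F} {P a : GL (Fin 3) F} {c μ : F} (hc : c ≠ 0)
    (hP : (P : Matrix (Fin 3) (Fin 3) F)ᵀ * B * (P : Matrix (Fin 3) (Fin 3) F).map σ = c • 1)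
    (ha : (a : Matrix (Fin 3) (Fin 3) F)ᵀ * B * (a : Matrix (Fin 3) (Fin 3) F).map σ = μ • B) :
    ((P⁻¹ * a * P : GL (Fin 3) F) : Matrix (Fin 3) (Fin 3) F)ᵀ
      * ((P⁻¹ * a * P : GL (Fin 3) F) : Matrix (Fin 3) (Fin 3) F).map σ = μ • 1 := by
  set N : Matrix (Fin 3) (Fin 3) F := ((P⁻¹ * a * P : GL (Fin 3) F) : Matrix (Fin 3) (Fin 3) F)
  have hN : (P : Matrix (Fin 3) (Fin 3) F) * N = (a : Matrix (Fin 3) (Fin 3) F) * (P : Matrix (Fin 3) (Fin 3) F) := by
    rw [← Units.val_mul, ← Units.val_mul]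
    congr 1
    group
  have h1 : ((P : Matrix (Fin 3) (Fin 3) F) * N)ᵀ * B * ((P : Matrix (Fin 3) (Fin 3) F) * N).map σ
      = c • (Nᵀ * N.map σ) := by
    rw [transpose_mul, Matrix.map_mul,
      show Nᵀ * (P : Matrix (Fin 3) (Fin 3) F)ᵀ * B * ((P : Matrix (Fin 3) (Fin 3) F).map σ * N.map σ)
        = Nᵀ * ((P : Matrix (Fin 3) (Fin 3) F)ᵀ * B * (P : Matrix (Fin 3) (Fin 3) F).map σ) * N.map σ by
        simp only [mul_assoc], hP, Matrix.mul_smul, mul_one, Matrix.smul_mul]
  rw [hN, transpose_mul, Matrix.map_mul,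
    show (P : Matrix (Fin 3) (Fin 3) F)ᵀ * (a : Matrix (Fin 3) (Fin 3) F)ᵀ * B
        * ((a : Matrix (Fin 3) (Fin 3) F).map σ * (P : Matrix (Fin 3) (Fin 3) F).map σ)
      = (P : Matrix (Fin 3) (Fin 3) F)ᵀ * ((a : Matrix (Fin 3) (Fin 3) F)ᵀ * B * (a : Matrix (Fin 3) (Fin 3) F).map σ)
        * (P : Matrix (Fin 3) (Fin 3) F).map σ by simp only [mul_assoc],
    ha, Matrix.mul_smul, Matrix.smul_mul, hP, smul_comm] at h1
  exact (smul_right_injective (Matrix (Fin 3) (Fin 3) F) hc h1).symm

lemma mulVec_ne_zero_of_gl (g : GL (Fin 3) F) {x : Fin 3 → F} (hx : x ≠ 0) :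
    (g : Matrix (Fin 3) (Fin 3) F) *ᵥ x ≠ 0 := fun h => hx (by
  have := congrArg (((g⁻¹ : GL (Fin 3) F) : Matrix (Fin 3) (Fin 3) F) *ᵥ ·) h
  simpa [mulVec_mulVec] using this)

/-- each column has one non-zero entry -/
def Mono (M : Matrix (Fin 3) (Fin 3) F) : Prop := ∀ j, ∃ i, ∀ k, k ≠ i → M k j = 0

lemma Mono.exists_eq {g : GL (Fin 3) F} (h : Mono (g : Matrix (Fin 3) (Fin 3) F)) :
    ∃ (s : Equiv.Perm (Fin 3)) (a : Fin 3 → F), (∀ j, a j ≠ 0) ∧
      ∀ i j, (g : Matrix (Fin 3) (Fin 3) F) i j = if i = s j then a j else 0 := by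
  choose s hs using h
  have hne : ∀ j, (g : Matrix (Fin 3) (Fin 3) F) (s j) j ≠ 0 := by
    intro j h0
    refine mulVec_ne_zero_of_gl g (x := Pi.single j 1) (by simp) (funext fun i => ?_)
    simp only [mulVec_single_one, Matrix.col_apply, Pi.zero_apply]
    rcases eq_or_ne i (s j) with rfl | hi
    · exact h0
    · exact hs j i hi
  have hinj : Function.Injective s := by
    intro j k hjk
    by_contra hne'
    refine mulVec_ne_zero_of_gl g
      (x := (g : Matrix (Fin 3) (Fin 3) F) (s k) k • Pi.single j 1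
        - (g : Matrix (Fin 3) (Fin 3) F) (s j) j • Pi.single k 1) ?_ (funext fun i => ?_)
    · intro h0
      have := congrFun h0 j
      simp [Ne.symm hne', hne k] at this
    · simp only [mulVec_sub, mulVec_smul, mulVec_single_one, Pi.sub_apply, Pi.smul_apply, Matrix.col_apply,
        Pi.zero_apply, smul_eq_mul]
      rcases eq_or_ne i (s j) with rfl | hi
      · rw [hjk, mul_comm]; exact sub_self _
      · rw [hs j i hi, hs k i (hjk ▸ hi)]; ring
  refine ⟨Equiv.ofBijective s (Finite.injective_iff_bijective.mp hinj),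
    fun j => (g : Matrix (Fin 3) (Fin 3) F) (s j) j, hne, fun i j => ?_⟩
  show _ = if i = s j then _ else 0
  split
  · subst i; rfl
  · exact hs j i ‹_›

/-- perfect groups of monomial matrices are trivial -/
theorem perfect_eq_bot_of_mono {A : Subgroup (GL (Fin 3) F)} (hA : ⁅A, A⁆ = A)
    (h : ∀ g ∈ A, Mono (g : Matrix (Fin 3) (Fin 3) F)) : A = ⊥ := by
  classical
  choose s a ha hg using fun g : A => (h g.1 g.2).exists_eq
  have hu : ∀ (g : A) (t : Fin 3 → Fin 3),
      (∀ i j, i ≠ t j → ((g : GL (Fin 3) F) : Matrix (Fin 3) (Fin 3) F) i j = 0) → ∀ j, s g j = t j := by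
    intro g t ht j
    by_contra hne
    exact ha g j (by rw [← ht (s g j) j hne, hg, if_pos rfl])
  let f : A →* Equiv.Perm (Fin 3) :=
  { toFun := s
    map_one' := Equiv.ext fun j => hu 1 id (fun i j hij => by simp [one_apply_ne (show i ≠ j from hij)]) j
    map_mul' := fun x y => Equiv.ext fun j => hu (x * y) (fun j => s x (s y j)) (fun i j hij => by
      simp only [Subgroup.coe_mul, Units.val_mul, Matrix.mul_apply, hg, ite_mul, zero_mul, mul_ite, mul_zero]
      refine Finset.sum_eq_zero fun k _ => ?_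
      split_ifs with h1 h2
      · exact absurd (by rw [h2, h1]) hij
      all_goals rfl) j }
  haveI : Group.IsSolvable (Equiv.Perm (Fin 3)) :=
    CfsgLib.Char.isSolvable_of_card_eq_prime_pow_mul Nat.prime_two Nat.prime_three (a := 1) (b := 1)
      (by rw [Nat.card_eq_fintype_card, Fintype.card_perm]; rfl)
  have hs1 : ∀ x : A, s x = 1 := fun x => perfect_hom_eq_one hA f x
  have hd : ∀ x : A, ((x : GL (Fin 3) F) : Matrix (Fin 3) (Fin 3) F) = diagonal (a x) := by
    intro x
    ext i j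
    rw [hg, hs1]
    rcases eq_or_ne i j with rfl | hij <;> simp [*]
  rw [← hA, eq_bot_iff, Subgroup.commutator_le]
  intro x hx y hy
  rw [Subgroup.mem_bot, commutatorElement_eq_one_iff_mul_comm]
  refine Units.ext ?_
  rw [Units.val_mul, Units.val_mul, hd ⟨x, hx⟩, hd ⟨y, hy⟩, diagonal_mul_diagonal, diagonal_mul_diagonal]
  congr 1
  funext i
  exact mul_comm _ _

section kron

variable {X Y : Type} [Fintype X] [DecidableEq X] [Fintype Y] [DecidableEq Y]

/-- Kronecker product of units -/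
def kronU (a : GL X F) (b : GL Y F) : GL (X × Y) F :=
  ⟨(a : Matrix X X F) ⊗ₖ (b : Matrix Y Y F),
    ((a⁻¹ : GL X F) : Matrix X X F) ⊗ₖ ((b⁻¹ : GL Y F) : Matrix Y Y F),
    by rw [← Matrix.mul_kronecker_mul, a.mul_inv, b.mul_inv, one_kronecker_one],
    by rw [← Matrix.mul_kronecker_mul, a.inv_mul, b.inv_mul, one_kronecker_one]⟩

lemma kronecker_eq_factor {A C : Matrix X X F} {B D : Matrix Y Y F} (h : A ⊗ₖ B = C ⊗ₖ D) (hB : B ≠ 0) :
    ∃ c : F, A = c • C := by
  obtain ⟨i, j, hij⟩ : ∃ i j, B i j ≠ 0 := by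
    by_contra hc
    push_neg at hc
    exact hB (Matrix.ext hc)
  refine ⟨D i j / B i j, Matrix.ext fun x y => ?_⟩
  have := congrFun (congrFun h (x, i)) (y, j)
  simp only [kroneckerMap_apply] at this
  rw [Matrix.smul_apply, smul_eq_mul, div_mul_eq_mul_div, eq_div_iff hij, this]
  ring

variable {ι : Type} [Fintype ι] [DecidableEq ι] (e : ι ≃ X × Y) (P : GL ι F) (p : GL X F) (q : GL Y F)

/-- the change of coordinates induced on the factors -/
def moveCoord : GL ι F := P * glReindex e.symm (kronU p q)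

lemma tens_moveCoord (A : Matrix X X F) (B : Matrix Y Y F) :
    tens e (moveCoord e P p q) A B = tens e P (cj p A) (cj q B) := by
  rw [tens, tens, moveCoord, ← cj_cj]
  congr 1
  simp only [cj, Matrix.mul_kronecker_mul, map_mul]
  rfl

lemma trans_moveCoord (D : FData ι F) {G₁ : Matrix X X F} {G₂ : Matrix Y Y F}
    (h : ((D.trans e P).B : Matrix (X × Y) (X × Y) F) = G₁ ⊗ₖ G₂) :
    ((D.trans e (moveCoord e P p q)).B : Matrix (X × Y) (X × Y) F)
      = ((p : Matrix X X F)ᵀ * G₁ * (p : Matrix X X F).map D.σ) ⊗ₖ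
        ((q : Matrix Y Y F)ᵀ * G₂ * (q : Matrix Y Y F).map D.σ) := by
  rw [FData.trans_B] at h ⊢
  have hK : ((glReindex e.symm (kronU p q) : GL ι F) : Matrix ι ι F)
      = Matrix.reindexAlgEquiv F F e.symm ((p : Matrix X X F) ⊗ₖ (q : Matrix Y Y F)) := rfl
  have hinv : ∀ M : Matrix (X × Y) (X × Y) F,
      Matrix.reindexAlgEquiv F F e (Matrix.reindexAlgEquiv F F e.symm M) = M := fun M => by ext; simp
  have hT : ∀ M : Matrix (X × Y) (X × Y) F, (Matrix.reindexAlgEquiv F F e.symm M)ᵀ
      = Matrix.reindexAlgEquiv F F e.symm Mᵀ := fun M => by ext; simp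
  have hM : ∀ M : Matrix (X × Y) (X × Y) F, (Matrix.reindexAlgEquiv F F e.symm M).map D.σ
      = Matrix.reindexAlgEquiv F F e.symm (M.map D.σ) := fun M => by ext; simp
  rw [moveCoord, Units.val_mul, transpose_mul, Matrix.map_mul, hK, hT, hM]
  rw [show ∀ (u v w x y : Matrix ι ι F), u * v * w * (x * y) = u * (v * w * x) * y from
    fun u v w x y => by simp only [mul_assoc]]
  rw [map_mul, map_mul, hinv, hinv, h, ← kroneckerMap_transpose, ← Matrix.mul_kronecker_mul]
  rw [show ((kroneckerMap (· * ·) (p : Matrix X X F) (q : Matrix Y Y F)).map D.σ)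
      = (p : Matrix X X F).map D.σ ⊗ₖ (q : Matrix Y Y F).map D.σ from by ext; simp,
    ← Matrix.mul_kronecker_mul]

end kron

/-- tensor factors of an isometry in orthonormal coordinates -/
lemma factors_of_isom {ι : Type} [Fintype ι] [DecidableEq ι] (D : FData ι F) {e : ι ≃ Fin 3 × Fin 3} {Q : GL ι F}
    {c : F} (hc : c ≠ 0) (hQ : ((D.trans e Q).B : Matrix (Fin 3 × Fin 3) (Fin 3 × Fin 3) F) = c • 1)
    {g : GL ι F} (hg : g ∈ D.isom) {a b : GL (Fin 3) F}
    (hgt : (g : Matrix ι ι F) = tens e Q (a : Matrix _ _ F) (b : Matrix _ _ F)) :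
    ∃ μ : F, μ ≠ 0 ∧ D.σ μ = μ ∧
      (a : Matrix (Fin 3) (Fin 3) F)ᵀ * (a : Matrix (Fin 3) (Fin 3) F).map D.σ = μ • 1 ∧
      (b : Matrix (Fin 3) (Fin 3) F)ᵀ * (b : Matrix (Fin 3) (Fin 3) F).map D.σ = μ⁻¹ • 1 := by
  have h := (FData.mem_isom _).mp (D.pull_mem_isom e Q hg)
  rw [coe_pull, hgt, tens_eq_push, pullMat_pushMat, hQ, show (D.trans e Q).σ = D.σ from rfl,
    Matrix.mul_smul, mul_one, Matrix.smul_mul] at h
  have h' := smul_right_injective (Matrix (Fin 3 × Fin 3) (Fin 3 × Fin 3) F) hc h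
  rw [← kroneckerMap_transpose,
    show ((kroneckerMap (· * ·) (a : Matrix (Fin 3) (Fin 3) F) (b : Matrix (Fin 3) (Fin 3) F)).map D.σ)
      = (a : Matrix (Fin 3) (Fin 3) F).map D.σ ⊗ₖ (b : Matrix (Fin 3) (Fin 3) F).map D.σ from by ext; simp,
    ← Matrix.mul_kronecker_mul, ← one_kronecker_one] at h'
  set M := (a : Matrix (Fin 3) (Fin 3) F)ᵀ * (a : Matrix (Fin 3) (Fin 3) F).map D.σ
  set M' := (b : Matrix (Fin 3) (Fin 3) F)ᵀ * (b : Matrix (Fin 3) (Fin 3) F).map D.σ
  have hM' : M' ≠ 0 := (((Matrix.isUnit_transpose _).mpr b.isUnit).mul (b.isUnit.map D.σ.mapMatrix)).ne_zero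
  have hM : M ≠ 0 := (((Matrix.isUnit_transpose _).mpr a.isUnit).mul (a.isUnit.map D.σ.mapMatrix)).ne_zero
  obtain ⟨μ, hμ⟩ := kronecker_eq_factor h' hM'
  have hμ0 : μ ≠ 0 := fun h0 => hM (by rw [hμ, h0, zero_smul])
  refine ⟨μ, hμ0, ?_, hμ, ?_⟩
  · have h1 := congrArg (fun N : Matrix (Fin 3) (Fin 3) F => ((N.map D.σ)ᵀ) 0 0) hμ
    simp only [M, transpose_apply, Matrix.map_apply, Matrix.mul_apply, Matrix.smul_apply, smul_eq_mul,
      map_sum, map_mul, D.σσ, one_apply_eq, map_one, mul_one] at h1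
    rw [← h1]
    have h2 := congrFun (congrFun hμ 0) 0
    simp only [M, Matrix.mul_apply, transpose_apply, Matrix.map_apply, Matrix.smul_apply, smul_eq_mul,
      one_apply_eq, mul_one] at h2
    rw [← h2]
    exact Finset.sum_congr rfl fun i _ => mul_comm _ _
  · refine Matrix.ext fun i j => ?_
    have h1 := congrFun (congrFun h' (0, i)) (0, j)
    simp only [kroneckerMap_apply, hμ, Matrix.smul_apply, one_apply_eq, smul_eq_mul, mul_one, one_mul] at h1
    rw [Matrix.smul_apply, smul_eq_mul, ← h1, ← mul_assoc, inv_mul_cancel₀ hμ0, one_mul]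

end general

section three

variable {F : Type*} [Field F] [Fintype F]

lemma sq_eq_one (hF : Fintype.card F = 3) {a : F} (ha : a ≠ 0) : a * a = 1 := by
  have h := FiniteField.pow_card_sub_one_eq_one a ha
  rwa [hF, sq] at h

lemma two_ne_zero' (hF : Fintype.card F = 3) : (2 : F) ≠ 0 := two_ne_zero_iff_odd.mpr (by rw [hF]; decide)

lemma orth_mono (hF : Fintype.card F = 3) {M : Matrix (Fin 3) (Fin 3) F} (h : Orth (RingHom.id F) M) :
    Mono M := by
  intro j
  have hc := h.col j j
  simp only [RingHom.id_apply, if_true] at hc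
  have h2 := two_ne_zero' hF
  have h3 : (3 : F) = 0 := by
    have := Nat.cast_card_eq_zero F
    rw [hF] at this
    simpa using this
  by_cases x : M 0 j = 0
  · by_cases y : M 1 j = 0
    · exact ⟨2, fun k hk => by fin_cases k <;> simp_all⟩
    · by_cases z : M 2 j = 0
      · exact ⟨1, fun k hk => by fin_cases k <;> simp_all⟩
      · rw [x, sq_eq_one hF y, sq_eq_one hF z] at hc
        exact absurd (by linear_combination hc : (1 : F) = 0) one_ne_zero
  · by_cases y : M 1 j = 0
    · by_cases z : M 2 j = 0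
      · exact ⟨0, fun k hk => by fin_cases k <;> simp_all⟩
      · rw [y, sq_eq_one hF x, sq_eq_one hF z] at hc
        exact absurd (by linear_combination hc : (1 : F) = 0) one_ne_zero
    · by_cases z : M 2 j = 0
      · rw [z, sq_eq_one hF x, sq_eq_one hF y] at hc
        exact absurd (by linear_combination hc : (1 : F) = 0) one_ne_zero
      · rw [sq_eq_one hF x, sq_eq_one hF y, sq_eq_one hF z] at hc
        exact absurd (by linear_combination hc : (2 : F) = 0) h2

/-- orthonormal coordinates up to a scalar -/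
theorem exists_congr_scalar_three (hF : Fintype.card F = 3) (D : FData (Fin 3) F) (hσ : D.σ = RingHom.id F) :
    ∃ (P : GL (Fin 3) F) (c : F), c ≠ 0 ∧
      (P : Matrix (Fin 3) (Fin 3) F)ᵀ * (D.B : Matrix (Fin 3) (Fin 3) F) * (P : Matrix (Fin 3) (Fin 3) F).map D.σ
        = c • 1 := by
  have h2 := two_ne_zero' hF
  have h3 : (3 : F) = 0 := by
    have := Nat.cast_card_eq_zero F
    rw [hF] at this
    simpa using this
  have hε : D.ε ≠ -1 := by
    intro hε
    have h := congrArg Matrix.det D.herm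
    rw [det_transpose, hσ, det_smul, hε, Fintype.card_fin] at h
    simp only [RingHom.coe_id, Matrix.map_id] at h
    have hd : (D.B : Matrix (Fin 3) (Fin 3) F).det ≠ 0 :=
      ((Matrix.isUnit_iff_isUnit_det _).mp D.B.isUnit).ne_zero
    exact mul_ne_zero h2 hd (by linear_combination h)
  obtain ⟨P, d, hd, hP⟩ := exists_congr_diag D (Or.inr hε)
  have hval : ∀ i j, d i = d j ∨ d i = -d j := fun i j => by
    rw [← mul_self_eq_mul_self_iff, sq_eq_one hF (hd i).1, sq_eq_one hF (hd j).1]
  have fix : ∀ (i j k : Fin 3), i ≠ j → i ≠ k → j ≠ k → d i = d j → d k = - d i →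
      ∃ (E : GL (Fin 3) F) (c : F), c ≠ 0 ∧
        (E : Matrix (Fin 3) (Fin 3) F)ᵀ * diagonal d * (E : Matrix (Fin 3) (Fin 3) F) = c • 1 := by
    intro i j k hij hik hjk hdij hdk
    let E : Matrix (Fin 3) (Fin 3) F := Matrix.of fun r c =>
      if r = k then (if c = k then 1 else 0) else if c = k then 0 else if r = j ∧ c = j then -1 else 1
    have hE : Eᵀ * diagonal d * E = (d k) • 1 := by
      have hk2 : d k = 2 * d i := by rw [hdk]; linear_combination (-d i) * h3
      ext r c
      rw [Matrix.smul_apply, smul_eq_mul]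
      fin_cases i <;> fin_cases j <;> first | exact absurd rfl hij | fin_cases k <;>
        first
          | exact absurd rfl hik
          | exact absurd rfl hjk
          | (simp only [Fin.zero_eta, Fin.mk_one, Fin.reduceFinMk] at hdij hdk hk2 ⊢
             fin_cases r <;> fin_cases c <;>
               simp [E, Matrix.mul_apply, Fin.sum_univ_three, Matrix.diagonal, ← hdij] <;>
               (try linear_combination -hk2))
    have hu : IsUnit E := by
      rw [Matrix.isUnit_iff_isUnit_det, isUnit_iff_ne_zero]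
      intro h0
      have h := congrArg Matrix.det hE
      simp [det_mul, h0] at h
      exact (hd k).1 (eq_zero_of_pow_eq_zero h.symm)
    exact ⟨hu.unit, d k, (hd k).1, hE⟩
  obtain ⟨E, c, hc, hE⟩ : ∃ (E : GL (Fin 3) F) (c : F), c ≠ 0 ∧
      (E : Matrix (Fin 3) (Fin 3) F)ᵀ * diagonal d * (E : Matrix (Fin 3) (Fin 3) F) = c • 1 := by
    rcases hval 1 0 with h10 | h10 <;> rcases hval 2 0 with h20 | h20
    · refine ⟨1, d 0, (hd 0).1, ?_⟩
      rw [Units.val_one, transpose_one, one_mul, mul_one, Matrix.smul_one_eq_diagonal]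
      congr 1; funext i; fin_cases i <;> simp [h10, h20]
    · exact fix 0 1 2 (by decide) (by decide) (by decide) h10.symm h20
    · exact fix 0 2 1 (by decide) (by decide) (by decide) h20.symm h10
    · exact fix 1 2 0 (by decide) (by decide) (by decide) (by rw [h10, h20]) (by rw [h10, neg_neg])
  refine ⟨P * E, c, hc, ?_⟩
  rw [hσ] at hP ⊢
  simp only [RingHom.coe_id, Matrix.map_id, Units.val_mul, transpose_mul] at hP ⊢
  rw [← hE, ← hP]
  simp only [mul_assoc]

/-- scaled orthogonality over the field of three elements is orthogonality -/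
lemma mu_eq_one (hF : Fintype.card F = 3) {a : GL (Fin 3) F} {μ : F} (hμ : μ ≠ 0)
    (h : (a : Matrix (Fin 3) (Fin 3) F)ᵀ * (a : Matrix (Fin 3) (Fin 3) F).map (RingHom.id F) = μ • 1) : μ = 1 := by
  have hd := congrArg Matrix.det h
  simp only [RingHom.coe_id, Matrix.map_id, det_mul, det_transpose, det_smul, det_one, mul_one,
    Fintype.card_fin] at hd
  rw [sq_eq_one hF ((Matrix.isUnit_iff_isUnit_det _).mp a.isUnit).ne_zero] at hd
  linear_combination -hd - μ * sq_eq_one hF hμ

end three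

section four

variable {F : Type*} [Field F] [Fintype F]

lemma card_eq_two_sq (hF : Fintype.card F = 4) : Fintype.card F = 2 ^ 2 := by rw [hF]; rfl

lemma σ_eq_sq (hF : Fintype.card F = 4) {σ : F →+* F} (hσσ : ∀ a, σ (σ a) = a) (hσ : σ ≠ RingHom.id F) (a : F) :
    σ a = a * a := by
  classical
  obtain ⟨w, hw⟩ : ∃ w, σ w ≠ w := by
    by_contra hc
    push_neg at hc
    exact hσ (RingHom.ext hc)
  have h2 : (2 : F) = 0 := by
    haveI := ringChar.charP F
    obtain ⟨n, hp, hn⟩ := FiniteField.card F (ringChar F)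
    have hdiv : ringChar F ∣ 2 ^ 2 := by
      rw [show 2 ^ 2 = Fintype.card F by rw [hF]; rfl, hn]
      exact dvd_pow_self _ n.pos.ne'
    have := (Nat.prime_dvd_prime_iff_eq hp Nat.prime_two).mp (hp.dvd_of_dvd_pow hdiv)
    have hc := CharP.cast_eq_zero F (ringChar F)
    rw [this] at hc
    exact_mod_cast hc
  have hw0 : w ≠ 0 := fun h => hw (by rw [h, map_zero])
  have hw1 : w ≠ 1 := fun h => hw (by rw [h, map_one])
  have h3 : w ^ 3 = 1 := by
    have := FiniteField.pow_card_sub_one_eq_one w hw0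
    rwa [hF] at this
  have hall : ∀ x : F, x = 0 ∨ x = 1 ∨ x = w ∨ x = w * w := by
    have hww1 : w * w ≠ 1 := fun h => hw1 (by linear_combination h3 - w * h)
    have hww : w * w ≠ w := fun h => hw1 (mul_right_cancel₀ hw0 (h.trans (one_mul w).symm))
    have hcard : ({0, 1, w, w * w} : Finset F).card = Fintype.card F := by
      rw [hF, Finset.card_insert_of_notMem, Finset.card_insert_of_notMem, Finset.card_insert_of_notMem,
        Finset.card_singleton] <;> simp [hw0, hw1, hww, hww1, Ne.symm hw0, Ne.symm hw1, Ne.symm hww, Ne.symm hww1, mul_eq_zero]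
    intro x
    have := Finset.eq_univ_of_card _ hcard ▸ Finset.mem_univ x
    simpa using this
  have hσw : σ w = w * w := by
    rcases hall (σ w) with h | h | h | h
    · exact absurd (σ.injective (h.trans (map_zero σ).symm)) hw0
    · exact absurd (σ.injective (h.trans (map_one σ).symm)) hw1
    · exact absurd h hw
    · exact h
  rcases hall a with rfl | rfl | rfl | rfl
  · simp
  · simp
  · exact hσw
  · rw [map_mul, hσw]

lemma norm_eq_one (hF : Fintype.card F = 4) {σ : F →+* F} (hσσ : ∀ a, σ (σ a) = a) (hσ : σ ≠ RingHom.id F) {a : F}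
    (ha : a ≠ 0) : a * σ a = 1 := by
  have := FiniteField.pow_card_sub_one_eq_one a ha
  rw [hF] at this
  rw [σ_eq_sq hF hσσ hσ]
  linear_combination this

lemma eq_one_of_fixed (hF : Fintype.card F = 4) {σ : F →+* F} (hσσ : ∀ a, σ (σ a) = a) (hσ : σ ≠ RingHom.id F)
    {a : F} (ha : a ≠ 0) (h : σ a = a) : a = 1 := by
  rw [σ_eq_sq hF hσσ hσ] at h
  exact mul_right_cancel₀ ha (h.trans (one_mul a).symm)

theorem exists_congr_scalar_four (hF : Fintype.card F = 4) (D : FData (Fin 3) F) (hσ : D.σ ≠ RingHom.id F) :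
    ∃ (P : GL (Fin 3) F) (c : F), c ≠ 0 ∧
      (P : Matrix (Fin 3) (Fin 3) F)ᵀ * (D.B : Matrix (Fin 3) (Fin 3) F) * (P : Matrix (Fin 3) (Fin 3) F).map D.σ
        = c • 1 := by
  obtain ⟨P, d, hd, hP⟩ := exists_congr_diag D (Or.inl hσ)
  refine ⟨P, d 0, (hd 0).1, hP.trans ?_⟩
  rw [Matrix.smul_one_eq_diagonal]
  congr 1
  funext i
  have h1 : D.σ (d i / d 0) = d i / d 0 := by
    rw [map_div₀, (hd i).2, (hd 0).2, mul_div_mul_left _ _ D.ε_ne_zero]
  exact (div_eq_one_iff_eq (hd 0).1).mp
    (eq_one_of_fixed hF D.σσ hσ (div_ne_zero (hd i).1 (hd 0).1) h1)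

end four

end CfsgLib.Asch.Tiny
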