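import Cfsg.Agent.Lib.Aschbacher.FormSmallBase

/-!
# The group of order twenty-seven normalised by the unitary group of degree three over four elements
-/

set_option autoImplicit false

namespace CfsgLib.Asch.Tiny

open Matrix Cfsg.Geo
open scoped MatrixGroups Kronecker

local instance tinyRingFinThree : CommRing (Fin 3) := Fin.instCommRing 3

/-- powers of a cube root of unity -/
def chi {F : Type*} [Field F] (w : F) (a : Fin 3) : F := w ^ (a : ℕ)

/-- shifts composed with diagonal matrices -/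
def wMat {F : Type*} [Field F] (w : F) (a b : Fin 3) : Matrix (Fin 3) (Fin 3) F :=
  Matrix.of fun i j => if i = j + a then chi w (b * j) else 0

/-- the matrix of characters -/
def fMat {F : Type*} [Field F] (w : F) : Matrix (Fin 3) (Fin 3) F := Matrix.of fun i j => chi w (i * j)

/-- a primitive cube root of unity -/
structure Cube {F : Type*} [Field F] (w : F) : Prop where
  cube : w ^ 3 = 1
  ne_one : w ≠ 1

section

variable {F : Type*} [Field F] {w : F}

lemma chi_zero : chi w 0 = 1 := by simp [chi]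

namespace Cube

variable (hw : Cube w)
include hw

lemma chi_add (a b : Fin 3) : chi w (a + b) = chi w a * chi w b := by
  rw [chi, chi, chi, ← pow_add, Fin.val_add]
  exact (pow_eq_pow_mod _ hw.cube).symm

lemma chi_ne_zero (a : Fin 3) : chi w a ≠ 0 := pow_ne_zero _ fun h => by
  have := hw.cube
  rw [h] at this
  simp at this

lemma sum_sq : 1 + w + w ^ 2 = 0 :=
  (mul_eq_zero.mp (show (w - 1) * (1 + w + w ^ 2) = 0 by linear_combination hw.cube)).resolve_left
    (sub_ne_zero.mpr hw.ne_one)

lemma chi_eq_one {a : Fin 3} (h : chi w a = 1) : a = 0 := by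
  fin_cases a
  · rfl
  · exact absurd (by simpa [chi] using h) hw.ne_one
  · refine absurd ?_ hw.ne_one
    have h' : w ^ 2 = 1 := by simpa [chi] using h
    linear_combination hw.cube - w * h'

lemma sum_chi {d : Fin 3} (hd : d ≠ 0) : ∑ k, chi w (d * k) = 0 := by
  rw [Fin.sum_univ_three]
  fin_cases d
  · exact absurd rfl hd
  · simpa [chi] using hw.sum_sq
  · show chi w 0 + chi w 2 + chi w 1 = 0
    simp [chi]
    linear_combination hw.sum_sq

lemma wMat_mul (a b c d : Fin 3) :
    wMat w a b * wMat w c d = chi w (b * c) • wMat w (a + c) (b + d) := by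
  ext i k
  rw [Matrix.mul_apply, Finset.sum_eq_single (k + c) (fun j _ hj => by simp [wMat, hj])
    (fun h => absurd (Finset.mem_univ _) h)]
  simp only [wMat, Matrix.of_apply, Matrix.smul_apply, smul_eq_mul, if_true, ite_mul, zero_mul, mul_ite, mul_zero]
  rw [show k + c + a = k + (a + c) by ring]
  split
  · rw [← hw.chi_add, ← hw.chi_add]; congr 1; ring
  · rfl

omit hw in
lemma wMat_zero : wMat w 0 0 = 1 := by
  ext i j
  simp [wMat, Matrix.one_apply, chi_zero]

lemma single_mem_span (i j : Fin 3) :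
    chi w 0 • Matrix.single i j (3 : F) ∈ Submodule.span F (Set.range fun p : Fin 3 × Fin 3 => wMat w p.1 p.2) := by
  have h : chi w 0 • Matrix.single i j (3 : F) = ∑ b, chi w (-(b * j)) • wMat w (i - j) b := by
    ext r k
    rw [chi_zero, one_smul, Matrix.sum_apply]
    simp only [Matrix.smul_apply, smul_eq_mul, wMat, Matrix.of_apply, mul_ite, mul_zero, Matrix.single_apply]
    by_cases hr : r = k + (i - j)
    · simp only [hr, if_true, ← hw.chi_add]
      have e : ∀ b : Fin 3, -(b * j) + b * k = (k - j) * b := fun b => by ring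
      simp only [e]
      by_cases hk : k = j
      · subst hk
        simp [chi_zero]
      · rw [hw.sum_chi (sub_ne_zero.mpr hk), if_neg]
        exact fun h => hk h.2.symm
    · rw [if_neg fun h => hr (by rw [← h.1, ← h.2]; ring)]
      simp [hr]
  rw [h]
  exact Submodule.sum_mem _ fun b _ => Submodule.smul_mem _ _ (Submodule.subset_span ⟨(i - j, b), rfl⟩)

lemma fMat_mul_wMat (a b : Fin 3) :
    fMat w * wMat w a b = (chi w (-(a * b)) • wMat w (-b) a) * fMat w := by
  ext i k
  rw [Matrix.mul_apply, Matrix.mul_apply, Finset.sum_eq_single (k + a) (fun j _ hj => by simp [wMat, hj])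
    (fun h => absurd (Finset.mem_univ _) h), Finset.sum_eq_single (i + b) (fun j _ hj => by
      have : i ≠ j + -b := fun h => hj (by rw [h]; ring)
      simp [wMat, this]) (fun h => absurd (Finset.mem_univ _) h)]
  simp only [fMat, wMat, Matrix.of_apply, Matrix.smul_apply, smul_eq_mul, if_true, add_neg_cancel_right,
    ← hw.chi_add]
  congr 1
  ring

end Cube

lemma affine_shift : ∀ s : Fin 3 → Fin 3, Function.Injective s → ∀ a, ∃ a', ∀ k, s (k + a) = s k + a' := by decide

lemma affine_diff : ∀ (f : Fin 3 → Fin 3) (a : Fin 3), ∃ c d, ∀ k, f (k + a) = f k + c + d * k := by decide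

lemma affine_perm : ∀ s : Fin 3 → Fin 3, Function.Injective s → ∀ d, ∃ c b, ∀ k, d * k = c + b * s k := by decide

lemma rot_anisotropic : ∀ a b : Fin 3, -(b * b) - a * a = 0 → a = 0 ∧ b = 0 := by decide

lemma eq_of_sum_sub : ∀ a : Fin 3, a + a + a = 0 := by decide

/-- the matrices permuting `χ c • wMat a b` among themselves -/
def normSet (w : F) : Set (GL (Fin 3) F) :=
  {g | ∀ a b, ∃ c a' b', (g : Matrix (Fin 3) (Fin 3) F) * wMat w a b
    = (chi w c • wMat w a' b') * (g : Matrix (Fin 3) (Fin 3) F)}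

/-- the normaliser -/
def normGrp [Finite F] (hw : Cube w) : Subgroup (GL (Fin 3) F) where
  carrier := normSet w
  one_mem' a b := ⟨0, a, b, by simp [chi_zero]⟩
  mul_mem' {g h} hg hh a b := by
    obtain ⟨c, a', b', e1⟩ := hh a b
    obtain ⟨c', a'', b'', e2⟩ := hg a' b'
    refine ⟨c + c', a'', b'', ?_⟩
    rw [Units.val_mul, mul_assoc, e1, Matrix.smul_mul, Matrix.mul_smul, ← mul_assoc, e2, hw.chi_add]
    simp only [Matrix.smul_mul, smul_smul, mul_assoc]
  inv_mem' {g} hg := by
    have hp : ∀ n : ℕ, g ^ n ∈ normSet w := by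
      intro n
      induction n with
      | zero => rw [pow_zero]; exact fun a b => ⟨0, a, b, by simp [chi_zero]⟩
      | succ n ih =>
        intro a b
        obtain ⟨c, a', b', e1⟩ := hg a b
        obtain ⟨c', a'', b'', e2⟩ := ih a' b'
        refine ⟨c + c', a'', b'', ?_⟩
        rw [pow_succ, Units.val_mul, mul_assoc, e1, Matrix.smul_mul, Matrix.mul_smul, ← mul_assoc, e2,
          hw.chi_add]
        simp only [Matrix.smul_mul, smul_smul, mul_assoc]
    have : g⁻¹ = g ^ (orderOf g - 1) := by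
      refine inv_eq_of_mul_eq_one_left ?_
      rw [← pow_succ, Nat.sub_add_cancel (orderOf_pos g), pow_orderOf_eq_one]
    exact this ▸ hp _

lemma mono_mem_normGrp [Finite F] (hw : Cube w) (hall : ∀ x : F, x ≠ 0 → ∃ k, x = chi w k) {g : GL (Fin 3) F}
    (hg : Mono (g : Matrix (Fin 3) (Fin 3) F)) : g ∈ normGrp hw := by
  obtain ⟨s, d, hd, he⟩ := hg.exists_eq
  choose f hf using fun j => hall (d j) (hd j)
  intro a b
  obtain ⟨a', ha'⟩ := affine_shift s s.injective a
  obtain ⟨c₀, d₀, hc₀⟩ := affine_diff f a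
  obtain ⟨c₁, b', hc₁⟩ := affine_perm s s.injective (d₀ + b)
  refine ⟨c₀ + c₁, a', b', ?_⟩
  ext i k
  rw [Matrix.mul_apply, Matrix.mul_apply, Finset.sum_eq_single (k + a) (fun j _ hj => by simp [wMat, hj])
    (fun h => absurd (Finset.mem_univ _) h), Finset.sum_eq_single (s k) (fun j _ hj => by simp [he, hj])
    (fun h => absurd (Finset.mem_univ _) h)]
  simp only [he, hf, wMat, Matrix.of_apply, Matrix.smul_apply, smul_eq_mul, if_true, ha', ite_mul, zero_mul,
    mul_ite, mul_zero]
  split
  · rw [← hw.chi_add, ← hw.chi_add, ← hw.chi_add, hc₀]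
    congr 1
    linear_combination hc₁ k
  · rfl

end

section unitary

variable {F : Type*} [Field F] [Fintype F] (hF : Fintype.card F = 4) {σ : F →+* F} (hσσ : ∀ a, σ (σ a) = a)
  (hσ : σ ≠ RingHom.id F)

include hF hσσ hσ

lemma two_eq_zero : (2 : F) = 0 := by
  have h := σ_eq_sq hF hσσ hσ (1 + 1)
  rw [map_add, map_one] at h
  linear_combination -h

lemma exists_cube : ∃ w : F, Cube w ∧ ∀ x : F, x ≠ 0 → ∃ k, x = chi w k := by
  classical
  obtain ⟨w, hw⟩ : ∃ w, σ w ≠ w := by
    by_contra hc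
    push_neg at hc
    exact hσ (RingHom.ext hc)
  have hw0 : w ≠ 0 := fun h => hw (by rw [h, map_zero])
  have hC : Cube w := ⟨by
    have := FiniteField.pow_card_sub_one_eq_one w hw0
    rwa [hF] at this, fun h => hw (by rw [h, map_one])⟩
  refine ⟨w, hC, ?_⟩
  let f : Option (Fin 3) → F := fun o => o.elim 0 (chi w)
  have hf : Function.Injective f := by
    intro o o' h
    rcases o with _ | a <;> rcases o' with _ | b
    · rfl
    · exact absurd h.symm (hC.chi_ne_zero b)
    · exact absurd h (hC.chi_ne_zero a)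
    · have hab : chi w (a - b) * chi w b = 1 * chi w b := by
        rw [← hC.chi_add, sub_add_cancel, one_mul]; exact h
      rw [sub_eq_zero.mp (hC.chi_eq_one (mul_right_cancel₀ (hC.chi_ne_zero b) hab))]
  have hbij := (Fintype.bijective_iff_injective_and_card f).mpr ⟨hf, by simp [hF]⟩
  intro x hx
  obtain ⟨_ | k, hk⟩ := hbij.2 x
  · exact absurd hk.symm hx
  · exact ⟨k, hk.symm⟩

lemma orth_col_cases {M : Matrix (Fin 3) (Fin 3) F} (h : Orth σ M) (j : Fin 3) :
    (∃ i, ∀ k, k ≠ i → M k j = 0) ∨ ∀ k, M k j ≠ 0 := by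
  have hc := h.col j j
  rw [if_pos rfl] at hc
  have h2 := two_eq_zero hF hσσ hσ
  by_cases x : M 0 j = 0 <;> by_cases y : M 1 j = 0 <;> by_cases z : M 2 j = 0
  · exact Or.inl ⟨0, fun k hk => by fin_cases k <;> simp_all⟩
  · exact Or.inl ⟨2, fun k hk => by fin_cases k <;> simp_all⟩
  · exact Or.inl ⟨1, fun k hk => by fin_cases k <;> simp_all⟩
  · rw [x, norm_eq_one hF hσσ hσ y, norm_eq_one hF hσσ hσ z] at hc
    exact absurd (by linear_combination h2 - hc : (1 : F) = 0) one_ne_zero
  · exact Or.inl ⟨0, fun k hk => by fin_cases k <;> simp_all⟩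
  · rw [y, norm_eq_one hF hσσ hσ x, norm_eq_one hF hσσ hσ z] at hc
    exact absurd (by linear_combination h2 - hc : (1 : F) = 0) one_ne_zero
  · rw [z, norm_eq_one hF hσσ hσ x, norm_eq_one hF hσσ hσ y] at hc
    exact absurd (by linear_combination h2 - hc : (1 : F) = 0) one_ne_zero
  · exact Or.inr fun k => by fin_cases k <;> assumption

lemma orth_mono_of_col {M : Matrix (Fin 3) (Fin 3) F} (h : Orth σ M) {i₀ : Fin 3}
    (h₀ : ∀ k, k ≠ i₀ → M k 0 = 0) : Mono M := by
  intro j
  rcases orth_col_cases hF hσσ hσ h j with hj | hj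
  · exact hj
  rcases eq_or_ne j 0 with rfl | hj0
  · exact ⟨i₀, h₀⟩
  have hne : M i₀ 0 ≠ 0 := fun hz => by
    have hc := h.col 0 0
    have : ∀ k, M k 0 = 0 := fun k => by
      rcases eq_or_ne k i₀ with rfl | hk
      · exact hz
      · exact h₀ k hk
    simp [this] at hc
  have hc := h.col 0 j
  rw [if_neg (Ne.symm hj0)] at hc
  refine absurd ?_ (mul_ne_zero hne fun h0 => hj i₀ (σ.injective (h0.trans (map_zero σ).symm)))
  fin_cases i₀
  · simpa [h₀ 1 (by decide), h₀ 2 (by decide)] using hc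
  · simpa [h₀ 0 (by decide), h₀ 2 (by decide)] using hc
  · simpa [h₀ 0 (by decide), h₀ 1 (by decide)] using hc

lemma sigma_chi {w : F} (hw : Cube w) (a : Fin 3) : σ (chi w a) = chi w (-a) := by
  rw [σ_eq_sq hF hσσ hσ, ← hw.chi_add]
  congr 1
  linear_combination eq_of_sum_sub a

lemma fMat_orth {w : F} (hw : Cube w) : Orth σ (fMat w) := by
  ext i j
  simp only [Matrix.mul_apply, transpose_apply, fMat, Matrix.of_apply, Matrix.map_apply,
    sigma_chi hF hσσ hσ hw, ← hw.chi_add]
  rw [show (fun k => chi w (k * i + -(k * j))) = fun k => chi w ((i - j) * k) from funext fun k => by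
    congr 1; ring]
  rcases eq_or_ne i j with rfl | hij
  · simp [chi_zero]
    linear_combination two_eq_zero hF hσσ hσ
  · rw [one_apply_ne hij, hw.sum_chi (sub_ne_zero.mpr hij)]

omit [Fintype F] hF hσσ hσ in
lemma Orth.mul {M N : Matrix (Fin 3) (Fin 3) F} (hM : Orth σ M) (hN : Orth σ N) : Orth σ (M * N) := by
  show (M * N)ᵀ * (M * N).map σ = 1
  rw [transpose_mul, Matrix.map_mul, mul_assoc, ← mul_assoc Mᵀ, hM, one_mul, hN]

omit [Fintype F] hF hσσ hσ in
lemma Orth.isUnit {M : Matrix (Fin 3) (Fin 3) F} (hM : Orth σ M) : IsUnit M := by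
  have := isUnit_iff_exists_inv'.mpr ⟨_, hM⟩
  rw [Matrix.isUnit_iff_isUnit_det, isUnit_iff_ne_zero]
  intro h0
  have h := congrArg Matrix.det hM
  simp [det_mul, h0] at h

lemma wMat_orth {w : F} (hw : Cube w) (a b : Fin 3) : Orth σ (wMat w a b) := by
  ext i j
  rw [Matrix.mul_apply, Finset.sum_eq_single (i + a) (fun k _ hk => by simp [wMat, hk])
    (fun h => absurd (Finset.mem_univ _) h)]
  simp only [transpose_apply, wMat, Matrix.of_apply, if_true, Matrix.map_apply, add_left_inj, Matrix.one_apply]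
  split
  · subst i
    exact norm_eq_one hF hσσ hσ (hw.chi_ne_zero _)
  · simp

/-- the standard unitary group normalises the group of order twenty-seven -/
theorem orth_mem_normGrp {w : F} (hw : Cube w) (hall : ∀ x : F, x ≠ 0 → ∃ k, x = chi w k) {g : GL (Fin 3) F}
    (hg : Orth σ (g : Matrix (Fin 3) (Fin 3) F)) : g ∈ normGrp hw := by
  rcases orth_col_cases hF hσσ hσ hg 0 with ⟨i₀, h₀⟩ | hfull
  · exact mono_mem_normGrp hw hall (orth_mono_of_col hF hσσ hσ hg h₀)
  set dg : Matrix (Fin 3) (Fin 3) F := diagonal fun k => ((g : Matrix (Fin 3) (Fin 3) F) k 0)⁻¹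
  have hdg : Orth σ dg := by
    show dgᵀ * dg.map σ = 1
    rw [diagonal_transpose, diagonal_map (map_zero σ), diagonal_mul_diagonal, ← diagonal_one]
    congr 1
    funext k
    exact norm_eq_one hF hσσ hσ (inv_ne_zero (hfull k))
  let dU : GL (Fin 3) F := (Orth.isUnit hdg).unit
  let fU : GL (Fin 3) F := (Orth.isUnit (fMat_orth hF hσσ hσ hw)).unit
  have h1 : dU ∈ normGrp hw :=
    mono_mem_normGrp hw hall fun j => ⟨j, fun k hk => by
      rw [IsUnit.unit_spec]; exact diagonal_apply_ne _ hk⟩
  have h2 : fU ∈ normGrp hw := by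
    intro a b
    refine ⟨-(a * b), -b, a, ?_⟩
    rw [IsUnit.unit_spec]
    exact hw.fMat_mul_wMat a b
  have h3 : fU * dU * g ∈ normGrp hw := by
    refine mono_mem_normGrp hw hall (orth_mono_of_col hF hσσ hσ ?_ (i₀ := 0) ?_)
    · simp only [Units.val_mul, fU, dU, IsUnit.unit_spec]
      exact Orth.mul (Orth.mul (fMat_orth hF hσσ hσ hw) hdg) hg
    · intro k hk
      simp only [Units.val_mul, fU, dU, IsUnit.unit_spec, mul_assoc]
      rw [Matrix.mul_apply]
      have : ∀ r, (dg * (g : Matrix (Fin 3) (Fin 3) F)) r 0 = 1 := fun r => by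
        rw [diagonal_mul, inv_mul_cancel₀ (hfull r)]
      simp only [this, mul_one]
      exact hw.sum_chi hk
  have := mul_mem (inv_mem (mul_mem h2 h1)) h3
  rwa [inv_mul_cancel_left] at this

end unitary

end CfsgLib.Asch.Tiny
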