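import Cfsg.Agent.Lib.Aschbacher.FormMain
import Cfsg.Agent.Lib.Aschbacher.FormTypes
import Cfsg.Agent.Lib.ClassicalMax.SympTools

/-!
# The outcomes for subgroups of the symplectic group
-/

set_option autoImplicit false

namespace CfsgLib.Asch

open Matrix Cfsg.Geo
open scoped MatrixGroups Kronecker

section generic

variable {ι : Type} [Fintype ι] [DecidableEq ι] [Nonempty ι] {F : Type*} [Field F] [Fintype F]

namespace FData

variable (D : FData ι F)

omit [Nonempty ι] [Fintype F] in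
lemma alt_eq_symm_char_two (hσ : D.σ = RingHom.id F) {κ : Type} [Fintype κ] [DecidableEq κ] [Nonempty κ]
    (h2 : (2 : F) = 0) {G : GL κ F} {ε : F}
    (h : ((G : Matrix κ κ F).map D.σ)ᵀ = ε • (G : Matrix κ κ F)) :
    (G : Matrix κ κ F)ᵀ = (G : Matrix κ κ F) := by
  have hεε : D.σ ε * ε = 1 := FData.σε_mul_ε ⟨D.σ, D.σσ, G, ε, h⟩
  rw [hσ, RingHom.id_apply] at hεε
  have h1 : (ε - 1) * (ε - 1) = 0 := by linear_combination hεε + (1 - ε) * h2
  have hε : ε = 1 := sub_eq_zero.mp (mul_self_eq_zero.mp h1)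
  rw [hσ, map_refl_id, hε, one_smul] at h
  exact h

/-- a non-self-adjoint quadratic field in characteristic two -/
theorem inEvenQuad_of_field (hσ : D.σ = RingHom.id F) (halt : ∀ v, D.form v v = 0) (h2 : (2 : F) = 0)
    {G : Subgroup (GL ι F)} (hG : G ≤ D.isom) {K : Subalgebra F (Matrix ι ι F)} (hK : IsFieldSubalgebra 2 K)
    (hadj : ∀ k ∈ K, D.adj k ∈ K) (hne : ∃ k ∈ K, D.adj k ≠ k) (hle : G ≤ subalgebraNormalizer K) :
    D.InEvenQuad G := by
  obtain ⟨k₀, hk₀, hk₀ne⟩ := hne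
  have hMM : ∀ M : Matrix ι ι F, M + M = 0 := fun M => by rw [← two_smul F M, h2, zero_smul]
  -- self-adjoint members are scalar
  have hself : ∀ z ∈ K, D.adj z = z → IsScalarMat z := by
    intro z hz hzz
    by_contra hns
    let v : Fin 2 → K := ![1, ⟨z, hz⟩]
    have hli : LinearIndependent F v := by
      rw [Fintype.linearIndependent_iff]
      intro c hc
      have hc' := congrArg Subtype.val hc
      simp [Fin.sum_univ_two, v] at hc'
      have h1 : c 1 = 0 := by
        by_contra h1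
        refine hns ⟨-(c 1)⁻¹ * c 0, ?_⟩
        have h3 : c 1 • z = -(c 0 • (1 : Matrix ι ι F)) := eq_neg_of_add_eq_zero_right hc'
        calc z = (c 1)⁻¹ • (c 1 • z) := by rw [smul_smul, inv_mul_cancel₀ h1, one_smul]
          _ = _ := by rw [h3, smul_neg, smul_smul, neg_mul, neg_smul]
      rw [h1, zero_smul, add_zero, smul_eq_zero] at hc'
      intro i
      fin_cases i
      · exact hc'.resolve_right one_ne_zero
      · exact h1
    have hspan := hli.span_eq_top_of_card_eq_finrank (by rw [Fintype.card_fin, hK.finrank_eq])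
    refine hk₀ne ?_
    obtain ⟨c, hc⟩ := (Submodule.mem_span_range_iff_exists_fun F).mp
      (show (⟨k₀, hk₀⟩ : K) ∈ Submodule.span F (Set.range v) by rw [hspan]; trivial)
    have hc' : c 0 • (1 : Matrix ι ι F) + c 1 • z = k₀ := by
      have := congrArg Subtype.val hc
      simpa [Fin.sum_univ_two, v] using this
    rw [← hc', D.adj_add, D.adj_smul, D.adj_smul, D.adj_one, hzz, hσ]
    rfl
  set c₀ := k₀ + D.adj k₀
  have hc₀ : D.adj c₀ = c₀ := by rw [D.adj_add, D.adj_adj, add_comm]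
  have hc₀0 : c₀ ≠ 0 := fun h0 => hk₀ne (add_left_cancel (h0.trans (hMM k₀).symm))
  obtain ⟨a, ha⟩ := hself c₀ (add_mem hk₀ (hadj _ hk₀)) hc₀
  have ha0 : a ≠ 0 := fun h0 => hc₀0 (by rw [ha, h0, zero_smul])
  set k := a⁻¹ • k₀
  have hkK : k ∈ K := Subalgebra.smul_mem _ hk₀ _
  have hadjk : D.adj k = a⁻¹ • D.adj k₀ := by
    rw [D.adj_smul, hσ]; rfl
  have hsum : D.adj k + k = 1 := by
    rw [hadjk, ← smul_add, add_comm, show k₀ + D.adj k₀ = c₀ from rfl, ha, smul_smul, inv_mul_cancel₀ ha0, one_smul]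
  obtain ⟨ν, hν⟩ := hself (k * D.adj k) (mul_mem hkK (hadj _ hkK))
    (by rw [D.adj_mul, D.adj_adj])
  have hk2 : ∀ y, D.adj y + y = 1 → y * D.adj y = ν • 1 → y * y = y - ν • 1 := by
    intro y hy hy'
    rw [eq_sub_iff_add_eq, ← hy', ← mul_add, add_comm, hy, mul_one]
  refine D.inEvenQuad_of_split hσ halt h2 hG hsum fun g hg => ?_
  set y := cj g k
  have hyK : y ∈ K := (hle hg k).mp hkK
  have hy : D.adj y + y = 1 := by rw [D.adj_cj (hG hg), ← cj_add, hsum, cj_one]
  have hy2 : y * y = y - ν • 1 := by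
    refine hk2 y hy ?_
    rw [D.adj_cj (hG hg), ← cj_mul, hν, cj_smul, cj_one]
  obtain ⟨b, hb⟩ := hself (y + k) (add_mem hyK hkK) (by
    rw [D.adj_add]
    have h1 : D.adj y = 1 - y := eq_sub_of_add_eq hy
    have h3 : D.adj k = 1 - k := eq_sub_of_add_eq hsum
    rw [h1, h3]
    calc 1 - y + (1 - k) = (1 + 1) - (y + k) := by abel
      _ = -(y + k) := by rw [hMM, zero_sub]
      _ = y + k := neg_eq_of_add_eq_zero_right (hMM _))
  have hyk : y = k + b • 1 := by
    rw [← hb, add_comm y k, ← add_assoc, hMM, zero_add]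
  have hb2 : (b * b - b) • (1 : Matrix ι ι F) = 0 := by
    have h1 := hy2
    rw [hyk] at h1
    simp only [add_mul, mul_add, smul_mul_assoc, mul_smul_comm, one_mul, mul_one] at h1
    rw [hk2 k hsum hν] at h1
    have h3 : b • k + b • k = 0 := hMM _
    rw [sub_smul, ← smul_smul]
    linear_combination (norm := module) h1 - h3
  rcases mul_eq_zero.mp (show b * (b - 1) = 0 by
      rw [mul_sub, mul_one]; exact (smul_eq_zero.mp hb2).resolve_right one_ne_zero) with h0 | h0
  · left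
    show y = k
    rw [hyk, h0, zero_smul, add_zero]
  · right
    show y = D.adj k
    rw [hyk, sub_eq_zero.mp h0, one_smul, eq_sub_of_add_eq hsum]
    calc k + 1 = (1 - k) + (k + k) := by abel
      _ = _ := by rw [hMM, add_zero]

/-- a normal subgroup of tensor type in characteristic two gives a quadratic form for the group -/
theorem inEvenQuad_of_kron_normal (hσ : D.σ = RingHom.id F) (halt : ∀ v, D.form v v = 0) (h2 : (2 : F) = 0)
    {G P : Subgroup (GL ι F)} (hG : G ≤ D.isom) (hPG : P ≤ G) (hPn : Norms G P)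
    (hirr : ActsIrreducibly (matrixSet P)) (hn : 2 ≤ Fintype.card ι) (hk : D.InKronForm P) : D.InEvenQuad G := by
  obtain ⟨w, k, e, Q, G₁, G₂, ε₁, ε₂, hw, hk', -, hB, h1, h2', -, -, -, hdec⟩ := hk
  haveI : Nonempty (Fin w) := ⟨⟨0, by omega⟩⟩
  haveI : Nonempty (Fin k) := ⟨⟨0, by omega⟩⟩
  obtain ⟨-, q, hQ, hpol, hle⟩ := D.inEvenQuad_of_kron hσ halt h2 hirr (hPG.trans hG) hw hk' e Q hB
    (D.alt_eq_symm_char_two hσ h2 h1) (D.alt_eq_symm_char_two hσ h2 h2') hdec
  refine D.inEvenQuad_of_fixed hσ h2 hn hG hirr hPn hQ.smul hpol ?_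
  intro s hs v
  obtain ⟨x, hx, hxs⟩ := hs
  simp only at hxs
  subst hxs
  obtain ⟨c, hcx⟩ := hle hx
  obtain ⟨⟨u, hu⟩, -⟩ := D.nondeg (Pi.single (Classical.arbitrary ι) 1) (by simp)
  set z : ι → F := Pi.single (Classical.arbitrary ι) 1
  have h3 : D.form ((x : Matrix ι ι F) *ᵥ u) ((x : Matrix ι ι F) *ᵥ z) = (c : F) * D.form u z := by
    rw [← hpol, ← hpol]
    simp only [QuadraticMap.polar, ← mulVec_add, hcx]
    ring
  have h4 : D.form ((x : Matrix ι ι F) *ᵥ u) ((x : Matrix ι ι F) *ᵥ z) = D.form u z := hG (hPG hx) u z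
  rw [h4] at h3
  have hc : (c : F) = 1 := mul_right_cancel₀ hu (by rw [one_mul]; exact h3.symm)
  rw [hcx v, hc, one_mul]

end FData

end generic

section symplectic

variable {F : Type*} [Field F] [Fintype F] {m : ℕ}

/-- the standard symplectic form with its data -/
noncomputable def sympData (m : ℕ) (F : Type*) [Field F] : FData (Fin m ⊕ Fin m) F where
  σ := RingHom.id F
  σσ := fun _ => rfl
  B := (isUnit_of_nondegenerate (σ := RingHom.id F) Function.surjective_id
    (bilinear_eq_sform (ClassicalMax.isSymplecticForm_sympForm m F).bilinear ▸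
      (ClassicalMax.isSymplecticForm_sympForm m F).nondegenerate)).unit
  ε := -1
  herm := by
    ext i j
    simpa [gramMatrix] using (ClassicalMax.isSymplecticForm_sympForm m F).skew (Pi.single j 1) (Pi.single i 1)

omit [Fintype F] in
lemma sympData_form : (sympData m F).form = Cfsg.sympForm m F :=
  (bilinear_eq_sform (ClassicalMax.isSymplecticForm_sympForm m F).bilinear).symm

omit [Fintype F] in
lemma sympData_isom : (sympData m F).isom = Cfsg.spGL m F := by
  rw [FData.isom, sympData_form]; rfl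

omit [Fintype F] in
lemma sympData_alt (v : Fin m ⊕ Fin m → F) : (sympData m F).form v v = 0 := by
  rw [sympData_form]; exact (ClassicalMax.isSymplecticForm_sympForm m F).alternating v

set_option maxHeartbeats 1000000 in
/-- Aschbacher's reduction for the symplectic group, given the abelian step -/
theorem sympCase_of_step (hm : 2 ≤ m) (hab : (sympData m F).AbelianStep) {H : Subgroup (GL (Fin m ⊕ Fin m) F)}
    (hH : H ≤ Cfsg.spGL m F) : SympCase m H := by
  classical
  haveI : Nonempty (Fin m ⊕ Fin m) := ⟨.inl ⟨0, by omega⟩⟩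
  set D := sympData m F with hDdef
  have hσ : D.σ = RingHom.id F := rfl
  have halt : ∀ v, D.form v v = 0 := sympData_alt
  have hf : D.form = Cfsg.sympForm m F := sympData_form
  have hcard : Fintype.card (Fin m ⊕ Fin m) = 2 * m := by simp; omega
  set G := H ⊔ (scalars (Fin m ⊕ Fin m) F ⊓ D.isom)
  have hHG : H ≤ G := le_sup_left
  have hHI : H ≤ D.isom := by rw [sympData_isom]; exact hH
  have hGI : G ≤ D.isom := sup_le hHI inf_le_right
  have hquad : D.InEvenQuad G → SympCase m H := fun ⟨h2, Q, hQ, hpol, hle⟩ =>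
    .quad Q (fun hodd => two_ne_zero_iff_odd.mpr hodd h2) hQ (fun u v => by rw [hpol, hf]) (hHG.trans hle)
  have hpair : D.InSingularPair G → SympCase m H := by
    rintro ⟨m', V, k, hV, hs, hm', hle, hk⟩
    by_cases h2 : (2 : F) = 0
    · exact hquad (D.inEvenQuad_of_split hσ halt h2 hGI hk.2.1 hk.2.2)
    · obtain rfl : m' = m := by omega
      exact .pair V (two_ne_zero_iff_odd.mp h2) hV (fun i => hf ▸ hs i) (hHG.trans hle)
  have hdecomp : D.InNondegDecomp G → SympCase m H := fun ⟨t, k, V, hV, htk, hle⟩ =>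
    .decomp t k V (hf ▸ hV) (htk.trans hcard) (hHG.trans hle)
  have hadjField : ∀ (K : Subalgebra F (Matrix (Fin m ⊕ Fin m) (Fin m ⊕ Fin m) F)), IsFieldSubalgebra 2 K →
      (∀ k ∈ K, D.adj k ∈ K) → (∃ k ∈ K, D.adj k ≠ k) → G ≤ subalgebraNormalizer K → SympCase m H := by
    intro K hK hadj hne hle
    by_cases h2 : (2 : F) = 0
    · exact hquad (D.inEvenQuad_of_field hσ halt h2 hGI hK hadj hne hle)
    refine .adjField K (two_ne_zero_iff_odd.mp h2) hK (hf ▸ D.adjointClosed hadj) (fun hs => ?_) (hHG.trans hle)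
    obtain ⟨k, hk, hkne⟩ := hne
    refine hkne (D.eq_of_form_eq fun u v => ?_)
    rw [← D.form_adj, hf]
    exact hs k hk u v
  rcases D.outcome_of_abelianStep hab (by omega) H hHI with
    hW | ⟨-, h⟩ | ⟨-, h⟩ | ⟨hirr, r, K, hr, hK, -, hle, hadj⟩ | ⟨hirr, hsp, h⟩ |
    ⟨F₁, r, P, B₀, l, hr, hc, hB₀, -, hl, hPB, hle⟩ |
    ⟨r, R, p, f, k, hR, hRs, hRI, hle, hrp, hmin, hk, hn, h⟩ | ⟨P, hPG, hPn, hPs, -, h, hk⟩ |
    ⟨P, hPG, hPn, hPs, hres⟩
  · obtain ⟨W, h0, h1, hW⟩ := hW
    rcases D.reducible_cases hGI ⟨W, h0, h1, hW⟩ with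
      ⟨W, h0, hs, hle⟩ | ⟨W, h0, -, hnd, hd, hle⟩ | ⟨k, V, hk, hV, hle⟩
    · exact .singular W h0 (hf ▸ hs) (hHG.trans hle)
    · exact .nondeg W h0 (hf ▸ hnd) (by omega) (hHG.trans hle)
    · exact .decomp 2 k V (hf ▸ hV) (hk.trans hcard) (hHG.trans hle)
  · exact hdecomp h
  · exact hpair h
  · rcases D.selfAdjoint_or_two hσ hr hK hadj with hself | rfl
    · have hskew : ∀ k ∈ K, ∀ v, D.form (k *ᵥ v) v = 0 := fun k hk v => D.form_self_eq_zero halt hK hself hk v
      exact .selfField r K hr hK (D.dvd_half_of_skew halt hK hself hskew hcard) (hf ▸ D.selfAdjoint hself)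
        (hf ▸ hskew) (hHG.trans hle)
    · by_cases hself : ∀ k ∈ K, D.adj k = k
      · have hskew : ∀ k ∈ K, ∀ v, D.form (k *ᵥ v) v = 0 := fun k hk v => D.form_self_eq_zero halt hK hself hk v
        exact .selfField 2 K hr hK (D.dvd_half_of_skew halt hK hself hskew hcard) (hf ▸ D.selfAdjoint hself)
          (hf ▸ hskew) (hHG.trans hle)
      · push_neg at hself
        exact hadjField K hK hadj hself hle
  · obtain ⟨w, k, e, P, G₁, G₂, ε₁, ε₂, hw, hk, hwk, hB, h1, h2, hεε, he1, he2, hdec⟩ := h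
    haveI : Nonempty (Fin w) := ⟨⟨0, by omega⟩⟩
    haveI : Nonempty (Fin k) := ⟨⟨0, by omega⟩⟩
    by_cases hc2 : (2 : F) = 0
    · exact hquad (D.inEvenQuad_of_kron hσ halt hc2 hirr hGI hw hk e P hB (D.alt_eq_symm_char_two hσ hc2 h1)
        (D.alt_eq_symm_char_two hσ hc2 h2) hdec)
    have hε : ε₁ * ε₁ = 1 ∧ ε₂ * ε₂ = 1 := by
      rw [hσ, RingHom.id_apply] at he1 he2
      exact ⟨he1, he2⟩
    have hεm : ε₁ * ε₂ = -1 := hεε
    have main : ∀ (w k : ℕ) (e : (Fin m ⊕ Fin m) ≃ Fin w × Fin k) (G₁ : GL (Fin w) F) (G₂ : GL (Fin k) F),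
        2 ≤ w → 2 ≤ k → w * k = Fintype.card (Fin m ⊕ Fin m) →
        ((D.trans e P).B : Matrix (Fin w × Fin k) (Fin w × Fin k) F)
          = (G₁ : Matrix (Fin w) (Fin w) F) ⊗ₖ (G₂ : Matrix (Fin k) (Fin k) F) →
        (G₁ : Matrix (Fin w) (Fin w) F)ᵀ = -(G₁ : Matrix (Fin w) (Fin w) F) →
        (G₂ : Matrix (Fin k) (Fin k) F)ᵀ = (G₂ : Matrix (Fin k) (Fin k) F) →
        (∀ g ∈ G, ∃ (a : GL (Fin w) F) (b : GL (Fin k) F),
          (g : Matrix (Fin m ⊕ Fin m) (Fin m ⊕ Fin m) F) = tens e P (a : Matrix _ _ F) (b : Matrix _ _ F)) →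
        SympCase m H := by
      intro w k e G₁ G₂ hw hk hwk hB h1 h2' hdec
      have hdiag : ∀ i, (G₁ : Matrix (Fin w) (Fin w) F) i i = 0 := fun i => by
        have := congrFun (congrFun h1 i) i
        rw [transpose_apply, Matrix.neg_apply] at this
        exact (mul_eq_zero.mp (show (2 : F) * (G₁ : Matrix (Fin w) (Fin w) F) i i = 0 by
          linear_combination this)).resolve_left hc2
      have hsymp := isSymplecticForm_of_alternating G₁.isUnit h1 hdiag
      have hwe : Even w := by simpa using symplectic_even hsymp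
      rcases Nat.lt_or_ge k 3 with hk3 | hk3
      · obtain rfl : k = 2 := by omega
        rcases D.cases_of_symmetric_plane hσ hc2 hirr hGI (by omega) e P hB h2' hdec with h | h | h
        · exact hdecomp h
        · exact hpair h
        · obtain ⟨K, hK, hadj, hne, hle⟩ := h
          exact hadjField K hK hadj hne hle
      · refine .tensor w k e P _ _ (two_ne_zero_iff_odd.mp hc2) hw hwe hk3 (hwk.trans hcard) hsymp
          (isSymmetricForm_sform h2') ?_ (fun g hg => ?_)
        · have := D.isTensorFormStructure e P hB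
          rw [hf] at this
          exact this
        · obtain ⟨a, b, hab⟩ := hdec g (hHG hg)
          exact mem_tensorProductSubgroup hab
    rw [hσ, map_refl_id] at h1 h2
    rcases mul_self_eq_one_iff.mp hε.1 with he | he
    · rw [he, one_mul] at hεm
      rw [he, one_smul] at h1
      rw [hεm, neg_one_smul] at h2
      obtain ⟨hB', hdec'⟩ := D.inKronForm_swap hB hdec
      exact main k w _ G₂ G₁ hk hw (by rw [mul_comm, hwk]) hB' h2 h1 hdec'
    · rw [he, neg_one_smul] at h1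
      have he2' : ε₂ = 1 := by rw [he, neg_one_mul, neg_inj] at hεm; exact hεm
      rw [he2', one_smul] at h2
      exact main w k e G₁ G₂ hw hk hwk hB h1 h2 hdec
  · refine .subfield F₁ r P l⁻¹ hr hc (inv_ne_zero hl) (fun u v hu hv => ?_) (hHG.trans hle)
    rw [← hf, D.form_mulVec_of_eq hPB, ← mul_assoc, inv_mul_cancel₀ hl, one_mul]
    exact D.sform_mem_subfield F₁ hB₀ hu hv
  · rcases h with ⟨h, -⟩ | ⟨h, -⟩ | ⟨-, rfl, rfl, hz, hRc, hminus, -⟩
    · exact absurd hσ h
    · exact absurd hσ h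
    obtain ⟨hp, -, hF, -, -⟩ := hmin
    exact .sympType R p k hR hRs.absIrred (hf ▸ hRI.trans D.isom_le_similarity) hp
      (hp.odd_of_ne_two (Ne.symm hrp)) (by simpa using hF) hRc hz (hminus halt) (hn.trans hcard) (hHG.trans hle)
  · by_cases hc2 : (2 : F) = 0
    · exact hquad (D.inEvenQuad_of_kron_normal hσ halt hc2 hGI hPG hPn hPs.irred (by omega) hk)
    obtain ⟨w, t, e, Q, c, ε₀, G₀, hw, ht, hwt, hc0, hB, hε₀, hcε, hee, hex2, -, -, hle⟩ := h
    haveI : Nonempty (Fin w) := ⟨⟨0, by omega⟩⟩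
    rw [hσ, RingHom.id_apply] at hcε hee
    have hεt : ε₀ ^ t = -1 := mul_left_cancel₀ hc0 (by rw [hcε, show D.ε = -1 from rfl]; ring)
    have hε1 : ε₀ = -1 := by
      rcases mul_self_eq_one_iff.mp hee with he | he
      · rw [he, one_pow] at hεt
        exact absurd (show (2 : F) = 0 by linear_combination hεt) hc2
      · exact he
    have htodd : Odd t := by
      by_contra hev
      rw [hε1, (Nat.not_odd_iff_even.mp hev).neg_one_pow] at hεt
      exact hc2 (by linear_combination hεt)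
    rw [hσ, map_refl_id, hε1, neg_one_smul] at hε₀
    have hdiag : ∀ i, (G₀ : Matrix (Fin w) (Fin w) F) i i = 0 := fun i => by
      have := congrFun (congrFun hε₀ i) i
      rw [transpose_apply, Matrix.neg_apply] at this
      exact (mul_eq_zero.mp (show (2 : F) * (G₀ : Matrix (Fin w) (Fin w) F) i i = 0 by
        linear_combination this)).resolve_left hc2
    have hstr := D.isTensorPowerFormStructure e Q hc0 hB
    rw [hf] at hstr
    refine .wreath w t e Q _ (two_ne_zero_iff_odd.mp hc2) hw htodd (by obtain ⟨u, rfl⟩ := htodd; omega)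
      (fun hh => ?_) (hwt.trans hcard) (isSymplecticForm_of_alternating G₀.isUnit hε₀ hdiag) hstr (hHG.trans hle)
    rw [hex2 hh.1 hh.2] at htodd
    exact absurd htodd (by decide)
  · by_cases hq : ∃ Q : (Fin m ⊕ Fin m → F) → F, IsNondegenerateQuadraticForm Q ∧ FixesQuadForm (matrixSet P) Q
    · obtain ⟨Q, h1, h2⟩ := hq
      exact hquad (D.inEvenQuad_of_fixed_quad hσ halt (by omega) hGI hPG hPn hPs h1 h2)
    by_cases hu : ∃ (τ : F ≃+* F) (f : (Fin m ⊕ Fin m → F) → (Fin m ⊕ Fin m → F) → F),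
        IsUnitaryForm τ f ∧ FixesForm (matrixSet P) f
    · obtain ⟨τ, f, h1, h2⟩ := hu
      obtain ⟨F₁, r, P', B₀, l, hr, hc, hB₀, -, hl, hPB, hle⟩ :=
        D.subfield_of_fixed_unitary hσ hGI hPG hPn hPs h1 h2
      refine .subfield F₁ r P' l⁻¹ hr hc (inv_ne_zero hl) (fun u v hu hv => ?_) (hHG.trans hle)
      rw [← hf, D.form_mulVec_of_eq hPB, ← mul_assoc, inv_mul_cancel₀ hl, one_mul]
      exact D.sform_mem_subfield F₁ hB₀ hu hv
    exact .residual ⟨P, hres, hq, hu⟩

end symplectic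

end CfsgLib.Asch
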