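import Cfsg.Agent.Lib.Aschbacher.Basic

/-!
# Forms fixed by an absolutely irreducible normal subgroup
-/

set_option autoImplicit false

namespace CfsgLib.Asch

open Matrix Cfsg.Geo
open scoped MatrixGroups

variable {ι : Type} [Fintype ι] [DecidableEq ι] {F : Type*} [Field F]

/-- the sesquilinear form with matrix `B` -/
def sform (σ : F →+* F) (B : Matrix ι ι F) (u v : ι → F) : F := u ⬝ᵥ (B *ᵥ fun i => σ (v i))

/-- contained in the similarity group of a quadratic form, odd order -/
def InQuad [Fintype F] (G : Subgroup (GL ι F)) : Prop :=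
  ∃ Q : (ι → F) → F, IsNondegenerateQuadraticForm Q ∧ Odd (Fintype.card F) ∧ G ≤ quadSimilarityGroup Q

/-- contained in the similarity group of a symplectic form -/
def InSymp (G : Subgroup (GL ι F)) : Prop :=
  ∃ f : (ι → F) → (ι → F) → F, IsSymplecticForm f ∧ Even (Fintype.card ι) ∧ G ≤ similarityGroup f

/-- contained in the similarity group of a unitary form -/
def InUnit (G : Subgroup (GL ι F)) : Prop :=
  ∃ (σ : F ≃+* F) (f : (ι → F) → (ι → F) → F), IsUnitaryForm σ f ∧ G ≤ similarityGroup f

lemma sform_single (σ : F →+* F) (B : Matrix ι ι F) (i j : ι) :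
    sform σ B (Pi.single i 1) (Pi.single j 1) = B i j := by
  have h : (fun k => σ ((Pi.single j (1 : F) : ι → F) k)) = Pi.single j 1 := by
    funext k
    rcases eq_or_ne k j with rfl | hk <;> simp [*]
  simp [sform, h]

lemma sform_injective {σ : F →+* F} {B B' : Matrix ι ι F} (h : sform σ B = sform σ B') : B = B' := by
  ext i j
  rw [← sform_single σ B, h, sform_single]

omit [DecidableEq ι] in
lemma sform_smul_matrix (σ : F →+* F) (c : F) (B : Matrix ι ι F) (u v : ι → F) :
    sform σ (c • B) u v = c * sform σ B u v := by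
  simp [sform, Matrix.smul_mulVec, dotProduct_smul]

omit [DecidableEq ι] in
lemma sform_mulVec (σ : F →+* F) (B g : Matrix ι ι F) (u v : ι → F) :
    sform σ B (g *ᵥ u) (g *ᵥ v) = sform σ (gᵀ * B * g.map σ) u v := by
  have h : (fun i => σ ((g *ᵥ v) i)) = g.map σ *ᵥ fun i => σ (v i) := by
    funext i
    exact RingHom.map_mulVec σ g v i
  simp only [sform, h, ← mulVec_mulVec]
  rw [Matrix.dotProduct_mulVec u gᵀ, Matrix.vecMul_transpose]

lemma mem_similarity_sform {σ : F →+* F} {B : Matrix ι ι F} {g : GL ι F} {c : Fˣ}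
    (h : (g : Matrix ι ι F)ᵀ * B * (g : Matrix ι ι F).map σ = (c : F) • B) :
    g ∈ similarityGroup (sform σ B) :=
  ⟨c, fun u v => by rw [sform_mulVec, h, sform_smul_matrix]⟩

omit [DecidableEq ι] in
lemma sform_add_left (σ : F →+* F) (B : Matrix ι ι F) (x y v : ι → F) :
    sform σ B (x + y) v = sform σ B x v + sform σ B y v := by simp [sform, add_dotProduct]

omit [DecidableEq ι] in
lemma sform_smul_left (σ : F →+* F) (B : Matrix ι ι F) (c : F) (x v : ι → F) :
    sform σ B (c • x) v = c * sform σ B x v := by simp [sform, smul_dotProduct]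

omit [DecidableEq ι] in
lemma sform_add_right (σ : F →+* F) (B : Matrix ι ι F) (v x y : ι → F) :
    sform σ B v (x + y) = sform σ B v x + sform σ B v y := by
  have : (fun i => σ ((x + y) i)) = (fun i => σ (x i)) + fun i => σ (y i) := by funext i; simp
  simp only [sform, this, mulVec_add, dotProduct_add]

omit [DecidableEq ι] in
lemma sform_smul_right (σ : F →+* F) (B : Matrix ι ι F) (c : F) (v x : ι → F) :
    sform σ B v (c • x) = σ c * sform σ B v x := by
  have : (fun i => σ ((c • x) i)) = σ c • fun i => σ (x i) := by funext i; simp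
  simp only [sform, this, mulVec_smul, dotProduct_smul, smul_eq_mul]

omit [DecidableEq ι] in
lemma sform_bilinear (B : Matrix ι ι F) : IsBilinearForm (sform (RingHom.id F) B) :=
  ⟨sform_add_left _ B, sform_smul_left _ B, sform_add_right _ B,
    fun c v x => by rw [sform_smul_right]; simp⟩

omit [DecidableEq ι] in
lemma sform_flip (B : Matrix ι ι F) (u v : ι → F) :
    sform (RingHom.id F) Bᵀ u v = sform (RingHom.id F) B v u := by
  simp only [sform, RingHom.id_apply]
  rw [Matrix.mulVec_transpose, dotProduct_comm, ← Matrix.dotProduct_mulVec]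

lemma sform_nondegenerate {σ : F →+* F} {B : Matrix ι ι F} (hB : IsUnit B) :
    IsNondegenerateForm (sform σ B) := by
  obtain ⟨U, rfl⟩ := hB
  intro v hv
  constructor
  · have hne : (U : Matrix ι ι F) *ᵥ (fun i => σ (v i)) ≠ 0 := by
      intro h0
      have h1 : (fun i => σ (v i)) = 0 := by
        rw [← one_mulVec (fun i => σ (v i)), ← U.inv_mul, ← mulVec_mulVec, h0, mulVec_zero]
      exact hv (funext fun i => σ.injective ((congrFun h1 i).trans (map_zero σ).symm))
    obtain ⟨i, hi⟩ := Function.ne_iff.mp hne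
    exact ⟨Pi.single i 1, by simpa [sform] using hi⟩
  · have hne : v ᵥ* (U : Matrix ι ι F) ≠ 0 := by
      intro h0
      apply hv
      rw [← vecMul_one v, ← U.mul_inv, ← vecMul_vecMul, h0, zero_vecMul]
    obtain ⟨i, hi⟩ := Function.ne_iff.mp hne
    refine ⟨Pi.single i 1, ?_⟩
    have h : (fun k => σ ((Pi.single i (1 : F) : ι → F) k)) = Pi.single i 1 := by
      funext k
      rcases eq_or_ne k i with rfl | hk <;> simp [*]
    simp only [sform, h]
    rw [Matrix.dotProduct_mulVec, dotProduct_single, mul_one]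
    exact hi

lemma isUnit_of_nondegenerate {σ : F →+* F} (hσ : Function.Surjective σ) {B : Matrix ι ι F}
    (h : IsNondegenerateForm (sform σ B)) : IsUnit B := by
  refine Matrix.mulVec_injective_iff_isUnit.mp fun x y hxy => ?_
  by_contra hne
  obtain ⟨v, hv⟩ : ∃ v : ι → F, (fun i => σ (v i)) = x - y :=
    ⟨fun i => (hσ ((x - y) i)).choose, funext fun i => (hσ ((x - y) i)).choose_spec⟩
  have hv0 : v ≠ 0 := by
    rintro rfl
    exact sub_ne_zero.mpr hne (by rw [← hv]; funext i; simp)
  obtain ⟨⟨u, hu⟩, -⟩ := h v hv0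
  refine hu ?_
  simp only [sform, hv, mulVec_sub]
  simp [hxy]

/-- a semilinear two-argument form is given by its Gram matrix -/
lemma eq_sform (σ : F →+* F) (f : (ι → F) → (ι → F) → F)
    (hal : ∀ x y v, f (x + y) v = f x v + f y v) (hsl : ∀ (c : F) x v, f (c • x) v = c * f x v)
    (har : ∀ v x y, f v (x + y) = f v x + f v y) (hsr : ∀ (c : F) v x, f v (c • x) = σ c * f v x) :
    f = sform σ (gramMatrix f) := by
  funext u v
  let g : (ι → F) →ₗ[F] (ι → F) →ₛₗ[σ] F :=
    LinearMap.mk₂'ₛₗ (RingHom.id F) σ f hal (fun c x v => by simpa using hsl c x v) har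
      (fun c v x => by simpa using hsr c v x)
  have hu : u = ∑ i, u i • (Pi.single i (1 : F) : ι → F) := pi_eq_sum_univ' u
  have hv : v = ∑ i, v i • (Pi.single i (1 : F) : ι → F) := pi_eq_sum_univ' v
  calc f u v = g u v := rfl
    _ = ∑ i, ∑ j, u i * (σ (v j) * f (Pi.single i 1) (Pi.single j 1)) := by
        conv_lhs => rw [hu, hv]
        simp only [map_sum, map_smul, LinearMap.map_smulₛₗ, LinearMap.sum_apply, LinearMap.smul_apply,
          smul_eq_mul, Finset.mul_sum]
        rw [Finset.sum_comm]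
        exact Finset.sum_congr rfl fun i _ => Finset.sum_congr rfl fun j _ => by
          show _ = u i * (σ (v j) * f (Pi.single i 1) (Pi.single j 1))
          simp [g]; ring
    _ = sform σ (gramMatrix f) u v := by
        simp only [sform, dotProduct, Matrix.mulVec, gramMatrix, Finset.mul_sum]
        exact Finset.sum_congr rfl fun i _ => Finset.sum_congr rfl fun j _ => by ring

lemma bilinear_eq_sform {f : (ι → F) → (ι → F) → F} (h : IsBilinearForm f) :
    f = sform (RingHom.id F) (gramMatrix f) :=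
  eq_sform _ f h.add_left h.smul_left h.add_right h.smul_right

lemma unitary_eq_sform {σ : F ≃+* F} {f : (ι → F) → (ι → F) → F} (h : IsUnitaryForm σ f) :
    f = sform σ.toRingHom (gramMatrix f) := by
  refine eq_sform _ f h.add_left h.smul_left (fun v x y => ?_) (fun c v x => ?_)
  · rw [h.herm, h.add_left, map_add, ← h.herm, ← h.herm]
  · rw [h.herm, h.smul_left, map_mul, ← h.herm]
    rfl

/-- two forms fixed by a spanning group are proportional -/
theorem fixed_forms_proportional {N : Subgroup (GL ι F)} (hN : Spans (matrixSet N)) {σ : F →+* F}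
    {U : GL ι F} {B' : Matrix ι ι F}
    (hfix : ∀ x ∈ N, (x : Matrix ι ι F)ᵀ * (U : Matrix ι ι F) * (x : Matrix ι ι F).map σ = (U : Matrix ι ι F))
    (hfix' : ∀ x ∈ N, (x : Matrix ι ι F)ᵀ * B' * (x : Matrix ι ι F).map σ = B') :
    ∃ c : F, B' = c • (U : Matrix ι ι F) := by
  set C := B' * ((U⁻¹ : GL ι F) : Matrix ι ι F)
  have hC : ∀ x ∈ N, Cᵀ * (x : Matrix ι ι F) = (x : Matrix ι ι F) * Cᵀ := by
    intro x hx
    have h1 : (x : Matrix ι ι F).map σ * (((U⁻¹ : GL ι F) : Matrix ι ι F) * (x : Matrix ι ι F)ᵀ)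
        = ((U⁻¹ : GL ι F) : Matrix ι ι F) := by
      have hinv : (((U⁻¹ : GL ι F) : Matrix ι ι F) * (x : Matrix ι ι F)ᵀ * (U : Matrix ι ι F))
          * (x : Matrix ι ι F).map σ = 1 := by
        rw [mul_assoc (((U⁻¹ : GL ι F) : Matrix ι ι F) * _), mul_assoc, ← mul_assoc (x : Matrix ι ι F)ᵀ,
          hfix x hx, Units.inv_mul]
      have h' := mul_eq_one_comm.mp hinv
      calc _ = (x : Matrix ι ι F).map σ * (((U⁻¹ : GL ι F) : Matrix ι ι F) * (x : Matrix ι ι F)ᵀ
            * (U : Matrix ι ι F)) * ((U⁻¹ : GL ι F) : Matrix ι ι F) := by simp [mul_assoc]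
        _ = _ := by rw [h', one_mul]
    have h2 : C * (x : Matrix ι ι F)ᵀ = (x : Matrix ι ι F)ᵀ * C := by
      calc C * (x : Matrix ι ι F)ᵀ
          = ((x : Matrix ι ι F)ᵀ * B' * (x : Matrix ι ι F).map σ)
              * (((U⁻¹ : GL ι F) : Matrix ι ι F) * (x : Matrix ι ι F)ᵀ) := by
            rw [hfix' x hx]; simp only [C, mul_assoc]
        _ = _ := by rw [mul_assoc, h1]; simp only [C, mul_assoc]
    simpa using (congrArg Matrix.transpose h2).symm
  obtain ⟨c, hc⟩ := hN.scalar_of_commute hC
  have hc' : C = c • 1 := by simpa using congrArg Matrix.transpose hc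
  have hB'c : B' = c • (U : Matrix ι ι F) := by
    calc B' = C * (U : Matrix ι ι F) := by simp [C, mul_assoc]
      _ = _ := by rw [hc']; simp
  exact ⟨c, hB'c⟩

/-- a form fixed by a spanning normal subgroup is fixed up to a scalar -/
theorem similar_of_spans {G N : Subgroup (GL ι F)} (hN : Spans (matrixSet N)) (hn : Norms G N)
    {σ : F →+* F} {B : Matrix ι ι F} (hB : IsUnit B)
    (hfix : ∀ x ∈ N, (x : Matrix ι ι F)ᵀ * B * (x : Matrix ι ι F).map σ = B) :
    G ≤ similarityGroup (sform σ B) := by
  obtain ⟨U, rfl⟩ := hB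
  intro g hg
  set B' : Matrix ι ι F := (g : Matrix ι ι F)ᵀ * (U : Matrix ι ι F) * (g : Matrix ι ι F).map σ with hB'
  have hfix' : ∀ x ∈ N, (x : Matrix ι ι F)ᵀ * B' * (x : Matrix ι ι F).map σ = B' := by
    intro x hx
    have hy := hn g hg x hx
    have hyg : ((g * x * g⁻¹ : GL ι F) : Matrix ι ι F) * (g : Matrix ι ι F)
        = (g : Matrix ι ι F) * (x : Matrix ι ι F) := by
      rw [← Units.val_mul, ← Units.val_mul, inv_mul_cancel_right]
    calc (x : Matrix ι ι F)ᵀ * B' * (x : Matrix ι ι F).map σ
        = ((g : Matrix ι ι F) * (x : Matrix ι ι F))ᵀ * (U : Matrix ι ι F)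
            * ((g : Matrix ι ι F) * (x : Matrix ι ι F)).map σ := by
          rw [hB', transpose_mul, Matrix.map_mul]; simp only [mul_assoc]
      _ = (g : Matrix ι ι F)ᵀ * (((g * x * g⁻¹ : GL ι F) : Matrix ι ι F)ᵀ * (U : Matrix ι ι F)
            * ((g * x * g⁻¹ : GL ι F) : Matrix ι ι F).map σ) * (g : Matrix ι ι F).map σ := by
          rw [← hyg, transpose_mul, Matrix.map_mul]; simp only [mul_assoc]
      _ = B' := by rw [hfix _ hy]
  obtain ⟨c, hB'c⟩ := fixed_forms_proportional hN hfix hfix'
  have hu : IsUnit B' := by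
    have hgm : IsUnit ((g : Matrix ι ι F).map σ) := g.isUnit.map σ.mapMatrix
    have hgt : IsUnit (g : Matrix ι ι F)ᵀ := (Matrix.isUnit_transpose _).mpr g.isUnit
    exact (hgt.mul U.isUnit).mul hgm
  rcases isEmpty_or_nonempty ι with hι | hι
  · exact mem_similarity_sform (c := 1) (Subsingleton.elim _ _)
  · have h0 : c ≠ 0 := by
      rintro rfl
      rw [zero_smul] at hB'c
      exact not_isUnit_zero (hB'c ▸ hu)
    exact mem_similarity_sform (c := Units.mk0 c h0) hB'c

/-- an odd-dimensional skew matrix with zero diagonal is singular -/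
lemma even_card_of_alternating {B : Matrix ι ι F} (hskew : ∀ i j, B j i = - B i j)
    (hdiag : ∀ i, B i i = 0) (hB : IsUnit B) : Even (Fintype.card ι) := by
  by_contra hodd
  rw [Nat.not_even_iff_odd] at hodd
  refine (Matrix.isUnit_iff_isUnit_det B |>.mp hB).ne_zero ?_
  rw [Matrix.det_apply']
  refine Finset.sum_involution (fun σ _ => σ⁻¹) (fun σ _ => ?_) (fun σ _ hne heq => ?_)
    (fun σ _ => Finset.mem_univ _) (fun σ _ => inv_inv σ)
  · have hprod : ∏ i, B (σ⁻¹ i) i = - ∏ i, B (σ i) i := by
      rw [← Equiv.prod_comp σ (fun i => B (σ⁻¹ i) i)]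
      have hinv : ∀ i, σ⁻¹ (σ i) = i := fun i => σ.symm_apply_apply i
      simp only [hinv]
      rw [Finset.prod_congr rfl (fun i _ => hskew (σ i) i), Finset.prod_neg, Finset.card_univ,
        hodd.neg_one_pow, neg_one_mul]
    rw [hprod, Equiv.Perm.sign_inv]
    ring
  · refine hne ?_
    have h2 : σ ^ 2 ^ 1 = 1 := by
      rw [pow_one, sq]
      nth_rewrite 1 [← heq]
      exact inv_mul_cancel σ
    obtain ⟨a, ha⟩ := Equiv.Perm.exists_fixed_point_of_prime (p := 2) (n := 1)
      hodd.not_two_dvd_nat h2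
    rw [Finset.prod_eq_zero (Finset.mem_univ a) (by rw [ha, hdiag]), mul_zero]

lemma symplectic_even {f : (ι → F) → (ι → F) → F} (h : IsSymplecticForm f) :
    Even (Fintype.card ι) := by
  refine even_card_of_alternating (B := gramMatrix f) (fun i j => h.skew _ _)
    (fun i => h.alternating _) ?_
  refine isUnit_of_nondegenerate (σ := RingHom.id F) Function.surjective_id ?_
  rw [← bilinear_eq_sform h.bilinear]
  exact h.nondegenerate

variable [Fintype F]

omit [Fintype ι] [DecidableEq ι] in
lemma two_ne_zero_iff_odd : (2 : F) ≠ 0 ↔ Odd (Fintype.card F) := by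
  rw [Nat.odd_iff]
  constructor
  · intro h
    refine FiniteField.odd_card_of_char_ne_two fun hc => ?_
    haveI := ringChar.of_eq hc
    exact h CharTwo.two_eq_zero
  · intro h
    refine Ring.two_ne_zero fun hc => ?_
    have := FiniteField.even_card_of_char_two hc
    omega

omit [Fintype F] in
/-- alternating Gram matrix: a symplectic form -/
theorem isSymplecticForm_of_alternating {B : Matrix ι ι F} (hB : IsUnit B) (hskew : Bᵀ = -B)
    (hdiag : ∀ i, B i i = 0) : IsSymplecticForm (sform (RingHom.id F) B) := by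
  have hskew' : ∀ i j, B j i = -B i j := fun i j => by
    simpa using congrFun (congrFun hskew i) j
  refine ⟨sform_bilinear B, fun v w => ?_, fun v => ?_, sform_nondegenerate hB⟩
  · rw [← sform_flip B, hskew]
    simp [sform, Matrix.neg_mulVec]
  · classical
    -- the diagonal vanishes, so the associated quadratic map is zero
    simp only [sform, RingHom.id_apply, dotProduct, Matrix.mulVec, Finset.mul_sum]
    rw [← Fintype.sum_prod_type']
    refine Finset.sum_involution (fun p _ => (p.2, p.1)) (fun p _ => ?_) (fun p _ hne heq => ?_)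
      (fun p _ => Finset.mem_univ _) (fun p _ => rfl)
    · rw [hskew' p.1 p.2]; ring
    · obtain ⟨a, b⟩ := p
      simp only [Prod.mk.injEq] at heq
      obtain ⟨rfl, -⟩ := heq
      exact hne (by simp [hdiag])

/-- alternating Gram matrix: symplectic -/
theorem inSymp_of_alternating {G : Subgroup (GL ι F)}
    {B : Matrix ι ι F} (hB : IsUnit B) (hskew : Bᵀ = -B) (hdiag : ∀ i, B i i = 0)
    (hsim : G ≤ similarityGroup (sform (RingHom.id F) B)) : InSymp G :=
  ⟨sform (RingHom.id F) B, isSymplecticForm_of_alternating hB hskew hdiag,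
    even_card_of_alternating (fun i j => by simpa using congrFun (congrFun hskew i) j) hdiag hB, hsim⟩

/-- symmetric Gram matrix, odd characteristic: orthogonal -/
theorem inQuad_of_symmetric {G : Subgroup (GL ι F)}
    {B : Matrix ι ι F} (hB : IsUnit B) (hsym : Bᵀ = B) (h2 : (2 : F) ≠ 0)
    (hsim : G ≤ similarityGroup (sform (RingHom.id F) B)) : InQuad G := by
  set f := sform (RingHom.id F) B
  have hbil := sform_bilinear B
  have hs : ∀ u v, f u v = f v u := fun u v => by
    have h := sform_flip B u v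
    rw [hsym] at h
    exact h
  have hpol : QuadraticMap.polar (fun v => f v v) = fun u v => 2 * f u v := by
    funext u v
    simp only [QuadraticMap.polar, f, hbil.add_left, hbil.add_right]
    rw [show sform (RingHom.id F) B v u = sform (RingHom.id F) B u v from hs v u]
    ring
  refine ⟨fun v => f v v, ⟨fun c v => ?_, ?_, ?_⟩, two_ne_zero_iff_odd.mp h2, fun g hg => ?_⟩
  · simp only [f, hbil.smul_left, hbil.smul_right]; ring
  · rw [hpol]
    exact ⟨fun x y v => by simp [f, hbil.add_left, mul_add], fun c x v => by simp [f, hbil.smul_left]; ring,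
      fun v x y => by simp [f, hbil.add_right, mul_add], fun c v x => by simp [f, hbil.smul_right]; ring⟩
  · rw [hpol]
    intro v hv
    obtain ⟨⟨x, hx⟩, ⟨y, hy⟩⟩ := sform_nondegenerate (σ := RingHom.id F) hB v hv
    exact ⟨⟨x, mul_ne_zero h2 hx⟩, ⟨y, mul_ne_zero h2 hy⟩⟩
  · obtain ⟨c, hc⟩ := hsim hg
    exact ⟨c, fun v => hc v v⟩

/-- symmetric-or-skew fixed bilinear form -/
theorem inForm_of_sign {G : Subgroup (GL ι F)}
    {B : Matrix ι ι F} (hB : IsUnit B) {ε : F} (hε : Bᵀ = ε • B) (hε2 : ε = 1 ∨ ε = -1)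
    (hdiag : (2 : F) = 0 → ∀ i, B i i = 0)
    (hsim : G ≤ similarityGroup (sform (RingHom.id F) B)) : InQuad G ∨ InSymp G := by
  by_cases h2 : (2 : F) = 0
  · refine Or.inr (inSymp_of_alternating hB ?_ (hdiag h2) hsim)
    have hneg : (-1 : F) = 1 := by linear_combination -h2
    have hε1 : ε = -1 := hε2.elim (fun h => h.trans hneg.symm) id
    rw [hε, hε1, neg_one_smul]
  rcases hε2 with rfl | rfl
  · exact Or.inl (inQuad_of_symmetric hB (by simpa using hε) h2 hsim)
  · refine Or.inr (inSymp_of_alternating hB (by simpa using hε) (fun i => ?_) hsim)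
    have h := congrFun (congrFun hε i) i
    simp at h
    have : (2 : F) * B i i = 0 := by linear_combination h
    exact (mul_eq_zero.mp this).resolve_left h2

/-- a fixed non-degenerate quadratic form -/
theorem inForm_of_quad {G N : Subgroup (GL ι F)} (hN : Spans (matrixSet N)) (hn : Norms G N)
    {Q : (ι → F) → F} (hQ : IsNondegenerateQuadraticForm Q) (hfix : FixesQuadForm (matrixSet N) Q) :
    InQuad G ∨ InSymp G := by
  set B := gramMatrix (QuadraticMap.polar Q)
  have hf : QuadraticMap.polar Q = sform (RingHom.id F) B := bilinear_eq_sform hQ.polar_bilinear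
  have hB : IsUnit B :=
    isUnit_of_nondegenerate (σ := RingHom.id F) Function.surjective_id (hf ▸ hQ.nondegenerate)
  have hsym : Bᵀ = B := by
    ext i j
    exact QuadraticMap.polar_comm Q _ _
  refine inForm_of_sign hB (ε := 1) (by rw [hsym, one_smul]) (Or.inl rfl) (fun h2 i => ?_)
    (similar_of_spans hN hn hB ?_)
  · show QuadraticMap.polar Q _ _ = 0
    set e := (Pi.single i (1 : F) : ι → F)
    have he : e + e = (2 : F) • e := (two_smul F e).symm
    rw [QuadraticMap.polar, he, hQ.smul, h2]
    linear_combination (-(Q e)) * h2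
  · intro x hx
    refine sform_injective (σ := RingHom.id F) (funext₂ fun u v => ?_)
    have h := sform_mulVec (RingHom.id F) B (x : Matrix ι ι F) u v
    rw [← h, ← hf]
    simp only [QuadraticMap.polar, ← mulVec_add]
    rw [hfix _ (coe_mem_matrixSet hx), hfix _ (coe_mem_matrixSet hx), hfix _ (coe_mem_matrixSet hx)]

omit [Fintype F] in
theorem inSymp_of_form {G N : Subgroup (GL ι F)} (hN : Spans (matrixSet N)) (hn : Norms G N)
    {f : (ι → F) → (ι → F) → F} (hf : IsSymplecticForm f) (hfix : FixesForm (matrixSet N) f) :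
    InSymp G := by
  have hfB := bilinear_eq_sform hf.bilinear
  have hB : IsUnit (gramMatrix f) :=
    isUnit_of_nondegenerate (σ := RingHom.id F) Function.surjective_id (hfB ▸ hf.nondegenerate)
  refine ⟨f, hf, symplectic_even hf, ?_⟩
  rw [hfB]
  refine similar_of_spans hN hn hB fun x hx => sform_injective (σ := RingHom.id F) (funext₂ fun u v => ?_)
  rw [← sform_mulVec, ← hfB]
  exact hfix _ (coe_mem_matrixSet hx) u v

omit [Fintype F] in
theorem inUnit_of_form {G N : Subgroup (GL ι F)} (hN : Spans (matrixSet N)) (hn : Norms G N)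
    {σ : F ≃+* F} {f : (ι → F) → (ι → F) → F} (hf : IsUnitaryForm σ f)
    (hfix : FixesForm (matrixSet N) f) : InUnit G := by
  have hfB := unitary_eq_sform hf
  have hB : IsUnit (gramMatrix f) :=
    isUnit_of_nondegenerate (σ := σ.toRingHom) σ.surjective (hfB ▸ hf.nondegenerate)
  refine ⟨σ, f, hf, ?_⟩
  rw [hfB]
  refine similar_of_spans hN hn hB fun x hx => sform_injective (σ := σ.toRingHom) (funext₂ fun u v => ?_)
  rw [← sform_mulVec, ← hfB]
  exact hfix _ (coe_mem_matrixSet hx) u v

end CfsgLib.Asch
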