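import Mathlib

/-!
# Coordinates for a field of four elements
-/

set_option autoImplicit false

namespace CfsgLib.Asch.Four

/-- addition of codes -/
def add (a b : Fin 4) : Fin 4 :=
  ![![0, 1, 2, 3], ![1, 0, 3, 2], ![2, 3, 0, 1], ![3, 2, 1, 0]] a b

/-- multiplication of codes -/
def mul (a b : Fin 4) : Fin 4 :=
  ![![0, 0, 0, 0], ![0, 1, 2, 3], ![0, 2, 3, 1], ![0, 3, 1, 2]] a b

/-- the involution -/
def conj (a : Fin 4) : Fin 4 := ![0, 1, 3, 2] a

variable {F : Type*} [Field F] [Fintype F]

/-- a field of four elements is read off from a root of `x ^ 2 + x + 1` -/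
theorem exists_code (h4 : Fintype.card F = 4) :
    ∃ φ : Fin 4 → F, Function.Bijective φ ∧ φ 0 = 0 ∧ φ 1 = 1 ∧ (∀ a b, φ (add a b) = φ a + φ b) ∧
      (∀ a b, φ (mul a b) = φ a * φ b) ∧ (∀ a, φ (conj a) = φ a ^ 2) := by
  classical
  have h2 : (2 : F) = 0 := by
    have h := FiniteField.cast_card_eq_zero F
    rw [h4] at h
    push_cast at h
    exact mul_self_eq_zero.mp (show (2 : F) * 2 = 0 by linear_combination h)
  obtain ⟨w, hw0, hw1⟩ : ∃ w : F, w ≠ 0 ∧ w ≠ 1 := by
    by_contra h
    push Not at h
    have : Fintype.card F ≤ ({0, 1} : Finset F).card := Finset.card_le_card (s := Finset.univ) fun x _ => by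
      simp only [Finset.mem_insert, Finset.mem_singleton]
      exact or_iff_not_imp_left.mpr (h x)
    have := this.trans Finset.card_le_two
    omega
  have hw3 : w ^ 3 = 1 := by
    have := FiniteField.pow_card_sub_one_eq_one w hw0
    rwa [h4] at this
  have hw2 : w * w = w + 1 := by
    have h : (w - 1) * (w * w + w + 1) = 0 := by linear_combination hw3
    have := (mul_eq_zero.mp h).resolve_left (sub_ne_zero.mpr hw1)
    linear_combination this - (w + 1) * h2
  let φ : Fin 4 → F := ![0, 1, w, w + 1]
  have hinj : Function.Injective φ := by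
    intro a b h
    fin_cases a <;> fin_cases b <;> simp [φ] at h ⊢
    all_goals grind
  refine ⟨φ, (Fintype.bijective_iff_injective_and_card φ).mpr ⟨hinj, by rw [h4, Fintype.card_fin]⟩, rfl, rfl,
    fun a b => ?_, fun a b => ?_, fun a => ?_⟩
  · fin_cases a <;> fin_cases b <;> simp [φ, add] <;> grind
  · fin_cases a <;> fin_cases b <;> simp [φ, mul] <;> grind
  · fin_cases a <;> simp [φ, conj] <;> grind

end CfsgLib.Asch.Four
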