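import Cfsg.Agent.Lib.Aschbacher.Cases

/-!
# Monomial groups of degree four over five elements normalise a group of symplectic type
-/

set_option autoImplicit false

namespace CfsgLib.Asch

open Matrix Cfsg.Geo CfsgLib.ClassicalMax
open scoped MatrixGroups

/-- the index set: a vector plane over two elements -/
abbrev KV : Type := ZMod 2 × ZMod 2

lemma kv_sum_zero : ∀ a b c d : KV, a ≠ b → a ≠ c → a ≠ d → b ≠ c → b ≠ d → c ≠ d → a + b + c + d = 0 := by
  decide

lemma kv_add_self : ∀ a : KV, a + a = 0 := by decide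

/-- every permutation of the four points is affine -/
lemma kv_affine (σ : Equiv.Perm KV) (i c : KV) : σ (i + c) = σ i + σ c + σ 0 := by
  rcases eq_or_ne i 0 with rfl | hi
  · rw [zero_add, add_comm (σ 0), add_assoc, kv_add_self, add_zero]
  rcases eq_or_ne c 0 with rfl | hc
  · rw [add_zero, add_assoc, kv_add_self, add_zero]
  rcases eq_or_ne i c with rfl | hic
  · rw [kv_add_self, kv_add_self, zero_add]
  have h1 : i + c ≠ 0 := fun h => hic (by rw [← add_zero i, ← kv_add_self c, ← add_assoc, h, zero_add])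
  have h2 : i + c ≠ i := fun h => hc (add_eq_left.mp h)
  have h3 : i + c ≠ c := fun h => hi (add_eq_right.mp h)
  have hs := kv_sum_zero (σ (i + c)) (σ i) (σ c) (σ 0) (σ.injective.ne h2) (σ.injective.ne h3) (σ.injective.ne h1)
    (σ.injective.ne hic) (σ.injective.ne hi) (σ.injective.ne hc)
  rw [add_assoc, add_assoc] at hs
  calc σ (i + c) = σ (i + c) + ((σ i + (σ c + σ 0)) + (σ i + (σ c + σ 0))) := by rw [kv_add_self, add_zero]
    _ = _ := by rw [← add_assoc, hs, zero_add, add_assoc]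

variable {F : Type*} [Field F]

/-- sign vectors of product one are affine characters -/
lemma sign_affine (w : KV → F) (h : ∀ i, w i * w i = 1) (hp : ∏ i, w i = 1) (i c : KV) :
    w (i + c) * w 0 = w i * w c := by
  have hp' : w (0, 0) * w (0, 1) * (w (1, 0) * w (1, 1)) = 1 := by
    rw [← hp]
    rw [Fintype.prod_prod_type]
    show _ = ∏ x : Fin 2, ∏ y : Fin 2, w (x, y)
    simp only [Fin.prod_univ_two]
    rfl
  have e : ∀ i, w i = 1 ∨ w i = -1 := fun i => by
    have : (w i - 1) * (w i + 1) = 0 := by linear_combination h i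
    exact (mul_eq_zero.mp this).imp sub_eq_zero.mp eq_neg_of_add_eq_zero_left
  have hall : ∀ j : KV, j = (0, 0) ∨ j = (0, 1) ∨ j = (1, 0) ∨ j = (1, 1) := by decide
  have a0 := e (0, 0); have a1 := e (0, 1); have a2 := e (1, 0)
  have h3 : w (1, 1) = w (0, 0) * w (0, 1) * w (1, 0) := by
    calc w (1, 1) = (w (0, 0) * w (0, 0)) * (w (0, 1) * w (0, 1)) * (w (1, 0) * w (1, 0)) * w (1, 1) := by
          rw [h, h, h]; ring
      _ = w (0, 0) * w (0, 1) * w (1, 0) * (w (0, 0) * w (0, 1) * (w (1, 0) * w (1, 1))) := by ring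
      _ = _ := by rw [hp', mul_one]
  have z0 : (0 : KV) = (0, 0) := rfl
  have t2 : (1 : ZMod 2) + 1 = 0 := rfl
  rcases hall i with rfl | rfl | rfl | rfl <;> rcases hall c with rfl | rfl | rfl | rfl <;>
    rcases a0 with a0 | a0 <;> rcases a1 with a1 | a1 <;> rcases a2 with a2 | a2 <;>
    simp [z0, t2, h3, a0, a1, a2]

variable [Fintype F]

/-- the monomial subgroup of degree four over five elements lies in a symplectic-type normaliser -/
theorem exists_sympType_of_lines (hq : Fintype.card F = 5) {t : ℕ} {D : Fin t → Submodule F (Fin 4 → F)}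
    (hD : IsMDecomposition 1 D) :
    ∃ R : Subgroup (GL (Fin 4) F), IsLinearSymplecticTypeData 2 R ∧
      decompositionStabilizer D ⊓ specialLinear (Fin 4) F ≤ subgroupNormalizer R := by
  classical
  obtain ⟨b₀, hb₀⟩ := exists_line_basis hD
  have ht : t = 4 := by
    have := Module.finrank_eq_card_basis b₀
    simpa using this.symm
  subst ht
  let e : Fin 4 ≃ KV := (Fintype.equivFinOfCardEq (α := KV) (by simp)).symm
  set b : Module.Basis KV F (Fin 4 → F) := b₀.reindex e
  have hq4 : ∀ a : F, a ≠ 0 → a ^ 4 = 1 := fun a ha => by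
    have h := FiniteField.pow_card_sub_one_eq_one a ha
    rwa [hq] at h
  have h2 : (2 : F) ≠ 0 := two_ne_zero_iff_odd.mpr (by rw [hq]; decide)
  -- extensionality on the basis
  have hext : ∀ {A B : Matrix (Fin 4) (Fin 4) F}, (∀ i, A *ᵥ b i = B *ᵥ b i) → A = B := by
    intro A B h
    exact Matrix.toLin'.injective (b.ext fun i => by simpa using h i)
  let cond : (KV → F) → Prop := fun d => (∀ i, d i ^ 2 = d 0 ^ 2) ∧ ∏ i, d i = 1
  have hd0 : ∀ d, cond d → ∀ i, d i ≠ 0 := fun d hd i h =>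
    one_ne_zero (hd.2.symm.trans (Finset.prod_eq_zero (Finset.mem_univ i) h))
  have haff : ∀ d, cond d → ∀ i c, d (i + c) * d 0 = d i * d c := by
    intro d hd i c
    have h0 := hd0 d hd 0
    have h := sign_affine (fun j => d j / d 0) (fun j => by
      show d j / d 0 * (d j / d 0) = 1
      rw [div_mul_div_comm, ← sq, ← sq, hd.1 j, div_self (pow_ne_zero 2 h0)]) (by
      rw [Finset.prod_div_distrib, hd.2, Finset.prod_const, Finset.card_univ,
        show Fintype.card KV = 4 from by simp, hq4 _ h0, div_one]) i c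
    field_simp at h
    linear_combination h
  let R : Subgroup (GL (Fin 4) F) :=
  { carrier := {g | ∃ (c : KV) (d : KV → F), cond d ∧ ∀ i, (g : Matrix (Fin 4) (Fin 4) F) *ᵥ b i = d i • b (i + c)}
    one_mem' := ⟨0, fun _ => 1, ⟨fun _ => rfl, by simp⟩, fun i => by simp⟩
    mul_mem' := by
      rintro g g' ⟨c, d, hd, hg⟩ ⟨c', d', hd', hg'⟩
      refine ⟨c' + c, fun i => d' i * d (i + c'), ⟨fun i => ?_, ?_⟩, fun i => ?_⟩
      · rw [mul_pow, mul_pow, hd'.1 i, hd.1, hd.1 (0 + c')]
      · rw [Finset.prod_mul_distrib, hd'.2, one_mul, ← hd.2]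
        exact Equiv.prod_comp (Equiv.addRight c') d
      · rw [Units.val_mul, ← mulVec_mulVec, hg', mulVec_smul, hg, smul_smul, add_assoc]
    inv_mem' := by
      rintro g ⟨c, d, hd, hg⟩
      refine ⟨c, fun i => (d (i + c))⁻¹, ⟨fun i => ?_, ?_⟩, fun i => ?_⟩
      · rw [inv_pow, inv_pow, hd.1 (i + c), hd.1 (0 + c)]
      · rw [Finset.prod_inv_distrib, show ∏ i, d (i + c) = 1 from (Equiv.prod_comp (Equiv.addRight c) d).trans hd.2, inv_one]
      · refine gl_mulVec_injective g ?_
        show (g : Matrix (Fin 4) (Fin 4) F) *ᵥ _ = (g : Matrix (Fin 4) (Fin 4) F) *ᵥ _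
        rw [gl_mulVec_inv_mulVec, mulVec_smul, hg, smul_smul, inv_mul_cancel₀ (hd0 d hd _), one_smul,
          add_assoc, kv_add_self, add_zero] }
  have hRmem : ∀ g, g ∈ R ↔ ∃ (c : KV) (d : KV → F), cond d ∧ ∀ i, (g : Matrix (Fin 4) (Fin 4) F) *ᵥ b i = d i • b (i + c) :=
    fun g => Iff.rfl
  -- elements
  have hmk : ∀ c d, cond d → ∃ g ∈ R, ∀ i, (g : Matrix (Fin 4) (Fin 4) F) *ᵥ b i = d i • b (i + c) := by
    intro c d hd
    let A : Matrix (Fin 4) (Fin 4) F := LinearMap.toMatrix' (b.constr F fun i => d i • b (i + c))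
    let B : Matrix (Fin 4) (Fin 4) F := LinearMap.toMatrix' (b.constr F fun i => (d (i + c))⁻¹ • b (i + c))
    have hA : ∀ i, A *ᵥ b i = d i • b (i + c) := fun i => by
      rw [← Matrix.toLin'_apply, Matrix.toLin'_toMatrix', Module.Basis.constr_basis]
    have hB : ∀ i, B *ᵥ b i = (d (i + c))⁻¹ • b (i + c) := fun i => by
      rw [← Matrix.toLin'_apply, Matrix.toLin'_toMatrix', Module.Basis.constr_basis]
    have hAB : A * B = 1 := hext fun i => by
      rw [← mulVec_mulVec, hB, mulVec_smul, hA, smul_smul, inv_mul_cancel₀ (hd0 d hd _), one_smul, one_mulVec,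
        add_assoc, kv_add_self, add_zero]
    exact ⟨⟨A, B, hAB, mul_eq_one_comm.mp hAB⟩, ⟨c, d, hd, hA⟩, hA⟩
  -- scalars of order dividing four
  have hscal : ∀ l : F, l ≠ 0 → ∀ z : GL (Fin 4) F, (z : Matrix (Fin 4) (Fin 4) F) = l • 1 → z ∈ R := by
    intro l hl z hz
    refine ⟨0, fun _ => l, ⟨fun _ => rfl, ?_⟩, fun i => ?_⟩
    · rw [Finset.prod_const, Finset.card_univ, show Fintype.card KV = 4 from by simp, hq4 l hl]
    · rw [hz, smul_mulVec, one_mulVec, add_zero]
  -- spans
  have hsp : Spans (matrixSet R) := by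
    refine spans_of_alg_eq_top fun M => ?_
    obtain ⟨T, hT⟩ : ∃ T : KV → GL (Fin 4) F, ∀ c, T c ∈ R ∧ ∀ i, (T c : Matrix (Fin 4) (Fin 4) F) *ᵥ b i = b (i + c) := by
      choose T hT using fun c => hmk c (fun _ => 1) ⟨fun _ => rfl, by simp⟩
      exact ⟨T, fun c => ⟨(hT c).1, fun i => by rw [(hT c).2, one_smul]⟩⟩
    let e1 : KV → F := fun i => if i.1 = 0 then 1 else -1
    let e2 : KV → F := fun i => if i.2 = 0 then 1 else -1
    have hsq : ∀ (p : Prop) [Decidable p], (if p then (1 : F) else -1) ^ 2 = 1 := fun p _ => by split <;> simp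
    have hpr : ∀ f : ZMod 2 × ZMod 2 → F, ∏ i, f i = (f (0, 0) * f (0, 1)) * (f (1, 0) * f (1, 1)) := fun f => by
      rw [Fintype.prod_prod_type]
      show ∏ x : Fin 2, ∏ y : Fin 2, f (x, y) = _
      simp only [Fin.prod_univ_two]
      rfl
    obtain ⟨D1, hD1, hD1b⟩ := hmk 0 e1 ⟨fun i => (hsq _).trans (hsq _).symm, by rw [hpr]; simp [e1]⟩
    obtain ⟨D2, hD2, hD2b⟩ := hmk 0 e2 ⟨fun i => (hsq _).trans (hsq _).symm, by rw [hpr]; simp [e2]⟩
    set E0 : Matrix (Fin 4) (Fin 4) F := (1 + (D1 : Matrix (Fin 4) (Fin 4) F)) * (1 + (D2 : Matrix (Fin 4) (Fin 4) F))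
    have hE0 : E0 ∈ alg R := mul_mem (add_mem (one_mem _) (coe_mem_alg hD1)) (add_mem (one_mem _) (coe_mem_alg hD2))
    have hE0b : ∀ i, E0 *ᵥ b i = if i = 0 then (4 : F) • b i else 0 := by
      intro i
      simp only [E0, ← mulVec_mulVec, add_mulVec, one_mulVec, mulVec_add, hD2b, hD1b, mulVec_smul, add_zero, smul_smul]
      have hall : ∀ j : KV, j = (0, 0) ∨ j = (0, 1) ∨ j = (1, 0) ∨ j = (1, 1) := by decide
      have z0 : (0 : KV) = (0, 0) := rfl
      rcases hall i with rfl | rfl | rfl | rfl <;> simp [e1, e2, z0]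
      rw [show (4 : F) = 1 + 1 + (1 + 1) by norm_num, add_smul, add_smul, one_smul]
    have h4 : (4 : F) ≠ 0 := by rw [show (4 : F) = 2 * 2 by norm_num]; exact mul_ne_zero h2 h2
    have hM : M = ∑ c : KV, ∑ c' : KV,
        ((4 : F)⁻¹ * b.repr (M *ᵥ b c') c) • ((T c : Matrix (Fin 4) (Fin 4) F) * E0 * (T c' : Matrix (Fin 4) (Fin 4) F)) := by
      refine hext fun j => ?_
      conv_lhs => rw [← b.sum_repr (M *ᵥ b j)]
      rw [Matrix.sum_mulVec]
      refine Finset.sum_congr rfl fun c _ => ?_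
      rw [Matrix.sum_mulVec, Finset.sum_eq_single j]
      · rw [smul_mulVec, ← mulVec_mulVec, (hT j).2, kv_add_self, ← mulVec_mulVec, hE0b, if_pos rfl, mulVec_smul,
          (hT c).2, zero_add, smul_smul, mul_right_comm, inv_mul_cancel₀ h4, one_mul]
      · intro c' _ hne
        rw [smul_mulVec, ← mulVec_mulVec, (hT c').2, ← mulVec_mulVec, hE0b, if_neg, mulVec_zero, smul_zero]
        intro h
        exact hne (by rw [← zero_add c', ← kv_add_self j, add_assoc, h, add_zero])
      · simp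
    rw [hM]
    exact sum_mem fun c _ => sum_mem fun c' _ =>
      Subalgebra.smul_mem _ (mul_mem (mul_mem (coe_mem_alg (hT c).1) hE0) (coe_mem_alg (hT c').1)) _
  have hsquare : ∀ x ∈ R, ∃ ν : F, ν * ν = 1 ∧ ((x * x : GL (Fin 4) F) : Matrix (Fin 4) (Fin 4) F) = ν • 1 := by
    rintro x ⟨c, d, hd, hx⟩
    refine ⟨d 0 * d c, ?_, hext fun i => ?_⟩
    · have := hd.1 c
      calc d 0 * d c * (d 0 * d c) = d 0 ^ 2 * d c ^ 2 := by ring
        _ = d 0 ^ 4 := by rw [this]; ring
        _ = 1 := hq4 _ (hd0 d hd 0)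
    · rw [Units.val_mul, ← mulVec_mulVec, hx, mulVec_smul, hx, smul_smul, add_assoc, kv_add_self, add_zero,
        smul_mulVec, one_mulVec]
      congr 1
      refine mul_right_cancel₀ (hd0 d hd 0) ?_
      have := haff d hd i c
      have := hd.1 i
      linear_combination d i * haff d hd i c + d c * hd.1 i
  have hpow : ∀ x ∈ R, x ^ 4 = 1 := by
    intro x hx
    obtain ⟨ν, hν, hxx⟩ := hsquare x hx
    refine Units.ext ?_
    rw [show x ^ 4 = (x * x) * (x * x) by rw [← mul_assoc]; simp [pow_succ], Units.val_mul, hxx, smul_mul_smul_comm, hν, one_mul, one_smul,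
      Units.val_one]
  have hRD : RData 2 4 R := by
    refine ⟨hsp, ?_, hpow⟩
    rintro x ⟨c, d, hd, hx⟩ y ⟨c', d', hd', hy⟩
    rw [mem_scalars_iff_isScalarMat]
    refine ⟨d c' * d' 0 / (d 0 * d' c), ?_⟩
    have key : ((x * y : GL (Fin 4) F) : Matrix (Fin 4) (Fin 4) F)
        = (d c' * d' 0 / (d 0 * d' c)) • ((y * x : GL (Fin 4) F) : Matrix (Fin 4) (Fin 4) F) := by
      refine hext fun i => ?_
      rw [Units.val_mul, Units.val_mul, smul_mulVec, ← mulVec_mulVec, ← mulVec_mulVec, hy, hx, mulVec_smul,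
        mulVec_smul, hx, hy, smul_smul, smul_smul, smul_smul]
      rw [show i + c + c' = i + c' + c by abel]
      congr 1
      have e1 := haff d hd i c'
      have e2 := haff d' hd' i c
      have n1 := hd0 d hd 0
      have n2 := hd0 d' hd' c
      field_simp
      linear_combination d' i * d' c * e1 - d c' * d i * e2
    rw [show x * y * x⁻¹ * y⁻¹ = (x * y) * (y * x)⁻¹ by group, Units.val_mul, key, smul_mul_assoc, ← Units.val_mul,
      mul_inv_cancel, Units.val_one]
  obtain ⟨g₀, hg₀⟩ := IsCyclic.exists_ofOrder_eq_natCard (α := Fˣ)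
  have hFu : Nat.card Fˣ = 4 := by rw [Nat.card_units, Nat.card_eq_fintype_card, hq]
  rw [hFu] at hg₀
  have hi : (g₀ : F) * g₀ = -1 := by
    have h4 : ((g₀ : F) * g₀ - 1) * ((g₀ : F) * g₀ + 1) = 0 := by
      linear_combination hq4 (g₀ : F) g₀.ne_zero
    refine eq_neg_of_add_eq_zero_left ((mul_eq_zero.mp h4).resolve_left fun h => ?_)
    have h' : g₀ ^ 2 = 1 := Units.ext (by simpa [sq] using sub_eq_zero.mp h)
    have := orderOf_le_of_pow_eq_one two_pos h'
    omega
  let mk : Fˣ →* GL (Fin 4) F := Units.map (Matrix.scalar (Fin 4) : F →+* Matrix (Fin 4) (Fin 4) F).toMonoidHom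
  have hmkv : ∀ u : Fˣ, (mk u : Matrix (Fin 4) (Fin 4) F) = (u : F) • 1 := fun u => by
    simp [mk, Matrix.smul_one_eq_diagonal]
  have hmkR : ∀ u : Fˣ, mk u ∈ R := fun u => hscal u u.ne_zero _ (hmkv u)
  -- characteristic abelian subgroups are scalar
  have hchar : ∀ A : Subgroup R, A.Characteristic → IsMulCommutative A → ∀ a ∈ A, ((a : R) : GL (Fin 4) F) ∈ scalars (Fin 4) F := by
    intro A hA hAc a ha
    by_contra hns
    obtain ⟨x, hx, hax⟩ : ∃ x ∈ R, ((a : R) : GL (Fin 4) F) * x ≠ x * ((a : R) : GL (Fin 4) F) := by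
      by_contra hc
      push_neg at hc
      exact hns (hsp.mem_scalars_of_commute hc)
    obtain ⟨u, huR, hau, hu⟩ : ∃ u ∈ R, ((a : R) : GL (Fin 4) F) * u ≠ u * ((a : R) : GL (Fin 4) F) ∧
        (u : Matrix (Fin 4) (Fin 4) F) * u = (-1 : F) • 1 := by
      obtain ⟨ν, hν, hxx⟩ := hsquare x hx
      rw [Units.val_mul] at hxx
      have : (ν - 1) * (ν + 1) = 0 := by linear_combination hν
      rcases mul_eq_zero.mp this with h | h
      · refine ⟨mk g₀ * x, R.mul_mem (hmkR g₀) hx, fun h' => hax ?_, ?_⟩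
        · rw [← mul_assoc, ← scalar_commute (⟨g₀, rfl⟩ : mk g₀ ∈ scalars (Fin 4) F), mul_assoc, mul_assoc] at h'
          exact mul_left_cancel h'
        · rw [Units.val_mul, hmkv, smul_mul_assoc, one_mul, smul_mul_smul_comm, hxx, smul_smul, hi,
            sub_eq_zero.mp h, mul_one]
      · exact ⟨x, hx, hax, by rw [hxx, eq_neg_of_add_eq_zero_left h]⟩
    let W : GL (Fin 4) F :=
      { val := 1 + (u : Matrix (Fin 4) (Fin 4) F)
        inv := (2 : F)⁻¹ • (1 - (u : Matrix (Fin 4) (Fin 4) F))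
        val_inv := by
          rw [mul_smul_comm, add_mul, one_mul, mul_sub, mul_one, hu, neg_smul, one_smul, sub_neg_eq_add]
          rw [show 1 - (u : Matrix (Fin 4) (Fin 4) F) + ((u : Matrix (Fin 4) (Fin 4) F) + 1) = (2 : F) • 1 by
            rw [two_smul]; abel, smul_smul, inv_mul_cancel₀ h2, one_smul]
        inv_val := by
          rw [smul_mul_assoc, sub_mul, one_mul, mul_add, mul_one, hu, neg_smul, one_smul]
          rw [show 1 + (u : Matrix (Fin 4) (Fin 4) F) - ((u : Matrix (Fin 4) (Fin 4) F) + -1) = (2 : F) • 1 by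
            rw [two_smul]; abel, smul_smul, inv_mul_cancel₀ h2, one_smul] }
    have hWv : (W : Matrix (Fin 4) (Fin 4) F) = 1 + (u : Matrix (Fin 4) (Fin 4) F) := rfl
    have hneg : mk (-1) ∈ R := hmkR _
    have hconj : ∀ y ∈ R, W * y * W⁻¹ = y ∨ (¬ (y * u = u * y) ∧ W * y * W⁻¹ = mk (-1) * (y * u)) := by
      intro y hy
      by_cases hc : y * u = u * y
      · left
        rw [mul_inv_eq_iff_eq_mul]
        refine Units.ext ?_
        have := congrArg (fun z : GL (Fin 4) F => (z : Matrix (Fin 4) (Fin 4) F)) hc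
        simp only [Units.val_mul] at this
        rw [Units.val_mul, Units.val_mul, hWv, add_mul, mul_add, one_mul, mul_one, this]
      · right
        refine ⟨hc, ?_⟩
        obtain ⟨μ, hμ⟩ := mem_scalars_iff_isScalarMat.mp (hRD.comm_scalar y hy u huR)
        have hyu : (y : Matrix (Fin 4) (Fin 4) F) * u = μ • ((u : Matrix (Fin 4) (Fin 4) F) * y) := by
          calc (y : Matrix (Fin 4) (Fin 4) F) * u = ((y * u * y⁻¹ * u⁻¹ : GL (Fin 4) F) : Matrix (Fin 4) (Fin 4) F)
              * ((u : Matrix (Fin 4) (Fin 4) F) * y) := by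
                rw [← Units.val_mul, ← Units.val_mul, ← Units.val_mul]; congr 1; group
            _ = _ := by rw [hμ, smul_mul_assoc, one_mul]
        have hμ2 : μ * μ = 1 := by
          have e1 : (y : Matrix (Fin 4) (Fin 4) F) * ((u : Matrix (Fin 4) (Fin 4) F) * u)
              = (μ * μ) • (((u : Matrix (Fin 4) (Fin 4) F) * u) * y) := by
            rw [← mul_assoc, hyu, smul_mul_assoc, mul_assoc, hyu, mul_smul_comm, smul_smul, ← mul_assoc]
          rw [hu, mul_smul_comm, mul_one, smul_mul_assoc, one_mul, smul_smul] at e1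
          have e2 : ((-1 : F) - μ * μ * (-1)) • (y : Matrix (Fin 4) (Fin 4) F) = 0 := by
            rw [sub_smul, ← e1, sub_self]
          linear_combination (smul_eq_zero.mp e2).resolve_right y.ne_zero
        have hμm : μ = -1 := by
          have : (μ - 1) * (μ + 1) = 0 := by linear_combination hμ2
          refine eq_neg_of_add_eq_zero_left ((mul_eq_zero.mp this).resolve_left fun h => hc ?_)
          refine Units.ext ?_
          rw [Units.val_mul, Units.val_mul, hyu, sub_eq_zero.mp h, one_smul]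
        rw [hμm, neg_smul, one_smul] at hyu
        rw [mul_inv_eq_iff_eq_mul]
        refine Units.ext ?_
        simp only [Units.val_mul, hmkv, Units.val_neg, Units.val_one, hWv, neg_smul, one_smul, neg_mul,
          one_mul, add_mul, mul_add, mul_one]
        rw [mul_assoc (y : Matrix (Fin 4) (Fin 4) F), hu, hyu, neg_smul, one_smul, mul_neg, mul_one, neg_neg,
          neg_neg, add_comm]
    have hWR : ∀ y ∈ R, W * y * W⁻¹ ∈ R := fun y hy => by
      rcases hconj y hy with h | ⟨-, h⟩ <;> rw [h]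
      · exact hy
      · exact R.mul_mem hneg (R.mul_mem hy huR)
    have hWfix : Subgroup.map (MulAut.conj W).toMonoidHom R = R := by
      refine SetLike.coe_injective (Set.eq_of_subset_of_ncard_le ?_ ?_ (Set.toFinite _))
      · rintro _ ⟨y, hy, rfl⟩; exact hWR y hy
      · rw [Subgroup.coe_map]
        exact (Set.ncard_image_of_injective _ (MulAut.conj W).injective).ge
    let α : R ≃* R := ((MulAut.conj W).subgroupMap R).trans (MulEquiv.subgroupCongr hWfix)
    have hαA : α a ∈ A := Subgroup.characteristic_iff_map_eq.mp hA α ▸ Subgroup.mem_map_of_mem α.toMonoidHom ha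
    have hcomm := congrArg (fun z : A => ((z : R) : GL (Fin 4) F)) (hAc.is_comm.comm ⟨a, ha⟩ ⟨α a, hαA⟩)
    simp only [Subgroup.coe_mul] at hcomm
    change (a : GL (Fin 4) F) * (W * a * W⁻¹) = W * a * W⁻¹ * a at hcomm
    rcases hconj _ (a : R).2 with h | ⟨hne, h⟩
    · refine hau (Units.ext ?_)
      have h' := congrArg (fun z : GL (Fin 4) F => (z : Matrix (Fin 4) (Fin 4) F)) (mul_inv_eq_iff_eq_mul.mp h)
      simp only [Units.val_mul, hWv, add_mul, mul_add, one_mul, mul_one, add_right_inj] at h'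
      simp only [Units.val_mul]
      exact h'.symm
    · rw [h, ← mul_assoc, ← scalar_commute (⟨-1, rfl⟩ : mk (-1) ∈ scalars (Fin 4) F), mul_assoc, mul_assoc] at hcomm
      refine hau ?_
      rw [mul_assoc] at hcomm
      exact mul_left_cancel (mul_left_cancel hcomm)
  have hcenter : Nat.card (Subgroup.center R) = 4 := by
    rw [hRD.card_center (fun z hz _ => ?_), hFu]; rfl
    obtain ⟨l, hl⟩ := mem_scalars_iff_isScalarMat.mp hz
    refine hscal l ?_ z hl
    rintro rfl
    rw [zero_smul] at hl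
    exact z.ne_zero hl
  have hcardR : Nat.card R = 2 ^ (2 + 2 * 2) := by
    rw [hRD.card_eq, hcenter, Fintype.card_fin]; rfl
  have hexp : Monoid.exponent R = 4 := by
    refine Nat.dvd_antisymm (Monoid.exponent_dvd_of_forall_pow_eq_one fun x => Subtype.ext (hpow x x.2)) ?_
    have hinj : Function.Injective mk := scalarMap_injective
    have h := Monoid.order_dvd_exponent (⟨mk g₀, hmkR g₀⟩ : R)
    rwa [← Subgroup.orderOf_coe, orderOf_injective mk hinj, hg₀] at h
  have hpg : IsPGroup 2 R := IsPGroup.of_card hcardR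
  have hsymp : IsSymplecticTypeGroup 2 R := by
    refine ⟨Nat.prime_two, hpg, fun A hA hAc => ?_, by rw [hexp]; rfl⟩
    let toF : A →* F :=
    { toFun := fun a => ((a : R) : GL (Fin 4) F).val 0 0
      map_one' := by simp
      map_mul' := fun a c => by
        obtain ⟨k, hk⟩ := exists_unit_of_mem_scalars (hchar A hA hAc a a.2)
        show ((((a : R) : GL (Fin 4) F) * ((c : R) : GL (Fin 4) F) : GL (Fin 4) F) : Matrix (Fin 4) (Fin 4) F) 0 0 = _
        rw [← hk]
        simp }
    refine isCyclic_of_subgroup_isDomain toF fun a c hac => ?_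
    obtain ⟨k, hk⟩ := exists_unit_of_mem_scalars (hchar A hA hAc a a.2)
    obtain ⟨k', hk'⟩ := exists_unit_of_mem_scalars (hchar A hA hAc c c.2)
    refine Subtype.ext (Subtype.ext ?_)
    rw [← hk, ← hk']
    congr 1
    refine Units.ext ?_
    simpa [toF, ← hk, ← hk'] using hac
  obtain ⟨p, f, hp, hchar', hf0, hcard⟩ := exists_prime_pow (F := F)
  obtain ⟨rfl, rfl⟩ : p = 5 ∧ f = 1 := by
    have h5 : p ^ f = 5 := hcard.symm.trans hq
    have hpd : p ∣ 5 := h5 ▸ dvd_pow_self p (by omega)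
    obtain rfl := (Nat.prime_dvd_prime_iff_eq hp (by norm_num)).mp hpd
    exact ⟨rfl, Nat.pow_right_injective (le_trans (by norm_num) le_rfl : 2 ≤ 5) (h5.trans (pow_one 5).symm)⟩
  refine ⟨R, ⟨hsymp, hsp.absIrred, 5, 1, by norm_num, ⟨hp, hchar', hcard, by rw [hcenter]; norm_num,
    fun d hd hd1 => absurd hd1 (by omega)⟩, Or.inr (Or.inl ⟨rfl, rfl, hcenter, by simp, 2, hcardR⟩)⟩, ?_⟩
  -- the normaliser
  refine Norms.le_normalizer ?_
  rintro g ⟨hg, hgd⟩ r ⟨c, d, hd, hr⟩
  obtain ⟨σ₀, a₀, ha₀⟩ := hb₀ g hg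
  let σ : Equiv.Perm KV := e.symm.trans (σ₀.trans e)
  let a : KV → F := fun i => a₀ (e.symm i)
  have ha : ∀ i, a i ≠ 0 ∧ (g : Matrix (Fin 4) (Fin 4) F) *ᵥ b i = a i • b (σ i) := fun i => by
    refine ⟨(ha₀ _).1, ?_⟩
    simp only [b, Module.Basis.reindex_apply, σ, a, Equiv.trans_apply, Equiv.symm_apply_apply]
    exact (ha₀ _).2
  have hprod : (∏ i, a i) ^ 2 = 1 := by
    have hmat : LinearMap.toMatrix b b (Matrix.toLin' (g : Matrix (Fin 4) (Fin 4) F))
        = (Matrix.diagonal a).submatrix σ.symm id := by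
      ext i j
      rw [LinearMap.toMatrix_apply, Matrix.toLin'_apply, (ha j).2]
      rcases eq_or_ne (σ j) i with h | h
      · subst h; simp
      · have : σ.symm i ≠ j := fun h' => h (by rw [← h', Equiv.apply_symm_apply])
        simp [h, this]
    have h := congrArg Matrix.det hmat
    rw [LinearMap.det_toMatrix, LinearMap.det_toLin', det_mem_sl.mp hgd, Matrix.det_permute, det_diagonal] at h
    rcases Int.units_eq_one_or (Equiv.Perm.sign σ.symm) with hs | hs <;> rw [hs] at h <;> simp at h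
    · rw [← h, one_pow]
    · rw [show ∏ i, a i = -1 by linear_combination h, neg_one_sq]
  have hw : ∀ i j, a (i + j) ^ 2 * a 0 ^ 2 = a i ^ 2 * a j ^ 2 := fun i j =>
    sign_affine (fun i => a i ^ 2) (fun i => by rw [← sq, ← pow_mul]; exact hq4 _ (ha i).1)
      (by rw [Finset.prod_pow, hprod]) i j
  let d' : KV → F := fun i => (a (σ.symm i))⁻¹ * d (σ.symm i) * a (σ.symm i + c)
  have hd' : cond d' := by
    refine ⟨fun i => ?_, ?_⟩
    · have key : ∀ j, ((a j)⁻¹ * d j * a (j + c)) ^ 2 = (a 0)⁻¹ ^ 2 * d 0 ^ 2 * a c ^ 2 := fun j => by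
        have hj := (ha j).1
        have h0 := (ha 0).1
        rw [mul_pow, mul_pow, hd.1 j]
        field_simp
        linear_combination d 0 ^ 2 * hw j c
      exact (key _).trans (key _).symm
    · have h1 : ∏ i, d' i = ∏ j, (a j)⁻¹ * d j * a (j + c) := Equiv.prod_comp σ.symm (fun j => (a j)⁻¹ * d j * a (j + c))
      rw [h1, Finset.prod_mul_distrib, Finset.prod_mul_distrib, hd.2, mul_one,
        show ∏ j, a (j + c) = ∏ j, a j from Equiv.prod_comp (Equiv.addRight c) a, Finset.prod_inv_distrib, inv_mul_cancel₀]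
      exact Finset.prod_ne_zero_iff.mpr fun i _ => (ha i).1
  refine (hRmem _).mpr ⟨σ c + σ 0, d', hd', fun i => ?_⟩
  obtain ⟨j, rfl⟩ := σ.surjective i
  have hinv : ((g⁻¹ : GL (Fin 4) F) : Matrix (Fin 4) (Fin 4) F) *ᵥ b (σ j) = (a j)⁻¹ • b j := by
    refine gl_mulVec_injective g ?_
    show (g : Matrix (Fin 4) (Fin 4) F) *ᵥ _ = (g : Matrix (Fin 4) (Fin 4) F) *ᵥ _
    rw [gl_mulVec_inv_mulVec, mulVec_smul, (ha j).2, smul_smul, inv_mul_cancel₀ (ha j).1, one_smul]
  rw [gl_mulVec_mul, gl_mulVec_mul, hinv, mulVec_smul, hr, mulVec_smul, mulVec_smul, (ha (j + c)).2, smul_smul,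
    smul_smul, kv_affine, add_assoc]
  simp [d']

end CfsgLib.Asch
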