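import Mathlib

/-!
# Coordinates for a field of nine elements
-/

set_option autoImplicit false

namespace CfsgLib.Asch.Nine

/-- the code of `a + b i` -/
def mk (a b : ℕ) : Fin 9 := ⟨a % 3 + 3 * (b % 3), by omega⟩

/-- addition of codes -/
def add (x y : Fin 9) : Fin 9 := mk (x.val % 3 + y.val % 3) (x.val / 3 + y.val / 3)

/-- multiplication of codes -/
def mul (x y : Fin 9) : Fin 9 :=
  mk ((x.val % 3) * (y.val % 3) + 2 * ((x.val / 3) * (y.val / 3)))
    ((x.val % 3) * (y.val / 3) + (x.val / 3) * (y.val % 3))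

/-- the involution -/
def conj (x : Fin 9) : Fin 9 := mk (x.val % 3) (2 * (x.val / 3))

/-- the norm -/
def norm (x : Fin 9) : Fin 9 := mul x (conj x)

variable {F : Type*} [Field F] [Fintype F]

/-- a field of nine elements is read off from a square root of minus one -/
theorem exists_code (h9 : Fintype.card F = 9) :
    ∃ φ : Fin 9 → F, Function.Bijective φ ∧ φ 0 = 0 ∧ φ 1 = 1 ∧ (∀ a b, φ (add a b) = φ a + φ b) ∧
      (∀ a b, φ (mul a b) = φ a * φ b) ∧ (∀ a, φ (conj a) = φ a ^ 3) := by
  classical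
  have h3 : (3 : F) = 0 := by
    have h := FiniteField.cast_card_eq_zero F
    rw [h9] at h
    push_cast at h
    exact mul_self_eq_zero.mp (show (3 : F) * 3 = 0 by linear_combination h)
  obtain ⟨i, hi⟩ := (FiniteField.isSquare_neg_one_iff (F := F)).mpr (by rw [h9]; norm_num)
  have hcast : ∀ k : ℕ, ((k % 3 : ℕ) : F) = (k : F) := fun k => by
    conv_rhs => rw [← Nat.mod_add_div k 3, Nat.cast_add, Nat.cast_mul]
    push_cast
    linear_combination -((k / 3 : ℕ) : F) * h3
  let φ : Fin 9 → F := fun x => ((x.val % 3 : ℕ) : F) + ((x.val / 3 : ℕ) : F) * i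
  have hmk : ∀ a b, φ (mk a b) = (a : F) + (b : F) * i := fun a b => by
    simp only [φ, mk]
    rw [show (a % 3 + 3 * (b % 3)) % 3 = a % 3 by omega, show (a % 3 + 3 * (b % 3)) / 3 = b % 3 by omega,
      hcast, hcast]
  have hcases : ∀ x : Fin 9, φ x = 0 → x = 0 := by
    intro x hx
    by_contra hne
    have h2 : (2 : F) ≠ 0 := fun h => one_ne_zero (show (1 : F) = 0 by linear_combination h3 - h)
    fin_cases x
    · exact hne rfl
    all_goals simp [φ] at hx
    all_goals first
      | exact h2 hx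
      | grind
  have hadd : ∀ a b, φ (add a b) = φ a + φ b := fun a b => by
    rw [add, hmk]; simp only [φ]; push_cast; ring
  have hmul : ∀ a b, φ (mul a b) = φ a * φ b := fun a b => by
    rw [mul, hmk]; simp only [φ]; push_cast
    linear_combination ((a.val / 3 : ℕ) : F) * ((b.val / 3 : ℕ) : F) * h3 + ((a.val / 3 : ℕ) : F) * ((b.val / 3 : ℕ) : F) * hi
  have hsub : ∀ x y : Fin 9, φ (add x (mul y 2)) = φ x - φ y := fun x y => by
    rw [hadd, hmul, show φ 2 = 2 by simp [φ]]
    linear_combination φ y * h3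
  have hinj : Function.Injective φ := fun x y h =>
    (by decide : ∀ x y : Fin 9, add x (mul y 2) = 0 → x = y) x y (hcases _ ((hsub x y).trans (sub_eq_zero.mpr h)))
  refine ⟨φ, (Fintype.bijective_iff_injective_and_card φ).mpr ⟨hinj, by rw [h9, Fintype.card_fin]⟩, by simp [φ],
    by simp [φ], hadd, hmul, fun a => ?_⟩
  · rw [conj, hmk]
    simp only [φ]
    push_cast
    have hc : ∀ k : ℕ, k < 3 → (k : F) ^ 3 = (k : F) := fun k hk => by
      interval_cases k <;> push_cast <;> first | ring1 | linear_combination (2 : F) * h3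
    have e1 := hc (a.val % 3) (Nat.mod_lt _ (by norm_num))
    have e2 := hc (a.val / 3) (by omega)
    linear_combination ((a.val / 3 : ℕ) : F) * i * h3 - e1 + i * e2 + ((a.val / 3 : ℕ) : F) ^ 3 * i * hi
      - ((a.val % 3 : ℕ) : F) * ((a.val / 3 : ℕ) : F) * i * (((a.val % 3 : ℕ) : F) + ((a.val / 3 : ℕ) : F) * i) * h3

end CfsgLib.Asch.Nine
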