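import Cfsg.Agent.Lib.Aschbacher.Tensor
import Cfsg.Agent.Lib.Aschbacher.Structure

/-!
# Several commuting systems of matrix units generating everything: tensor power coordinates
-/

set_option autoImplicit false

namespace CfsgLib.Asch

open Matrix Cfsg.Geo
open scoped MatrixGroups Kronecker

variable {ι : Type} [Fintype ι] [DecidableEq ι] [Nonempty ι] {F : Type*} [Field F] [Fintype F]
  {m t : ℕ}

omit [Nonempty ι] [Fintype F] in
/-- from commuting systems of matrix units to a system of matrix units on the product index -/
theorem exists_power_coord [Nonempty ι] (hm : 0 < m) (ε : Fin t → Fin m → Fin m → Matrix ι ι F)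
    (hε : ∀ i, MUnits (ε i))
    (hcomm : ∀ i j, i ≠ j → ∀ a b c d, ε i a b * ε j c d = ε j c d * ε i a b)
    (hgen : ∀ X : Matrix ι ι F, (∀ i a b, X * ε i a b = ε i a b * X) → IsScalarMat X) :
    ∃ (e : ι ≃ (Fin t → Fin m)) (P : GL ι F),
      ∀ i a b, ε i a b = cw e P (pw (Function.update 1 i (single a b 1))) := by
  classical
  haveI : Nonempty (Fin m) := ⟨⟨0, hm⟩⟩
  have hcc : ∀ (x y : Fin t → Fin m) (s : Finset (Fin t)),
      (s : Set (Fin t)).Pairwise fun i j => Commute (ε i (x i) (y i)) (ε j (x j) (y j)) :=
    fun x y s i _ j _ hij => hcomm i j hij _ _ _ _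
  let E : (Fin t → Fin m) → (Fin t → Fin m) → Matrix ι ι F := fun x y =>
    Finset.univ.noncommProd (fun i => ε i (x i) (y i)) (hcc x y _)
  have hcr : ∀ (x y z w : Fin t → Fin m) (s : Finset (Fin t)),
      (s : Set (Fin t)).Pairwise fun i j => Commute (ε i (z i) (w i)) (ε j (x j) (y j)) :=
    fun x y z w s i _ j _ hij => hcomm i j hij _ _ _ _
  have hEE : ∀ x y z w, E x y * E z w = Finset.univ.noncommProd
      (fun i => ε i (x i) (y i) * ε i (z i) (w i))
      (Finset.noncommProd_mul_distrib_aux (hcc x y _) (hcc z w _) (hcr x y z w _)) :=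
    fun x y z w => (Finset.noncommProd_mul_distrib _ _ (hcc x y _) (hcc z w _) (hcr x y z w _)).symm
  have hsame : ∀ x y w, E x y * E y w = E x w := by
    intro x y w
    rw [hEE]
    exact Finset.noncommProd_congr rfl (fun i _ => (hε i).mul_same _ _ _) _
  have hne : ∀ x y z w, y ≠ z → E x y * E z w = 0 := by
    intro x y z w hyz
    obtain ⟨i, hi⟩ := Function.ne_iff.mp hyz
    rw [hEE, ← Finset.mul_noncommProd_erase Finset.univ (Finset.mem_univ i) _ _,
      (hε i).mul_ne _ _ _ _ hi, zero_mul]
  have hleft : ∀ i a b x y, ε i a b * E x y = if b = x i then E (Function.update x i a) y else 0 := by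
    intro i a b x y
    rw [show E x y = ε i (x i) (y i) * (Finset.univ.erase i).noncommProd (fun j => ε j (x j) (y j)) (hcc x y _)
      from (Finset.mul_noncommProd_erase Finset.univ (Finset.mem_univ i) _ _).symm]
    split
    next h =>
      subst h
      rw [← mul_assoc, (hε i).mul_same,
        show E (Function.update x i a) y = ε i ((Function.update x i a) i) (y i) *
          (Finset.univ.erase i).noncommProd (fun j => ε j ((Function.update x i a) j) (y j)) (hcc _ y _)
          from (Finset.mul_noncommProd_erase Finset.univ (Finset.mem_univ i) _ _).symm, Function.update_self]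
      congr 1
      exact Finset.noncommProd_congr rfl (fun j hj => by
        rw [Function.update_of_ne (Finset.ne_of_mem_erase hj)]) _
    next h => rw [← mul_assoc, (hε i).mul_ne _ _ _ _ h, zero_mul]
  have hright : ∀ i a b x y, E x y * ε i a b = if y i = a then E x (Function.update y i b) else 0 := by
    intro i a b x y
    rw [show E x y = (Finset.univ.erase i).noncommProd (fun j => ε j (x j) (y j)) (hcc x y _) * ε i (x i) (y i)
      from (Finset.noncommProd_erase_mul Finset.univ (Finset.mem_univ i) _ _).symm]
    split
    next h =>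
      subst h
      rw [mul_assoc, (hε i).mul_same,
        show E x (Function.update y i b) = (Finset.univ.erase i).noncommProd
          (fun j => ε j (x j) ((Function.update y i b) j)) (hcc x _ _) * ε i (x i) ((Function.update y i b) i)
          from (Finset.noncommProd_erase_mul Finset.univ (Finset.mem_univ i) _ _).symm, Function.update_self]
      congr 1
      exact Finset.noncommProd_congr rfl (fun j hj => by
        rw [Function.update_of_ne (Finset.ne_of_mem_erase hj)]) _
    next h => rw [mul_assoc, (hε i).mul_ne _ _ _ _ h, mul_zero]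
  -- the diagonal sum is 1
  have hnz : ∃ x, E x x ≠ 0 := by
    have key : ∀ s : Finset (Fin t), ∃ x : Fin t → Fin m,
        s.noncommProd (fun i => ε i (x i) (x i)) (hcc x x _) ≠ 0 := by
      intro s
      induction s using Finset.induction with
      | empty => exact ⟨fun _ => ⟨0, hm⟩, by rw [Finset.noncommProd_empty]; exact one_ne_zero⟩
      | @insert i s his ih =>
        obtain ⟨x, hx⟩ := ih
        obtain ⟨a, ha⟩ : ∃ a, ε i a a * s.noncommProd (fun i => ε i (x i) (x i)) (hcc x x _) ≠ 0 := by
          by_contra hc
          push_neg at hc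
          refine hx ?_
          rw [← one_mul (s.noncommProd _ _), ← (hε i).sum_one, Finset.sum_mul]
          exact Finset.sum_eq_zero fun a _ => hc a
        refine ⟨Function.update x i a, ?_⟩
        rw [Finset.noncommProd_insert_of_notMem _ _ _ _ his, Function.update_self,
          Finset.noncommProd_congr rfl (g := fun j => ε j (x j) (x j)) (fun j hj => by
            rw [Function.update_of_ne (fun h : j = i => his (h ▸ hj))]) _]
        exact ha
    exact key Finset.univ
  have hsum : ∑ x, E x x = 1 := by
    obtain ⟨c, hc⟩ := hgen (∑ x, E x x) (fun i a b => by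
      rw [Finset.sum_mul, Finset.mul_sum]
      simp only [hright, hleft]
      rw [← Finset.sum_filter, ← Finset.sum_filter]
      refine Finset.sum_nbij' (fun x => Function.update x i b) (fun x => Function.update x i a)
        ?_ ?_ ?_ ?_ ?_
      · intro x hx; simp
      · intro x hx; simp
      · intro x hx; simp only [Finset.mem_filter] at hx; simp [← hx.2]
      · intro x hx; simp only [Finset.mem_filter] at hx; simp [hx.2]
      · intro x hx
        simp only [Finset.mem_filter] at hx
        simp [← hx.2])
    obtain ⟨x, hx⟩ := hnz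
    have h1 : E x x * ∑ y, E y y = E x x := by
      rw [Finset.mul_sum, Finset.sum_eq_single x (fun y _ hy => hne _ _ _ _ (Ne.symm hy)) (by simp), hsame]
    rw [hc, mul_smul_comm, mul_one] at h1
    have h2 : (c - 1) • E x x = 0 := by rw [sub_smul, h1, one_smul, sub_self]
    rw [hc, sub_eq_zero.mp ((smul_eq_zero.mp h2).resolve_right hx), one_smul]
  have hM : MUnits E := ⟨hsame, hne, hsum⟩
  obtain ⟨k, e, P, hP⟩ := hM.exists_coord (fun _ => ⟨0, hm⟩)
  -- each system lies in the left factor
  have hsingle : ∀ i a b, ε i a b =
      tens e P (pw (Function.update (1 : Fin t → Matrix (Fin m) (Fin m) F) i (single a b 1))) 1 := by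
    intro i a b
    have hexp : ε i a b = ∑ x, if b = x i then E (Function.update x i a) x else 0 := by
      conv_lhs => rw [← mul_one (ε i a b), ← hsum, Finset.mul_sum]
      exact Finset.sum_congr rfl fun x _ => hleft i a b x x
    have hpw : pw (Function.update (1 : Fin t → Matrix (Fin m) (Fin m) F) i (single a b 1))
        = ∑ x : Fin t → Fin m, if b = x i then single (Function.update x i a) x (1 : F) else 0 := by
      ext p q
      simp only [Matrix.sum_apply]
      rw [Finset.sum_eq_single q]
      · simp only [pw, Matrix.of_apply]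
        rw [← Finset.mul_prod_erase _ _ (Finset.mem_univ i), Function.update_self,
          Finset.prod_congr rfl (fun j hj => by
            rw [Function.update_of_ne (Finset.ne_of_mem_erase hj)] :
              ∀ j ∈ Finset.univ.erase i, _ = (1 : Fin t → Matrix (Fin m) (Fin m) F) j (p j) (q j))]
        by_cases hc : Function.update q i a = p ∧ b = q i
        · obtain ⟨rfl, rfl⟩ := hc
          rw [if_pos rfl, Finset.prod_eq_one]
          · simp
          · intro j hj
            rw [Pi.one_apply, Function.update_of_ne (Finset.ne_of_mem_erase hj), Matrix.one_apply_eq]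
        · have hrhs : (if b = q i then single (Function.update q i a) q (1 : F) else 0) p q = 0 := by
            split_ifs with hb
            · rw [Matrix.single_apply, if_neg (fun h => hc ⟨h.1, hb⟩)]
            · rfl
          rw [hrhs, Matrix.single_apply]
          split_ifs with hab
          · obtain ⟨rfl, rfl⟩ := hab
            obtain ⟨j, hj⟩ := Function.ne_iff.mp (fun h => hc ⟨h, rfl⟩)
            have hji : j ≠ i := by rintro rfl; simp at hj
            rw [Function.update_of_ne hji] at hj
            rw [Finset.prod_eq_zero (Finset.mem_erase.mpr ⟨hji, Finset.mem_univ j⟩)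
              (by simp [Matrix.one_apply_ne (Ne.symm hj)]), mul_zero]
          · rw [zero_mul]
      · intro x _ hxq
        split_ifs
        · rw [Matrix.single_apply, if_neg (fun h => hxq h.2)]
        · rfl
      · simp
    rw [hexp, hpw]
    simp only [hP]
    have : ∀ (M : (Fin t → Fin m) → Matrix (Fin t → Fin m) (Fin t → Fin m) F) (s : Finset (Fin t → Fin m)),
        tens e P (∑ x ∈ s, M x) (1 : Matrix (Fin k) (Fin k) F) = ∑ x ∈ s, tens e P (M x) 1 := by
      intro M s
      induction s using Finset.induction with
      | empty => simp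
      | @insert x s hxs ih => rw [Finset.sum_insert hxs, Finset.sum_insert hxs, tens_add_left, ih]
    rw [this]
    refine Finset.sum_congr rfl fun x _ => ?_
    split <;> simp
  have hk : k = 1 := by
    have hk0 : 0 < k := Fin.pos (e (Classical.arbitrary ι)).2
    by_contra hne'
    let j₀ : Fin k := ⟨0, hk0⟩
    let j₁ : Fin k := ⟨1, by omega⟩
    obtain ⟨c, hc⟩ := hgen (tens e P 1 (single j₀ j₀ 1)) (fun i a b => by
      rw [hsingle]; exact (commute_tens _ _).symm)
    have h1 : tens e P (1 : Matrix (Fin t → Fin m) (Fin t → Fin m) F) (single j₀ j₀ 1) = tens e P 1 (c • 1) := by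
      rw [hc, tens_smul_right, tens_one]
    have h2 := (Matrix.reindexAlgEquiv F F e.symm).injective (cj_injective P h1)
    have hne01 : j₀ ≠ j₁ := by simp [j₀, j₁, Fin.ext_iff]
    let x₀ : Fin t → Fin m := fun _ => ⟨0, hm⟩
    have h00 := congrFun (congrFun h2 (x₀, j₀)) (x₀, j₀)
    have h11 := congrFun (congrFun h2 (x₀, j₁)) (x₀, j₁)
    simp [hne01] at h00 h11
    rw [← h11] at h00
    exact one_ne_zero h00
  subst hk
  refine ⟨e.trans (Equiv.prodUnique _ (Fin 1)), P, fun i a b => ?_⟩
  rw [hsingle, tens, cw]
  refine congrArg (cj P) ?_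
  ext p q
  simp
  rw [Subsingleton.elim ((e p).2) ((e q).2), Matrix.one_apply_eq, mul_one]

omit [Nonempty ι] [Fintype F] in
lemma update_one_smul (i : Fin t) (c : F) (A : Matrix (Fin m) (Fin m) F) :
    pw (Function.update 1 i (c • A)) = c • pw (Function.update (1 : Fin t → Matrix (Fin m) (Fin m) F) i A) := by
  ext p q
  simp only [pw, Matrix.of_apply, Matrix.smul_apply]
  rw [← Finset.mul_prod_erase _ _ (Finset.mem_univ i),
    ← Finset.mul_prod_erase _ (fun j => Function.update (1 : Fin t → Matrix (Fin m) (Fin m) F) i A j (p j) (q j))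
      (Finset.mem_univ i), Function.update_self, Function.update_self, Matrix.smul_apply, smul_eq_mul,
    smul_eq_mul, mul_assoc]
  congr 2
  exact Finset.prod_congr rfl fun j hj => by
    rw [Function.update_of_ne (Finset.ne_of_mem_erase hj), Function.update_of_ne (Finset.ne_of_mem_erase hj)]

omit [Nonempty ι] [Fintype F] in
lemma update_one_add (i : Fin t) (A B : Matrix (Fin m) (Fin m) F) :
    pw (Function.update 1 i (A + B)) = pw (Function.update (1 : Fin t → Matrix (Fin m) (Fin m) F) i A)
      + pw (Function.update 1 i B) := by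
  ext p q
  have key : ∀ C : Matrix (Fin m) (Fin m) F,
      (∏ j, Function.update (1 : Fin t → Matrix (Fin m) (Fin m) F) i C j (p j) (q j))
        = C (p i) (q i) * ∏ j ∈ Finset.univ.erase i, (1 : Fin t → Matrix (Fin m) (Fin m) F) j (p j) (q j) := by
    intro C
    rw [← Finset.mul_prod_erase _ _ (Finset.mem_univ i), Function.update_self]
    congr 1
    exact Finset.prod_congr rfl fun j hj => by rw [Function.update_of_ne (Finset.ne_of_mem_erase hj)]
  simp only [pw, Matrix.of_apply, Matrix.add_apply, key, add_mul]

omit [Nonempty ι] [Fintype F] in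
lemma update_one_mul (i : Fin t) (A B : Matrix (Fin m) (Fin m) F) :
    pw (Function.update 1 i A) * pw (Function.update 1 i B)
      = pw (Function.update (1 : Fin t → Matrix (Fin m) (Fin m) F) i (A * B)) := by
  rw [pw_mul]
  congr 1
  funext j
  rcases eq_or_ne j i with rfl | hj <;> simp [*]

omit [Nonempty ι] [Fintype F] in
lemma update_one_injective (hm : 0 < m) (i : Fin t) {A B : Matrix (Fin m) (Fin m) F}
    (h : pw (Function.update (1 : Fin t → Matrix (Fin m) (Fin m) F) i A) = pw (Function.update 1 i B)) :
    A = B := by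
  ext a b
  let p : Fin t → Fin m := Function.update (fun _ => ⟨0, hm⟩) i a
  let q : Fin t → Fin m := Function.update (fun _ => ⟨0, hm⟩) i b
  have key : ∀ C : Matrix (Fin m) (Fin m) F,
      (∏ j, Function.update (1 : Fin t → Matrix (Fin m) (Fin m) F) i C j (p j) (q j)) = C a b := by
    intro C
    rw [← Finset.mul_prod_erase _ _ (Finset.mem_univ i), Function.update_self, Finset.prod_eq_one]
    · simp [p, q]
    · intro j hj
      simp [Function.update_of_ne (Finset.ne_of_mem_erase hj), p, q]
  have := congrFun (congrFun h p) q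
  simpa [pw, key] using this

omit [Fintype F] in
/-- a unit fixing every factor algebra is a pure tensor -/
theorem eq_pwUnit_of_fixes (hm : 0 < m) (ht : 0 < t) {w : GL (Fin t → Fin m) F}
    (hw' : ∀ i (A : Matrix (Fin m) (Fin m) F), ∃ A',
      cj w (pw (Function.update 1 i A)) = pw (Function.update 1 i A')) :
    ∃ b : Fin t → GL (Fin m) F, w = pwUnit b := by
  classical
  choose θ hθ using hw'
  have hinner : ∀ i, ∃ a : GL (Fin m) F, ∀ A,
      θ i A = (a : Matrix (Fin m) (Fin m) F) * A * ((a⁻¹ : GL (Fin m) F) : Matrix (Fin m) (Fin m) F) := by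
    intro i
    have hone : θ i 1 = 1 := update_one_injective hm i (by
      rw [← hθ, Function.update_eq_self_iff.mpr (by rfl), pw_one, cj_one])
    have hadd : ∀ A B, θ i (A + B) = θ i A + θ i B := fun A B => update_one_injective hm i (by
      rw [← hθ, update_one_add, update_one_add, cj_add, hθ, hθ])
    have hsmul : ∀ (c : F) A, θ i (c • A) = c • θ i A := fun c A => update_one_injective hm i (by
      rw [← hθ, update_one_smul, update_one_smul, cj_smul, hθ])
    have hmul : ∀ A B, θ i (A * B) = θ i A * θ i B := fun A B => update_one_injective hm i (by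
      rw [← hθ, ← update_one_mul, ← update_one_mul, cj_mul, hθ, hθ])
    let Φ : Matrix (Fin m) (Fin m) F →ₐ[F] Matrix (Fin m) (Fin m) F :=
      AlgHom.ofLinearMap { toFun := θ i, map_add' := hadd, map_smul' := hsmul } hone hmul
    have hinj : Function.Injective Φ := fun A B hAB => update_one_injective hm i (cj_injective w (by
      rw [hθ, hθ]
      exact congrArg (fun C => pw (Function.update 1 i C)) hAB))
    exact exists_conj_of_algEquiv
      (AlgEquiv.ofBijective Φ ⟨hinj, (LinearMap.injective_iff_surjective (f := Φ.toLinearMap)).mp hinj⟩)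
  choose a ha using hinner
  set s : GL (Fin t → Fin m) F := (pwUnit a)⁻¹ * w
  suffices hs : IsScalarMat (s : Matrix (Fin t → Fin m) (Fin t → Fin m) F) by
    obtain ⟨c, hc⟩ := hs
    haveI : Nonempty (Fin t → Fin m) := ⟨fun _ => ⟨0, hm⟩⟩
    have hc0 : c ≠ 0 := by
      rintro rfl
      rw [zero_smul] at hc
      exact s.ne_zero hc
    let b : Fin t → GL (Fin m) F := Function.update a ⟨0, ht⟩
      (Units.map (Matrix.scalar (Fin m) : F →+* Matrix (Fin m) (Fin m) F).toMonoidHom (Units.mk0 c hc0) * a ⟨0, ht⟩)
    have hwb : w = pwUnit b := by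
      rw [show w = pwUnit a * s by simp [s]]
      refine Units.ext ?_
      rw [Units.val_mul, hc]
      show pw (fun i => (a i : Matrix (Fin m) (Fin m) F)) * (c • 1) = pw fun i => (b i : Matrix (Fin m) (Fin m) F)
      rw [mul_smul_comm, mul_one]
      have : (fun i => (b i : Matrix (Fin m) (Fin m) F))
          = fun i => (if i = ⟨0, ht⟩ then c else 1) • (a i : Matrix (Fin m) (Fin m) F) := by
        funext i
        by_cases hi : i = ⟨0, ht⟩
        · subst hi; simp [b, Matrix.smul_eq_diagonal_mul]
        · simp [b, hi]
      rw [this, pw_smul]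
      simp
    exact ⟨b, hwb⟩
  refine isScalarMat_of_commute_all fun X => ?_
  -- `s` commutes with each factor, hence with everything
  have hfac : ∀ i A, (s : Matrix (Fin t → Fin m) (Fin t → Fin m) F) * pw (Function.update 1 i A) = pw (Function.update 1 i A) * (s : Matrix (Fin t → Fin m) (Fin t → Fin m) F) := by
    intro i A
    refine cj_eq_iff_commute.mp ?_
    rw [← cj_cj, hθ, ha i A]
    show pw (fun j => ((a j)⁻¹ : GL (Fin m) F).val) * pw _ * pw (fun j => (a j : Matrix (Fin m) (Fin m) F)) = _
    rw [pw_mul, pw_mul]
    congr 1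
    funext j
    rcases eq_or_ne j i with rfl | hj
    · simp [mul_assoc]
    · simp [hj]
  have hall : ∀ (q : Finset (Fin t)) (B : Fin t → Matrix (Fin m) (Fin m) F), (∀ j ∉ q, B j = 1) →
      (s : Matrix (Fin t → Fin m) (Fin t → Fin m) F) * pw B = pw B * (s : Matrix (Fin t → Fin m) (Fin t → Fin m) F) := by
    intro q
    induction q using Finset.induction with
    | empty =>
      intro B hB
      rw [show B = 1 from funext fun j => hB j (Finset.notMem_empty j), pw_one, mul_one, one_mul]
    | @insert i q hiq ih =>
      intro B hB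
      have hsplit : pw B = pw (Function.update 1 i (B i)) * pw (Function.update B i 1) := by
        rw [pw_mul]
        congr 1
        funext j
        rcases eq_or_ne j i with rfl | hj <;> simp [*]
      have h1 := ih (Function.update B i 1) (fun j hj => by
        rcases eq_or_ne j i with rfl | hji
        · simp
        · rw [Function.update_of_ne hji]; exact hB j (fun hm' => hj ((Finset.mem_insert.mp hm').resolve_left hji)))
      rw [hsplit, ← mul_assoc, hfac, mul_assoc, h1, mul_assoc]
  induction X using Matrix.induction_on' with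
  | h_zero => simp
  | h_add A B hA hB => rw [mul_add, add_mul, hA, hB]
  | h_std_basis x y c =>
    have hxy : Matrix.single x y c = c • pw (fun j => Matrix.single (x j) (y j) (1 : F)) := by
      ext p q
      simp only [Matrix.smul_apply, pw, Matrix.of_apply, smul_eq_mul, Matrix.single_apply]
      by_cases hpq : x = p ∧ y = q
      · obtain ⟨rfl, rfl⟩ := hpq; simp
      · rw [if_neg hpq]
        obtain ⟨j, hj⟩ : ∃ j, ¬(x j = p j ∧ y j = q j) := by
          by_contra hc
          push_neg at hc
          exact hpq ⟨funext fun j => (hc j).1, funext fun j => (hc j).2⟩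
        rw [Finset.prod_eq_zero (Finset.mem_univ j) (if_neg hj), mul_zero]
    rw [hxy, mul_smul_comm, smul_mul_assoc, hall Finset.univ _ (fun j hj => absurd (Finset.mem_univ j) hj)]

omit [Nonempty ι] [Fintype F] in
/-- an element permuting the factor algebras lies in the tensor-wreath stabiliser -/
theorem mem_wreath_of_permutes (hm : 0 < m) (ht : 0 < t) {e : ι ≃ (Fin t → Fin m)} {P : GL ι F}
    {g : GL ι F} (τ : Equiv.Perm (Fin t))
    (h : ∀ i (A : Matrix (Fin m) (Fin m) F), ∃ A', cj g (cw e P (pw (Function.update 1 i A)))
      = cw e P (pw (Function.update 1 (τ i) A'))) :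
    g ∈ tensorWreathSubgroup m t e P := by
  classical
  let R := Matrix.reindexAlgEquiv F F e.symm
  -- pull back to the standard coordinates
  let u : GL (Fin t → Fin m) F := glReindex e (P⁻¹ * g * P)
  have hgu : (g : Matrix ι ι F) = cw e P (u : Matrix _ _ F) := by
    have h1 : R (u : Matrix _ _ F) = ((P⁻¹ * g * P : GL ι F) : Matrix ι ι F) := by
      ext a b
      simp [R, u, glReindex]
    show _ = cj P (R (u : Matrix _ _ F))
    rw [h1, cj_coe]
    congr 1
    group
  suffices hu : u ∈ tensorWreathStandard m t F from mem_tensorWreathSubgroup hu hgu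
  have hu' : ∀ i (A : Matrix (Fin m) (Fin m) F), ∃ A',
      cj u (pw (Function.update 1 i A)) = pw (Function.update 1 (τ i) A') := by
    intro i A
    obtain ⟨A', hA'⟩ := h i A
    refine ⟨A', R.injective (cj_injective P ?_)⟩
    refine Eq.trans ?_ hA'
    have h1 : R (u : Matrix _ _ F) = ((P⁻¹ * g * P : GL ι F) : Matrix ι ι F) := by
      ext a b
      simp [R, u, glReindex]
    have h2 : R ((u⁻¹ : GL (Fin t → Fin m) F) : Matrix _ _ F) = (((P⁻¹ * g * P)⁻¹ : GL ι F) : Matrix ι ι F) := by
      ext a b
      simp [R, u, glReindex]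
    show cj P (R _) = cj g (cj P (R _))
    rw [show cj u (pw (Function.update 1 i A)) = (u : Matrix _ _ F) * pw (Function.update 1 i A)
      * ((u⁻¹ : GL (Fin t → Fin m) F) : Matrix _ _ F) from rfl, map_mul, map_mul, h1, h2]
    show cj P (cj (P⁻¹ * g * P) (R (pw (Function.update 1 i A)))) = _
    rw [cj_cj, cj_cj]
    congr 1
    group
  -- undo the permutation
  let w : GL (Fin t → Fin m) F := permUnit τ⁻¹ * u
  obtain ⟨b, hb⟩ := eq_pwUnit_of_fixes hm ht (w := w) fun i A => by
    obtain ⟨A', hA'⟩ := hu' i A
    refine ⟨A', ?_⟩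
    rw [← cj_cj, hA']
    show permMat τ⁻¹ * _ * permMat τ⁻¹⁻¹ = _
    rw [permMat_conj_pw]
    congr 1
    funext j
    rw [inv_inv]
    rcases eq_or_ne j i with rfl | hj
    · simp
    · simp [hj]
  have : u = (permUnit τ⁻¹)⁻¹ * w := by simp [w]
  rw [this, hb]
  exact Subgroup.mul_mem _ (Subgroup.inv_mem _ (permUnit_mem _)) (pwUnit_mem b)

end CfsgLib.Asch
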