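import Cfsg.Agent.Lib.Aschbacher.Main
import Cfsg.Agent.Lib.ClassicalMax.Tv
import Cfsg.Agent.Lib.Linear.Simple

/-!
# None of the class stabilisers contains the special linear group
-/

set_option autoImplicit false

namespace CfsgLib.Asch

open Matrix Cfsg.Geo CfsgLib.ClassicalMax
open scoped MatrixGroups commutatorElement

variable {ι : Type} [Fintype ι] [DecidableEq ι] {F : Type*} [Field F]

lemma exists_dual (S : Submodule F (ι → F)) {x : ι → F} (hx : x ∉ S) :
    ∃ φ : ι → F, φ ⬝ᵥ x = 1 ∧ ∀ y ∈ S, φ ⬝ᵥ y = 0 := by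
  obtain ⟨f, hfx, hfS⟩ := Submodule.exists_dual_map_eq_bot_of_notMem hx inferInstance
  let ψ : ι → F := fun i => (f x)⁻¹ * f (Pi.single i 1)
  have hψ : ∀ y, ψ ⬝ᵥ y = (f x)⁻¹ * f y := by
    intro y
    conv_rhs => rw [show y = ∑ i, y i • (Pi.single i (1 : F) : ι → F) by
      ext j; simp [Finset.sum_apply, Pi.single_apply]]
    rw [map_sum, Finset.mul_sum]
    refine Finset.sum_congr rfl fun i _ => ?_
    simp [ψ]; ring
  refine ⟨ψ, by rw [hψ, inv_mul_cancel₀ hfx], fun y hy => ?_⟩
  have : f y ∈ S.map f := ⟨y, hy, rfl⟩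
  rw [hfS, Submodule.mem_bot] at this
  rw [hψ, this, mul_zero]

lemma det_mem_sl {g : GL ι F} :
    g ∈ specialLinear ι F ↔ Matrix.det (g : Matrix ι ι F) = 1 := by
  rw [specialLinear, MonoidHom.mem_ker, ← Units.val_inj]
  simp

lemma norms_sl (G : Subgroup (GL ι F)) : Norms G (specialLinear ι F) := fun g _ x hx =>
  (MonoidHom.normal_ker (Matrix.GeneralLinearGroup.det : GL ι F →* Fˣ)).conj_mem x hx g

/-- the special linear group spans the matrix algebra -/
lemma spans_sl (h2 : 2 ≤ Fintype.card ι) : Spans (matrixSet (specialLinear ι F)) := by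
  classical
  refine spans_of_alg_eq_top fun M => ?_
  have hoff : ∀ i j : ι, i ≠ j → single i j (1 : F) ∈ alg (specialLinear ι F) := by
    intro i j hij
    have h0 : (Pi.single j (1 : F)) ⬝ᵥ (Pi.single i 1 : ι → F) = 0 := by
      rw [single_dotProduct, one_mul, Pi.single_eq_of_ne hij.symm]
    have h1 := coe_mem_alg (tvGL_mem_sl (Pi.single i (1 : F)) (Pi.single j (1 : F)))
    rw [coe_tvGL h0] at h1
    have h3 := sub_mem h1 (one_mem _)
    rw [add_sub_cancel_left] at h3
    rwa [show vecMulVec (Pi.single i (1 : F)) (Pi.single j 1) = single i j (1 : F) by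
      ext a b; simp [vecMulVec_apply, single_apply, Pi.single_apply, ite_and, eq_comm]; split_ifs <;> rfl] at h3
  have hall : ∀ i j : ι, single i j (1 : F) ∈ alg (specialLinear ι F) := by
    intro i j
    rcases eq_or_ne i j with rfl | hij
    · obtain ⟨k, hk⟩ := Fintype.exists_ne_of_one_lt_card h2 i
      have := mul_mem (hoff i k hk.symm) (hoff k i hk)
      rwa [single_mul_single_same, one_mul] at this
    · exact hoff i j hij
  induction M using Matrix.induction_on' with
  | h_zero => exact zero_mem _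
  | h_add A B hA hB => exact add_mem hA hB
  | h_std_basis a b c =>
    rw [show single a b c = c • single a b (1 : F) by simp [Matrix.smul_single]]
    exact Subalgebra.smul_mem _ (hall a b) c

/-- subspace stabilisers -/
lemma sl_not_le_subspace (h2 : 2 ≤ Fintype.card ι) {W : Submodule F (ι → F)} (h0 : W ≠ ⊥) (h1 : W ≠ ⊤) :
    ¬ specialLinear ι F ≤ subspaceStabilizer W := by
  intro hle
  rcases irred_apply (spans_sl h2).irred
    (fun g hg w hw => (mem_subspaceStabilizer.mp (hle hg) w).mp hw) with h | h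
  · exact h0 h
  · exact h1 h

/-- stabilisers of decompositions -/
lemma sl_not_le_decomposition {t m : ℕ} {D : Fin t → Submodule F (ι → F)} (hD : IsMDecomposition m D) :
    ¬ specialLinear ι F ≤ decompositionStabilizer D := by
  classical
  intro hle
  let a : Fin t := ⟨0, by have := hD.two_le; omega⟩
  let b : Fin t := ⟨1, by have := hD.two_le; omega⟩
  have hab : a ≠ b := by simp [a, b, Fin.ext_iff]
  have hne : ∀ i, ∃ v ∈ D i, v ≠ 0 := fun i => (Submodule.ne_bot_iff _).mp fun h => by
    have := hD.finrank_eq i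
    rw [h, finrank_bot] at this
    have := hD.pos
    omega
  obtain ⟨v, hv, hv0⟩ := hne a
  obtain ⟨w, hw, hw0⟩ := hne b
  have hdis : Disjoint (D a) (⨆ j ≠ a, D j) := hD.indep a
  have hvw : v ∉ Submodule.span F ({w} : Set (ι → F)) := fun h => hv0 (Submodule.disjoint_def.mp hdis v hv
    (le_iSup₂_of_le (f := fun j (_ : j ≠ a) => D j) b hab.symm le_rfl
      ((Submodule.span_singleton_le_iff_mem _ _).mpr hw h)))
  obtain ⟨φ, hφv, hφ⟩ := exists_dual _ hvw
  have hφw := hφ w (Submodule.mem_span_singleton_self w)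
  obtain ⟨σ, hσ⟩ := hle (tvGL_mem_sl w φ)
  have himg : v + w ∈ D (σ a) := by
    rw [← hσ a]
    exact ⟨v, hv, by rw [Matrix.toLin'_apply, tvGL_mulVec hφw, hφv, one_smul]⟩
  rcases eq_or_ne (σ a) a with h | h
  · rw [h] at himg
    refine hw0 (Submodule.disjoint_def.mp hdis w ?_ (le_iSup₂_of_le (f := fun j (_ : j ≠ a) => D j) b hab.symm le_rfl hw))
    simpa using sub_mem himg hv
  · refine hv0 (Submodule.disjoint_def.mp hdis v hv ?_)
    have h1 : v + w ∈ ⨆ j ≠ a, D j := le_iSup₂_of_le (f := fun j (_ : j ≠ a) => D j) (σ a) h le_rfl himg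
    have h2 : w ∈ ⨆ j ≠ a, D j := le_iSup₂_of_le (f := fun j (_ : j ≠ a) => D j) b hab.symm le_rfl hw
    simpa using sub_mem h1 h2

/-- the matrices commuting with a given one, among the invertible ones -/
def fixer (k : Matrix ι ι F) : Subgroup (GL ι F) where
  carrier := {g | cj g k = k}
  one_mem' := by simp
  mul_mem' {a b} ha hb := by
    simp only [Set.mem_setOf_eq] at ha hb ⊢
    rw [← cj_cj, hb, ha]
  inv_mem' {a} ha := by
    simp only [Set.mem_setOf_eq] at ha ⊢
    conv_lhs => rw [← ha, cj_cj, inv_mul_cancel, cj_one_left]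

/-- a matrix moved only by differences of rank at most two: the step for transvections -/
lemma scalar_of_small_steps (h2 : 2 ≤ Fintype.card ι) (k : Matrix ι ι F)
    (h : ∀ g ∈ specialLinear ι F, ∀ u w : ι → F,
      (∀ x, (cj g k - k) *ᵥ x ∈ Submodule.span F (Set.range ![u, w])) → cj g k = k) :
    IsScalarMat k := by
  classical
  refine (spans_sl h2).scalar_of_commute fun g hg => ?_
  have hle : specialLinear ι F ≤ fixer k := by
    refine sl_le_of_tvGL fun u φ hφ => ?_
    refine h _ (tvGL_mem_sl u φ) u (k *ᵥ u) fun x => ?_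
    have hinv : ((tvGL u φ)⁻¹ : GL ι F) = tvGL u (-φ) := (tvGL_neg_right hφ).symm
    rw [sub_mulVec, cj, hinv, ← mulVec_mulVec, ← mulVec_mulVec, tvGL_mulVec hφ,
      tvGL_mulVec (by rw [neg_dotProduct, hφ, neg_zero]), mulVec_add, mulVec_smul]
    rw [show k *ᵥ x + (-φ ⬝ᵥ x) • k *ᵥ u + (φ ⬝ᵥ (k *ᵥ x + (-φ ⬝ᵥ x) • k *ᵥ u)) • u - k *ᵥ x
        = (φ ⬝ᵥ (k *ᵥ x + (-φ ⬝ᵥ x) • k *ᵥ u)) • u + (-φ ⬝ᵥ x) • k *ᵥ u by abel]
    exact add_mem (Submodule.smul_mem _ _ (Submodule.subset_span ⟨0, rfl⟩))
      (Submodule.smul_mem _ _ (Submodule.subset_span ⟨1, rfl⟩))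
  exact (cj_eq_iff_commute.mp (hle hg)).symm

/-- three orthogonal commuting idempotents meeting the range: rank at least three -/
lemma range_not_small (d : Matrix ι ι F) (f : Fin 3 → Matrix ι ι F)
    (hidem : ∀ b, f b * f b = f b) (horth : ∀ b c, b ≠ c → f b * f c = 0)
    (hcomm : ∀ b, d * f b = f b * d) (hne : ∀ b, d * f b ≠ 0) (u w : ι → F)
    (h : ∀ x, d *ᵥ x ∈ Submodule.span F (Set.range ![u, w])) : False := by
  have hv : ∀ b, ∃ v, (d * f b) *ᵥ v ≠ 0 := fun b => by
    by_contra hc
    push_neg at hc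
    exact hne b (Matrix.ext_of_mulVec_single fun i => by rw [hc, zero_mulVec])
  choose v hv using hv
  let y : Fin 3 → ι → F := fun b => (d * f b) *ᵥ v b
  have hfy : ∀ b c, f c *ᵥ y b = if c = b then y b else 0 := by
    intro b c
    simp only [y, mulVec_mulVec, ← mul_assoc, ← hcomm c]
    rw [mul_assoc]
    split_ifs with hcb
    · rw [hcb, hidem]
    · rw [horth c b hcb, mul_zero, zero_mulVec]
  have hli : LinearIndependent F y := by
    rw [Fintype.linearIndependent_iff]
    intro g hg c
    have := congrArg (fun z => f c *ᵥ z) hg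
    simp only [mulVec_sum, mulVec_smul, hfy, smul_ite, smul_zero, mulVec_zero, Finset.sum_ite_eq,
      Finset.mem_univ, if_true] at this
    exact (smul_eq_zero.mp this).resolve_right (hv c)
  have h3 := finrank_span_eq_card hli
  have hle : Submodule.span F (Set.range y) ≤ Submodule.span F (Set.range ![u, w]) := by
    refine Submodule.span_le.mpr ?_
    rintro _ ⟨b, rfl⟩
    simp only [y, SetLike.mem_coe, ← mulVec_mulVec]
    exact h _
  have h4 := Submodule.finrank_mono hle
  have h5 : Module.finrank F (Submodule.span F (Set.range ![u, w])) ≤ 2 := by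
    exact (finrank_range_le_card (R := F) ![u, w]).trans_eq (Fintype.card_fin 2)
  rw [h3, Fintype.card_fin] at h4
  omega

/-- normalisers of field extensions -/
lemma sl_not_le_extField (hn : 3 ≤ Fintype.card ι) {r : ℕ} (hr : 2 ≤ r) {K : Subalgebra F (Matrix ι ι F)}
    (hK : IsFieldSubalgebra r K) : ¬ specialLinear ι F ≤ subalgebraNormalizer K := by
  intro hle
  obtain ⟨k, hk, hks⟩ : ∃ k ∈ K, ¬ IsScalarMat k := by
    by_contra hc
    push_neg at hc
    have hbot : K = ⊥ := by
      refine eq_bot_iff.mpr fun x hx => ?_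
      obtain ⟨c, rfl⟩ := hc x hx
      exact Subalgebra.smul_mem _ (one_mem _) c
    have hfr := hK.finrank_eq
    haveI : Nonempty ι := Fintype.card_pos_iff.mp (by omega)
    rw [hbot, Subalgebra.finrank_bot] at hfr
    omega
  refine hks (scalar_of_small_steps (by omega) k fun g hg u w h => ?_)
  by_contra hne
  obtain ⟨y, -, hy⟩ := hK.inv _ (sub_mem ((hle hg k).mp hk) hk) (sub_ne_zero.mpr hne)
  have htop : (⊤ : Submodule F (ι → F)) ≤ Submodule.span F (Set.range ![u, w]) := by
    intro x _
    have := h (y *ᵥ x)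
    rwa [mulVec_mulVec, show (cj g k - k) * y = 1 from hy, one_mulVec] at this
  have h4 := Submodule.finrank_mono htop
  have h5 : Module.finrank F (Submodule.span F (Set.range ![u, w])) ≤ 2 := by
    exact (finrank_range_le_card (R := F) ![u, w]).trans_eq (Fintype.card_fin 2)
  rw [finrank_top, Module.finrank_fintype_fun_eq_card] at h4
  omega

/-- subfield groups -/
lemma sl_not_le_subfield (h2 : 2 ≤ Fintype.card ι) {F₀ : Subfield F} (hF₀ : F₀ ≠ ⊤) (P : GL ι F) :
    ¬ specialLinear ι F ≤ subfieldSubgroup F₀ P := by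
  classical
  intro hle
  obtain ⟨c, hc⟩ : ∃ c, c ∉ F₀ := by
    by_contra h
    push_neg at h
    exact hF₀ (eq_top_iff.mpr fun x _ => h x)
  obtain ⟨i, j, hij⟩ := Fintype.one_lt_card_iff.mp h2
  have h0 : (Pi.single j (1 : F)) ⬝ᵥ (Pi.single i c : ι → F) = 0 := by
    rw [single_dotProduct, one_mul, Pi.single_eq_of_ne hij.symm]
  set s := tvGL (Pi.single i c) (Pi.single j (1 : F))
  obtain ⟨x, hx, hxs⟩ := hle (norms_sl (⊤ : Subgroup (GL ι F)) P (Subgroup.mem_top _) s (tvGL_mem_sl _ _))
  have hxs' : x = s := (MulAut.conj P).injective hxs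
  subst hxs'
  obtain ⟨h, ⟨h', rfl⟩, z, hz, hhz⟩ := Subgroup.mem_sup_of_normal_right.mp hx
  obtain ⟨l, hl⟩ := mem_scalars_iff_isScalarMat.mp hz
  have hent := congrArg (fun g : GL ι F => (g : Matrix ι ι F)) hhz
  simp only [s, Units.val_mul, hl, mul_smul_comm, mul_one, coe_tvGL h0] at hent
  have hii := congrFun (congrFun hent i) i
  have hij' := congrFun (congrFun hent i) j
  simp only [Matrix.smul_apply, Matrix.add_apply, one_apply_eq, one_apply_ne hij, vecMulVec_apply,
    Pi.single_eq_same, Pi.single_eq_of_ne hij, mul_one, mul_zero, add_zero, zero_add, smul_eq_mul] at hii hij'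
  have hl0 : l ∈ F₀ := by
    rw [show l = ((Matrix.GeneralLinearGroup.map (F₀.subtype : F₀ →+* F) h' : GL ι F) i i)⁻¹ from
      eq_inv_of_mul_eq_one_left hii]
    exact F₀.inv_mem ((h' i i).2)
  exact hc (hij' ▸ F₀.mul_mem hl0 (h' i j).2)

section forms

omit [DecidableEq ι] in
lemma span_pair_ne_top (hn : 3 ≤ Fintype.card ι) (u w : ι → F) :
    ∃ x, x ∉ Submodule.span F (Set.range ![u, w]) := by
  by_contra hc
  push_neg at hc
  have h4 := Submodule.finrank_mono (show (⊤ : Submodule F (ι → F)) ≤ _ from fun x _ => hc x)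
  have h5 : Module.finrank F (Submodule.span F (Set.range ![u, w])) ≤ 2 := by
    exact (finrank_range_le_card (R := F) ![u, w]).trans_eq (Fintype.card_fin 2)
  rw [finrank_top, Module.finrank_fintype_fun_eq_card] at h4
  omega

/-- similarity groups of forms -/
lemma sl_not_le_similarity (hn : 3 ≤ Fintype.card ι) {f : (ι → F) → (ι → F) → F}
    (hadd : ∀ x y v, f (x + y) v = f x v + f y v) (hnd : IsNondegenerateForm f) :
    ¬ specialLinear ι F ≤ similarityGroup f := by
  classical
  intro hle
  haveI : Nonempty ι := Fintype.card_pos_iff.mp (by omega)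
  obtain ⟨u, hu⟩ := exists_ne (0 : ι → F)
  obtain ⟨y, hy⟩ := (hnd u hu).2
  obtain ⟨x, hx⟩ := span_pair_ne_top hn u y
  obtain ⟨φ, hφx, hφ⟩ := exists_dual _ hx
  have hφu := hφ u (Submodule.subset_span ⟨0, rfl⟩)
  have hφy := hφ y (Submodule.subset_span ⟨1, rfl⟩)
  obtain ⟨c, hc⟩ := hle (tvGL_mem_sl u φ)
  have h1 := hc u y
  have h2 := hc x y
  simp only [tvGL_mulVec hφu, hφu, hφy, zero_smul, add_zero] at h1
  simp only [tvGL_mulVec hφu, hφx, hφy, zero_smul, one_smul, add_zero, hadd] at h2
  have hc1 : (c : F) = 1 := mul_right_cancel₀ hy (by rw [one_mul]; exact h1.symm)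
  rw [hc1, one_mul, add_eq_left] at h2
  exact hy h2

/-- similarity groups of quadratic forms -/
lemma sl_not_le_quadSimilarity (hn : 3 ≤ Fintype.card ι) {Q : (ι → F) → F}
    (hQ : IsNondegenerateQuadraticForm Q) : ¬ specialLinear ι F ≤ quadSimilarityGroup Q := by
  intro hle
  refine sl_not_le_similarity hn hQ.polar_bilinear.add_left hQ.nondegenerate fun g hg => ?_
  obtain ⟨c, hc⟩ := hle hg
  refine ⟨c, fun u v => ?_⟩
  simp only [QuadraticMap.polar, ← mulVec_add, hc]
  ring

end forms

section tensor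

variable {e' : Type} [Fintype e'] [DecidableEq e']

lemma tens_coe_of_mem {n₁ n₂ : ℕ} {e : ι ≃ Fin n₁ × Fin n₂} {P : GL ι F} {g : GL ι F}
    (hg : g ∈ tensorProductSubgroup n₁ n₂ e P) :
    ∀ A, ∃ A', cj g (tens e P A 1) = tens e P A' 1 := by
  obtain ⟨_, ⟨u, ⟨a, b, hab⟩, rfl⟩, rfl⟩ := hg
  intro A
  refine ⟨(a : Matrix _ _ F) * A * ((a⁻¹ : GL (Fin n₁) F) : Matrix _ _ F), ?_⟩
  have hcoe : (((MulAut.conj P).toMonoidHom ((glReindex e.symm).toMonoidHom u) : GL ι F) : Matrix ι ι F)
      = tens e P (a : Matrix _ _ F) (b : Matrix _ _ F) := by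
    unfold tens
    rw [← hab]
    rfl
  set g := (MulAut.conj P).toMonoidHom ((glReindex e.symm).toMonoidHom u)
  have hinv : ((g⁻¹ : GL ι F) : Matrix ι ι F)
      = tens e P ((a⁻¹ : GL (Fin n₁) F) : Matrix _ _ F) ((b⁻¹ : GL (Fin n₂) F) : Matrix _ _ F) := by
    refine Units.inv_eq_of_mul_eq_one_right ?_
    rw [hcoe, tens_mul, ← Units.val_mul, ← Units.val_mul, mul_inv_cancel, mul_inv_cancel, Units.val_one,
      Units.val_one, tens_one]
  rw [cj, hcoe, hinv, tens_mul, tens_mul, mul_one, ← Units.val_mul b, mul_inv_cancel, Units.val_one]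

lemma tens_ne_zero {X Y : Type} [Fintype X] [DecidableEq X] [Fintype Y] [DecidableEq Y]
    {e : ι ≃ X × Y} {P : GL ι F} {A : Matrix X X F} {B : Matrix Y Y F} (hA : A ≠ 0) (hB : B ≠ 0) :
    tens e P A B ≠ 0 := by
  obtain ⟨x, x', hx⟩ : ∃ x x', A x x' ≠ 0 := by
    by_contra hc; push_neg at hc; exact hA (Matrix.ext fun x x' => hc x x')
  obtain ⟨y, y', hy⟩ : ∃ y y', B y y' ≠ 0 := by
    by_contra hc; push_neg at hc; exact hB (Matrix.ext fun x x' => hc x x')
  intro h
  have h' := cj_injective P (h.trans (cj_zero P).symm)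
  have := congrFun (congrFun h' (e.symm (x, y))) (e.symm (x', y'))
  simp [hx, hy] at this

/-- stabilisers of tensor decompositions -/
lemma sl_not_le_tensor {n₁ n₂ : ℕ} (h₁ : 2 ≤ n₁) (h₂ : 3 ≤ n₂) (e : ι ≃ Fin n₁ × Fin n₂) (P : GL ι F) :
    ¬ specialLinear ι F ≤ tensorProductSubgroup n₁ n₂ e P := by
  intro hle
  have hn : 2 ≤ Fintype.card ι := by
    rw [Fintype.card_congr e, Fintype.card_prod, Fintype.card_fin, Fintype.card_fin]; nlinarith
  haveI : Nonempty (Fin n₂) := ⟨⟨0, by omega⟩⟩
  let z : Fin n₁ := ⟨0, by omega⟩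
  let o : Fin n₁ := ⟨1, by omega⟩
  set E : Matrix (Fin n₁) (Fin n₁) F := single z z 1
  obtain ⟨c, hc⟩ := scalar_of_small_steps hn (tens e P E 1) fun g hg u w h => by
    obtain ⟨A', hA'⟩ := tens_coe_of_mem (hle hg) E
    by_contra hne
    have hd : cj g (tens e P E 1) - tens e P E 1 = tens e P (A' - E) 1 := by
      rw [hA', sub_eq_iff_eq_add, ← tens_add_left, sub_add_cancel]
    refine range_not_small _ (fun b => tens e P 1 (single (b.castLE h₂) (b.castLE h₂) 1)) ?_ ?_ ?_ ?_ u w h
    · intro b; rw [tens_mul, one_mul, single_mul_single_same, one_mul]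
    · intro b b' hbb
      rw [tens_mul, single_mul_single_of_ne _ _ _ _ (fun hh => hbb (Fin.castLE_injective _ hh))]
      ext i j; simp [tens, cj]
    · intro b; rw [hd]; exact commute_tens _ _
    · intro b
      rw [hd, tens_mul, mul_one, one_mul]
      refine tens_ne_zero (fun h0 => hne ?_) (fun h0 => ?_)
      · rw [hA', sub_eq_zero.mp h0]
      · simpa using congrFun (congrFun h0 (b.castLE h₂)) (b.castLE h₂)
  rw [← tens_one (e := e) (P := P), ← tens_smul_left] at hc
  have h1 := tens_left_injective hc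
  have h00 := congrFun (congrFun h1 z) z
  have h11 := congrFun (congrFun h1 o) o
  simp [E, z, o, Fin.ext_iff] at h00 h11
  rw [← h11] at h00
  exact one_ne_zero h00

variable {m t : ℕ}

lemma cw_mul (e : ι ≃ (Fin t → Fin m)) (P : GL ι F) (A B : Matrix (Fin t → Fin m) (Fin t → Fin m) F) :
    cw e P (A * B) = cw e P A * cw e P B := by
  rw [cw, cw, cw, map_mul, cj_mul]

lemma cw_sub (e : ι ≃ (Fin t → Fin m)) (P : GL ι F) (A B : Matrix (Fin t → Fin m) (Fin t → Fin m) F) :
    cw e P (A - B) = cw e P A - cw e P B := by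
  rw [eq_sub_iff_add_eq, cw, cw, cw, ← cj_add, ← map_add, sub_add_cancel]

lemma cw_injective (e : ι ≃ (Fin t → Fin m)) (P : GL ι F) : Function.Injective (cw e P) :=
  (cj_injective P).comp (Matrix.reindexAlgEquiv F F e.symm).injective

/-- elements of the tensor wreath group permute the factor algebras -/
lemma permutes_of_mem_standard {u : GL (Fin t → Fin m) F} (hu : u ∈ tensorWreathStandard m t F) :
    ∀ i A, ∃ j A', cj u (pw (Function.update 1 i A)) = pw (Function.update 1 j A') := by
  have hpure : ∀ (a : Fin t → GL (Fin m) F) i A, ∃ j A',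
      cj (pwUnit a) (pw (Function.update 1 i A)) = pw (Function.update 1 j A') := by
    intro a i A
    refine ⟨i, (a i : Matrix (Fin m) (Fin m) F) * A * (((a i)⁻¹ : GL (Fin m) F) : Matrix (Fin m) (Fin m) F), ?_⟩
    show pw (fun j => (a j : Matrix (Fin m) (Fin m) F)) * pw _ * pw (fun j => ((a j)⁻¹ : GL (Fin m) F).val) = _
    rw [pw_mul, pw_mul]
    congr 1
    funext j
    rcases eq_or_ne j i with rfl | hj <;> simp [*]
  have hperm : ∀ (σ : Equiv.Perm (Fin t)) i A, ∃ j A',
      cj (permUnit σ : GL (Fin t → Fin m) F) (pw (Function.update 1 i A)) = pw (Function.update 1 j A') := by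
    intro σ i A
    refine ⟨σ i, A, ?_⟩
    show permMat σ * _ * permMat σ⁻¹ = _
    rw [permMat_conj_pw]
    congr 1
    funext j
    rcases eq_or_ne j (σ i) with rfl | hj
    · simp
    · have : σ⁻¹ j ≠ i := fun h => hj (by rw [← h]; simp)
      rw [Function.update_of_ne this, Function.update_of_ne hj]; rfl
  induction hu using Subgroup.closure_induction'' with
  | mem x hx =>
    rcases hx with ⟨a, ha⟩ | ⟨σ, hσ⟩
    · rw [show x = pwUnit a from Units.ext (Matrix.ext ha)]; exact hpure a
    · rw [show x = permUnit σ from Units.ext (Matrix.ext hσ)]; exact hperm σ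
  | inv_mem x hx =>
    rcases hx with ⟨a, ha⟩ | ⟨σ, hσ⟩
    · rw [show x = pwUnit a from Units.ext (Matrix.ext ha),
        show (pwUnit a)⁻¹ = pwUnit (fun i => (a i)⁻¹) from Units.ext rfl]
      exact hpure _
    · rw [show x = permUnit σ from Units.ext (Matrix.ext hσ),
        show (permUnit σ : GL (Fin t → Fin m) F)⁻¹ = permUnit σ⁻¹ from Units.ext rfl]
      exact hperm _
  | one => intro i A; exact ⟨i, A, by simp⟩
  | mul x y _ _ hx hy =>
    intro i A
    obtain ⟨j, A', h1⟩ := hy i A
    obtain ⟨k, A'', h2⟩ := hx j A'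
    exact ⟨k, A'', by rw [← cj_cj, h1, h2]⟩

lemma permutes_of_mem {e : ι ≃ (Fin t → Fin m)} {P : GL ι F} {g : GL ι F}
    (hg : g ∈ tensorWreathSubgroup m t e P) :
    ∀ i A, ∃ j A', cj g (cw e P (pw (Function.update 1 i A))) = cw e P (pw (Function.update 1 j A')) := by
  obtain ⟨_, ⟨u, hu, rfl⟩, rfl⟩ := hg
  intro i A
  obtain ⟨j, A', h⟩ := permutes_of_mem_standard hu i A
  refine ⟨j, A', ?_⟩
  rw [← h]
  set g := (MulAut.conj P).toMonoidHom ((glReindex e.symm).toMonoidHom u)
  have hcoe : (g : Matrix ι ι F) = cw e P (u : Matrix _ _ F) := rfl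
  have hinv : ((g⁻¹ : GL ι F) : Matrix ι ι F) = cw e P ((u⁻¹ : GL (Fin t → Fin m) F) : Matrix _ _ F) := by
    refine Units.inv_eq_of_mul_eq_one_right ?_
    rw [hcoe, ← cw_mul, ← Units.val_mul, mul_inv_cancel, Units.val_one]
    simp [cw]
  rw [cj, cj, hcoe, hinv, ← cw_mul, ← cw_mul]

lemma pw_two_ne_zero (hm : 0 < m) {i j : Fin t} (hij : i ≠ j) {A B : Matrix (Fin m) (Fin m) F}
    (hA : A ≠ 0) (hB : B ≠ 0) :
    pw (Function.update 1 i A) * pw (Function.update (1 : Fin t → Matrix (Fin m) (Fin m) F) j B) ≠ 0 := by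
  classical
  obtain ⟨a, a', ha⟩ : ∃ a a', A a a' ≠ 0 := by
    by_contra hc; push_neg at hc; exact hA (Matrix.ext fun x x' => hc x x')
  obtain ⟨b, b', hb⟩ : ∃ b b', B b b' ≠ 0 := by
    by_contra hc; push_neg at hc; exact hB (Matrix.ext fun x x' => hc x x')
  intro h
  rw [pw_mul] at h
  let x : Fin t → Fin m := Function.update (Function.update (fun _ => ⟨0, hm⟩) i a) j b
  let y : Fin t → Fin m := Function.update (Function.update (fun _ => ⟨0, hm⟩) i a') j b'
  have := congrFun (congrFun h x) y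
  simp only [pw, Matrix.of_apply, Matrix.zero_apply, Finset.prod_eq_zero_iff] at this
  obtain ⟨k, -, hk⟩ := this
  rcases eq_or_ne k i with rfl | hki
  · simp [x, y, Function.update_of_ne hij, ha] at hk
  rcases eq_or_ne k j with rfl | hkj
  · simp [x, y, Function.update_of_ne hki, hb] at hk
  · simp [x, y, hki, hkj] at hk

/-- tensor wreath groups -/
lemma sl_not_le_wreath (hm : 3 ≤ m) (ht : 2 ≤ t) (e : ι ≃ (Fin t → Fin m)) (P : GL ι F) :
    ¬ specialLinear ι F ≤ tensorWreathSubgroup m t e P := by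
  classical
  intro hle
  have hm0 : 0 < m := by omega
  let L : Fin t → Matrix (Fin m) (Fin m) F → Matrix ι ι F := fun i A => cw e P (pw (Function.update 1 i A))
  have hn : 2 ≤ Fintype.card ι := by
    rw [Fintype.card_congr e, Fintype.card_pi]
    simp only [Fintype.card_fin, Finset.prod_const, Finset.card_univ]
    calc 2 ≤ m := by omega
      _ = m ^ 1 := (pow_one m).symm
      _ ≤ m ^ t := Nat.pow_le_pow_right hm0 (by omega)
  have hLmul : ∀ i A B, L i A * L i B = L i (A * B) := fun i A B => by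
    simp only [L, ← cw_mul, update_one_mul]
  have hLsub : ∀ i A B, L i (A - B) = L i A - L i B := fun i A B => by
    simp only [L, ← cw_sub]
    congr 1
    rw [eq_sub_iff_add_eq, ← update_one_add, sub_add_cancel]
  have hL1 : ∀ i, L i 1 = 1 := fun i => by
    simp only [L]
    rw [show Function.update (1 : Fin t → Matrix (Fin m) (Fin m) F) i 1 = 1 from Function.update_eq_self i 1, pw_one]
    simp [cw]
  have hLcomm : ∀ i j, i ≠ j → ∀ A B, L i A * L j B = L j B * L i A := fun i j hij A B => by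
    simp only [L, ← cw_mul, pw_mul]
    congr 2
    funext k
    rcases eq_or_ne k i with rfl | hki
    · simp [hij]
    rcases eq_or_ne k j with rfl | hkj <;> simp [*]
  have hL0 : ∀ i A, A = 0 → L i A = 0 := fun i A hA => by
    rw [hA, show (0 : Matrix (Fin m) (Fin m) F) = A - A by simp, hLsub, sub_self]
  have hLne : ∀ i j, i ≠ j → ∀ A B, A ≠ 0 → B ≠ 0 → L i A * L j B ≠ 0 := fun i j hij A B hA hB h => by
    simp only [L, ← cw_mul] at h
    exact pw_two_ne_zero hm0 hij hA hB (cw_injective e P (h.trans (by simp [cw])))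
  let i₀ : Fin t := ⟨0, by omega⟩
  let i₁ : Fin t := ⟨1, by omega⟩
  have h01 : i₀ ≠ i₁ := by simp [i₀, i₁, Fin.ext_iff]
  let z : Fin m := ⟨0, hm0⟩
  set E : Matrix (Fin m) (Fin m) F := single z z 1
  let f : Fin t → Fin 3 → Matrix ι ι F := fun i b => L i (single (b.castLE hm) (b.castLE hm) 1)
  obtain ⟨c, hc⟩ := scalar_of_small_steps hn (L i₀ E) fun g hg u w h => by
    obtain ⟨j, A', hA'⟩ := permutes_of_mem (hle hg) i₀ E
    change cj g (L i₀ E) = L j A' at hA'
    by_contra hne
    by_cases hj : j = i₀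
    · subst hj
      have hd : cj g (L i₀ E) - L i₀ E = L i₀ (A' - E) := by rw [hA', hLsub]
      refine range_not_small _ (f i₁) ?_ ?_ ?_ ?_ u w h
      · intro b; rw [hLmul, single_mul_single_same, one_mul]
      · intro b b' hbb
        rw [hLmul, single_mul_single_of_ne _ _ _ _ (fun hh => hbb (Fin.castLE_injective _ hh))]
        exact hL0 _ _ rfl
      · intro b; rw [hd]; exact hLcomm _ _ h01 _ _
      · intro b
        rw [hd]
        refine hLne _ _ h01 _ _ (fun h0 => hne ?_) (fun h0 => ?_)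
        · rw [hA', sub_eq_zero.mp h0]
        · simpa using congrFun (congrFun h0 (b.castLE hm)) (b.castLE hm)
    · rw [hA'] at h
      refine range_not_small _ (f i₀) ?_ ?_ ?_ ?_ u w h
      · intro b; rw [hLmul, single_mul_single_same, one_mul]
      · intro b b' hbb
        rw [hLmul, single_mul_single_of_ne _ _ _ _ (fun hh => hbb (Fin.castLE_injective _ hh))]
        exact hL0 _ _ rfl
      · intro b
        rw [sub_mul, mul_sub, hLcomm _ _ hj, hLmul, hLmul]
        congr 2
        rcases eq_or_ne (b.castLE hm) z with hb | hb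
        · rw [hb]
        · simp only [E]
          rw [single_mul_single_of_ne _ _ _ _ hb, single_mul_single_of_ne _ _ _ _ (Ne.symm hb)]
      · intro b
        rw [sub_mul]
        rcases eq_or_ne (b.castLE hm) z with hb | hb
        · simp only [f]
          rw [hb, hLmul, show E * single z z 1 = E by simp [E]]
          have h1 : L j A' * L i₀ E - L i₀ E = L j (A' - 1) * L i₀ E := by
            rw [hLsub, hL1, sub_mul, one_mul]
          rw [h1]
          refine hLne _ _ hj _ _ (fun h0 => ?_) (fun h0 => ?_)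
          · rw [sub_eq_zero.mp h0, hL1] at hA'
            have h2 := congrArg (cj g⁻¹) hA'
            rw [cj_cj, inv_mul_cancel, cj_one_left, cj_one] at h2
            have h3 := congrArg (fun M => M * L i₁ E) h2
            let o : Fin m := ⟨1, by omega⟩
            have h4 := congrFun (congrFun (update_one_injective hm0 i₀ (cw_injective e P
              (h2.trans (hL1 i₀).symm))) o) o
            simp [E, z, o, Fin.ext_iff] at h4
          · simpa [E] using congrFun (congrFun h0 z) z
        · simp only [f]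
          rw [hLmul, show E * single (b.castLE hm) (b.castLE hm) (1 : F) = 0 from single_mul_single_of_ne _ _ _ _ (Ne.symm hb) _,
            hL0 _ _ rfl, sub_zero]
          refine hLne _ _ hj _ _ (fun h0 => ?_) (fun h0 => ?_)
          · rw [hL0 _ _ h0] at hA'
            have h2 := cj_injective g (hA'.trans (cj_zero g).symm)
            have h3 := hLne i₀ i₁ h01 E 1 (fun h0 => by simpa [E] using congrFun (congrFun h0 z) z)
              (fun h0 => by simpa using congrFun (congrFun h0 z) z)
            exact h3 (by rw [h2, zero_mul])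
          · simpa using congrFun (congrFun h0 (b.castLE hm)) (b.castLE hm)
  rw [← hL1 i₀, show L i₀ 1 = cw e P (pw (Function.update 1 i₀ 1)) from rfl] at hc
  have h1 : E = c • 1 := update_one_injective hm0 i₀ (cw_injective e P (hc.trans (by
    rw [update_one_smul]; simp [cw])))
  have h00 := congrFun (congrFun h1 z) z
  have h11 := congrFun (congrFun h1 ⟨1, by omega⟩) ⟨1, by omega⟩
  simp [E, z, Fin.ext_iff] at h00 h11
  rw [← h11] at h00
  exact one_ne_zero h00

end tensor

section sympType

variable [Fintype F]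

lemma sl_perfect (hn : 3 ≤ Fintype.card ι) : ⁅specialLinear ι F, specialLinear ι F⁆ = specialLinear ι F := by
  have hr : (Matrix.SpecialLinearGroup.toGL : Matrix.SpecialLinearGroup ι F →* GL ι F).range
      = specialLinear ι F := CfsgLib.Linear.range_toGL_eq_ker_det
  rw [← hr, MonoidHom.range_eq_map, ← Subgroup.map_commutator, ← commutator_def,
    CfsgLib.Linear.commutator_SL_eq_top (Or.inl hn)]

/-- normalisers of symplectic-type groups -/
lemma sl_not_le_normalizer (hn : 3 ≤ Fintype.card ι) {r : ℕ} {R : Subgroup (GL ι F)}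
    (hR : IsLinearSymplecticTypeData r R) : ¬ specialLinear ι F ≤ subgroupNormalizer R := by
  classical
  intro hle
  haveI : Nonempty ι := Fintype.card_pos_iff.mp (by omega)
  haveI : Nontrivial ι := Fintype.one_lt_card_iff_nontrivial.mp (by omega)
  have hRs : ¬ R ≤ scalars ι F := not_le_scalars_of_spans (by omega) (spans_of_absIrred hR.absIrred)
  let φ : Matrix.SpecialLinearGroup ι F →* GL ι F := Matrix.SpecialLinearGroup.toGL
  have hφr : φ.range = specialLinear ι F := CfsgLib.Linear.range_toGL_eq_ker_det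
  have hmem : ∀ a, φ a ∈ specialLinear ι F := fun a => hφr ▸ ⟨a, rfl⟩
  set N := (R ⊓ specialLinear ι F).comap φ
  haveI hNn : N.Normal := ⟨fun x hx a => by
    simp only [N, Subgroup.mem_comap, map_mul, map_inv] at hx ⊢
    refine ⟨((Subgroup.mem_normalizer_iff.mp (hle (hmem a))) _).mp hx.1, ?_⟩
    exact (specialLinear ι F).mul_mem ((specialLinear ι F).mul_mem (hmem a) hx.2) ((specialLinear ι F).inv_mem (hmem a))⟩
  rcases CfsgLib.Linear.SL_normal_le_center_or_eq_top (Or.inl hn) N with hN | hN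
  · refine hRs fun x hx => (spans_sl (by omega)).mem_scalars_of_commute fun y hy => ?_
    refine commute_of_comm_scalar (sl_perfect hn) (fun s hs => ?_) hy
    have hin : x * s * x⁻¹ * s⁻¹ ∈ R ⊓ specialLinear ι F := by
      refine ⟨?_, (specialLinear ι F).mul_mem (norms_sl ⊤ x (Subgroup.mem_top _) s hs) ((specialLinear ι F).inv_mem hs)⟩
      have h1 := ((Subgroup.mem_normalizer_iff.mp (hle hs)) x⁻¹).mp (R.inv_mem hx)
      simpa [mul_assoc] using R.mul_mem hx h1
    obtain ⟨a, ha⟩ : x * s * x⁻¹ * s⁻¹ ∈ φ.range := hφr.symm ▸ hin.2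
    rw [← ha]
    have hac := hN (show a ∈ N by simpa [N, ha] using hin)
    refine (spans_sl (by omega)).mem_scalars_of_commute fun w hw => ?_
    obtain ⟨b, rfl⟩ : w ∈ φ.range := hφr.symm ▸ hw
    rw [← map_mul, ← map_mul, Subgroup.mem_center_iff.mp hac b]
  · have hsle : specialLinear ι F ≤ R := fun x hx => by
      obtain ⟨a, rfl⟩ : x ∈ φ.range := hφr.symm ▸ hx
      exact ((hN ▸ Subgroup.mem_top a : a ∈ N) : φ a ∈ R ⊓ specialLinear ι F).1
    haveI := Fact.mk hR.symplecticType.prime
    have hpg : IsPGroup r (specialLinear ι F) := hR.symplecticType.pGroup.to_le hsle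
    haveI : Group.IsNilpotent (specialLinear ι F) := hpg.isNilpotent
    haveI : Nontrivial (specialLinear ι F) := by
      rw [Subgroup.nontrivial_iff_ne_bot]
      intro h0
      refine not_le_scalars_of_spans (by omega) (spans_sl (F := F) (ι := ι) (by omega)) ?_
      rw [h0]; exact bot_le
    have hlt := Group.IsSolvable.commutator_lt_top_of_nontrivial (specialLinear ι F)
    apply hlt.ne
    refine Subgroup.map_injective (Subgroup.subtype_injective _) ?_
    rw [← MonoidHom.range_eq_map, Subgroup.range_subtype, commutator_def, Subgroup.map_commutator,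
      ← MonoidHom.range_eq_map, Subgroup.range_subtype, sl_perfect hn]

end sympType

end CfsgLib.Asch
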