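import Cfsg.Agent.Lib.Aschbacher.Basic
import Cfsg.Agent.Lib.ClassicalMax.SympTools

/-!
# Excluding a group by the stabiliser of a set of vectors
-/

set_option autoImplicit false

namespace CfsgLib.Asch

open Matrix Cfsg.Geo CfsgLib.ClassicalMax
open scoped MatrixGroups

variable {ι : Type} [Fintype ι] [DecidableEq ι] {F : Type*} [Field F] [Fintype F]

/-- the stabiliser of a set of vectors -/
def setStab (S : Set (ι → F)) : Subgroup (GL ι F) where
  carrier := {g | ∀ v, v ∈ S ↔ (g : Matrix ι ι F) *ᵥ v ∈ S}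
  mul_mem' {a b} ha hb v := by rw [hb v, ha, Units.val_mul, mulVec_mulVec]
  one_mem' v := by simp
  inv_mem' {a} ha v := by
    have h := ha (((a⁻¹ : GL ι F) : Matrix ι ι F) *ᵥ v)
    rw [mulVec_mulVec, Units.mul_inv, one_mulVec] at h
    exact h.symm

lemma mem_setStab_of_forall {S : Set (ι → F)} {g : GL ι F}
    (h : ∀ v ∈ S, (g : Matrix ι ι F) *ᵥ v ∈ S) : g ∈ setStab S := by
  have hS : S.Finite := Set.toFinite S
  refine fun v => ⟨h v, fun hv => ?_⟩
  have : Fintype S := hS.fintype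
  let L : S → S := fun x => ⟨_, h x x.2⟩
  have hL : Function.Injective L := fun a b e =>
    Subtype.ext (gl_mulVec_injective g (congrArg Subtype.val e))
  obtain ⟨⟨w, hw⟩, he⟩ := (Finite.injective_iff_surjective.mp hL) ⟨_, hv⟩
  rwa [← gl_mulVec_injective g (congrArg Subtype.val he)]

/-- a subgroup of `Ω` stabilising a set together with a further element of `Ω`, the set not being
stable under all of `Ω`, is not maximal -/
theorem not_maximal_of_setStab {Ω M : Subgroup (GL ι F)} (S : Set (ι → F))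
    (hM : ∀ g ∈ M ⊓ Ω, ∀ v ∈ S, (g : Matrix ι ι F) *ᵥ v ∈ S)
    {w : GL ι F} (hwΩ : w ∈ Ω) (hwS : ∀ v ∈ S, (w : Matrix ι ι F) *ᵥ v ∈ S) (hwM : w ∉ M)
    {t : GL ι F} (htΩ : t ∈ Ω) {v : ι → F} (hv : v ∈ S) (htv : (t : Matrix ι ι F) *ᵥ v ∉ S) :
    ∃ K : Subgroup (GL ι F), M ⊓ Ω < K ∧ K < Ω :=
  ⟨setStab S ⊓ Ω,
    lt_of_le_of_ne (fun g hg => ⟨mem_setStab_of_forall (hM g hg), hg.2⟩)
      (fun e => hwM ((e ▸ (⟨mem_setStab_of_forall hwS, hwΩ⟩ : w ∈ setStab S ⊓ Ω)) : w ∈ M ⊓ Ω).1),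
    lt_of_le_of_ne inf_le_right (fun e => htv ((((e.symm ▸ htΩ) : t ∈ setStab S ⊓ Ω).1 v).mp hv))⟩

lemma maximal_elim {G : Type*} [Group G] {Ω H K : Subgroup G} (hH : IsMaximalIn Ω H) (h1 : H < K)
    (h2 : K < Ω) : False :=
  (hH.2 K h1.le h2.le).elim (fun h => h1.ne h.symm) (fun h => h2.ne h)

end CfsgLib.Asch
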