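import Cfsg.Agent.Lib.Aschbacher.Cases

/-!
# The normaliser of a field of 64 elements in three dimensions over four elements
-/

set_option autoImplicit false

namespace CfsgLib.Asch

open Matrix Cfsg.Geo
open scoped MatrixGroups

variable {F : Type*} [Field F] [Fintype F]

omit [Fintype F] in
/-- the matrix with columns `x^j v` -/
lemma of_cols_mulVec (x : Matrix (Fin 3) (Fin 3) F) (v w : Fin 3 → F) :
    (Matrix.of fun i j => (x ^ (j : ℕ) *ᵥ v) i : Matrix (Fin 3) (Fin 3) F) *ᵥ w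
      = (w 0 • (1 : Matrix (Fin 3) (Fin 3) F) + w 1 • x + w 2 • x ^ 2) *ᵥ v := by
  rw [add_mulVec, add_mulVec, smul_mulVec, smul_mulVec, smul_mulVec]
  ext i
  simp only [Matrix.mulVec, Matrix.of_apply, dotProduct, Fin.sum_univ_three, Pi.add_apply, Pi.smul_apply,
    smul_eq_mul, Fin.val_zero, Fin.val_one, Fin.val_two, pow_zero, pow_one]
  ring

/-- over the field with four elements, the determinant-one normaliser of a cubic extension is a subfield group -/
theorem inSubfield_of_cubic (hq : Fintype.card F = 4) {K : Subalgebra F (Matrix (Fin 3) (Fin 3) F)}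
    (hK : IsFieldSubalgebra 3 K) {G : Subgroup (GL (Fin 3) F)}
    (hG : ∀ g ∈ G, g ∈ subalgebraNormalizer K ∧ Matrix.det (g : Matrix (Fin 3) (Fin 3) F) = 1) :
    InSubfield G := by
  classical
  -- the field
  obtain ⟨p, f, hp, hchar, hf0, hcard⟩ := exists_prime_pow (F := F)
  obtain rfl : p = 2 := by
    have h4 : p ∣ 2 ^ 2 := ⟨p ^ (f - 1), by
      rw [← pow_succ', Nat.sub_add_cancel (by omega), ← hcard, hq]; rfl⟩
    exact (Nat.prime_dvd_prime_iff_eq hp Nat.prime_two).mp (hp.dvd_of_dvd_pow h4)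
  haveI := hchar
  haveI := Fact.mk Nat.prime_two
  have hF4 : ∀ a : F, a ^ 4 = a := fun a => by rw [← hq]; exact FiniteField.pow_card a
  have hF3 : ∀ a : F, a ≠ 0 → a ^ 3 = 1 := fun a ha => by
    have h := FiniteField.pow_card_sub_one_eq_one a ha
    rwa [hq] at h
  have hneg : ∀ a : F, -a = a := fun a => CharTwo.neg_eq a
  -- arithmetic in `K`
  have hsq : ∀ u ∈ K, ∀ w ∈ K, (u + w) ^ 2 = u ^ 2 + w ^ 2 := by
    intro u hu w hw
    have h2 : u * w + w * u = 0 := by
      rw [hK.comm u hu w hw, ← two_smul F (w * u), CharTwo.two_eq_zero, zero_smul]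
    rw [sq, sq, sq, add_mul, mul_add, mul_add]
    calc u * u + u * w + (w * u + w * w) = u * u + w * w + (u * w + w * u) := by abel
      _ = _ := by rw [h2, add_zero]
  have hdom : ∀ u ∈ K, ∀ w : Matrix (Fin 3) (Fin 3) F, u * w = 0 → u = 0 ∨ w = 0 := by
    intro u hu w h
    refine (eq_or_ne u 0).imp id fun hne => ?_
    obtain ⟨y, hy, huy⟩ := hK.inv u hu hne
    have hyu : y * u = 1 := mul_eq_one_comm.mp huy
    calc w = y * u * w := by rw [hyu, one_mul]
      _ = 0 := by rw [mul_assoc, h, mul_zero]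
  have hvne : ∀ u ∈ K, ∀ v : Fin 3 → F, v ≠ 0 → u *ᵥ v = 0 → u = 0 := by
    intro u hu v hv h
    by_contra hne
    obtain ⟨y, -, huy⟩ := hK.inv u hu hne
    refine hv ?_
    calc v = (y * u) *ᵥ v := by rw [mul_eq_one_comm.mp huy, one_mulVec]
      _ = 0 := by rw [← mulVec_mulVec, h, mulVec_zero]
  -- the group of units
  let U : Subgroup (GL (Fin 3) F) :=
  { carrier := {g | (g : Matrix (Fin 3) (Fin 3) F) ∈ K}
    mul_mem' := fun ha hb => by simpa using K.mul_mem ha hb
    one_mem' := K.one_mem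
    inv_mem' := fun {g} hg => by
      obtain ⟨y, hy, hgy⟩ := hK.inv _ hg g.ne_zero
      show ((g⁻¹ : GL (Fin 3) F) : Matrix (Fin 3) (Fin 3) F) ∈ K
      rwa [Units.inv_eq_of_mul_eq_one_right hgy] }
  have hU : Nat.card U = 63 := by
    haveI : Module.Finite F K := inferInstanceAs (Module.Finite F (Subalgebra.toSubmodule K))
    have hKc : Nat.card K = 64 := by
      rw [Module.natCard_eq_pow_finrank (K := F), hK.finrank_eq, Nat.card_eq_fintype_card, hq]; rfl
    have he : U ≃ {u : K // u ≠ 0} := Equiv.ofBijective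
      (fun g => ⟨⟨((g : GL (Fin 3) F) : Matrix (Fin 3) (Fin 3) F), g.2⟩, fun h =>
        (g : GL (Fin 3) F).ne_zero (congrArg Subtype.val h)⟩)
      ⟨fun g g' h => Subtype.ext (Units.ext (congrArg (fun u : {u : K // u ≠ 0} => (u.1 : Matrix (Fin 3) (Fin 3) F)) h)),
        fun u => by
          obtain ⟨y, -, huy⟩ := hK.inv _ u.1.2 (fun h => u.2 (Subtype.ext h))
          exact ⟨⟨⟨u.1, y, huy, mul_eq_one_comm.mp huy⟩, u.1.2⟩, rfl⟩⟩
    haveI : Fintype K := Fintype.ofFinite K
    rw [Nat.card_congr he, Nat.card_eq_fintype_card, Fintype.card_subtype_compl, Fintype.card_subtype_eq,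
      ← Nat.card_eq_fintype_card, hKc]
  have h63 : ∀ u ∈ K, u ≠ 0 → u ^ 63 = 1 := by
    intro u hu hu0
    obtain ⟨y, -, huy⟩ := hK.inv u hu hu0
    have h := pow_card_eq_one' (x := (⟨⟨u, y, huy, mul_eq_one_comm.mp huy⟩, hu⟩ : U))
    rw [hU] at h
    have h' := congrArg (fun g : U => ((g : GL (Fin 3) F) : Matrix (Fin 3) (Fin 3) F)) h
    simpa using h'
  haveI : Fact (Nat.Prime 7) := ⟨by norm_num⟩
  obtain ⟨xU, hxU⟩ := exists_prime_orderOf_dvd_card' (G := U) 7 (by rw [hU]; norm_num)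
  set x : Matrix (Fin 3) (Fin 3) F := ((xU : GL (Fin 3) F) : Matrix (Fin 3) (Fin 3) F) with hxdef
  have hx : x ∈ K := xU.2
  have hx7 : x ^ 7 = 1 := by
    have h := congrArg (fun g : U => ((g : GL (Fin 3) F) : Matrix (Fin 3) (Fin 3) F))
      (pow_orderOf_eq_one xU)
    rw [hxU] at h
    simpa using h
  have hxns : ∀ a : F, x ≠ a • 1 := by
    intro a ha
    have ha0 : a ≠ 0 := by
      rintro rfl; rw [zero_smul] at ha; exact (xU : GL (Fin 3) F).ne_zero ha
    have hx1 : xU = 1 := by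
      refine Subtype.ext (Units.ext ?_)
      show x = 1
      rw [ha, smul_pow, one_pow, show a ^ 7 = a by
        rw [show 7 = 3 + 4 from rfl, pow_add, hF3 a ha0, hF4, one_mul]] at hx7
      rw [ha, hx7]
    rw [hx1, orderOf_one] at hxU
    norm_num at hxU
  have hx8 : x ^ 8 = x := by rw [pow_succ, hx7, one_mul]
  have hpow8 : ∀ a b c : F, (a • 1 + b • x + c • x ^ 2) ^ 8
      = a ^ 2 • (1 : Matrix (Fin 3) (Fin 3) F) + b ^ 2 • x + c ^ 2 • x ^ 2 := by
    intro a b c
    have m1 : ∀ (k : ℕ) (a : F), a • (1 : Matrix (Fin 3) (Fin 3) F) ∈ K := fun _ a => K.smul_mem K.one_mem a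
    have step : ∀ (k : ℕ), (a • 1 + b • x + c • x ^ 2) ^ (2 ^ k)
        = a ^ 2 ^ k • (1 : Matrix (Fin 3) (Fin 3) F) + b ^ 2 ^ k • x ^ 2 ^ k + c ^ 2 ^ k • (x ^ 2) ^ 2 ^ k := by
      intro k
      induction k with
      | zero => simp
      | succ k ih =>
        rw [pow_succ 2 k, pow_mul, ih, hsq _ (add_mem (m1 0 _) (K.smul_mem (pow_mem hx _) _)) _
          (K.smul_mem (pow_mem (pow_mem hx _) _) _), hsq _ (m1 0 _) _ (K.smul_mem (pow_mem hx _) _)]
        simp only [smul_pow, one_pow, ← pow_mul, mul_assoc]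
    have h := step 3
    rw [show 2 ^ 3 = 8 from rfl] at h
    have ha8 : ∀ a : F, a ^ 8 = a ^ 2 := fun a => by rw [show 8 = 4 * 2 from rfl, pow_mul, hF4]
    rw [h, ha8, ha8, ha8, hx8, ← pow_mul, show 2 * 8 = 8 * 2 from rfl, pow_mul, hx8]
  -- `1, u, u²` are independent when `u⁸ = u` is non-scalar
  have hind : ∀ a b c : F, a • (1 : Matrix (Fin 3) (Fin 3) F) + b • x + c • x ^ 2 = 0 → a = 0 ∧ b = 0 ∧ c = 0 := by
    intro a b c h
    by_cases hc : c = 0
    · subst hc
      by_cases hb : b = 0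
      · subst hb
        simp at h
        exact ⟨h, rfl, rfl⟩
      · exfalso
        rw [zero_smul, add_zero] at h
        refine hxns (b⁻¹ * a) ?_
        have h' := congrArg (fun M => b⁻¹ • M) h
        simp only [smul_add, smul_smul, inv_mul_cancel₀ hb, one_smul, smul_zero] at h'
        calc x = -((b⁻¹ * a) • (1 : Matrix (Fin 3) (Fin 3) F)) := eq_neg_of_add_eq_zero_right h'
          _ = _ := by rw [← neg_smul, hneg]
    exfalso
    obtain ⟨A, B, hx2⟩ : ∃ A B : F, x ^ 2 = A • 1 + B • x := by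
      refine ⟨c⁻¹ * a, c⁻¹ * b, ?_⟩
      have h' := congrArg (fun M => c⁻¹ • M) h
      simp only [smul_add, smul_smul, inv_mul_cancel₀ hc, one_smul, smul_zero] at h'
      calc x ^ 2 = -((c⁻¹ * a) • (1 : Matrix (Fin 3) (Fin 3) F) + (c⁻¹ * b) • x) := eq_neg_of_add_eq_zero_right h'
        _ = _ := by rw [neg_add, ← neg_smul, ← neg_smul, hneg, hneg]
    have h1 : x = (A ^ 4 + B ^ 4 * A ^ 2 + B ^ 6 * A) • (1 : Matrix (Fin 3) (Fin 3) F) + B ^ 7 • x := by
      have h4 : x ^ 4 = (A ^ 2 + B ^ 2 * A) • (1 : Matrix (Fin 3) (Fin 3) F) + B ^ 3 • x := by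
        rw [show 4 = 2 * 2 from rfl, pow_mul, hx2, hsq _ (K.smul_mem K.one_mem _) _ (K.smul_mem hx _), smul_pow,
          smul_pow, one_pow, hx2, smul_add, smul_smul, smul_smul, ← add_assoc, ← add_smul,
          show B ^ 2 * B = B ^ 3 by ring]
      conv_lhs => rw [← hx8, show 8 = 4 * 2 from rfl, pow_mul, h4, hsq _ (K.smul_mem K.one_mem _) _
        (K.smul_mem hx _), smul_pow, smul_pow, one_pow, hx2, smul_add, smul_smul, smul_smul, ← add_assoc, ← add_smul]
      have e1 : (A ^ 2 + B ^ 2 * A) ^ 2 = A ^ 4 + B ^ 4 * A ^ 2 := by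
        rw [CharTwo.add_sq]; ring
      rw [e1]
      congr 2 <;> ring
    by_cases hB : B = 0
    · subst hB
      refine hxns (A ^ 4) ?_
      calc x = _ := h1
        _ = _ := by simp
    · have hB7 : B ^ 7 = B := by rw [show 7 = 3 + 4 from rfl, pow_add, hF3 B hB, hF4, one_mul]
      have hB6 : B ^ 6 = 1 := by rw [show 6 = 3 * 2 from rfl, pow_mul, hF3 B hB, one_pow]
      rw [hB7, hB6, hF4 B, hF4 A, one_mul] at h1
      by_cases hB1 : B = 1
      · subst hB1
        have h2 : A + 1 * A ^ 2 + A = A ^ 2 := by rw [one_mul, add_right_comm, CharTwo.add_self_eq_zero, zero_add]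
        rw [one_smul, h2, right_eq_add, smul_eq_zero] at h1
        rcases h1 with h1 | h1
        · have hA : A = 0 := by simpa using h1
          rw [hA, zero_smul, zero_add, one_smul] at hx2
          refine hxns 1 ?_
          rw [one_smul]
          have hinv : x * (xU⁻¹ : GL (Fin 3) F).val = 1 := (xU : GL (Fin 3) F).mul_inv
          calc x = x ^ 2 * (xU⁻¹ : GL (Fin 3) F).val := by rw [sq, mul_assoc, hinv, mul_one]
            _ = 1 := by rw [hx2, hinv]
        · exact one_ne_zero h1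
      · have h2 : (1 - B) • x = (A + B * A ^ 2 + A) • (1 : Matrix (Fin 3) (Fin 3) F) := by
          rw [sub_smul, one_smul, sub_eq_iff_eq_add]; exact h1
        refine hxns ((1 - B)⁻¹ * (A + B * A ^ 2 + A)) ?_
        rw [← smul_smul, ← h2, smul_smul, inv_mul_cancel₀ (sub_ne_zero.mpr (Ne.symm hB1)), one_smul]
  have hli : LinearIndependent F ![(1 : Matrix (Fin 3) (Fin 3) F), x, x ^ 2] := by
    rw [Fintype.linearIndependent_iff]
    intro g hg i
    rw [Fin.sum_univ_three] at hg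
    obtain ⟨h0, h1, h2⟩ := hind _ _ _ hg
    fin_cases i <;> assumption
  have hgenK : ∀ u ∈ K, ∃ a b c : F, u = a • (1 : Matrix (Fin 3) (Fin 3) F) + b • x + c • x ^ 2 := by
    intro u hu
    have hle : Submodule.span F (Set.range ![(1 : Matrix (Fin 3) (Fin 3) F), x, x ^ 2]) ≤ Subalgebra.toSubmodule K := by
      refine Submodule.span_le.mpr ?_
      rintro _ ⟨i, rfl⟩
      fin_cases i
      · exact K.one_mem
      · exact hx
      · exact pow_mem hx 2
    have heq := Submodule.eq_of_le_of_finrank_eq hle (by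
      rw [finrank_span_eq_card hli, Subalgebra.finrank_toSubmodule, hK.finrank_eq, Fintype.card_fin])
    have hu' : u ∈ Submodule.span F (Set.range ![(1 : Matrix (Fin 3) (Fin 3) F), x, x ^ 2]) := heq ▸ hu
    obtain ⟨g, hg⟩ := (Submodule.mem_span_range_iff_exists_fun F).mp hu'
    rw [Fin.sum_univ_three] at hg
    exact ⟨_, _, _, hg.symm⟩
  -- the basis
  set v : Fin 3 → F := Pi.single 0 1
  have hv : v ≠ 0 := fun h => one_ne_zero (by simpa [v] using congrFun h 0 : (1 : F) = 0)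
  let P0 : Matrix (Fin 3) (Fin 3) F := Matrix.of fun i j => (x ^ (j : ℕ) *ᵥ v) i
  have hP0 : ∀ w : Fin 3 → F, P0 *ᵥ w = (w 0 • (1 : Matrix (Fin 3) (Fin 3) F) + w 1 • x + w 2 • x ^ 2) *ᵥ v := by
    intro w
    exact of_cols_mulVec x v w
  have hP0u : IsUnit P0 := by
    refine Matrix.mulVec_injective_iff_isUnit.mp fun w w' h => ?_
    have h0 : P0 *ᵥ (w - w') = 0 := by
      show P0 *ᵥ (w - w') = 0
      rw [mulVec_sub]; exact sub_eq_zero.mpr h
    rw [hP0] at h0
    have h1 := hvne _ (add_mem (add_mem (K.smul_mem K.one_mem _) (K.smul_mem hx _))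
      (K.smul_mem (pow_mem hx 2) _)) v hv h0
    obtain ⟨e0, e1, e2⟩ := hind _ _ _ h1
    funext i
    fin_cases i
    · exact sub_eq_zero.mp e0
    · exact sub_eq_zero.mp e1
    · exact sub_eq_zero.mp e2
  obtain ⟨P, hP⟩ := hP0u
  -- scalars among elements with `z³` scalar
  obtain ⟨ω, hω⟩ : ∃ ω : F, ω ≠ 0 ∧ ω ≠ 1 := by
    by_contra hc
    push_neg at hc
    have hsub : (Finset.univ : Finset F) ⊆ {0, 1} := fun a _ => by
      rcases eq_or_ne a 0 with rfl | ha
      · simp
      · simp [hc a ha]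
    have := (Finset.card_le_card hsub).trans Finset.card_le_two
    rw [Finset.card_univ, hq] at this
    omega
  have hω3 : ω * ω * ω = 1 := by rw [← hF3 ω hω.1]; ring
  have hω2 : 1 + ω + ω * ω = 0 := by
    have : (ω - 1) * (1 + ω + ω * ω) = 0 := by linear_combination hω3
    exact (mul_eq_zero.mp this).resolve_left (sub_ne_zero.mpr hω.2)
  have hroot : ∀ u ∈ K, u ^ 3 = 1 → ∃ a : F, u = a • 1 := by
    intro u hu h3
    have h0 : (u - (1 : F) • 1) * ((u - ω • 1) * (u - (ω * ω) • 1)) = 0 := by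
      have : (u - (1 : F) • 1) * ((u - ω • 1) * (u - (ω * ω) • 1))
          = u ^ 3 - (1 + ω + ω * ω) • u ^ 2 + (ω + ω * ω + ω * ω * ω) • u - (ω * ω * ω) • 1 := by
        simp only [sub_mul, mul_sub, smul_mul_assoc, mul_smul_comm, one_mul, mul_one, pow_succ, pow_zero,
          add_smul, smul_smul, one_smul, smul_sub]
        simp only [mul_assoc]
        abel
      rw [this, h3, hω2, hω3, show ω + ω * ω + 1 = 0 by linear_combination hω2]
      simp
    rcases hdom _ (sub_mem hu (K.smul_mem K.one_mem _)) _ h0 with h | h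
    · exact ⟨1, sub_eq_zero.mp h⟩
    rcases hdom _ (sub_mem hu (K.smul_mem K.one_mem _)) _ h with h | h
    · exact ⟨ω, sub_eq_zero.mp h⟩
    · exact ⟨ω * ω, sub_eq_zero.mp h⟩
  have hdet : ∀ z ∈ K, z ^ 9 = 1 → Matrix.det z = 1 → ∃ a : F, z = a • 1 := by
    intro z hz h9 hd
    obtain ⟨c, hc⟩ := hroot (z ^ 3) (pow_mem hz 3) (by rw [← pow_mul]; exact h9)
    by_contra hns
    push_neg at hns
    have hind' : ∀ a b d : F, a • (1 : Matrix (Fin 3) (Fin 3) F) + b • z + d • z ^ 2 = 0 → a = 0 ∧ b = 0 ∧ d = 0 := by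
      intro a b d h
      by_cases hd0 : d = 0
      · subst hd0
        by_cases hb : b = 0
        · subst hb
          simp at h
          exact ⟨h, rfl, rfl⟩
        · exfalso
          rw [zero_smul, add_zero] at h
          refine hns (b⁻¹ * a) ?_
          have h' := congrArg (fun M => b⁻¹ • M) h
          simp only [smul_add, smul_smul, inv_mul_cancel₀ hb, one_smul, smul_zero] at h'
          calc z = -((b⁻¹ * a) • (1 : Matrix (Fin 3) (Fin 3) F)) := eq_neg_of_add_eq_zero_right h'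
            _ = _ := by rw [← neg_smul, hneg]
      exfalso
      obtain ⟨A, B, hz2⟩ : ∃ A B : F, z ^ 2 = A • 1 + B • z := by
        refine ⟨d⁻¹ * a, d⁻¹ * b, ?_⟩
        have h' := congrArg (fun M => d⁻¹ • M) h
        simp only [smul_add, smul_smul, inv_mul_cancel₀ hd0, one_smul, smul_zero] at h'
        calc z ^ 2 = -((d⁻¹ * a) • (1 : Matrix (Fin 3) (Fin 3) F) + (d⁻¹ * b) • z) := eq_neg_of_add_eq_zero_right h'
          _ = _ := by rw [neg_add, ← neg_smul, ← neg_smul, hneg, hneg]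
      have hz3 : (B * A) • (1 : Matrix (Fin 3) (Fin 3) F) + (A + B * B) • z = c • 1 := by
        rw [← hc, pow_succ, hz2, add_mul, smul_mul_assoc, smul_mul_assoc, one_mul, ← sq z, hz2, smul_add,
          smul_smul, smul_smul, add_smul]
        abel
      have hAB : A = B * B := by
        by_contra hne
        have hne' : A + B * B ≠ 0 := fun h0 => hne ((eq_neg_of_add_eq_zero_left h0).trans (hneg _))
        refine hns ((A + B * B)⁻¹ * (c - B * A)) ?_
        have h2 : (A + B * B) • z = (c - B * A) • (1 : Matrix (Fin 3) (Fin 3) F) := by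
          rw [sub_smul, eq_sub_iff_add_eq', hz3]
        rw [← smul_smul, ← h2, smul_smul, inv_mul_cancel₀ hne', one_smul]
      by_cases hB : B = 0
      · subst hB
        rw [hAB, mul_zero, zero_smul, zero_smul, add_zero] at hz2
        have hz0 : z ^ 9 = 0 := by
          rw [show 9 = 2 + 7 from rfl, pow_add, hz2, zero_mul]
        rw [hz0] at h9
        exact zero_ne_one h9
      · have hcB : c = B * B * B := by
          have h2 := hz3
          rw [hAB, CharTwo.add_self_eq_zero, zero_smul, add_zero] at h2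
          have h3 := congrFun (congrFun h2 0) 0
          simp at h3
          rw [← h3, mul_assoc]
        obtain ⟨a', ha'⟩ := hroot (B⁻¹ • z) (K.smul_mem hz _) (by
          rw [smul_pow, hc, smul_smul, hcB, show B⁻¹ ^ 3 * (B * B * B) = 1 by field_simp, one_smul])
        refine hns (B * a') ?_
        rw [← smul_smul, ← ha', smul_smul, mul_inv_cancel₀ hB, one_smul]
    let Q0 : Matrix (Fin 3) (Fin 3) F := Matrix.of fun i j => (z ^ (j : ℕ) *ᵥ v) i
    have hQ0 : ∀ w : Fin 3 → F, Q0 *ᵥ w = (w 0 • (1 : Matrix (Fin 3) (Fin 3) F) + w 1 • z + w 2 • z ^ 2) *ᵥ v := by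
      intro w
      exact of_cols_mulVec z v w
    have hQ0d : Matrix.det Q0 ≠ 0 := by
      intro h0
      obtain ⟨w, hw0, hw⟩ := Matrix.exists_mulVec_eq_zero_iff.mpr h0
      rw [hQ0] at hw
      obtain ⟨e0, e1, e2⟩ := hind' _ _ _ (hvne _ (add_mem (add_mem (K.smul_mem K.one_mem _) (K.smul_mem hz _))
        (K.smul_mem (pow_mem hz 2) _)) v hv hw)
      exact hw0 (funext fun i => by fin_cases i <;> assumption)
    have hcomp : z * Q0 = Q0 * !![0, 0, c; 1, 0, 0; 0, 1, 0] := by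
      refine Matrix.ext_of_mulVec_single fun j => ?_
      rw [← mulVec_mulVec, ← mulVec_mulVec, hQ0, hQ0, mulVec_mulVec]
      refine congrArg (fun M => M *ᵥ v) ?_
      fin_cases j <;> simp [Matrix.mulVec, dotProduct, Fin.sum_univ_three, ← sq]
      rw [← pow_succ', hc]
    have hdc := congrArg Matrix.det hcomp
    have hC : Matrix.det !![0, 0, c; 1, 0, 0; 0, 1, 0] = c := by
      rw [Matrix.det_fin_three]; simp
    rw [det_mul, det_mul, hd, one_mul, hC] at hdc
    have hc1 : c = 1 := by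
      by_contra hne
      refine hQ0d ?_
      have : Matrix.det Q0 * (c - 1) = 0 := by linear_combination -hdc
      exact (mul_eq_zero.mp this).resolve_right (sub_ne_zero.mpr hne)
    rw [hc1, one_smul] at hc
    obtain ⟨a, ha⟩ := hroot z hz hc
    exact hns a ha
  -- the subfield
  have hfix : ∀ a : F, a ∈ powFixed (F := F) 2 1 ↔ a ^ 2 = a := fun a => by rw [mem_powFixed, pow_one]
  have hf2 : f = 2 := Nat.pow_right_injective le_rfl (show 2 ^ f = 2 ^ 2 by rw [← hcard, hq])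
  refine ⟨powFixed 2 1, 2, P, Nat.prime_two, ?_, fun g hg => ?_⟩
  · rw [natCard_powFixed hcard (one_dvd f) one_ne_zero, hq]; norm_num
  obtain ⟨hgN, hgd⟩ := hG g hg
  -- the linear part of `g`
  obtain ⟨w, hw⟩ := (Matrix.mulVec_surjective_iff_isUnit.mpr P.isUnit) ((g : Matrix (Fin 3) (Fin 3) F) *ᵥ v)
  set κ := w 0 • (1 : Matrix (Fin 3) (Fin 3) F) + w 1 • x + w 2 • x ^ 2 with hκ
  have hκK : κ ∈ K := add_mem (add_mem (K.smul_mem K.one_mem _) (K.smul_mem hx _)) (K.smul_mem (pow_mem hx 2) _)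
  have hκv : κ *ᵥ v = (g : Matrix (Fin 3) (Fin 3) F) *ᵥ v := by rw [hκ, ← hP0, ← hP]; exact hw
  have hκ0 : κ ≠ 0 := by
    intro h
    rw [h, zero_mulVec] at hκv
    exact ClassicalMax.gl_mulVec_ne_zero g hv hκv.symm
  set s := κ ^ 36
  set z := κ ^ 28
  have hsz : z * s = κ := by
    show κ ^ 28 * κ ^ 36 = κ
    rw [← pow_add, show 28 + 36 = 63 + 1 from rfl, pow_succ, h63 κ hκK hκ0, one_mul]
  have hs8 : s ^ 8 = s := by
    show (κ ^ 36) ^ 8 = κ ^ 36
    rw [← pow_mul, show 36 * 8 = 63 * 4 + 36 from rfl, pow_add, pow_mul, h63 κ hκK hκ0, one_pow, one_mul]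
  have hz9 : z ^ 9 = 1 := by
    show (κ ^ 28) ^ 9 = 1
    rw [← pow_mul, show 28 * 9 = 63 * 4 from rfl, pow_mul, h63 κ hκK hκ0, one_pow]
  set x' := cj g x
  have hx' : x' ∈ K := (hgN x).mp hx
  have hy : ∀ j : Fin 3, ∃ col : Fin 3 → powFixed (F := F) 2 1, P0 *ᵥ (fun i => (col i : F)) = (x' ^ (j : ℕ) * s) *ᵥ v := by
    intro j
    have hyK : x' ^ (j : ℕ) * s ∈ K := K.mul_mem (pow_mem hx' _) (pow_mem hκK _)
    have hy8 : (x' ^ (j : ℕ) * s) ^ 8 = x' ^ (j : ℕ) * s := by
      rw [(show Commute (x' ^ (j : ℕ)) s from hK.comm _ (pow_mem hx' _) _ (pow_mem hκK _)).mul_pow, hs8,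
        ← pow_mul, mul_comm, pow_mul, show x' ^ 8 = x' by rw [← cj_pow, hx8]]
    obtain ⟨a, b, c, habc⟩ := hgenK _ hyK
    have h2 := hpow8 a b c
    rw [← habc, hy8, habc] at h2
    obtain ⟨ea, eb, ec⟩ := hind (a ^ 2 - a) (b ^ 2 - b) (c ^ 2 - c) (by
      rw [sub_smul, sub_smul, sub_smul]
      calc a ^ 2 • (1 : Matrix (Fin 3) (Fin 3) F) - a • 1 + (b ^ 2 • x - b • x) + (c ^ 2 • x ^ 2 - c • x ^ 2)
          = (a ^ 2 • (1 : Matrix (Fin 3) (Fin 3) F) + b ^ 2 • x + c ^ 2 • x ^ 2) - (a • 1 + b • x + c • x ^ 2) := by abel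
        _ = 0 := by rw [← h2, sub_self])
    refine ⟨![⟨a, (hfix a).mpr (sub_eq_zero.mp ea)⟩, ⟨b, (hfix b).mpr (sub_eq_zero.mp eb)⟩,
      ⟨c, (hfix c).mpr (sub_eq_zero.mp ec)⟩], ?_⟩
    rw [hP0, habc]
    simp
  choose col hcol using hy
  set M₀ : Matrix (Fin 3) (Fin 3) (powFixed (F := F) 2 1) := Matrix.of fun i j => col j i
  set M := M₀.map (powFixed (F := F) 2 1).subtype
  have hMv : ∀ j, M *ᵥ Pi.single j 1 = fun i => (col j i : F) := fun j => by
    rw [mulVec_single_one]; rfl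
  have hgP : (g : Matrix (Fin 3) (Fin 3) F) * P0 = z * (P0 * M) := by
    refine Matrix.ext_of_mulVec_single fun j => ?_
    rw [← mulVec_mulVec, ← mulVec_mulVec, ← mulVec_mulVec, hMv, hcol]
    have hcolP : P0 *ᵥ (Pi.single j 1 : Fin 3 → F) = x ^ (j : ℕ) *ᵥ v := by
      rw [mulVec_single_one]; rfl
    have hgx : (g : Matrix (Fin 3) (Fin 3) F) * x ^ (j : ℕ) = x' ^ (j : ℕ) * (g : Matrix (Fin 3) (Fin 3) F) := by
      rw [← cj_pow]; simp [cj, mul_assoc]
    rw [hcolP, mulVec_mulVec, hgx, ← mulVec_mulVec, ← hκv, mulVec_mulVec, mulVec_mulVec, ← hsz, ← mul_assoc z,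
      hK.comm z (pow_mem hκK _) _ (pow_mem hx' _), mul_assoc]
  have hdets := congrArg Matrix.det hgP
  have hPd : Matrix.det P0 ≠ 0 := by
    rw [← hP]; exact ((Matrix.isUnit_iff_isUnit_det _).mp P.isUnit).ne_zero
  rw [det_mul, det_mul, det_mul, hgd, one_mul] at hdets
  have hprod : Matrix.det z * Matrix.det M = 1 := mul_left_cancel₀ hPd (by linear_combination -hdets)
  have hMd : Matrix.det M = 1 := by
    have h2 : (Matrix.det M) ^ 2 = Matrix.det M := by
      rw [show M = M₀.map (powFixed (F := F) 2 1).subtype from rfl, ← RingHom.mapMatrix_apply, ← RingHom.map_det]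
      exact (hfix _).mp (Matrix.det M₀).2
    refine mul_right_cancel₀ (b := Matrix.det M) ?_ (by rw [one_mul, ← sq, h2])
    intro h0; rw [h0, mul_zero] at hprod; exact zero_ne_one hprod
  rw [hMd, mul_one] at hprod
  obtain ⟨l, hl⟩ := hdet z (pow_mem hκK _) hz9 hprod
  have hl0 : l ≠ 0 := by
    rintro rfl
    rw [hl, zero_smul, zero_pow (by norm_num)] at hz9
    exact zero_ne_one hz9
  have hM₀ : Matrix.det M₀ ≠ 0 := by
    intro h0
    rw [show M = M₀.map (powFixed (F := F) 2 1).subtype from rfl, ← RingHom.mapMatrix_apply, ← RingHom.map_det,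
      h0, map_zero] at hMd
    exact zero_ne_one hMd
  let h : GL (Fin 3) (powFixed (F := F) 2 1) := Matrix.GeneralLinearGroup.mkOfDetNeZero M₀ hM₀
  let lu : GL (Fin 3) F := Units.map (Matrix.scalar (Fin 3) : F →+* Matrix (Fin 3) (Fin 3) F).toMonoidHom (Units.mk0 l hl0)
  refine ⟨Matrix.GeneralLinearGroup.map ((powFixed (F := F) 2 1).subtype) h * lu,
    Subgroup.mul_mem_sup ⟨h, rfl⟩ ⟨_, rfl⟩, ?_⟩
  show P * (Matrix.GeneralLinearGroup.map ((powFixed (F := F) 2 1).subtype) h * lu) * P⁻¹ = g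
  rw [mul_inv_eq_iff_eq_mul]
  refine Units.ext ?_
  rw [Units.val_mul, Units.val_mul, Units.val_mul, hP, hgP, hl]
  show P0 * (M * Matrix.scalar (Fin 3) l) = l • 1 * (P0 * M)
  rw [Matrix.scalar_apply, ← Matrix.smul_one_eq_diagonal, mul_smul_comm, mul_one, mul_smul_comm, smul_mul_assoc, one_mul]

end CfsgLib.Asch
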