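import Cfsg.Agent.Lib.Aschbacher.Proper
import Cfsg.Agent.Lib.ClassicalMax.DecompNotMax

/-!
# Members of classes over very small fields that lie in members of other classes
-/

set_option autoImplicit false

namespace CfsgLib.Asch

open Matrix Cfsg.Geo CfsgLib.ClassicalMax CfsgLib.ClassicalMax.DecompNot
open scoped MatrixGroups

variable {ι : Type} [Fintype ι] [DecidableEq ι] {F : Type*} [Field F]

/-- a decomposition into lines gives a basis permuted up to scalars -/
lemma exists_line_basis {t : ℕ} {D : Fin t → Submodule F (ι → F)} (hD : IsMDecomposition 1 D) :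
    ∃ b : Module.Basis (Fin t) F (ι → F), ∀ g ∈ decompositionStabilizer D,
      ∃ (σ : Equiv.Perm (Fin t)) (a : Fin t → F),
        ∀ i, a i ≠ 0 ∧ (g : Matrix ι ι F) *ᵥ b i = a i • b (σ i) := by
  have hne : ∀ i, ∃ e ∈ D i, e ≠ 0 := fun i => Submodule.exists_mem_ne_zero_of_ne_bot fun h => by
    have := hD.finrank_eq i
    rw [h, finrank_bot] at this
    exact zero_ne_one this
  choose e he he0 using hne
  have hline : ∀ i, ∀ x ∈ D i, ∃ c : F, c • e i = x := fun i x hx => by
    obtain ⟨c, hc⟩ := (finrank_eq_one_iff_of_nonzero' (⟨e i, he i⟩ : D i)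
      (fun h => he0 i (congrArg Subtype.val h))).1 (hD.finrank_eq i) ⟨x, hx⟩
    exact ⟨c, congrArg Subtype.val hc⟩
  have hli : LinearIndependent F e := hD.indep.linearIndependent D he he0
  have hsp : ⊤ ≤ Submodule.span F (Set.range e) := fun x _ => by
    obtain ⟨a, ha, rfl⟩ := exists_components hD x
    refine Submodule.sum_mem _ fun i _ => ?_
    obtain ⟨c, hc⟩ := hline i _ (ha i)
    rw [← hc]
    exact Submodule.smul_mem _ _ (Submodule.subset_span ⟨i, rfl⟩)
  refine ⟨Module.Basis.mk hli hsp, fun g hg => ?_⟩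
  obtain ⟨σ, hσ⟩ := hg
  have hmem : ∀ i, (g : Matrix ι ι F) *ᵥ e i ∈ D (σ i) := fun i => by
    rw [← hσ i]; exact ⟨e i, he i, Matrix.toLin'_apply _ _⟩
  choose c hc using fun i => hline (σ i) _ (hmem i)
  refine ⟨σ, c, fun i => ⟨fun h => gl_mulVec_ne_zero g (he0 i) (by rw [← hc i, h, zero_smul]), ?_⟩⟩
  simp only [Module.Basis.mk_apply]
  exact (hc i).symm

lemma eq_one_of_card_two [Fintype F] (hq : Fintype.card F = 2) {a : F} (ha : a ≠ 0) : a = 1 := by
  have h := FiniteField.pow_card_sub_one_eq_one a ha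
  rwa [hq, pow_one] at h

/-- monomial groups over the field with two elements are reducible -/
theorem inSubspace_of_lines [Fintype F] (hq : Fintype.card F = 2) (hn : 2 ≤ Fintype.card ι) {t : ℕ}
    {D : Fin t → Submodule F (ι → F)} (hD : IsMDecomposition 1 D) :
    InSubspace (decompositionStabilizer D) := by
  obtain ⟨b, hb⟩ := exists_line_basis hD
  refine ⟨Submodule.span F {∑ i, b i}, ?_, ?_, ?_⟩
  · rw [Ne, Submodule.span_singleton_eq_bot]
    intro h
    have h1 := congrArg (fun z => b.repr z ⟨0, by have := hD.two_le; omega⟩) h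
    simp [Finsupp.single_apply] at h1
  · intro h
    have h1 : Module.finrank F (Submodule.span F {∑ i, b i}) ≤ 1 :=
      (finrank_span_le_card ({∑ i, b i} : Set (ι → F))).trans (by simp)
    rw [h, finrank_top, Module.finrank_fintype_fun_eq_card] at h1
    omega
  · refine le_subspaceStabilizer fun g hg w hw => ?_
    obtain ⟨σ, a, ha⟩ := hb g hg
    obtain ⟨c, rfl⟩ := Submodule.mem_span_singleton.mp hw
    rw [mulVec_smul, mulVec_sum, Finset.sum_congr rfl (fun i _ => (ha i).2),
      Finset.sum_congr rfl (fun i _ => by rw [eq_one_of_card_two hq (ha i).1, one_smul] :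
        ∀ i ∈ Finset.univ, a i • b (σ i) = b (σ i)), Equiv.sum_comp σ (fun i => b i)]
    exact Submodule.mem_span_singleton.mpr ⟨c, rfl⟩

/-- the diagonal form of a basis permuted up to norm-one scalars -/
theorem diag_form_similar {t : ℕ} {D : Fin t → Submodule F (ι → F)} (hD : IsMDecomposition 1 D)
    (τ : F →+* F) (hτ : ∀ a, τ (τ a) = a) (hnorm : ∀ a : F, a ≠ 0 → a * τ a = 1) :
    ∃ f : (ι → F) → (ι → F) → F, IsHermLike τ f ∧ IsNondegenerateForm f ∧
      decompositionStabilizer D ≤ similarityGroup f := by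
  classical
  obtain ⟨b, hb⟩ := exists_line_basis hD
  have hH : IsHermLike τ (coordForm b id τ) := isHermLike_coordForm b (fun _ => rfl) hτ
  have hB : ∀ i j, coordForm b id τ (b i) (b j) = if j = i then 1 else 0 := fun i j => by
    rw [coordForm_basis b (fun _ => rfl)]; rfl
  refine ⟨_, hH, fun v hv => ?_, fun g hg => ⟨1, fun x y => ?_⟩⟩
  · obtain ⟨i, hi⟩ : ∃ i, b.repr v i ≠ 0 := by
      by_contra hc
      push_neg at hc
      exact hv (b.repr.injective (Finsupp.ext fun i => by simp [hc i]))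
    have h1 : coordForm b id τ (b i) v = τ (b.repr v i) := by
      simp [coordForm, Finsupp.single_apply]
    have h2 : coordForm b id τ (b i) v ≠ 0 := by
      rw [h1]; exact fun h => hi ((hτ _).symm.trans (by rw [h, map_zero]))
    exact ⟨⟨b i, h2⟩, ⟨b i, fun h => h2 (by rw [hH.herm, h, map_zero])⟩⟩
  · rw [Units.val_one, one_mul]
    obtain ⟨σ, a, ha⟩ := hb g hg
    refine form_eq_of_basis b (hH.pullback g) hH (fun p r => ?_) x y
    rw [(ha p).2, (ha r).2, hH.smul_left, hH.smul_right, hB, hB]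
    simp only [σ.injective.eq_iff]
    by_cases hpr : r = p
    · subst hpr; rw [if_pos rfl, mul_one, hnorm _ (ha r).1]
    · rw [if_neg hpr, mul_zero, mul_zero]

/-- monomial groups over the field with three elements -/
theorem inQuad_of_lines [Fintype F] (hq : Fintype.card F = 3) {t : ℕ}
    {D : Fin t → Submodule F (ι → F)} (hD : IsMDecomposition 1 D) :
    InQuad (decompositionStabilizer D) := by
  obtain ⟨f, hf, hnd, hle⟩ := diag_form_similar hD (RingHom.id F) (fun _ => rfl) (fun a ha => by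
    have h := FiniteField.pow_card_sub_one_eq_one a ha
    rw [hq, sq] at h
    exact h)
  have hfB : f = sform (RingHom.id F) (gramMatrix f) :=
    bilinear_eq_sform ⟨hf.add_left, hf.smul_left, hf.add_right, fun c v x => by rw [hf.smul_right]; rfl⟩
  refine inQuad_of_symmetric (isUnit_of_nondegenerate Function.surjective_id (hfB ▸ hnd))
    (Matrix.ext fun i j => hf.herm _ _) ?_ (hfB ▸ hle)
  exact two_ne_zero_iff_odd.mpr (by rw [hq]; decide)

/-- monomial groups over the field with four elements -/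
theorem inUnit_of_lines [Fintype F] (hq : Fintype.card F = 4) {t : ℕ}
    {D : Fin t → Submodule F (ι → F)} (hD : IsMDecomposition 1 D) :
    InUnit (decompositionStabilizer D) := by
  obtain ⟨p, f, hp, hchar, hf0, hcard⟩ := exists_prime_pow (F := F)
  obtain rfl : p = 2 := by
    have h4 : p ∣ 2 ^ 2 := ⟨p ^ (f - 1), by
      rw [← pow_succ', Nat.sub_add_cancel (by omega), ← hcard, hq]; rfl⟩
    exact (Nat.prime_dvd_prime_iff_eq hp Nat.prime_two).mp (hp.dvd_of_dvd_pow h4)
  haveI := hchar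
  haveI := Fact.mk Nat.prime_two
  let σ : F ≃+* F := RingEquiv.ofBijective (frobenius F 2)
    (Finite.injective_iff_bijective.mp (frobenius F 2).injective)
  have hσ : ∀ a, σ a = a ^ 2 := fun a => rfl
  have hinv : ∀ a, σ (σ a) = a := fun a => by
    rw [hσ, hσ, ← pow_mul, show 2 * 2 = Fintype.card F by rw [hq], FiniteField.pow_card]
  have hne : σ ≠ RingEquiv.refl F := by
    classical
    intro h
    have : Fintype.card F ≤ 2 := by
      have hsub : (Finset.univ : Finset F) ⊆ {0, 1} := fun a _ => by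
        have h2 : a ^ 2 = a := by rw [← hσ, h]; rfl
        rcases eq_or_ne a 0 with rfl | ha
        · simp
        · have : a = 1 := mul_right_cancel₀ ha (by rw [one_mul, ← sq, h2])
          simp [this]
      exact (Finset.card_le_card hsub).trans (Finset.card_le_two)
    omega
  obtain ⟨g, hg, hnd, hle⟩ := diag_form_similar hD σ.toRingHom hinv (fun a ha => by
    show a * σ a = 1
    rw [hσ, ← pow_succ', show 2 + 1 = Fintype.card F - 1 by rw [hq], FiniteField.pow_card_sub_one_eq_one a ha])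
  exact ⟨σ, g, ⟨hne, hinv, hg.add_left, hg.smul_left, hg.herm, hnd⟩, hle⟩

/-- decompositions into planes with a common determinant on all blocks preserve a symplectic form -/
theorem inSymp_of_planes {t : ℕ} {D : Fin t → Submodule F (ι → F)} (hD : IsMDecomposition 2 D)
    (bi : ∀ i, Module.Basis (Fin 2) F (D i)) (G : Subgroup (GL ι F))
    (hG : ∀ g ∈ G, ∃ (σ : Equiv.Perm (Fin t)) (M : Fin t → Fin 2 → Fin 2 → F) (μ : Fˣ),
      (∀ i k, (g : Matrix ι ι F) *ᵥ (bi i k : ι → F)
        = M i 0 k • (bi (σ i) 0 : ι → F) + M i 1 k • (bi (σ i) 1 : ι → F)) ∧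
      ∀ i, M i 0 0 * M i 1 1 - M i 1 0 * M i 0 1 = μ) :
    InSymp G := by
  classical
  have hint : DirectSum.IsInternal D :=
    DirectSum.isInternal_submodule_of_iSupIndep_of_iSup_eq_top hD.indep hD.iSup_eq_top
  set b := hint.collectedBasis bi with hbdef
  have hbm : ∀ i k, b ⟨i, k⟩ = (bi i k : ι → F) := fun i k => by simp [hbdef, hint.collectedBasis_coe]
  let f : (ι → F) → (ι → F) → F := fun x y =>
    ∑ i, (b.repr x ⟨i, 0⟩ * b.repr y ⟨i, 1⟩ - b.repr x ⟨i, 1⟩ * b.repr y ⟨i, 0⟩)
  have hbil : IsBilinearForm f := by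
    refine ⟨fun x y v => ?_, fun c x v => ?_, fun v x y => ?_, fun c v x => ?_⟩ <;>
      simp only [f, map_add, map_smul, Finsupp.add_apply, Finsupp.smul_apply, smul_eq_mul, ← Finset.sum_add_distrib,
        Finset.mul_sum] <;>
      exact Finset.sum_congr rfl fun i _ => by ring
  have hnd : IsNondegenerateForm f := by
    intro v hv
    obtain ⟨⟨i, k⟩, hik⟩ : ∃ s, b.repr v s ≠ 0 := by
      by_contra hc
      push_neg at hc
      exact hv (b.repr.injective (Finsupp.ext fun s => by simp [hc s]))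
    obtain rfl | rfl : k = 0 ∨ k = 1 := by fin_cases k <;> simp
    · refine ⟨⟨b ⟨i, 1⟩, ?_⟩, ⟨b ⟨i, 1⟩, ?_⟩⟩ <;>
        simpa [f, Finsupp.single_apply] using hik
    · refine ⟨⟨b ⟨i, 0⟩, ?_⟩, ⟨b ⟨i, 0⟩, ?_⟩⟩ <;>
        simpa [f, Finsupp.single_apply] using hik
  have hskew : ∀ v w, f v w = - f w v := fun v w => by
    simp only [f, ← Finset.sum_neg_distrib]
    exact Finset.sum_congr rfl fun i _ => by ring
  have halt : ∀ v, f v v = 0 := fun v => Finset.sum_eq_zero fun i _ => by ring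
  refine ⟨f, ⟨hbil, hskew, halt, hnd⟩, symplectic_even ⟨hbil, hskew, halt, hnd⟩, fun g hg => ?_⟩
  obtain ⟨σ, M, μ, hM, hμ⟩ := hG g hg
  refine ⟨μ, fun u v => ?_⟩
  have hcoord : ∀ x j k, b.repr ((g : Matrix ι ι F) *ᵥ x) ⟨σ j, k⟩
      = M j k 0 * b.repr x ⟨j, 0⟩ + M j k 1 * b.repr x ⟨j, 1⟩ := by
    intro x j k
    have hlin : (Finsupp.lapply ⟨σ j, k⟩).comp (b.repr.toLinearMap.comp (Matrix.toLin' (g : Matrix ι ι F)))
        = M j k 0 • (Finsupp.lapply ⟨j, 0⟩).comp b.repr.toLinearMap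
          + M j k 1 • (Finsupp.lapply ⟨j, 1⟩).comp b.repr.toLinearMap := by
      refine b.ext fun ⟨i, l⟩ => ?_
      simp only [LinearMap.comp_apply, LinearEquiv.coe_coe, Matrix.toLin'_apply, LinearMap.add_apply,
        LinearMap.smul_apply, Finsupp.lapply_apply, hbm i l, hM]
      rw [← hbm, ← hbm, ← hbm]
      simp only [map_add, map_smul, Module.Basis.repr_self, Finsupp.add_apply, Finsupp.smul_apply, smul_eq_mul,
        Finsupp.single_apply]
      obtain rfl | rfl : l = 0 ∨ l = 1 := by fin_cases l <;> simp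
      all_goals obtain rfl | rfl : k = 0 ∨ k = 1 := by fin_cases k <;> simp
      all_goals rcases eq_or_ne i j with rfl | hij
      all_goals simp [*]
    simpa using congrArg (fun L => L x) hlin
  simp only [f]
  rw [← Equiv.sum_comp σ (fun i => b.repr ((g : Matrix ι ι F) *ᵥ u) ⟨i, 0⟩ * b.repr ((g : Matrix ι ι F) *ᵥ v) ⟨i, 1⟩
    - b.repr ((g : Matrix ι ι F) *ᵥ u) ⟨i, 1⟩ * b.repr ((g : Matrix ι ι F) *ᵥ v) ⟨i, 0⟩), Finset.mul_sum]
  refine Finset.sum_congr rfl fun i _ => ?_
  rw [hcoord, hcoord, hcoord, hcoord, ← hμ i]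
  ring

/-- the blocks of an element of a decomposition stabiliser -/
lemma exists_blocks {t : ℕ} {D : Fin t → Submodule F (ι → F)}
    (bi : ∀ i, Module.Basis (Fin 2) F (D i)) {g : GL ι F} (hg : g ∈ decompositionStabilizer D) :
    ∃ (σ : Equiv.Perm (Fin t)) (M : Fin t → Fin 2 → Fin 2 → F),
      (∀ i k, (g : Matrix ι ι F) *ᵥ (bi i k : ι → F)
        = M i 0 k • (bi (σ i) 0 : ι → F) + M i 1 k • (bi (σ i) 1 : ι → F)) ∧
      ∀ i, M i 0 0 * M i 1 1 - M i 1 0 * M i 0 1 ≠ 0 := by
  obtain ⟨σ, hσ⟩ := hg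
  have hmem : ∀ i k, (g : Matrix ι ι F) *ᵥ (bi i k : ι → F) ∈ D (σ i) := fun i k => by
    rw [← hσ i]; exact ⟨_, (bi i k).2, Matrix.toLin'_apply _ _⟩
  refine ⟨σ, fun i l k => (bi (σ i)).repr ⟨_, hmem i k⟩ l, fun i k => ?_, fun i hdet => ?_⟩
  · have h := congrArg Subtype.val ((bi (σ i)).sum_repr ⟨_, hmem i k⟩)
    rw [Fin.sum_univ_two] at h
    exact h.symm
  · obtain ⟨v, hv0, hv⟩ := Matrix.exists_mulVec_eq_zero_iff.mpr
      (show Matrix.det (Matrix.of fun l k => (bi (σ i)).repr ⟨_, hmem i k⟩ l) = 0 by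
        rw [Matrix.det_fin_two]; simp only [Matrix.of_apply]; rw [← hdet]; ring)
    have h0 := congrFun hv 0
    have h1 := congrFun hv 1
    simp [Matrix.mulVec, dotProduct, Fin.sum_univ_two] at h0 h1
    have hz : (g : Matrix ι ι F) *ᵥ (v 0 • (bi i 0 : ι → F) + v 1 • (bi i 1 : ι → F)) = 0 := by
      have e : ∀ k, (g : Matrix ι ι F) *ᵥ (bi i k : ι → F)
          = (bi (σ i)).repr ⟨_, hmem i k⟩ 0 • (bi (σ i) 0 : ι → F)
            + (bi (σ i)).repr ⟨_, hmem i k⟩ 1 • (bi (σ i) 1 : ι → F) := fun k => by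
        have h := congrArg Subtype.val ((bi (σ i)).sum_repr ⟨_, hmem i k⟩)
        rw [Fin.sum_univ_two] at h
        exact h.symm
      rw [mulVec_add, mulVec_smul, mulVec_smul]
      refine (congrArg₂ (fun p q => v 0 • p + v 1 • q) (e 0) (e 1)).trans ?_
      have : ∀ (a b : ι → F) (p q r s : F), p * v 0 + q * v 1 = 0 → r * v 0 + s * v 1 = 0 →
          v 0 • (p • a + r • b) + v 1 • (q • a + s • b) = 0 := fun a b p q r s hp hr => by
        ext j
        simp
        linear_combination (a j) * hp + (b j) * hr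
      exact this _ _ _ _ _ _ h0 h1
    have hz' : v 0 • bi i 0 + v 1 • bi i 1 = 0 := by
      refine Subtype.ext ?_
      by_contra hne
      exact gl_mulVec_ne_zero g (by simpa using hne) hz
    refine hv0 (funext fun k => ?_)
    have h2 := congrArg (fun z => (bi i).repr z k) hz'
    obtain rfl | rfl : k = 0 ∨ k = 1 := by fin_cases k <;> simp
    all_goals simpa [Finsupp.single_apply] using h2

/-- plane decompositions over the field with two elements -/
theorem inSymp_of_planes_two [Fintype F] (hq : Fintype.card F = 2) {t : ℕ}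
    {D : Fin t → Submodule F (ι → F)} (hD : IsMDecomposition 2 D) : InSymp (decompositionStabilizer D) := by
  refine inSymp_of_planes hD (fun i => Module.finBasisOfFinrankEq F (D i) (hD.finrank_eq i)) _ fun g hg => ?_
  obtain ⟨σ, M, hM, hμ⟩ := exists_blocks (fun i => Module.finBasisOfFinrankEq F (D i) (hD.finrank_eq i)) hg
  exact ⟨σ, M, 1, hM, fun i => eq_one_of_card_two hq (hμ i)⟩

/-- two planes over a field with three elements, inside the special linear group -/
theorem inSymp_of_planes_three [Fintype F] (hq : Fintype.card F = 3) (hn : Fintype.card ι = 4)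
    {D : Fin 2 → Submodule F (ι → F)} (hD : IsMDecomposition 2 D) {G : Subgroup (GL ι F)}
    (hG : ∀ g ∈ G, g ∈ decompositionStabilizer D ∧ Matrix.det (g : Matrix ι ι F) = 1) : InSymp G := by
  classical
  set bi := fun i => Module.finBasisOfFinrankEq F (D i) (hD.finrank_eq i)
  refine inSymp_of_planes hD bi _ fun g hg => ?_
  obtain ⟨σ, M, hM, hμ⟩ := exists_blocks bi (hG g hg).1
  have hint : DirectSum.IsInternal D :=
    DirectSum.isInternal_submodule_of_iSupIndep_of_iSup_eq_top hD.indep hD.iSup_eq_top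
  let e : (Σ _ : Fin 2, Fin 2) ≃ Fin 4 := (Equiv.sigmaEquivProd _ _).trans finProdFinEquiv
  set b := (hint.collectedBasis bi).reindex e
  have hbm : ∀ i k, b (e ⟨i, k⟩) = (bi i k : ι → F) := fun i k => by
    simp only [b, Module.Basis.reindex_apply, Equiv.symm_apply_apply, hint.collectedBasis_coe]
  have hdet : Matrix.det (LinearMap.toMatrix b b (Matrix.toLin' (g : Matrix ι ι F))) = 1 := by
    rw [LinearMap.det_toMatrix, LinearMap.det_toLin', (hG g hg).2]
  have hent : ∀ i k s, LinearMap.toMatrix b b (Matrix.toLin' (g : Matrix ι ι F)) s (e ⟨i, k⟩)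
      = (if e ⟨σ i, 0⟩ = s then M i 0 k else 0) + (if e ⟨σ i, 1⟩ = s then M i 1 k else 0) := by
    intro i k s
    rw [LinearMap.toMatrix_apply, Matrix.toLin'_apply, hbm, hM, ← hbm, ← hbm]
    simp [Finsupp.single_apply]
  have hprod : (M 0 0 0 * M 0 1 1 - M 0 1 0 * M 0 0 1) * (M 1 0 0 * M 1 1 1 - M 1 1 0 * M 1 0 1) = 1 := by
    have e00 : e ⟨0, 0⟩ = 0 := rfl
    have e01 : e ⟨0, 1⟩ = 1 := rfl
    have e10 : e ⟨1, 0⟩ = 2 := rfl
    have e11 : e ⟨1, 1⟩ = 3 := rfl
    have hc0 := hent 0 0; have hc1 := hent 0 1; have hc2 := hent 1 0; have hc3 := hent 1 1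
    rw [e00] at hc0; rw [e01] at hc1; rw [e10] at hc2; rw [e11] at hc3
    rw [← hdet]
    set T := LinearMap.toMatrix b b (Matrix.toLin' (g : Matrix ι ι F))
    obtain hσ | hσ : σ 0 = 0 ∧ σ 1 = 1 ∨ σ 0 = 1 ∧ σ 1 = 0 := by
      have h0 : σ 0 = 0 ∨ σ 0 = 1 := by omega
      have h1 : σ 1 ≠ σ 0 := fun h => absurd (σ.injective h) (by decide)
      rcases h0 with h | h <;> [left; right] <;> refine ⟨h, ?_⟩ <;> rw [h] at h1 <;> omega
    all_goals
      simp only [hσ.1, hσ.2, e00, e01, e10, e11] at hc0 hc1 hc2 hc3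
      simp [Matrix.det_succ_row_zero, Fin.sum_univ_succ, Fin.succAbove, hc0, hc1, hc2, hc3]
      ring
  have hsq : ∀ x : F, x ≠ 0 → x * x = 1 := fun x hx => by
    have h := FiniteField.pow_card_sub_one_eq_one x hx
    rw [hq, sq] at h
    exact h
  refine ⟨σ, M, Units.mk0 _ (hμ 0), hM, fun i => ?_⟩
  obtain rfl | rfl : i = 0 ∨ i = 1 := by omega
  · rfl
  · simp only [Units.val_mk0]
    calc _ = ((M 0 0 0 * M 0 1 1 - M 0 1 0 * M 0 0 1) * (M 0 0 0 * M 0 1 1 - M 0 1 0 * M 0 0 1))
          * (M 1 0 0 * M 1 1 1 - M 1 1 0 * M 1 0 1) := by rw [hsq _ (hμ 0), one_mul]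
      _ = (M 0 0 0 * M 0 1 1 - M 0 1 0 * M 0 0 1) := by rw [mul_assoc, hprod, mul_one]

/-- tensor products with a two-dimensional factor over two elements normalise a field extension -/
theorem inExtField_of_tensor_two [Fintype F] (hq : Fintype.card F = 2) {k : ℕ} (hk : 0 < k)
    (e : ι ≃ Fin 2 × Fin k) (P : GL ι F) : InExtField (tensorProductSubgroup 2 k e P) := by
  classical
  have h01 : ∀ a : F, a = 0 ∨ a = 1 := fun a => (eq_or_ne a 0).imp id (eq_one_of_card_two hq)
  have h2 : (1 : F) + 1 = 0 := by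
    rcases h01 (1 + 1) with h | h
    · exact h
    · exact absurd (add_eq_left.mp h) one_ne_zero
  haveI : Nonempty (Fin k) := ⟨⟨0, hk⟩⟩
  set w : Matrix (Fin 2) (Fin 2) F := !![0, 1; 1, 1]
  set W : Matrix ι ι F := tens e P w 1
  have hw : w * w = w + 1 := by
    ext i j; fin_cases i <;> fin_cases j <;> simp [w, Matrix.mul_apply, Fin.sum_univ_two, h2]
  have hW : W * W = W + 1 := by
    rw [tens_mul, mul_one, hw, tens_add_left, tens_one]
  let K : Subalgebra F (Matrix ι ι F) :=
  { carrier := {x | ∃ a b : F, x = a • 1 + b • W}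
    mul_mem' := by
      rintro _ _ ⟨a, b, rfl⟩ ⟨c, d, rfl⟩
      refine ⟨a * c + b * d, a * d + b * c + b * d, ?_⟩
      simp [add_mul, mul_add, hW, smul_smul, add_smul, mul_comm, mul_assoc]
      abel
    one_mem' := ⟨1, 0, by simp⟩
    add_mem' := by rintro _ _ ⟨a, b, rfl⟩ ⟨c, d, rfl⟩; exact ⟨a + c, b + d, by simp [add_smul]; abel⟩
    zero_mem' := ⟨0, 0, by simp⟩
    algebraMap_mem' := fun c => ⟨c, 0, by simp [Algebra.algebraMap_eq_smul_one]⟩ }
  have hKmem : ∀ x, x ∈ K ↔ ∃ a b : F, x = a • 1 + b • W := fun x => Iff.rfl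
  have hli : LinearIndependent F ![(1 : Matrix ι ι F), W] := by
    rw [LinearIndependent.pair_iff]
    intro a b hab
    rw [← tens_one (e := e) (P := P), ← tens_smul_left, ← tens_smul_left, ← tens_add_left,
      ← tens_zero_left (e := e) (P := P) (1 : Matrix (Fin k) (Fin k) F)] at hab
    have h := tens_left_injective hab
    have h00 := congrFun (congrFun h 0) 0
    have h01' := congrFun (congrFun h 0) 1
    simp [w] at h00 h01'
    exact ⟨h00, h01'⟩
  refine ⟨2, K, Nat.prime_two, ⟨?_, ?_, ?_⟩, ?_, ?_⟩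
  · rintro _ ⟨a, b, rfl⟩ _ ⟨c, d, rfl⟩
    simp [add_mul, mul_add, smul_smul, mul_comm]
    abel
  · rintro _ ⟨a, b, rfl⟩ hx
    have e1 : (1 + 1 : F) • W = 0 := by rw [h2, zero_smul]
    rw [add_smul, one_smul] at e1
    rcases h01 a with rfl | rfl <;> rcases h01 b with rfl | rfl
    · simp at hx
    · refine ⟨(1 : F) • 1 + (1 : F) • W, ⟨1, 1, rfl⟩, ?_⟩
      rw [zero_smul, zero_add, one_smul, one_smul, mul_add, mul_one, hW, ← add_assoc, e1, zero_add]
    · exact ⟨1, one_mem K, by simp⟩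
    · refine ⟨(0 : F) • 1 + (1 : F) • W, ⟨0, 1, rfl⟩, ?_⟩
      rw [zero_smul, zero_add, one_smul, one_smul, add_mul, one_mul, hW, ← add_assoc, e1, zero_add]
  · have hKspan : Subalgebra.toSubmodule K = Submodule.span F (Set.range ![(1 : Matrix ι ι F), W]) := by
      ext x
      rw [Subalgebra.mem_toSubmodule, hKmem, show Set.range ![(1 : Matrix ι ι F), W] = {1, W} by simp [Set.pair_comm],
        Submodule.mem_span_pair]
      exact exists_congr fun a => exists_congr fun b => eq_comm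
    rw [← Subalgebra.finrank_toSubmodule, hKspan, finrank_span_eq_card hli, Fintype.card_fin]
  · exact ⟨k, by rw [Fintype.card_congr e]; simp⟩
  have hfwd : ∀ g ∈ tensorProductSubgroup 2 k e P, ∀ x ∈ K, cj g x ∈ K := by
    rintro g hg _ ⟨a, b, rfl⟩
    obtain ⟨X, hX⟩ := tens_coe_of_mem hg w
    have hXX : X * X = X + 1 := tens_left_injective (e := e) (P := P) (by
      rw [tens_add_left, tens_one, ← hX, ← mul_one (1 : Matrix (Fin k) (Fin k) F), ← tens_mul, ← hX, ← cj_mul,
        hW, cj_add, cj_one, one_mul])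
    have hcases : X = w ∨ X = w + 1 := by
      have h00 := congrFun (congrFun hXX 0) 0
      have h01' := congrFun (congrFun hXX 0) 1
      have h10 := congrFun (congrFun hXX 1) 0
      have h11 := congrFun (congrFun hXX 1) 1
      simp [Matrix.mul_apply, Fin.sum_univ_two] at h00 h01' h10 h11
      rcases h01 (X 0 0) with p | p <;> rcases h01 (X 0 1) with r | r <;>
        rcases h01 (X 1 0) with s | s <;> rcases h01 (X 1 1) with u | u <;>
        simp [p, r, s, u, h2] at h00 h01' h10 h11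
      · exact Or.inl (by ext i j; fin_cases i <;> fin_cases j <;> simp [w, p, r, s, u])
      · exact Or.inr (by ext i j; fin_cases i <;> fin_cases j <;> simp [w, p, r, s, u, h2])
    rw [cj_add, cj_smul, cj_smul, cj_one, hX]
    rcases hcases with rfl | rfl
    · exact ⟨a, b, rfl⟩
    · exact ⟨a + b, b, by rw [tens_add_left, tens_one, smul_add, add_smul]; abel⟩
  intro g hg x
  refine ⟨fun hx => hfwd g hg x hx, fun hx => ?_⟩
  have := hfwd g⁻¹ (Subgroup.inv_mem _ hg) _ hx
  change cj g⁻¹ (cj g x) ∈ K at this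
  rwa [cj_cj g⁻¹ g, inv_mul_cancel, cj_one_left] at this

end CfsgLib.Asch
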