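import Cfsg.Agent.Lib.Aschbacher.Basic
import Cfsg.Agent.Lib.ClassicalMax.SympPlanes
import Cfsg.Agent.Lib.ClassicalMax.SympTensor

/-!
# Over tiny fields some class members preserve a coarser structure
-/

set_option autoImplicit false

namespace CfsgLib.Asch

open Matrix Kronecker Cfsg.Geo CfsgLib.ClassicalMax CfsgLib.ClassicalMax.Tensor
open scoped MatrixGroups

variable {ι : Type} [Fintype ι] [DecidableEq ι] {F : Type*} [Field F]
  {f : (ι → F) → (ι → F) → F}

/-- pure tensors over an orthogonal basis of one factor form a non-degenerate decomposition -/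
lemma parts_decomposition {a b : ℕ} (e : ι ≃ Fin a × Fin b) (P : GL ι F) {u : Fin a → Fin a → F}
    (hu : LinearIndependent F u) (ha : 2 ≤ a) (hb : 0 < b) {g₁ : (Fin a → F) → (Fin a → F) → F}
    {g₂ : (Fin b → F) → (Fin b → F) → F} {c : F} (hc : c ≠ 0)
    (hform : ∀ x y v w, f (pureL e P x v) (pureL e P y w) = c * (g₁ x y * g₂ v w))
    (horth : ∀ i j, i ≠ j → g₁ (u i) (u j) = 0) (hne : ∀ i, g₁ (u i) (u i) ≠ 0)
    (hg₂ : IsNondegenerateForm g₂) : IsNondegenerateMDecomposition f b (parts e P u) := by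
  classical
  have hinj : ∀ i, Function.Injective (pureL e P (u i)) := fun i => by
    rw [← LinearMap.ker_eq_bot, LinearMap.ker_eq_bot']
    exact fun w hw => by
      by_contra h
      exact pureL_ne_zero e P (hu.ne_zero i) h hw
  refine ⟨⟨ha, hb, fun i => ?_, ?_, ?_⟩, fun i x hx hx0 => ?_, fun i j hij x hx y hy => ?_⟩
  · rw [parts, LinearMap.finrank_range_of_inj (hinj i), Module.finrank_fintype_fun_eq_card, Fintype.card_fin]
  · rw [iSupIndep_iff_finsetSum_eq_zero_imp_eq_zero]
    intro s v hv hsum i hi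
    have hv' : ∀ k : s, ∃ w, pureL e P (u k) w = v k := fun k => hv k k.2
    choose w hw using hv'
    have h := sum_eq_zero e P (u := fun k : s => u k) (hu.comp _ Subtype.val_injective) (w := w) (by
      simp only [hw]
      rw [← hsum]
      exact Finset.sum_attach s v) ⟨i, hi⟩
    rw [← hw ⟨i, hi⟩, h, map_zero]
  · let L : (Fin a → Fin b → F) →ₗ[F] (ι → F) := ∑ k, (pureL e P (u k)).comp (LinearMap.proj k)
    have hL : Function.Injective L := by
      rw [← LinearMap.ker_eq_bot, LinearMap.ker_eq_bot']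
      intro w hw
      funext k
      exact sum_eq_zero e P hu (w := w) (by simpa [L] using hw) k
    have htop : LinearMap.range L = ⊤ := by
      refine Submodule.eq_top_of_finrank_eq ?_
      rw [LinearMap.finrank_range_of_inj hL, Module.finrank_pi_fintype]
      simp [Module.finrank_fintype_fun_eq_card, Fintype.card_congr e]
    refine eq_top_iff.mpr fun x _ => ?_
    obtain ⟨w, rfl⟩ : x ∈ LinearMap.range L := htop ▸ Submodule.mem_top
    simp only [L, LinearMap.sum_apply, LinearMap.comp_apply, LinearMap.proj_apply]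
    exact Submodule.sum_mem _ fun k _ => Submodule.mem_iSup_of_mem k ⟨w k, rfl⟩
  · obtain ⟨w, rfl⟩ := hx
    have hw : w ≠ 0 := fun h => hx0 (by rw [h, map_zero])
    obtain ⟨⟨z, hz⟩, ⟨z', hz'⟩⟩ := hg₂ w hw
    exact ⟨⟨_, ⟨z, rfl⟩, by rw [hform]; exact mul_ne_zero hc (mul_ne_zero (hne i) hz)⟩,
      ⟨_, ⟨z', rfl⟩, by rw [hform]; exact mul_ne_zero hc (mul_ne_zero (hne i) hz')⟩⟩
  · obtain ⟨v, rfl⟩ := hx
    obtain ⟨w, rfl⟩ := hy
    rw [hform, horth i j hij, zero_mul, mul_zero]

/-- over three elements a symplectic tensor product with an orthogonal three-space decomposes -/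
lemma exists_decomposition_of_tensor_three [Fintype F] (hq : Fintype.card F = 3) (hf : IsSymplecticForm f)
    {n₁ : ℕ} (hn : 0 < n₁) (e : ι ≃ Fin n₁ × Fin 3) (P : GL ι F)
    {f₁ : (Fin n₁ → F) → (Fin n₁ → F) → F} {f₂ : (Fin 3 → F) → (Fin 3 → F) → F}
    (hf₁ : IsSymplecticForm f₁) (hf₂ : IsSymmetricForm f₂) (hT : IsTensorFormStructure id f f₁ f₂ e P) :
    ∃ D : Fin 3 → Submodule F (ι → F), IsNondegenerateMDecomposition f n₁ D ∧
      tensorProductSubgroup n₁ 3 e P ⊓ isoOf f ≤ decompositionStabilizer D := by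
  classical
  obtain ⟨c, hc0, hc⟩ := hT
  have hform := form_pureL e P (σ := id) (fun _ _ => rfl) hc
    (formOfGram_gram hf₁.bilinear.add_left hf₁.bilinear.smul_left hf₁.bilinear.add_right
      hf₁.bilinear.smul_right)
    (formOfGram_gram hf₂.bilinear.add_left hf₂.bilinear.smul_left hf₂.bilinear.add_right
      hf₂.bilinear.smul_right)
  set e' := e.trans (Equiv.prodComm _ _)
  have hform' : ∀ (u u' : Fin 3 → F) (w w' : Fin n₁ → F),
      f (pureL e' P u w) (pureL e' P u' w') = c * (f₂ u u' * f₁ w w') := fun u u' w w' => by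
    rw [SympTensor.pureL_swap, SympTensor.pureL_swap, hform]; ring
  obtain ⟨d, u, hu⟩ := OrthThree.exists_triple hq hf₂.bilinear hf₂.symm
    (W := (⊤ : Submodule F (Fin 3 → F))) (by rw [finrank_top, Module.finrank_fintype_fun_eq_card,
      Fintype.card_fin]) (fun w _ hw => ⟨(hf₂.nondegenerate w hw).1.imp fun x hx => ⟨trivial, hx⟩,
      (hf₂.nondegenerate w hw).2.imp fun x hx => ⟨trivial, hx⟩⟩)
  let w : Fin n₁ → F := Pi.single ⟨0, hn⟩ 1
  obtain ⟨⟨z, hz⟩, -⟩ := hf₁.nondegenerate w (by simp [w])
  refine ⟨parts e' P u, parts_decomposition e' P hu.li (by norm_num) hn hc0 hform'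
    (fun i j hij => by rw [hu.form, if_neg hij]) (fun i => by rw [hu.form, if_pos rfl]; exact hu.d_ne)
    hf₁.nondegenerate, fun g hg => ?_⟩
  obtain ⟨a, b, hab⟩ := exists_factors e P hg.1
  have hab' : ∀ x v, (g : Matrix ι ι F) *ᵥ pureL e' P x v =
      pureL e' P ((b : Matrix _ _ F) *ᵥ x) ((a : Matrix _ _ F) *ᵥ v) := fun x v => by
    rw [SympTensor.pureL_swap, SympTensor.pureL_swap, hab]
  have h : ∀ k l, f₁ ((a : Matrix _ _ F) *ᵥ z) ((a : Matrix _ _ F) *ᵥ w) *
      f₂ ((b : Matrix _ _ F) *ᵥ u k) ((b : Matrix _ _ F) *ᵥ u l) = f₁ z w * f₂ (u k) (u l) := by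
    intro k l
    have := hg.2 (pureL e' P (u k) z) (pureL e' P (u l) w)
    change f ((g : Matrix ι ι F) *ᵥ _) ((g : Matrix ι ι F) *ᵥ _) = _ at this
    rw [hab', hab', hform', hform'] at this
    rw [mul_comm (f₁ _ _), mul_comm (f₁ z w)]
    exact mul_left_cancel₀ hc0 this
  set A := f₁ ((a : Matrix _ _ F) *ᵥ z) ((a : Matrix _ _ F) *ᵥ w)
  have hA : A ≠ 0 := fun h0 => by
    have := h 0 0
    rw [h0, zero_mul, hu.form, if_pos rfl] at this
    exact mul_ne_zero hz hu.d_ne this.symm
  have hb : ∀ k l, f₂ ((b : Matrix _ _ F) *ᵥ u k) ((b : Matrix _ _ F) *ᵥ u l) =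
      f₁ z w / A * if k = l then d else 0 := fun k l => by
    rw [div_mul_eq_mul_div, eq_div_iff hA, ← hu.form, ← h k l]; ring
  have hone : f₁ z w / A = 1 := by
    rcases OrthThree.cases_three hq (f₁ z w / A) with e1 | e1 | e1
    · exact absurd e1 (div_ne_zero hz hA)
    · exact e1
    · exfalso
      refine OrthThree.not_anti hq hf₂.bilinear hu (x := fun k => (b : Matrix _ _ F) *ᵥ u k)
        (fun _ => trivial) fun k l => ?_
      rw [hb, e1]
      split_ifs <;> ring
  exact mem_parts_stab e' P hu.li hab' fun k => hu.line _ trivial (by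
    rw [hb, hone, if_pos rfl, one_mul])

/-- over two elements a decomposition into symplectic planes preserves a quadratic form -/
lemma exists_quad_of_planes [Fintype F] (hq : Fintype.card F = 2) (hf : IsSymplecticForm f)
    {t : ℕ} {D : Fin t → Submodule F (ι → F)} (hD : IsNondegenerateMDecomposition f 2 D) :
    ∃ Q : (ι → F) → F, IsNondegenerateQuadraticForm Q ∧ (∀ u v, QuadraticMap.polar Q u v = f u v) ∧
      decompositionStabilizer D ⊓ isoOf f ≤ quadSimilarityGroup Q := by
  classical
  have : CharP F 2 := CharTwo.of_one_ne_zero_of_two_eq_zero one_ne_zero (by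
    have := FiniteField.cast_card_eq_zero F; rw [hq] at this; simpa using this)
  have h01 := TwoBlock.zero_or_one hq
  have hint : DirectSum.IsInternal D :=
    DirectSum.isInternal_submodule_of_iSupIndep_of_iSup_eq_top hD.decomp.indep hD.decomp.iSup_eq_top
  let P : (ι → F) ≃ₗ[F] (DirectSum (Fin t) fun i => D i) :=
    (LinearEquiv.ofBijective (DirectSum.coeLinearMap D) hint).symm
  let pr : Fin t → (ι → F) → (ι → F) := fun i x => ((P x i : D i) : ι → F)
  have prmem : ∀ i x, pr i x ∈ D i := fun i x => (P x i).2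
  have prsum : ∀ x, ∑ i, pr i x = x := fun x => by
    conv_rhs => rw [← P.symm_apply_apply x, ← DirectSum.sum_univ_of (P x), map_sum]
    exact Finset.sum_congr rfl fun i _ => (DirectSum.coeLinearMap_of D i _).symm
  have prof : ∀ i, ∀ x ∈ D i, ∀ j, pr j x = if j = i then x else 0 := by
    intro i x hx j
    have : P x = DirectSum.of (fun i => D i) i ⟨x, hx⟩ := by
      apply P.symm.injective
      rw [LinearEquiv.symm_apply_apply]
      exact (DirectSum.coeLinearMap_of D i ⟨x, hx⟩).symm
    simp only [pr, this, DirectSum.of_apply]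
    split_ifs with h1 h2 h3
    · subst h1; rfl
    · exact absurd h1.symm h2
    · exact absurd h3.symm h1
    · rfl
  have pradd : ∀ i x y, pr i (x + y) = pr i x + pr i y := fun i x y => by simp [pr, map_add]
  have prsmul : ∀ i (c : F) x, pr i (c • x) = c • pr i x := fun i c x => by
    simp only [pr, map_smul]
    rfl
  have hfb : ∀ x y, f x y = ∑ i, f (pr i x) (pr i y) := fun x y => by
    conv_lhs => rw [← prsum x, ← prsum y]
    rw [← bilinOf_apply hf.bilinear, map_sum]
    refine Finset.sum_congr rfl fun i _ => ?_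
    rw [map_sum, LinearMap.sum_apply, Finset.sum_eq_single i]
    · rfl
    · exact fun j _ hji => hD.orthogonal j i hji _ (prmem j x) _ (prmem i y)
    · simp
  let nz : (ι → F) → F := fun x => if x = 0 then 0 else 1
  let Q : (ι → F) → F := fun x => ∑ i, nz (pr i x)
  have hnz : ∀ i, ∀ u ∈ D i, ∀ v ∈ D i, nz (u + v) = nz u + nz v + f u v := by
    intro i u hu v hv
    rcases eq_or_ne u 0 with rfl | hu0
    · simp [nz, form_zero_left hf.bilinear]
    rcases eq_or_ne v 0 with rfl | hv0
    · simp [nz, form_zero_right hf.bilinear]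
    rcases eq_or_ne u v with rfl | huv
    · simp [nz, hu0, hf.alternating, show u + u = 0 from funext fun k => CharTwo.add_self_eq_zero (u k),
        CharTwo.add_self_eq_zero]
    have huv0 : u + v ≠ 0 := fun h => huv (funext fun k => CharTwo.add_eq_zero.1 (congrFun h k))
    simp only [nz, hu0, hv0, huv0, if_false]
    have hne : f u v ≠ 0 := by
      intro h0
      have hli : LinearIndependent F ![u, v] := (LinearIndependent.pair_iff' hu0).2 fun a ha => by
        rcases h01 a with rfl | rfl
        · exact hv0 (by rw [← ha, zero_smul])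
        · exact huv (by rw [← ha, one_smul])
      have hS : Submodule.span F (Set.range ![u, v]) = D i := by
        refine Submodule.eq_of_le_of_finrank_eq (Submodule.span_le.2 (Set.range_subset_iff.2
          fun i => by fin_cases i <;> assumption)) ?_
        rw [finrank_span_eq_card hli, Fintype.card_fin, hD.decomp.finrank_eq]
      obtain ⟨-, y, hy, huy⟩ := hD.nondegenerate i u hu hu0
      rw [← hS, Matrix.range_cons_cons_empty] at hy
      obtain ⟨a, b, rfl⟩ := Submodule.mem_span_pair.1 hy
      exact huy (by rw [hf.bilinear.add_right, hf.bilinear.smul_right, hf.bilinear.smul_right,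
        hf.alternating, h0, mul_zero, mul_zero, add_zero])
    rw [(h01 _).resolve_left hne, CharTwo.add_self_eq_zero, zero_add]
  have Qadd : ∀ x y, Q (x + y) = Q x + Q y + f x y := fun x y => by
    simp only [Q, pradd, hfb x y, ← Finset.sum_add_distrib]
    exact Finset.sum_congr rfl fun i _ => hnz i _ (prmem i x) _ (prmem i y)
  have hpol : QuadraticMap.polar Q = f := funext fun u => funext fun v => by
    rw [QuadraticMap.polar, Qadd]; ring
  refine ⟨Q, ⟨fun c x => ?_, hpol ▸ hf.bilinear, hpol ▸ hf.nondegenerate⟩, fun u v => by rw [hpol],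
    fun g hg => ⟨1, fun x => ?_⟩⟩
  · rcases h01 c with rfl | rfl
    · have h0 : ∀ i, pr i 0 = 0 := fun i => by simpa using prsmul i 0 0
      simp [Q, nz, h0]
    · simp
  · rw [Units.val_one, one_mul]
    obtain ⟨π, hπ⟩ := hg.1
    have hgpr : ∀ i, (g : Matrix ι ι F) *ᵥ pr i x ∈ D (π i) := fun i => by
      rw [← hπ i]; exact ⟨_, prmem i x, Matrix.toLin'_apply _ _⟩
    have hpr : ∀ j, pr j ((g : Matrix ι ι F) *ᵥ x) = (g : Matrix ι ι F) *ᵥ pr (π.symm j) x := by
      intro j
      let L : (ι → F) →+ (ι → F) := AddMonoidHom.mk' (pr j) (pradd j)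
      conv_lhs => rw [← prsum x, mulVec_sum]
      change L (∑ i, _) = _
      rw [map_sum, Finset.sum_eq_single (π.symm j)]
      · change pr j _ = _
        rw [prof _ _ (hgpr _) j, if_pos (π.apply_symm_apply j).symm]
      · intro i _ hi
        change pr j _ = 0
        rw [prof _ _ (hgpr _) j, if_neg fun h => hi (by rw [h, π.symm_apply_apply])]
      · simp
    simp only [Q, hpr]
    rw [← Equiv.sum_comp π]
    refine Finset.sum_congr rfl fun i _ => ?_
    simp only [Equiv.symm_apply_apply, nz]
    congr 1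
    exact propext ⟨fun h => Matrix.mulVec_injective_iff_isUnit.2 g.isUnit (by simpa using h),
      fun h => by rw [h, mulVec_zero]⟩

end CfsgLib.Asch
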