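import Mathlib

/-!
# Four by four matrices over three elements attached to a unitary structure
-/

set_option autoImplicit false

namespace CfsgLib.Asch.SpFour

open Matrix
open scoped MatrixGroups

abbrev M4 := Matrix (Fin 4) (Fin 4) (ZMod 3)

/-- the alternating form -/
def G : M4 := !![0, 1, 0, 0; -1, 0, 0, 0; 0, 0, 0, 1; 0, 0, -1, 0]
/-- the complex structure -/
def I : M4 := !![0, -1, 0, 0; 1, 0, 0, 0; 0, 0, 0, -1; 0, 0, 1, 0]
/-- first generator of the quaternion group -/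
def A : M4 := !![0, -1, 0, 0; 1, 0, 0, 0; 0, 0, 0, 1; 0, 0, -1, 0]
/-- second generator of the quaternion group -/
def B : M4 := !![0, 0, -1, 0; 0, 0, 0, -1; 1, 0, 0, 0; 0, 1, 0, 0]
/-- the semilinear involution -/
def T : M4 := !![0, 0, 1, 1; 0, 0, 1, -1; -1, -1, 0, 0; -1, 1, 0, 0]
/-- an isometry outside the stabiliser of the complex structure -/
def W : M4 := !![0, 1, 1, 1; 1, 2, 1, 0; 0, 1, 2, 2; 1, 2, 2, 0]
/-- its inverse -/
def W' : M4 := !![2, 2, 2, 2; 2, 0, 2, 0; 0, 2, 0, 1; 2, 1, 1, 2]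

lemma z3half : ∀ x : ZMod 3, x + x = 0 → x = 0 := by decide

lemma mem_quaternion {Y : M4} (hI : Y * I = I * Y) (hiso : Yᵀ * G * Y = G) (hsq : Y * Y = -1) :
    Y = I ∨ Y = -I ∨ Y = A ∨ Y = -A ∨ Y = B ∨ Y = -B ∨ Y = A * B ∨ Y = -(A * B) := by
  have hS : Yᵀ * G + G * Y = 0 := by
    have h := congrArg (· * Y) hiso
    simp only [mul_assoc, hsq, mul_neg, mul_one] at h
    rw [← h, add_neg_cancel]
  have e : ∀ i j, (Y * I) i j = (I * Y) i j := fun i j => by rw [hI]
  have s : ∀ i j, (Yᵀ * G + G * Y) i j = 0 := fun i j => by rw [hS]; rfl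
  have hY : Y = !![0, -(Y 1 0), Y 0 2, -(Y 1 2); Y 1 0, 0, Y 1 2, Y 0 2;
      -(Y 0 2), -(Y 1 2), 0, -(Y 3 2); Y 1 2, -(Y 0 2), Y 3 2, 0] := by
    simp [Fin.forall_fin_succ, Matrix.mul_apply, Fin.sum_univ_four, I, G, vecMul, dotProduct] at e s
    have := z3half (Y 0 0)
    have := z3half (Y 1 1)
    have := z3half (Y 2 2)
    have := z3half (Y 3 3)
    ext i j
    fin_cases i <;> fin_cases j <;> simp <;> grind
  revert hsq
  rw [hY]
  generalize Y 1 0 = a
  generalize Y 0 2 = b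
  generalize Y 1 2 = c
  generalize Y 3 2 = d
  revert a b c d
  decide +kernel

lemma mem_semilinear {Y : M4} (hI : Y * I = -(I * Y)) (hA : Y * A = A * Y) (hB : Y * B = B * Y)
    (hsq : Y * Y = 1) : Y = T ∨ Y = -T ∨ Y = I * T ∨ Y = -(I * T) := by
  have e : ∀ i j, (Y * I) i j = (-(I * Y)) i j := fun i j => by rw [hI]
  have a : ∀ i j, (Y * A) i j = (A * Y) i j := fun i j => by rw [hA]
  have b : ∀ i j, (Y * B) i j = (B * Y) i j := fun i j => by rw [hB]
  have hY : Y = !![0, 0, Y 0 2, Y 0 3; 0, 0, Y 0 3, -(Y 0 2); -(Y 0 2), -(Y 0 3), 0, 0;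
      -(Y 0 3), Y 0 2, 0, 0] := by
    simp [Fin.forall_fin_succ, Matrix.mul_apply, Fin.sum_univ_four, I, A, B, vecMul, dotProduct] at e a b
    have := z3half (Y 0 0)
    have := z3half (Y 0 1)
    have := z3half (Y 1 0)
    have := z3half (Y 1 1)
    have := z3half (Y 2 2)
    have := z3half (Y 2 3)
    have := z3half (Y 3 2)
    have := z3half (Y 3 3)
    ext i j
    fin_cases i <;> fin_cases j <;> simp <;> grind
  revert hsq
  rw [hY]
  generalize Y 0 2 = x
  generalize Y 0 3 = y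
  revert x y
  decide +kernel

lemma iso_facts : Iᵀ * G * I = G ∧ Aᵀ * G * A = G ∧ Bᵀ * G * B = G ∧ Tᵀ * G * T = G ∧ Wᵀ * G * W = G := by
  decide +kernel

lemma squares : I * I = -1 ∧ A * A = -1 ∧ B * B = -1 ∧ T * T = 1 ∧ W * W' = 1 ∧ W' * W = 1 := by
  decide +kernel

lemma relations : A * I = I * A ∧ B * I = I * B ∧ T * I = -(I * T) ∧ B * A = -(A * B) ∧ T * A = A * T ∧
    T * B = B * T := by
  decide +kernel

lemma conj_facts : W * I * W' = A * T * I ∧ W * A * W' = B * T ∧ W * B * W' = A * B * T ∧ W * T * W' = T ∧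
    A * T * I ≠ I ∧ A * T * I ≠ -I := by
  decide +kernel

/-- signed generators -/
def six (P Q : M4) : List M4 := [P, -P, Q, -Q, P * Q, -(P * Q)]

lemma generators : ∀ P ∈ six A B, ∀ Q ∈ six A B, Q * P = -(P * Q) → A ∈ six P Q ∧ B ∈ six P Q := by
  intro P hP Q hQ
  simp only [six, List.mem_cons, List.not_mem_nil, or_false] at hP hQ ⊢
  rcases hP with rfl | rfl | rfl | rfl | rfl | rfl <;> rcases hQ with rfl | rfl | rfl | rfl | rfl | rfl <;>
    decide +kernel

end CfsgLib.Asch.SpFour
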