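import Cfsg.Agent.Lib.Aschbacher.SpProper
import Cfsg.Agent.Lib.Aschbacher.SmallForms
import Cfsg.Agent.Lib.Aschbacher.FormTypes
import Cfsg.Agent.Lib.UnipotentClassical.Parity
import Cfsg.Agent.Lib.Classical.Quad.Std

/-!
# Maximal subgroups of symplectic groups of dimension at most twelve: the list
-/

set_option autoImplicit false

namespace CfsgLib.Asch

open Matrix Cfsg.Geo CfsgLib.ClassicalMax
open scoped MatrixGroups

variable {m : ℕ} {F : Type*} [Field F] [Fintype F]

local notation "V" m => Fin m ⊕ Fin m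

/-- the types of maximal subgroups, before the exceptions special to dimensions four and eight -/
inductive SpType (m : ℕ) (H : Subgroup (GL (V m) F)) : Prop
  | singular (W : Submodule F ((V m) → F)) (h0 : W ≠ ⊥) (hs : IsTotallySingularFor (Cfsg.sympForm m F) W)
      (he : H = subspaceStabilizer W ⊓ Cfsg.spGL m F)
  | nondeg (W : Submodule F ((V m) → F)) (h0 : W ≠ ⊥) (hnd : IsNondegenerateOn (Cfsg.sympForm m F) W)
      (hd : Module.finrank F W < m) (hev : Even (Module.finrank F W))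
      (he : H = subspaceStabilizer W ⊓ Cfsg.spGL m F)
  | decomp (t k : ℕ) (D : Fin t → Submodule F ((V m) → F)) (hk : 2 ≤ k) (hev : Even k) (ht : 2 ≤ t)
      (htk : t * k = 2 * m) (h2 : k = 2 → 3 ≤ Fintype.card F)
      (hD : IsNondegenerateMDecomposition (Cfsg.sympForm m F) k D)
      (he : H = decompositionStabilizer D ⊓ Cfsg.spGL m F)
  | pair (D : Fin 2 → Submodule F ((V m) → F)) (hodd : Odd (Fintype.card F)) (hD : IsMDecomposition m D)
      (hs : ∀ i, IsTotallySingularFor (Cfsg.sympForm m F) (D i))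
      (he : H = decompositionStabilizer D ⊓ Cfsg.spGL m F)
  | selfField (r : ℕ) (K : Subalgebra F (Matrix (V m) (V m) F)) (hr : r.Prime) (hK : IsFieldSubalgebra r K)
      (hrm : r ∣ m) (hself : IsSelfAdjointFor (Cfsg.sympForm m F) K)
      (hskew : ∀ k ∈ K, ∀ v, Cfsg.sympForm m F (k *ᵥ v) v = 0)
      (he : H = subalgebraNormalizer K ⊓ Cfsg.spGL m F)
  | adjField (K : Subalgebra F (Matrix (V m) (V m) F)) (hodd : Odd (Fintype.card F))
      (hK : IsFieldSubalgebra 2 K) (hadj : IsAdjointClosedFor (Cfsg.sympForm m F) K)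
      (hns : ¬ IsSelfAdjointFor (Cfsg.sympForm m F) K) (he : H = subalgebraNormalizer K ⊓ Cfsg.spGL m F)
  | tensor (n₁ n₂ : ℕ) (e : (V m) ≃ Fin n₁ × Fin n₂) (P : GL (V m) F)
      (f₁ : (Fin n₁ → F) → (Fin n₁ → F) → F) (f₂ : (Fin n₂ → F) → (Fin n₂ → F) → F)
      (hodd : Odd (Fintype.card F)) (h₁ : 2 ≤ n₁) (h₁e : Even n₁) (h₂ : 3 ≤ n₂) (hn : n₁ * n₂ = 2 * m)
      (h3 : n₂ = 3 → 5 ≤ Fintype.card F)
      (hf₁ : IsSymplecticForm f₁) (hf₂ : IsSymmetricForm f₂)
      (hstr : IsTensorFormStructure id (Cfsg.sympForm m F) f₁ f₂ e P)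
      (he : H = tensorProductSubgroup n₁ n₂ e P ⊓ Cfsg.spGL m F)
  | subfield (F₀ : Subfield F) (r : ℕ) (P : GL (V m) F) (ζ : F) (hr : r.Prime)
      (hc : Fintype.card F = Nat.card F₀ ^ r) (hζ : ζ ≠ 0)
      (hrat : IsFormRationalStructure (Cfsg.sympForm m F) F₀ ζ P)
      (he : H = subfieldSubgroup F₀ P ⊓ Cfsg.spGL m F)
  | sympType (R : Subgroup (GL (V m) F)) (p k : ℕ) (hR : IsSymplecticTypeGroup 2 R)
      (hirr : ActsAbsolutelyIrreducibly (matrixSet R)) (hsim : R ≤ similarityGroup (Cfsg.sympForm m F))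
      (hp : p.Prime) (hpo : Odd p) (hF : Fintype.card F = p) (hcard : Nat.card R = 2 ^ (1 + 2 * k))
      (hz : Nat.card (Subgroup.center R) = 2) (hminus : IsOfMinusType k R) (hk : 2 ^ k = 2 * m)
      (he : H = subgroupNormalizer R ⊓ Cfsg.spGL m F)
  | quad (Q : ((V m) → F) → F) (heven : ¬ Odd (Fintype.card F)) (hQ : IsNondegenerateQuadraticForm Q)
      (hpol : ∀ u v, QuadraticMap.polar Q u v = Cfsg.sympForm m F u v)
      (he : H = quadSimilarityGroup Q ⊓ Cfsg.spGL m F)
  | wreath (e : (V m) ≃ (Fin 3 → Fin 2)) (P : GL (V m) F) (f₁ : (Fin 2 → F) → (Fin 2 → F) → F)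
      (hm : m = 4) (hodd : Odd (Fintype.card F)) (h5 : 5 ≤ Fintype.card F) (hf₁ : IsSymplecticForm f₁)
      (hstr : IsTensorPowerFormStructure id (Cfsg.sympForm m F) f₁ e P)
      (he : H = tensorWreathSubgroup 2 3 e P ⊓ Cfsg.spGL m F)
  | residual (h : InSymplecticResidualClass H)

lemma max_eq_in {ι : Type} [Fintype ι] [DecidableEq ι] {K : Type*} [Field K] {Ω H M : Subgroup (GL ι K)}
    (hH : IsMaximalIn Ω H) (h : H ≤ M) (hns : ¬ Ω ≤ M) : H = M ⊓ Ω :=
  ((hH.2 _ (le_inf h hH.1.le) inf_le_right).resolve_right fun e => hns (e.ge.trans inf_le_left)).symm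

lemma even_finrank_nondeg {ι : Type} [Fintype ι] [DecidableEq ι] {K : Type*} [Field K]
    {f : (ι → K) → (ι → K) → K} (hf : IsSymplecticForm f) {W : Submodule K (ι → K)}
    (hW : IsNondegenerateOn f W) : Even (Module.finrank K W) := by
  let b : W →ₗ[K] W →ₗ[K] K := (bilinOf hf.bilinear).compl₁₂ W.subtype W.subtype
  have hker : LinearMap.ker b = ⊥ := by
    rw [LinearMap.ker_eq_bot']
    intro w hw
    by_contra h0
    obtain ⟨-, x, hx, hne⟩ := hW w w.2 fun e => h0 (Subtype.ext e)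
    exact hne (LinearMap.congr_fun hw ⟨x, hx⟩)
  have h := UnipotentClassical.even_finrank_sub_ker b fun v => hf.alternating _
  rwa [hker, finrank_bot, Nat.sub_zero] at h

/-- every maximal subgroup is of one of the types, given its class -/
theorem spType_of_case (hm : 2 ≤ m) (hm6 : m ≤ 6) (hq : m = 2 → 3 ≤ Fintype.card F)
    {H : Subgroup (GL (V m) F)} (hH : IsMaximalIn (Cfsg.spGL m F) H) (hc : SympCase m H) : SpType m H := by
  classical
  have hf := isSymplecticForm_sympForm m F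
  have : Nonempty (V m) := ⟨.inl ⟨0, by omega⟩⟩
  set S := spTvSys hf with hS
  have hcard : Fintype.card (V m) = 2 * m := by simp; omega
  have hq1 : 1 < Fintype.card F := Fintype.one_lt_card
  have hctop : ∀ W : Submodule F ((V m) → F), IsTotallySingularFor (Cfsg.sympForm m F) W → W ≠ ⊤ := by
    rintro W hW rfl
    obtain ⟨u, hu⟩ := S.ex
    obtain ⟨v, hv⟩ := (hf.nondegenerate u hu).2
    exact hv (hW u trivial v trivial)
  rcases hc with ⟨W, h0, hs, hle⟩ | ⟨W, h0, hnd, hd, hle⟩ | ⟨t, k, D, hD, htk, hle⟩ |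
    ⟨D, hodd, hD, hs, hle⟩ | ⟨r, K, hr, hK, hrm, hself, hskew, hle⟩ | ⟨K, hodd, hK, hadj, hns, hle⟩ |
    ⟨n₁, n₂, e, P, f₁, f₂, hodd, h₁, h₁e, h₂, hn, hf₁, hf₂, hstr, hle⟩ |
    ⟨F₀, r, P, ζ, hr, hc, hζ, hrat, hle⟩ | ⟨R, p, k, hR, hirr, hsim, hp, hpo, hF, hcd, hz, hminus, hk, hle⟩ |
    ⟨Q, heven, hQ, hpol, hle⟩ | ⟨k, t, e, P, f₁, hodd, hk, ht, ht3, hex, hn, hf₁, hstr, hle⟩ | h
  · exact .singular W h0 hs (max_eq_in hH hle (S.not_le_subspace h0 (hctop W hs)))
  · refine .nondeg W h0 hnd hd (even_finrank_nondeg hf hnd) (max_eq_in hH hle (S.not_le_subspace h0 ?_))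
    rintro rfl
    rw [finrank_top, Module.finrank_fintype_fun_eq_card, hcard] at hd
    omega
  · have ht2 := hD.decomp.two_le
    have hev : Even k := by
      have h := even_finrank_nondeg hf (hD.nondegenerate ⟨0, by omega⟩)
      rwa [hD.decomp.finrank_eq] at h
    have hk2 : 2 ≤ k := by
      have := hD.decomp.pos
      obtain ⟨j, rfl⟩ := hev
      omega
    by_cases hk' : k = 2 ∧ Fintype.card F = 2
    · obtain ⟨rfl, hq2⟩ := hk'
      obtain ⟨Q, hQ, hpol, hleQ⟩ := exists_quad_of_planes hq2 hf hD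
      refine .quad Q (by rw [hq2]; decide) hQ hpol (max_eq_in hH ((le_inf hle hH.1.le).trans hleQ)
        (sp_not_le_quad hf (by omega) ?_ hQ hpol))
      have := FiniteField.cast_card_eq_zero F
      rw [hq2] at this
      simpa using this
    · refine .decomp t k D hk2 hev ht2 htk (fun h => ?_) hD
        (max_eq_in hH hle (S.not_le_decomposition hk2 hD.decomp))
      by_contra hc'
      exact hk' ⟨h, by omega⟩
  · exact .pair D hodd hD hs (max_eq_in hH hle (S.not_le_decomposition hm hD))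
  · exact .selfField r K hr hK hrm hself hskew (max_eq_in hH hle (S.not_le_extField (by omega) hr.two_le hK))
  · exact .adjField K hodd hK hadj hns (max_eq_in hH hle (S.not_le_extField (by omega) le_rfl hK))
  · by_cases h3 : n₂ = 3 ∧ Fintype.card F = 3
    · obtain ⟨rfl, hq3⟩ := h3
      obtain ⟨D, hD, hleD⟩ := exists_decomposition_of_tensor_three hq3 hf (by omega) e P hf₁ hf₂ hstr
      exact .decomp 3 n₁ D h₁ h₁e (by norm_num) (by rw [mul_comm]; exact hn) (fun _ => by omega) hD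
        (max_eq_in hH ((le_inf hle hH.1.le).trans hleD) (S.not_le_decomposition h₁ hD.decomp))
    · refine .tensor n₁ n₂ e P f₁ f₂ hodd h₁ h₁e h₂ hn (fun h => ?_) hf₁ hf₂ hstr
        (max_eq_in hH hle (S.not_le_tensor h₁ h₂ e P))
      obtain ⟨j, hj⟩ := hodd
      by_contra hc'
      exact h3 ⟨h, by omega⟩
  · refine .subfield F₀ r P ζ hr hc hζ hrat (max_eq_in hH hle (sp_not_le_subfield hf ?_ P))
    rintro rfl
    have h1 : Nat.card (⊤ : Subfield F) = Fintype.card F := by
      rw [Nat.card_congr (Subfield.topEquiv (K := F)).toEquiv, Nat.card_eq_fintype_card]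
    rw [h1] at hc
    have h4 := Nat.pow_lt_pow_right hq1 hr.one_lt
    rw [pow_one, ← hc] at h4
    exact lt_irrefl _ h4
  · refine .sympType R p k hR hirr hsim hp hpo hF hcd hz hminus hk (max_eq_in hH hle ?_)
    have := Fact.mk Nat.prime_two
    have := Fact.mk hp
    have : CharP F p := by
      obtain ⟨c, hc⟩ := CharP.exists F
      obtain ⟨⟨n, hn0⟩, hcp, hn⟩ := FiniteField.card F c
      rw [hF] at hn
      obtain rfl : c = p := (Nat.prime_dvd_prime_iff_eq hcp hp).mp (hn ▸ dvd_pow_self c (Nat.pos_iff_ne_zero.mp hn0))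
      exact hc
    refine S.not_le_normalizer (by omega) (sp_dichotomy ?_) (r := 2) (p := p) ?_ hR.pGroup
      (norms_isoOf hsim) (not_le_scalars_of_spans (by omega) (spans_of_absIrred hirr))
    · rcases hm.lt_or_eq with h | h
      · exact Or.inl h
      · exact Or.inr ⟨h.symm, hq h.symm⟩
    · rintro rfl
      exact absurd hpo (by decide)
  · refine .quad Q heven hQ hpol (max_eq_in hH hle (sp_not_le_quad hf (by omega) ?_ hQ hpol))
    by_contra h2
    exact heven (Nat.card_eq_fintype_card (α := F) ▸ Classical.Quad.two_ne_zero_iff_odd.mp h2)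
  · have hk2 : k ^ 3 ≤ k ^ t := Nat.pow_le_pow_right (by omega) ht3
    have hkle : k ≤ 2 := by nlinarith [Nat.mul_le_mul (Nat.mul_le_mul hk hk) hk]
    obtain rfl : k = 2 := by omega
    have htle : t ≤ 3 := by
      by_contra hc'
      have := Nat.pow_le_pow_right (show 1 ≤ 2 by norm_num) (show 4 ≤ t by omega)
      omega
    obtain rfl : t = 3 := by omega
    refine .wreath e P f₁ (by omega) hodd ?_ hf₁ hstr (max_eq_in hH hle (not_le_wreath_two_three S e P))
    obtain ⟨j, hj⟩ := hodd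
    have : Fintype.card F ≠ 3 := fun h => hex ⟨h, rfl⟩
    omega
  · exact .residual h

end CfsgLib.Asch
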