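import Cfsg.Agent.Lib.Aschbacher.SpFourData
import Cfsg.Agent.Lib.Aschbacher.SpList
import Cfsg.Agent.Lib.Aschbacher.FormBasic

/-!
# Symplectic groups of degree four over three elements: two coincidences
-/

set_option autoImplicit false

namespace CfsgLib.Asch.SpFour

open Matrix Cfsg.Geo CfsgLib.ClassicalMax
open scoped MatrixGroups

variable {ι : Type} [Fintype ι] [DecidableEq ι] {F : Type*} [Field F] [Fintype F]
  {f : (ι → F) → (ι → F) → F}

omit [DecidableEq ι] in
/-- a frame adapted to two complementary totally singular planes -/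
lemma exists_frame (hf : IsSymplecticForm f) {D : Fin 2 → Submodule F (ι → F)} (hD : IsMDecomposition 2 D)
    (hs : ∀ i, IsTotallySingularFor f (D i)) :
    ∃ e p : Fin 2 → ι → F, (∀ i, e i ∈ D 0) ∧ (∀ i, p i ∈ D 1) ∧
      (∀ i j, f (e i) (p j) = if i = j then 1 else 0) ∧
      (∀ v ∈ D 0, v = f v (p 0) • e 0 + f v (p 1) • e 1) ∧
      (∀ v ∈ D 1, v = f (e 0) v • p 0 + f (e 1) v • p 1) := by
  classical
  have hb := hf.bilinear
  let b := Module.finBasisOfFinrankEq F (D 0) (hD.finrank_eq 0)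
  let T : D 1 →ₗ[F] (Fin 2 → F) :=
    (LinearMap.pi fun i => bilinOf hb (b i : ι → F)).comp (D 1).subtype
  have hsplit : ∀ x, ∃ u ∈ D 0, ∃ v ∈ D 1, u + v = x := fun x => by
    have : x ∈ D 0 ⊔ D 1 := by
      have h : iSup D = D 0 ⊔ D 1 := le_antisymm
        (iSup_le (Fin.forall_fin_two.2 ⟨le_sup_left, le_sup_right⟩)) (sup_le (le_iSup D 0) (le_iSup D 1))
      rw [← h, hD.iSup_eq_top]; trivial
    exact Submodule.mem_sup.mp this
  have hTinj : Function.Injective T := by
    rw [← LinearMap.ker_eq_bot, LinearMap.ker_eq_bot']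
    intro w hw
    by_contra h0
    obtain ⟨⟨x, hx⟩, -⟩ := hf.nondegenerate (w : ι → F) (fun e => h0 (Subtype.ext e))
    obtain ⟨u, hu, v, hv, rfl⟩ := hsplit x
    have hbu : f u w = 0 := by
      have h := congrArg (fun z : D 0 => bilinOf hb (z : ι → F) (w : ι → F)) (b.sum_repr ⟨u, hu⟩)
      simp only [Submodule.coe_sum, Submodule.coe_smul, map_sum, map_smul, LinearMap.sum_apply,
        LinearMap.smul_apply] at h
      rw [← bilinOf_apply hb, ← h]
      refine Finset.sum_eq_zero fun i _ => ?_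
      rw [show bilinOf hb (b i : ι → F) (w : ι → F) = 0 from congrFun hw i, smul_zero]
    exact hx (by rw [hb.add_left, hbu, hs 1 v hv w w.2, add_zero])
  have hT : Function.Surjective T :=
    (LinearMap.injective_iff_surjective_of_finrank_eq_finrank
      (by rw [hD.finrank_eq, Module.finrank_fintype_fun_eq_card, Fintype.card_fin])).mp hTinj
  choose p hp using fun j => hT (Pi.single j 1)
  have hep : ∀ i j, f (b i : ι → F) (p j : ι → F) = if i = j then 1 else 0 := fun i j => by
    have := congrFun (hp j) i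
    rw [Pi.single_apply] at this
    exact this
  refine ⟨fun i => b i, fun j => p j, fun i => (b i).2, fun j => (p j).2, hep, fun v hv => ?_, fun v hv => ?_⟩
  · have h : (v : ι → F) = b.repr ⟨v, hv⟩ 0 • (b 0 : ι → F) + b.repr ⟨v, hv⟩ 1 • (b 1 : ι → F) := by
      have h := congrArg Subtype.val (b.sum_repr ⟨v, hv⟩)
      simp only [Fin.sum_univ_two, Submodule.coe_add, Submodule.coe_smul] at h
      exact h.symm
    have h0 : ∀ j, f v (p j : ι → F) = b.repr ⟨v, hv⟩ j := fun j => by
      conv_lhs => rw [h]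
      rw [hb.add_left, hb.smul_left, hb.smul_left, hep, hep]
      fin_cases j <;> simp
    rw [h0, h0]
    exact h
  · have hq : (⟨v, hv⟩ : D 1) = f (b 0 : ι → F) v • p 0 + f (b 1 : ι → F) v • p 1 := hTinj (by
      rw [map_add, map_smul, map_smul, hp, hp]
      funext i
      fin_cases i <;> simp [T])
    exact congrArg Subtype.val hq

/-- over three elements two complementary singular planes determine a decomposition into two planes -/
theorem pair_decomposition (h3 : Fintype.card F = 3) (hf : IsSymplecticForm f)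
    {D : Fin 2 → Submodule F (ι → F)} (hD : IsMDecomposition 2 D) (hs : ∀ i, IsTotallySingularFor f (D i)) :
    ∃ D' : Fin 2 → Submodule F (ι → F), IsNondegenerateMDecomposition f 2 D' ∧
      decompositionStabilizer D ⊓ isoOf f ≤ decompositionStabilizer D' := by
  classical
  have hb := hf.bilinear
  obtain ⟨e, p, he, hp, hep, hD0, hD1⟩ := exists_frame hf hD hs
  have hee : ∀ i j, f (e i) (e j) = 0 := fun i j => hs 0 _ (he i) _ (he j)
  have hpp : ∀ i j, f (p i) (p j) = 0 := fun i j => hs 1 _ (hp i) _ (hp j)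
  have hanti : ∀ x y, f y x = -f x y := fun x y => by
    have h := hf.alternating (x + y)
    rw [hb.add_left, hb.add_right, hb.add_right, hf.alternating, hf.alternating] at h
    linear_combination h
  have hpe : ∀ i j, f (p i) (e j) = -(if j = i then 1 else 0) := fun i j => by rw [hanti, hep]
  have h2 : (2 : F) ≠ 0 := fun h => by
    have h' := FiniteField.cast_card_eq_zero F
    rw [h3] at h'
    exact one_ne_zero (show (1 : F) = 0 by push_cast at h'; linear_combination h' - h)
  have hsq : ∀ a : F, a ≠ 0 → a * a = 1 := fun a ha => by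
    rw [← pow_two, show 2 = Fintype.card F - 1 by rw [h3]]
    exact FiniteField.pow_card_sub_one_eq_one a ha
  let u : F → ι → F := fun s => e 0 + s • p 1
  let w : F → ι → F := fun s => e 1 + (-s) • p 0
  let U : F → Submodule F (ι → F) := fun s => Submodule.span F (Set.range ![u s, w s])
  have hpair : ∀ s t, f (u s) (u t) = 0 ∧ f (w s) (w t) = 0 ∧ f (u s) (w t) = -(s + t) ∧ f (w s) (u t) = s + t := by
    intro s t
    simp only [u, w, hb.add_left, hb.add_right, hb.smul_left, hb.smul_right, hee, hpp, hep, hpe]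
    refine ⟨?_, ?_, ?_, ?_⟩ <;> simp <;> ring
  have hcoef : ∀ s t (a b c d : F), f (a • u s + b • w s) (c • u t + d • w t) = (s + t) * (b * c - a * d) := by
    intro s t a b c d
    rw [hb.add_left, hb.add_right, hb.add_right, hb.smul_left, hb.smul_left, hb.smul_left, hb.smul_left,
      hb.smul_right, hb.smul_right, hb.smul_right, hb.smul_right, (hpair s t).1, (hpair s t).2.1,
      (hpair s t).2.2.1, (hpair s t).2.2.2]
    ring
  have hmemU : ∀ s x, x ∈ U s ↔ ∃ a b : F, a • u s + b • w s = x := fun s x => by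
    simp only [U, Matrix.range_cons_cons_empty]
    exact Submodule.mem_span_pair
  have hcard : Fintype.card ι = 4 := by
    have h := Unit.Frame.card_blocks hD
    omega
  have hliU : ∀ s : F, s ≠ 0 → LinearIndependent F ![u s, w s] := fun s hs' => by
    rw [LinearIndependent.pair_iff]
    intro a b h0
    have h1 := hcoef s s a b 1 0
    have h2' := hcoef s s a b 0 1
    rw [h0, form_zero_left hb] at h1 h2'
    have : s + s ≠ 0 := fun h => hs' ((mul_eq_zero.mp (show (2 : F) * s = 0 by linear_combination h)).resolve_left h2)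
    exact ⟨by linear_combination -((mul_eq_zero.mp h2'.symm).resolve_left this),
      by linear_combination (mul_eq_zero.mp h1.symm).resolve_left this⟩
  have hrank : ∀ s : F, s ≠ 0 → Module.finrank F (U s) = 2 := fun s hs' => by
    rw [finrank_span_eq_card (hliU s hs'), Fintype.card_fin]
  let S : Fin 2 → F := ![1, -1]
  have hS : ∀ i, S i ≠ 0 := fun i => by fin_cases i <;> simp [S]
  have hind : U 1 ⊓ U (-1) = ⊥ := by
    rw [Submodule.eq_bot_iff]
    rintro x ⟨hx1, hx2⟩
    obtain ⟨a, b, rfl⟩ := (hmemU _ _).mp hx1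
    obtain ⟨c, d, hcd⟩ := (hmemU _ _).mp hx2
    have h1 := hcoef 1 1 a b 1 0
    have h2' := hcoef 1 1 a b 0 1
    rw [← hcd] at h1 h2'
    rw [hcoef (-1) 1] at h1 h2'
    simp only [neg_add_cancel, zero_mul] at h1 h2'
    have : (1 : F) + 1 ≠ 0 := by rwa [one_add_one_eq_two]
    have hb0 : b = 0 := by linear_combination (mul_eq_zero.mp h1.symm).resolve_left this
    have ha0 : a = 0 := by linear_combination -((mul_eq_zero.mp h2'.symm).resolve_left this)
    rw [ha0, hb0, zero_smul, zero_smul, add_zero]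
  refine ⟨fun i => U (S i), ⟨⟨le_rfl, two_pos, fun i => hrank _ (hS i), ?_, ?_⟩, fun i x hx hx0 => ?_,
    fun i j hij x hx y hy => ?_⟩, fun g hg => ?_⟩
  · rw [iSupIndep_pair (i := (0 : Fin 2)) (j := 1) (by decide) (fun k => by fin_cases k <;> simp)]
    exact disjoint_iff.mpr (by simpa [S] using hind)
  · refine Submodule.eq_top_of_finrank_eq ?_
    have h := Submodule.finrank_sup_add_finrank_inf_eq (U 1) (U (-1))
    rw [hind, finrank_bot, hrank 1 one_ne_zero, hrank (-1) (neg_ne_zero.mpr one_ne_zero), add_zero] at h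
    rw [show (⨆ i, U (S i)) = U 1 ⊔ U (-1) from le_antisymm
      (iSup_le (Fin.forall_fin_two.2 ⟨by simp [S], by simp [S]⟩))
      (sup_le (le_iSup_of_le 0 (by simp [S])) (le_iSup_of_le 1 (by simp [S]))), h,
      Module.finrank_fintype_fun_eq_card, hcard]
  · obtain ⟨a, b, rfl⟩ := (hmemU _ _).mp hx
    have hss : S i + S i ≠ 0 := fun h => hS i ((mul_eq_zero.mp (show (2 : F) * S i = 0 by linear_combination h)).resolve_left h2)
    by_cases ha : a = 0
    · have hb0 : b ≠ 0 := fun hb0 => hx0 (by rw [ha, hb0, zero_smul, zero_smul, add_zero])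
      refine ⟨⟨_, (hmemU _ _).mpr ⟨1, 0, rfl⟩, ?_⟩, ⟨_, (hmemU _ _).mpr ⟨1, 0, rfl⟩, ?_⟩⟩ <;> rw [hcoef, ha]
      · exact mul_ne_zero hss (by simp [hb0])
      · exact mul_ne_zero hss (by simp [hb0])
    · refine ⟨⟨_, (hmemU _ _).mpr ⟨0, 1, rfl⟩, ?_⟩, ⟨_, (hmemU _ _).mpr ⟨0, 1, rfl⟩, ?_⟩⟩ <;> rw [hcoef]
      · exact mul_ne_zero hss (by simp [ha])
      · exact mul_ne_zero hss (by simp [ha])
  · obtain ⟨a, b, rfl⟩ := (hmemU _ _).mp hx
    obtain ⟨c, d, rfl⟩ := (hmemU _ _).mp hy
    rw [hcoef]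
    fin_cases i <;> fin_cases j <;> simp [S] at hij ⊢
  · obtain ⟨π, hπ⟩ := hg.1
    have hiso := mem_isoOf.1 hg.2
    have hmap : ∀ i, ∀ x ∈ D i, (g : Matrix ι ι F) *ᵥ x ∈ D (π i) := fun i x hx => by
      rw [← hπ i]; exact ⟨x, hx, Matrix.toLin'_apply _ _⟩
    have key : ∃ Δ : F, Δ * Δ = 1 ∧ ∀ s, s ≠ 0 → (g : Matrix ι ι F) *ᵥ u s ∈ U (s * Δ) ∧ (g : Matrix ι ι F) *ᵥ w s ∈ U (s * Δ) := by
      have hge : ∀ i j, f ((g : Matrix ι ι F) *ᵥ e i) ((g : Matrix ι ι F) *ᵥ p j) = if i = j then 1 else 0 :=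
        fun i j => by rw [hiso, hep]
      rcases (show π 0 = 0 ∨ π 0 = 1 by omega) with h0 | h0
      · have h1 : π 1 = 1 := by
          have : π 1 ≠ π 0 := fun h => by simpa using π.injective h
          omega
        have me : ∀ i, (g : Matrix ι ι F) *ᵥ e i ∈ D 0 := fun i => h0 ▸ hmap 0 _ (he i)
        have mp : ∀ i, (g : Matrix ι ι F) *ᵥ p i ∈ D 1 := fun i => h1 ▸ hmap 1 _ (hp i)
        obtain ⟨a, c, hga⟩ : ∃ a c : F, (g : Matrix ι ι F) *ᵥ e 0 = a • e 0 + c • e 1 := ⟨_, _, hD0 _ (me 0)⟩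
        obtain ⟨b, d, hgb⟩ : ∃ b d : F, (g : Matrix ι ι F) *ᵥ e 1 = b • e 0 + d • e 1 := ⟨_, _, hD0 _ (me 1)⟩
        obtain ⟨a', c', hgp⟩ : ∃ a' c' : F, (g : Matrix ι ι F) *ᵥ p 0 = a' • p 0 + c' • p 1 := ⟨_, _, hD1 _ (mp 0)⟩
        obtain ⟨b', d', hgq⟩ : ∃ b' d' : F, (g : Matrix ι ι F) *ᵥ p 1 = b' • p 0 + d' • p 1 := ⟨_, _, hD1 _ (mp 1)⟩
        have e00 := hge 0 0; have e01 := hge 0 1; have e10 := hge 1 0; have e11 := hge 1 1
        simp [hga, hgb, hgp, hgq, hb.add_left, hb.add_right, hb.smul_left, hb.smul_right, hep] at e00 e01 e10 e11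
        have hΔ0 : a * d - b * c ≠ 0 := fun h => one_ne_zero
          (show (1 : F) = 0 by linear_combination (a' * d' - b' * c') * h - e00 + a' * a * 0
            + (0 : F) * e01 - e11 * (a * a' + c * c') + e10 * (a * b' + c * d'))
        have hΔ := hsq _ hΔ0
        set Δ := a * d - b * c
        have ha' : a' = d * Δ := by linear_combination d * Δ * e00 - c * Δ * e10 - a' * hΔ
        have hc' : c' = -(b * Δ) := by linear_combination a * Δ * e10 - b * Δ * e00 - c' * hΔ
        have hb' : b' = -(c * Δ) := by linear_combination d * Δ * e01 - c * Δ * e11 - b' * hΔ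
        have hd' : d' = a * Δ := by linear_combination a * Δ * e11 - b * Δ * e01 - d' * hΔ
        refine ⟨Δ, hΔ, fun s _ => ⟨(hmemU _ _).mpr ⟨a, c, ?_⟩, (hmemU _ _).mpr ⟨b, d, ?_⟩⟩⟩
        · simp only [u, w, mulVec_add, mulVec_smul, hga, hgq, hb', hd']
          module
        · simp only [u, w, mulVec_add, mulVec_smul, hgb, hgp, ha', hc']
          module
      · have h1 : π 1 = 0 := by
          have : π 1 ≠ π 0 := fun h => by simpa using π.injective h
          omega
        have me : ∀ i, (g : Matrix ι ι F) *ᵥ e i ∈ D 1 := fun i => h0 ▸ hmap 0 _ (he i)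
        have mp : ∀ i, (g : Matrix ι ι F) *ᵥ p i ∈ D 0 := fun i => h1 ▸ hmap 1 _ (hp i)
        obtain ⟨a, c, hga⟩ : ∃ a c : F, (g : Matrix ι ι F) *ᵥ e 0 = a • p 0 + c • p 1 := ⟨_, _, hD1 _ (me 0)⟩
        obtain ⟨b, d, hgb⟩ : ∃ b d : F, (g : Matrix ι ι F) *ᵥ e 1 = b • p 0 + d • p 1 := ⟨_, _, hD1 _ (me 1)⟩
        obtain ⟨a', c', hgp⟩ : ∃ a' c' : F, (g : Matrix ι ι F) *ᵥ p 0 = a' • e 0 + c' • e 1 := ⟨_, _, hD0 _ (mp 0)⟩
        obtain ⟨b', d', hgq⟩ : ∃ b' d' : F, (g : Matrix ι ι F) *ᵥ p 1 = b' • e 0 + d' • e 1 := ⟨_, _, hD0 _ (mp 1)⟩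
        have e00 := hge 0 0; have e01 := hge 0 1; have e10 := hge 1 0; have e11 := hge 1 1
        simp [hga, hgb, hgp, hgq, hb.add_left, hb.add_right, hb.smul_left, hb.smul_right, hpe] at e00 e01 e10 e11
        have hΔ0 : a * d - b * c ≠ 0 := fun h => one_ne_zero
          (show (1 : F) = 0 by linear_combination (a' * d' - b' * c') * h - e00
            + e11 * (a * a' + c * c') - e10 * (a * b' + c * d'))
        have hΔ := hsq _ hΔ0
        set Δ := a * d - b * c
        have ha' : a' = -(d * Δ) := by linear_combination -(d * Δ) * e00 + c * Δ * e10 - a' * hΔ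
        have hc' : c' = b * Δ := by linear_combination -(a * Δ) * e10 + b * Δ * e00 - c' * hΔ
        have hb' : b' = c * Δ := by linear_combination -(d * Δ) * e01 + c * Δ * e11 - b' * hΔ
        have hd' : d' = -(a * Δ) := by linear_combination -(a * Δ) * e11 + b * Δ * e01 - d' * hΔ
        refine ⟨Δ, hΔ, fun s hs0 => ⟨(hmemU _ _).mpr ⟨c * Δ * s, -(a * Δ * s), ?_⟩, (hmemU _ _).mpr ⟨d * Δ * s, -(b * Δ * s), ?_⟩⟩⟩ <;>
          (simp only [u, w, mulVec_add, mulVec_smul, hga, hgb, hgp, hgq, ha', hb', hc', hd']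
           have hss := hsq s hs0
           match_scalars <;> first
            | linear_combination (0 : F)
            | linear_combination a * (Δ * Δ) * hss + a * hΔ
            | linear_combination c * (Δ * Δ) * hss + c * hΔ
            | linear_combination b * (Δ * Δ) * hss + b * hΔ
            | linear_combination d * (Δ * Δ) * hss + d * hΔ
            | linear_combination -(a * (Δ * Δ)) * hss - a * hΔ
            | linear_combination -(c * (Δ * Δ)) * hss - c * hΔ
            | linear_combination -(b * (Δ * Δ)) * hss - b * hΔ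
            | linear_combination -(d * (Δ * Δ)) * hss - d * hΔ)
    obtain ⟨Δ, hΔ, hmove⟩ := key
    have hΔ1 : Δ = 1 ∨ Δ = -1 := mul_self_eq_one_iff.mp hΔ
    have hfull : ∀ s : F, s ≠ 0 → (U s).map (Matrix.toLin' (g : Matrix ι ι F)) = U (s * Δ) := by
      intro s hs'
      have hne : s * Δ ≠ 0 := mul_ne_zero hs' (fun h => by rw [h, mul_zero] at hΔ; exact zero_ne_one hΔ)
      refine Submodule.eq_of_le_of_finrank_eq ?_ ?_
      · rw [Submodule.map_span_le]
        rintro _ ⟨k, rfl⟩
        rw [Matrix.toLin'_apply]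
        fin_cases k
        exacts [(hmove s hs').1, (hmove s hs').2]
      · rw [hrank _ hne, LinearEquiv.finrank_eq (Submodule.equivMapOfInjective _
          (fun a b hab => gl_mulVec_injective g (by simpa [Matrix.toLin'_apply] using hab)) _).symm, hrank _ hs']
    rcases hΔ1 with rfl | rfl
    · exact ⟨1, fun i => by rw [hfull _ (hS i), mul_one]; rfl⟩
    · exact ⟨Equiv.swap 0 1, fun i => by rw [hfull _ (hS i)]; fin_cases i <;> simp [S]⟩

/-- the subgroup generated by signed anticommuting roots of signs is a two-group -/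
lemma isPGroup_closure {G : Type*} [Group G] (z : G) (hz : z * z = 1) (hc : ∀ g : G, z * g = g * z) {s : Set G}
    (hsq : ∀ x ∈ s, x * x = 1 ∨ x * x = z) (hcomm : ∀ x ∈ s, ∀ y ∈ s, x * y = y * x ∨ x * y = z * (y * x)) :
    IsPGroup 2 (Subgroup.closure s) := by
  have hzi : z⁻¹ = z := inv_eq_of_mul_eq_one_right hz
  let Z : G → Prop := fun g => g = 1 ∨ g = z
  have Zmul : ∀ a b, Z a → Z b → Z (a * b) := by
    rintro a b (rfl | rfl) (rfl | rfl) <;> simp [Z, hz]
  have Zc : ∀ a, Z a → ∀ g, a * g = g * a := by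
    rintro a (rfl | rfl) g
    · simp
    · exact hc g
  have hcl : ∀ x ∈ Subgroup.closure s, ∀ y ∈ Subgroup.closure s, ∃ a, Z a ∧ x * y = a * (y * x) := by
    intro x hx
    induction hx using Subgroup.closure_induction with
    | mem x hx =>
      intro y hy
      induction hy using Subgroup.closure_induction with
      | mem y hy =>
        rcases hcomm x hx y hy with h | h
        · exact ⟨1, Or.inl rfl, by rw [one_mul, h]⟩
        · exact ⟨z, Or.inr rfl, h⟩
      | one => exact ⟨1, Or.inl rfl, by simp⟩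
      | mul p q _ _ hp hq =>
        obtain ⟨a, ha, hap⟩ := hp
        obtain ⟨b, hb, hbq⟩ := hq
        refine ⟨a * b, Zmul a b ha hb, ?_⟩
        calc x * (p * q) = x * p * q := (mul_assoc _ _ _).symm
          _ = a * (p * (x * q)) := by rw [hap]; group
          _ = a * (b * (p * (q * x))) := by rw [hbq, ← mul_assoc p b, ← Zc b hb p, mul_assoc]
          _ = a * b * (p * q * x) := by group
      | inv p _ hp =>
        obtain ⟨a, ha, hap⟩ := hp
        refine ⟨a, ha, ?_⟩
        have h := congrArg (fun t => p⁻¹ * t * p⁻¹) hap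
        simp only [mul_assoc, mul_inv_cancel, mul_one] at h
        rw [← mul_assoc p⁻¹ a, ← Zc a ha p⁻¹, mul_assoc, inv_mul_cancel_left] at h
        have ha2 : a * a = 1 := by rcases ha with rfl | rfl <;> simp [hz]
        rw [h, ← mul_assoc, ha2, one_mul]
    | one => exact fun y _ => ⟨1, Or.inl rfl, by simp⟩
    | mul p q _ _ hp hq =>
      intro y hy
      obtain ⟨a, ha, hap⟩ := hp y hy
      obtain ⟨b, hb, hbq⟩ := hq y hy
      refine ⟨b * a, Zmul b a hb ha, ?_⟩
      calc p * q * y = p * (q * y) := mul_assoc _ _ _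
        _ = b * (p * y * q) := by rw [hbq, ← mul_assoc p b, ← Zc b hb p]; group
        _ = b * a * (y * (p * q)) := by rw [hap]; group
    | inv p _ hp =>
      intro y hy
      obtain ⟨a, ha, hap⟩ := hp y hy
      refine ⟨a, ha, ?_⟩
      have h := congrArg (fun t => p⁻¹ * t * p⁻¹) hap
      simp only [mul_assoc, mul_inv_cancel, mul_one] at h
      rw [inv_mul_cancel_left, ← mul_assoc p⁻¹ a, ← Zc a ha p⁻¹, mul_assoc] at h
      have ha2 : a * a = 1 := by rcases ha with rfl | rfl <;> simp [hz]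
      rw [h, ← mul_assoc, ha2, one_mul]
  have hsqr : ∀ x ∈ Subgroup.closure s, Z (x * x) := by
    intro x hx
    induction hx using Subgroup.closure_induction with
    | mem x hx => exact hsq x hx
    | one => exact Or.inl (one_mul 1)
    | mul p q hp hq ihp ihq =>
      obtain ⟨a, ha, haq⟩ := hcl q hq p hp
      have : p * q * (p * q) = a * (p * p * (q * q)) := by
        rw [show p * q * (p * q) = p * (q * p) * q by group, haq, ← mul_assoc p a, ← Zc a ha p]; group
      rw [this]
      exact Zmul _ _ ha (Zmul _ _ ihp ihq)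
    | inv p _ ihp =>
      rw [← _root_.mul_inv_rev]
      rcases ihp with h | h <;> rw [h] <;> simp [Z, hzi]
  intro x
  refine ⟨2, Subtype.ext ?_⟩
  rw [SubmonoidClass.coe_pow, show (2 : ℕ) ^ 2 = 2 * 2 from rfl, pow_mul, pow_two, pow_two, Subgroup.coe_one]
  rcases hsqr x x.2 with h | h <;> rw [h]
  · simp
  · exact hz

instance : Fact (Nat.Prime 3) := ⟨Nat.prime_three⟩

lemma o8 {a b c d e f g h i j k l : Prop} (x : a ∨ b ∨ c ∨ d ∨ e ∨ f ∨ g ∨ h) :
    a ∨ b ∨ c ∨ d ∨ e ∨ f ∨ g ∨ h ∨ i ∨ j ∨ k ∨ l := by tauto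

lemma o4 {a b c d e f g h i j k l : Prop} (x : i ∨ j ∨ k ∨ l) :
    a ∨ b ∨ c ∨ d ∨ e ∨ f ∨ g ∨ h ∨ i ∨ j ∨ k ∨ l := by tauto

set_option maxHeartbeats 1200000 in
/-- over three elements the normaliser of a quadratic extension closed under adjoints is not maximal -/
theorem adjField_not_maximal (h3 : Fintype.card F = 3) (hι : Fintype.card ι = 4) (hf : IsSymplecticForm f)
    (hdich : ∀ N ≤ isoOf f, Norms (isoOf f) N → N ≤ scalars ι F ∨ N = isoOf f)
    {K : Subalgebra F (Matrix ι ι F)} (hK : IsFieldSubalgebra 2 K) (hadj : IsAdjointClosedFor f K)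
    (hns : ¬ IsSelfAdjointFor f K) :
    ∃ M : Subgroup (GL ι F), subalgebraNormalizer K ⊓ isoOf f < M ∧ M < isoOf f := by
  classical
  have : Nonempty ι := Fintype.card_pos_iff.mp (by omega)
  have hb := hf.bilinear
  have : CharP F 3 := by
    obtain ⟨c, hc⟩ := CharP.exists F
    obtain ⟨n, hcp, hn⟩ := FiniteField.card F c
    rw [h3] at hn
    obtain rfl : c = 3 := (Nat.prime_dvd_prime_iff_eq hcp Nat.prime_three).mp (hn ▸ dvd_pow_self c n.ne_zero)
    exact hc
  let φ : ZMod 3 →+* F := ZMod.castHom dvd_rfl F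
  have hφ : Function.Bijective φ :=
    (Fintype.bijective_iff_injective_and_card φ).mpr ⟨φ.injective, by rw [ZMod.card, h3]⟩
  have hcases : ∀ a : F, a = 0 ∨ a = 1 ∨ a = -1 := fun a => by
    obtain ⟨x, rfl⟩ := hφ.2 a
    rcases (show x = 0 ∨ x = 1 ∨ x = -1 by revert x; decide) with rfl | rfl | rfl <;> simp
  have h30 : (3 : F) = 0 := by
    have h := FiniteField.cast_card_eq_zero F; rw [h3] at h; push_cast at h; exact h
  -- the square root of minus one
  let Kf : Field K := (show IsField K from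
    { exists_pair_ne := ⟨0, 1, fun h => by
        have := congrArg Subtype.val h
        simp only [ZeroMemClass.coe_zero, OneMemClass.coe_one] at this
        exact zero_ne_one this⟩
      mul_comm := fun x y => Subtype.ext (hK.comm x x.2 y y.2)
      mul_inv_cancel := fun {x} hx => by
        obtain ⟨y, hy, hxy⟩ := hK.inv x x.2 fun e => hx (Subtype.ext e)
        exact ⟨⟨y, hy⟩, Subtype.ext hxy⟩ }).toField
  have : Fintype K := Fintype.ofFinite K
  have hcardK : Fintype.card K = 9 := by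
    rw [Module.card_eq_pow_finrank (K := F), h3, hK.finrank_eq]; rfl
  obtain ⟨j, hj⟩ := (FiniteField.isSquare_neg_one_iff (F := K)).mpr (by rw [hcardK]; norm_num)
  set J : Matrix ι ι F := Subtype.val j with hJ
  have hJJ : J * J = -1 := by
    have := congrArg Subtype.val hj.symm
    simpa [hJ] using this
  have hJns : ∀ c : F, J ≠ c • 1 := fun c h => by
    rw [h, Matrix.smul_mul, one_mul, smul_smul] at hJJ
    obtain ⟨i⟩ := ‹Nonempty ι›
    have := congrFun (congrFun hJJ i) i
    simp at this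
    rcases hcases c with rfl | rfl | rfl <;> norm_num at this
    all_goals exact one_ne_zero (show (1 : F) = 0 by linear_combination h30 - this)
  have hspan : ∀ k ∈ K, ∃ a b : F, k = a • 1 + b • J := by
    have hli : LinearIndependent F ![(1 : K), j] := by
      rw [LinearIndependent.pair_iff]
      intro a b h
      have h' := congrArg Subtype.val h
      simp only [Subalgebra.coe_add, Subalgebra.coe_smul, OneMemClass.coe_one, ZeroMemClass.coe_zero] at h'
      by_cases hb0 : b = 0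
      · subst hb0
        rw [zero_smul, add_zero, smul_eq_zero] at h'
        exact ⟨h'.resolve_right one_ne_zero, rfl⟩
      · refine absurd ?_ (hJns (-a / b))
        rw [eq_comm, ← sub_eq_zero, show (-a / b) • (1 : Matrix ι ι F) - J = (-b⁻¹) • (a • 1 + b • J) by
          match_scalars <;> field_simp, h', smul_zero]
    intro k hk
    have htop : Submodule.span F (Set.range ![(1 : K), j]) = ⊤ :=
      hli.span_eq_top_of_card_eq_finrank (by rw [Fintype.card_fin, hK.finrank_eq])
    have hmem : (⟨k, hk⟩ : K) ∈ Submodule.span F ({1, j} : Set K) := by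
      rw [← Matrix.range_cons_cons_empty, htop]; trivial
    obtain ⟨a, b, hab⟩ := Submodule.mem_span_pair.mp hmem
    exact ⟨a, b, (congrArg Subtype.val hab).symm⟩
  have hroot : ∀ k ∈ K, k * k = -1 → k = J ∨ k = -J := fun k hk hkk => by
    rcases mul_self_eq_mul_self_iff.mp (show (⟨k, hk⟩ : K) * ⟨k, hk⟩ = j * j from
      Subtype.ext (hkk.trans hJJ.symm)) with h | h
    · exact Or.inl (congrArg Subtype.val h)
    · exact Or.inr (congrArg Subtype.val h)
  obtain ⟨J', hJ', hJadj⟩ := hadj J j.2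
  have hJ'2 : J' * J' = -1 := by
    refine Matrix.ext_of_mulVec_single fun i => ?_
    by_contra hne
    obtain ⟨⟨u, hu⟩, -⟩ := hf.nondegenerate _ (sub_ne_zero.mpr hne)
    refine hu ?_
    rw [← bilinOf_apply hb, map_sub, bilinOf_apply, bilinOf_apply, ← mulVec_mulVec, ← hJadj, ← hJadj,
      mulVec_mulVec, hJJ, neg_mulVec, one_mulVec, neg_mulVec, one_mulVec, ← neg_one_smul F u,
      ← neg_one_smul F (Pi.single i 1), hb.smul_left, hb.smul_right, sub_self]
  rcases hroot J' hJ' hJ'2 with rfl | rfl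
  · refine absurd (fun k hk u v => ?_) hns
    obtain ⟨a, b, rfl⟩ := hspan k hk
    simp only [add_mulVec, smul_mulVec, one_mulVec, hb.add_left, hb.add_right, hb.smul_left, hb.smul_right,
      hJadj]
  -- a basis adapted to the structure
  have hfneg : ∀ x y, f x (-y) = -f x y := fun x y => by
    rw [← neg_one_smul F y, hb.smul_right, neg_one_mul]
  have hJiso : ∀ x y, f (J *ᵥ x) (J *ᵥ y) = f x y := fun x y => by
    rw [hJadj, mulVec_mulVec, neg_mul, hJJ, neg_neg, one_mulVec]
  have hanti : ∀ x y, f y x = -f x y := fun x y => by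
    have h := hf.alternating (x + y)
    rw [hb.add_left, hb.add_right, hb.add_right, hf.alternating, hf.alternating] at h
    linear_combination h
  have hJx : ∀ x, J *ᵥ (J *ᵥ x) = -x := fun x => by rw [mulVec_mulVec, hJJ, neg_mulVec, one_mulVec]
  have hsymm : ∀ x y, f x (J *ᵥ y) = f y (J *ᵥ x) := fun x y => by
    rw [hanti, hJadj, neg_mulVec, hfneg, neg_neg]
  let q : (ι → F) → F := fun x => f x (J *ᵥ x)
  have key : ∀ W : Submodule F (ι → F), (∀ x ∈ W, J *ᵥ x ∈ W) → (∃ x ∈ W, ∃ y ∈ W, f x y ≠ 0) →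
      ∃ x ∈ W, q x = 1 := by
    intro W hJW ⟨x₀, hx₀, y₀, hy₀, hne⟩
    obtain ⟨z, hz, hqz⟩ : ∃ z ∈ W, q z ≠ 0 := by
      by_contra hc
      push Not at hc
      have h := hc _ (add_mem hx₀ (hJW _ hy₀))
      have h1 := hc _ hx₀
      have h2 := hc _ (hJW _ hy₀)
      simp only [q] at h h1 h2
      rw [mulVec_add, hb.add_left, hb.add_right, hb.add_right, h1, h2, hsymm (J *ᵥ y₀) x₀, hJx, hfneg] at h
      exact hne (by linear_combination h + f x₀ y₀ * h30)
    rcases hcases (q z) with h | h | h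
    · exact absurd h hqz
    · exact ⟨z, hz, h⟩
    · refine ⟨z + J *ᵥ z, add_mem hz (hJW _ hz), ?_⟩
      simp only [q] at h ⊢
      rw [mulVec_add, hJx, hb.add_left, hb.add_right, hb.add_right, hfneg, hfneg, hJiso, hanti z (J *ᵥ z), h,
        hf.alternating]
      linear_combination -h30
  obtain ⟨u₀, hu₀⟩ := (spTvSys hf).ex
  obtain ⟨v₀, hv₀⟩ := (hf.nondegenerate u₀ hu₀).2
  obtain ⟨x, -, hqx⟩ := key ⊤ (fun _ _ => trivial) ⟨u₀, trivial, v₀, trivial, hv₀⟩
  set x' := J *ᵥ x with hx'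
  let Wp : Submodule F (ι → F) := LinearMap.ker (bilinOf hb x) ⊓ LinearMap.ker (bilinOf hb x')
  have hWJ : ∀ z ∈ Wp, J *ᵥ z ∈ Wp := by
    rintro z ⟨h1, h2⟩
    simp only [SetLike.mem_coe, LinearMap.mem_ker, bilinOf_apply] at h1 h2
    refine ⟨?_, ?_⟩ <;> simp only [SetLike.mem_coe, LinearMap.mem_ker, bilinOf_apply]
    · rw [← hJiso, hJx, hfneg, ← hx', h2, neg_zero]
    · rw [hx', hJiso, h1]
  have hxx' : f x x' = 1 := hqx
  have hx'x : f x' x = -1 := by rw [hanti, hxx']
  let proj : (ι → F) → (ι → F) := fun z => z - (f x z) • x' + (f x' z) • x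
  have hproj : ∀ z, proj z ∈ Wp := fun z => by
    refine ⟨?_, ?_⟩ <;> simp only [SetLike.mem_coe, LinearMap.mem_ker, proj, map_add, map_sub, map_smul,
      bilinOf_apply, hxx', hx'x, hf.alternating, smul_eq_mul] <;> ring
  obtain ⟨a₀, ha₀, b₀, hab⟩ : ∃ a ∈ Wp, ∃ b, f a b ≠ 0 := by
    by_contra hc
    push Not at hc
    have hall : ∀ z, proj z = 0 := fun z => by
      by_contra h0
      obtain ⟨-, b, hb'⟩ := hf.nondegenerate _ h0
      exact hb' (hc _ (hproj z) b)
    have hle : (⊤ : Submodule F (ι → F)) ≤ Submodule.span F ({x, x'} : Set (ι → F)) := fun z _ => by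
      have h := hall z
      simp only [proj] at h
      rw [Submodule.mem_span_pair]
      exact ⟨-(f x' z), f x z, by rw [← sub_eq_zero, ← neg_eq_zero, ← h]; module⟩
    have h4 := Submodule.finrank_mono hle
    rw [finrank_top, Module.finrank_fintype_fun_eq_card, hι] at h4
    have h5 : Module.finrank F (Submodule.span F ({x, x'} : Set (ι → F))) ≤ 2 := by
      rw [← Matrix.range_cons_cons_empty x x' ![]]
      exact (finrank_range_le_card (R := F) ![x, x']).trans_eq (Fintype.card_fin 2)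
    omega
  have hperp : ∀ z ∈ Wp, f z x = 0 ∧ f z x' = 0 ∧ f x z = 0 ∧ f x' z = 0 := by
    rintro z ⟨h1, h2⟩
    simp only [SetLike.mem_coe, LinearMap.mem_ker, bilinOf_apply] at h1 h2
    exact ⟨by rw [hanti, h1, neg_zero], by rw [hanti, h2, neg_zero], h1, h2⟩
  obtain ⟨y, hy, hqy⟩ := key Wp hWJ ⟨a₀, ha₀, proj b₀, hproj b₀, by
    rw [← bilinOf_apply hb, show proj b₀ = b₀ - (f x b₀) • x' + (f x' b₀) • x from rfl, map_add, map_sub,
      map_smul, map_smul, bilinOf_apply, bilinOf_apply, bilinOf_apply, (hperp a₀ ha₀).1, (hperp a₀ ha₀).2.1]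
    simpa using hab⟩
  set y' := J *ᵥ y with hy'
  have hyy' : f y y' = 1 := hqy
  let c : Fin 4 → ι → F := ![x, x', y, y']
  have hgram : ∀ s t, f (c s) (c t) = φ (G s t) := by
    obtain ⟨h1, h2, h3', h4⟩ := hperp y hy
    obtain ⟨k1, k2, k3, k4⟩ := hperp y' (hWJ y hy)
    have e1 : f y' y = -1 := by rw [hanti, hyy']
    intro s t
    fin_cases s <;> fin_cases t <;> simp [c, G, hf.alternating, hxx', hx'x, hyy', e1, h1, h2, h3', h4, k1, k2, k3, k4]
  obtain ⟨ev⟩ := (Fintype.card_eq.mp (show Fintype.card ι = Fintype.card (Fin 4) by rw [hι, Fintype.card_fin]) : Nonempty (ι ≃ Fin 4))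
  let Pm : Matrix ι ι F := Matrix.of fun i k => c (ev k) i
  let Gι : Matrix ι ι F := (G.map φ).submatrix ev ev
  let Bf : Matrix ι ι F := gramMatrix f
  have hfm : ∀ u v, f u v = u ⬝ᵥ (Bf *ᵥ v) := fun u v => by
    have h := CfsgLib.ClassicalMax.Tensor.formOfGram_gram (σ := id) hb.add_left hb.smul_left hb.add_right hb.smul_right u v
    rw [← h]
    simp only [formOfGram, id, dotProduct, mulVec, Finset.mul_sum, mul_assoc, Bf]
  have hPG : Pmᵀ * Bf * Pm = Gι := by
    ext s t
    have : (Pmᵀ * Bf * Pm) s t = f (c (ev s)) (c (ev t)) := by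
      rw [hfm]
      simp only [Matrix.mul_apply, dotProduct, mulVec, Finset.mul_sum, Finset.sum_mul, transpose_apply, Pm, Matrix.of_apply]
      rw [Finset.sum_comm]
      exact Finset.sum_congr rfl fun _ _ => Finset.sum_congr rfl fun _ _ => by ring
    rw [this, hgram]
    rfl
  have hGdet : (G.map φ).det ≠ 0 := by
    rw [show G.map φ = φ.mapMatrix G from rfl, ← RingHom.map_det]
    exact fun h => (show G.det ≠ 0 by decide +kernel) (hφ.1 (h.trans (map_zero φ).symm))
  have hPdet : Pm.det ≠ 0 := fun h => by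
    have := congrArg Matrix.det hPG
    rw [det_mul, h, mul_zero, det_submatrix_equiv_self] at this
    exact hGdet this.symm
  let P : GL ι F := GeneralLinearGroup.mkOfDetNeZero Pm hPdet
  let Ψm : M4 →+* Matrix ι ι F :=
    (AlgEquiv.toRingEquiv (Matrix.reindexAlgEquiv F F ev.symm)).toRingHom.comp φ.mapMatrix
  have hΨval : ∀ N, Ψm N = (N.map φ).submatrix ev ev := fun N => rfl
  let Ψ : M4 → Matrix ι ι F := fun N => Pm * Ψm N * ((P⁻¹ : GL ι F) : Matrix ι ι F)
  have hPP : ((P⁻¹ : GL ι F) : Matrix ι ι F) * Pm = 1 := P.inv_mul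
  have hΨmul : ∀ M N, Ψ (M * N) = Ψ M * Ψ N := fun M N => by
    simp only [Ψ, map_mul, mul_assoc]
    rw [← mul_assoc _ Pm, hPP, one_mul]
  have hΨone : Ψ 1 = 1 := by simp only [Ψ, map_one, mul_one]; exact P.mul_inv
  have hΨneg : ∀ M, Ψ (-M) = -Ψ M := fun M => by simp [Ψ]
  have hΨinj : Function.Injective Ψ := fun M N h => by
    have h' := congrArg (fun t => ((P⁻¹ : GL ι F) : Matrix ι ι F) * t * Pm) h
    simp only [Ψ, mul_assoc, hPP, mul_one] at h'
    rw [← mul_assoc, hPP, one_mul, ← mul_assoc, hPP, one_mul] at h'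
    ext s t
    exact hφ.1 (by simpa [hΨval] using congrFun (congrFun h' (ev.symm s)) (ev.symm t))
  have hΨsurj : Function.Surjective Ψ := fun X => by
    choose g hg using hφ.2
    let Y : Matrix ι ι F := ((P⁻¹ : GL ι F) : Matrix ι ι F) * X * Pm
    refine ⟨Matrix.of fun s t => g (Y (ev.symm s) (ev.symm t)), ?_⟩
    have h : Ψm (Matrix.of fun s t => g (Y (ev.symm s) (ev.symm t))) = Y := by
      ext s t; simp [hΨval, hg]
    change Pm * Ψm _ * _ = X
    rw [h]
    simp only [Y, mul_assoc]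
    rw [show Pm * ((P⁻¹ : GL ι F) : Matrix ι ι F) = 1 from P.mul_inv, mul_one, ← mul_assoc,
      show Pm * ((P⁻¹ : GL ι F) : Matrix ι ι F) = 1 from P.mul_inv, one_mul]
  have hΨmInj : Function.Injective Ψm := fun M N h => by
    ext s t
    exact hφ.1 (by simpa [hΨval] using congrFun (congrFun h (ev.symm s)) (ev.symm t))
  have hΨiso : ∀ (g : GL ι F) N, (g : Matrix ι ι F) = Ψ N → (g ∈ isoOf f ↔ Nᵀ * G * N = G) := by
    intro g N hg
    have hdot : ∀ u v, f ((g : Matrix ι ι F) *ᵥ u) ((g : Matrix ι ι F) *ᵥ v) =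
        u ⬝ᵥ (((g : Matrix ι ι F)ᵀ * Bf * (g : Matrix ι ι F)) *ᵥ v) := fun u v => by
      rw [hfm, ← mulVec_mulVec v _ (g : Matrix ι ι F), ← mulVec_mulVec _ _ Bf, dotProduct_mulVec u,
        vecMul_transpose]
    have hgB : g ∈ isoOf f ↔ (g : Matrix ι ι F)ᵀ * Bf * (g : Matrix ι ι F) = Bf := by
      refine ⟨fun h => ?_, fun h => mem_isoOf.2 fun u v => by rw [hdot, h, hfm]⟩
      ext s t
      have h' := mem_isoOf.1 h (Pi.single s 1) (Pi.single t 1)
      rw [hdot, hfm] at h'
      simpa using h'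
    rw [hgB, hg]
    have hPt : (((P⁻¹ : GL ι F) : Matrix ι ι F))ᵀ * Pmᵀ = 1 := by
      rw [← transpose_mul, show Pm * ((P⁻¹ : GL ι F) : Matrix ι ι F) = 1 from P.mul_inv, transpose_one]
    have e : (Ψ N)ᵀ * Bf * Ψ N = (((P⁻¹ : GL ι F) : Matrix ι ι F))ᵀ * Ψm (Nᵀ * G * N) * ((P⁻¹ : GL ι F) : Matrix ι ι F) := by
      simp only [Ψ, transpose_mul, map_mul, show Ψm G = Gι from rfl, ← hPG,
        show Ψm Nᵀ = (Ψm N)ᵀ from (by ext s t; simp [hΨval])]
      simp only [mul_assoc]
    have e2 : Bf = (((P⁻¹ : GL ι F) : Matrix ι ι F))ᵀ * Ψm G * ((P⁻¹ : GL ι F) : Matrix ι ι F) := by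
      rw [show Ψm G = Gι from rfl, ← hPG]
      simp only [← mul_assoc, hPt, one_mul]
      rw [mul_assoc, show Pm * ((P⁻¹ : GL ι F) : Matrix ι ι F) = 1 from P.mul_inv, mul_one]
    refine ⟨fun h => ?_, fun h => by rw [e, h, ← e2]⟩
    rw [e] at h
    conv_rhs at h => rw [e2]
    have h' := congrArg (fun t => Pmᵀ * t * Pm) h
    have hPt' : Pmᵀ * (((P⁻¹ : GL ι F) : Matrix ι ι F))ᵀ = 1 := by rw [← transpose_mul, hPP, transpose_one]
    simp only [← mul_assoc, hPt', one_mul] at h'
    simp only [mul_assoc, hPP, mul_one] at h'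
    rw [mul_assoc]
    exact hΨmInj h'
  have hΨI : Ψ I = J := by
    have hcol : Ψm I = ((P⁻¹ : GL ι F) : Matrix ι ι F) * (J * Pm) := by
      have h : Pm * Ψm I = J * Pm := by
        ext i t
        rw [Matrix.mul_apply, ← Equiv.sum_comp ev.symm]
        have hr : (J * Pm) i t = (J *ᵥ c (ev t)) i := by simp [Matrix.mul_apply, mulVec, dotProduct, Pm]
        rw [hr]
        obtain ⟨t', rfl⟩ := ev.symm.surjective t
        rw [ev.apply_symm_apply]
        fin_cases t' <;>
          simp [hΨval, Fin.sum_univ_four, Pm, c, I, hJx, ← hx', ← hy', x', y']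
      rw [← h, ← mul_assoc, hPP, one_mul]
    simp only [Ψ, hcol]
    rw [← mul_assoc, ← mul_assoc, show Pm * ((P⁻¹ : GL ι F) : Matrix ι ι F) = 1 from P.mul_inv, one_mul, mul_assoc,
      show Pm * ((P⁻¹ : GL ι F) : Matrix ι ι F) = 1 from P.mul_inv, mul_one]
  -- lifting the generators
  obtain ⟨hIiso, hAiso, hBiso, hTiso, hWiso⟩ := iso_facts
  obtain ⟨hI2, hA2, hB2, hT2, hWW, hW'W⟩ := squares
  obtain ⟨rAI, rBI, rTI, rBA, rTA, rTB⟩ := relations
  obtain ⟨cI, cA, cB, cT, neI, neI'⟩ := conj_facts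
  have mkU : ∀ N N' : M4, N * N' = 1 → N' * N = 1 → ∃ g : GL ι F, (g : Matrix ι ι F) = Ψ N :=
    fun N N' h h' => ⟨⟨Ψ N, Ψ N', by rw [← hΨmul, h, hΨone], by rw [← hΨmul, h', hΨone]⟩, rfl⟩
  obtain ⟨gI, hgI⟩ := mkU I (-I) (by rw [mul_neg, hI2, neg_neg]) (by rw [neg_mul, hI2, neg_neg])
  obtain ⟨gA, hgA⟩ := mkU A (-A) (by rw [mul_neg, hA2, neg_neg]) (by rw [neg_mul, hA2, neg_neg])
  obtain ⟨gB, hgB⟩ := mkU B (-B) (by rw [mul_neg, hB2, neg_neg]) (by rw [neg_mul, hB2, neg_neg])
  obtain ⟨gT, hgT⟩ := mkU T T hT2 hT2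
  obtain ⟨gW, hgW⟩ := mkU W W' hWW hW'W
  let z : GL ι F := -1
  have hzval : (z : Matrix ι ι F) = Ψ (-1) := by rw [hΨneg, hΨone]; rfl
  let Rs : Set (GL ι F) := {gI, gA, gB, gT}
  let R := Subgroup.closure Rs
  have hpg : IsPGroup 2 R := by
    refine isPGroup_closure z (Units.ext (by simp [z])) (fun g => Units.ext (by simp [z])) ?_ ?_
    · rintro u (rfl | rfl | rfl | rfl)
      · exact Or.inr (Units.ext (by rw [Units.val_mul, hgI, ← hΨmul, hI2, hzval]))
      · exact Or.inr (Units.ext (by rw [Units.val_mul, hgA, ← hΨmul, hA2, hzval]))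
      · exact Or.inr (Units.ext (by rw [Units.val_mul, hgB, ← hΨmul, hB2, hzval]))
      · exact Or.inl (Units.ext (by rw [Units.val_mul, hgT, ← hΨmul, hT2, hΨone, Units.val_one]))
    · intro u hu v hv
      have key : ∀ (x y : GL ι F) (X Y : M4), (x : Matrix ι ι F) = Ψ X → (y : Matrix ι ι F) = Ψ Y →
          (X * Y = Y * X ∨ X * Y = -(Y * X)) → x * y = y * x ∨ x * y = z * (y * x) := by
        intro x y X Y hx hy h
        rcases h with h | h
        · exact Or.inl (Units.ext (by rw [Units.val_mul, Units.val_mul, hx, hy, ← hΨmul, ← hΨmul, h]))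
        · exact Or.inr (Units.ext (by rw [Units.val_mul, Units.val_mul, Units.val_mul, hx, hy, hzval, ← hΨmul,
            ← hΨmul, ← hΨmul, h, neg_one_mul]))
      rcases hu with rfl | rfl | rfl | rfl <;> rcases hv with rfl | rfl | rfl | rfl <;>
        exact key _ _ _ _ (by assumption) (by assumption) (by decide +kernel)
  have mI : gI ∈ R := Subgroup.subset_closure (by simp [Rs])
  have mA : gA ∈ R := Subgroup.subset_closure (by simp [Rs])
  have mB : gB ∈ R := Subgroup.subset_closure (by simp [Rs])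
  have mT : gT ∈ R := Subgroup.subset_closure (by simp [Rs])
  have mz : z ∈ R := (Units.ext (by rw [Units.val_mul, hgI, ← hΨmul, hI2, hzval]) : gI * gI = z) ▸ mul_mem mI mI
  have hRiso : R ≤ isoOf f := by
    rw [Subgroup.closure_le]
    rintro u (rfl | rfl | rfl | rfl)
    exacts [(hΨiso _ _ hgI).2 hIiso, (hΨiso _ _ hgA).2 hAiso, (hΨiso _ _ hgB).2 hBiso, (hΨiso _ _ hgT).2 hTiso]
  have toR : ∀ (g : GL ι F) N, (g : Matrix ι ι F) = Ψ N → (N = I ∨ N = -I ∨ N = A ∨ N = -A ∨ N = B ∨ N = -B ∨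
      N = A * B ∨ N = -(A * B) ∨ N = T ∨ N = -T ∨ N = I * T ∨ N = -(I * T)) → g ∈ R := by
    intro g N hg hN
    have pos : ∀ (h : GL ι F) (M : M4), (h : Matrix ι ι F) = Ψ M → h ∈ R → (N = M → g ∈ R) ∧ (N = -M → g ∈ R) := by
      intro h M hh hm
      exact ⟨fun e => (Units.ext (by rw [hg, hh, e]) : g = h) ▸ hm,
        fun e => (Units.ext (by rw [hg, Units.val_mul, hzval, hh, ← hΨmul, e, neg_one_mul]) : g = z * h) ▸ mul_mem mz hm⟩
    have hAB : ((gA * gB : GL ι F) : Matrix ι ι F) = Ψ (A * B) := by rw [Units.val_mul, hgA, hgB, hΨmul]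
    have hIT : ((gI * gT : GL ι F) : Matrix ι ι F) = Ψ (I * T) := by rw [Units.val_mul, hgI, hgT, hΨmul]
    rcases hN with h | h | h | h | h | h | h | h | h | h | h | h
    exacts [(pos _ _ hgI mI).1 h, (pos _ _ hgI mI).2 h, (pos _ _ hgA mA).1 h, (pos _ _ hgA mA).2 h,
      (pos _ _ hgB mB).1 h, (pos _ _ hgB mB).2 h, (pos _ _ hAB (mul_mem mA mB)).1 h,
      (pos _ _ hAB (mul_mem mA mB)).2 h, (pos _ _ hgT mT).1 h, (pos _ _ hgT mT).2 h,
      (pos _ _ hIT (mul_mem mI mT)).1 h, (pos _ _ hIT (mul_mem mI mT)).2 h]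
  -- conjugation
  have hconj : ∀ g ∈ subalgebraNormalizer K ⊓ isoOf f, ∀ r ∈ R, g * r * g⁻¹ ∈ R := by
    intro g hg
    have hgen : ∀ r ∈ Rs, g * r * g⁻¹ ∈ R := by
      obtain ⟨N, hN⟩ := hΨsurj (g : Matrix ι ι F)
      obtain ⟨N', hN'⟩ := hΨsurj ((g⁻¹ : GL ι F) : Matrix ι ι F)
      have hNN : N * N' = 1 := hΨinj (by rw [hΨmul, hN, hN', hΨone, g.mul_inv])
      have hN'N : N' * N = 1 := hΨinj (by rw [hΨmul, hN, hN', hΨone, g.inv_mul])
      have hNG := (hΨiso g N hN.symm).1 hg.2
      let c' : M4 → M4 := fun X => N * X * N'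
      have cmul : ∀ X Y, c' (X * Y) = c' X * c' Y := fun X Y => by
        simp only [c', mul_assoc]; rw [← mul_assoc N' N, hN'N, one_mul]
      have cneg : ∀ X, c' (-X) = -c' X := fun X => by simp [c']
      have cone : c' 1 = 1 := by simp [c', hNN]
      have ciso : ∀ X, Xᵀ * G * X = G → (c' X)ᵀ * G * c' X = G := fun X hX => by
        have hN'G : N'ᵀ * G * N' = G := (hΨiso _ _ hN'.symm).1 (inv_mem hg.2)
        simp only [c', transpose_mul, mul_assoc]
        rw [← mul_assoc Nᵀ G, ← mul_assoc (Nᵀ * G) N, hNG, ← mul_assoc Xᵀ G, ← mul_assoc (Xᵀ * G) X, hX,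
          ← mul_assoc, hN'G]
      have hval : ∀ (r : GL ι F) X, (r : Matrix ι ι F) = Ψ X → ((g * r * g⁻¹ : GL ι F) : Matrix ι ι F) = Ψ (c' X) :=
        fun r X hr => by rw [Units.val_mul, Units.val_mul, hr, ← hN, ← hN', ← hΨmul, ← hΨmul]
      have hcI : c' I = I ∨ c' I = -I := by
        have hmem : Ψ (c' I) ∈ K := by
          rw [← hval gI I hgI, Units.val_mul, Units.val_mul, hgI, hΨI]
          exact (hg.1 J).mp j.2
        rcases hroot _ hmem (by rw [← hΨmul, ← cmul, hI2, cneg, cone, hΨneg, hΨone]) with h | h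
        · exact Or.inl (hΨinj (h.trans hΨI.symm))
        · exact Or.inr (hΨinj (by rw [h, hΨneg, hΨI]))
      have cAI : ∀ X, X * I = I * X → c' X * I = I * c' X := fun X hX => by
        have h := congrArg c' hX
        rw [cmul, cmul] at h
        rcases hcI with e | e <;> rw [e] at h
        · exact h
        · simpa using h
      have hQ : ∀ X, X * I = I * X → Xᵀ * G * X = G → X * X = -1 → c' X * I = I * c' X ∧
          (c' X = I ∨ c' X = -I ∨ c' X = A ∨ c' X = -A ∨ c' X = B ∨ c' X = -B ∨ c' X = A * B ∨ c' X = -(A * B)) :=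
        fun X h1 h2 h3' => ⟨cAI X h1, mem_quaternion (cAI X h1) (ciso X h2)
          (by rw [← cmul, h3', cneg, cone])⟩
      have hqA := (hQ A rAI hAiso hA2).2
      have hqB := (hQ B rBI hBiso hB2).2
      intro r hr
      rcases hr with e | e | e | e <;> rw [e]
      · exact toR _ _ (hval gI I hgI) (hcI.elim Or.inl fun h => Or.inr (Or.inl h))
      · exact toR _ _ (hval gA A hgA) (o8 hqA)
      · exact toR _ _ (hval gB B hgB) (o8 hqB)
      · refine toR _ _ (hval gT T hgT) ?_
        -- the images of the quaternion generators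
        have cinv : ∀ X, (∃ X₀, X₀ ∈ ({A, B} : Set M4) ∧ c' X₀ = X) → c' T * X = X * c' T := by
          rintro X ⟨X₀, hX₀, rfl⟩
          rw [← cmul, ← cmul]
          rcases hX₀ with rfl | rfl
          · rw [rTA]
          · rw [rTB]
        have hTI : c' T * I = -(I * c' T) := by
          have h := congrArg c' rTI
          rw [cmul, cneg, cmul] at h
          rcases hcI with e | e <;> rw [e] at h
          · exact h
          · simpa [neg_eq_iff_eq_neg] using h
        have hcA := cinv _ ⟨A, Or.inl rfl, rfl⟩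
        have hcB := cinv _ ⟨B, Or.inr rfl, rfl⟩
        have hBA : c' B * c' A = -(c' A * c' B) := by rw [← cmul, rBA, cneg, cmul]
        have hinjc : Function.Injective c' := fun U V e => by
          have h' := congrArg (fun X => N' * X * N) e
          simp only [c', mul_assoc, hN'N, mul_one] at h'
          rwa [← mul_assoc N' N, hN'N, one_mul, ← mul_assoc N' N, hN'N, one_mul] at h'
        have hnI : ∀ X, c' X = I ∨ c' X = -I → (X = I ∨ X = -I) := fun X h => by
          rcases hcI with e | e <;> rcases h with h | h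
          · exact Or.inl (hinjc (h.trans e.symm))
          · exact Or.inr (hinjc (by rw [h, cneg, e]))
          · exact Or.inr (hinjc (by rw [h, cneg, e, neg_neg]))
          · exact Or.inl (hinjc (h.trans e.symm))
        have hA6 : c' A ∈ six A B := by
          rcases hqA with h | h | h
          · rcases hnI A (Or.inl h) with e | e <;> exact absurd e (by decide +kernel)
          · rcases hnI A (Or.inr h) with e | e <;> exact absurd e (by decide +kernel)
          · simpa [six] using h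
        have hB6 : c' B ∈ six A B := by
          rcases hqB with h | h | h
          · rcases hnI B (Or.inl h) with e | e <;> exact absurd e (by decide +kernel)
          · rcases hnI B (Or.inr h) with e | e <;> exact absurd e (by decide +kernel)
          · simpa [six] using h
        obtain ⟨gA', gB'⟩ := generators _ hA6 _ hB6 hBA
        have hcom : ∀ X ∈ six (c' A) (c' B), c' T * X = X * c' T := by
          intro X hX
          simp only [six, List.mem_cons, List.not_mem_nil, or_false] at hX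
          rcases hX with rfl | rfl | rfl | rfl | rfl | rfl
          · exact hcA
          · simp [hcA]
          · exact hcB
          · simp [hcB]
          · exact (show Commute (c' T) (c' A) from hcA).mul_right (show Commute (c' T) (c' B) from hcB)
          · exact ((show Commute (c' T) (c' A) from hcA).mul_right (show Commute (c' T) (c' B) from hcB)).neg_right
        have hboth : c' T * A = A * c' T ∧ c' T * B = B * c' T := ⟨hcom _ gA', hcom _ gB'⟩
        exact o4 (mem_semilinear hTI hboth.1 hboth.2 (by rw [← cmul, hT2, cone]))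
    intro r hr
    induction hr using Subgroup.closure_induction with
    | mem r hr => exact hgen r hr
    | one => simp
    | mul a b _ _ ha hb' => rw [show g * (a * b) * g⁻¹ = g * a * g⁻¹ * (g * b * g⁻¹) by group]; exact mul_mem ha hb'
    | inv a _ ha => rw [show g * a⁻¹ * g⁻¹ = (g * a * g⁻¹)⁻¹ by group]; exact inv_mem ha
  have hnorm : ∀ g : GL ι F, (∀ r ∈ R, g * r * g⁻¹ ∈ R) → g ∈ subgroupNormalizer R := fun g hg => by
    have hle : R.map (MulAut.conj g).toMonoidHom ≤ R := by
      rintro _ ⟨r, hr, rfl⟩; exact hg r hr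
    have heq : R.map (MulAut.conj g).toMonoidHom = R :=
      Subgroup.eq_of_le_of_card_ge hle (by rw [Subgroup.card_map_of_injective (MulAut.conj g).injective])
    refine Subgroup.mem_normalizer_iff.mpr fun r => ⟨hg r, fun h => ?_⟩
    obtain ⟨r', hr', he⟩ := heq.ge h
    have : r' = r := (MulAut.conj g).injective he
    exact this ▸ hr'
  have hWmem : gW ∈ subgroupNormalizer R ⊓ isoOf f := by
    refine ⟨hnorm gW fun r hr => ?_, (hΨiso _ _ hgW).2 hWiso⟩
    have hval : ∀ (r : GL ι F) X, (r : Matrix ι ι F) = Ψ X → ((gW * r * gW⁻¹ : GL ι F) : Matrix ι ι F) = Ψ (W * X * W') :=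
      fun r X hr => by
        have : ((gW⁻¹ : GL ι F) : Matrix ι ι F) = Ψ W' :=
          Units.inv_eq_of_mul_eq_one_right (by rw [hgW, ← hΨmul, hWW, hΨone])
        rw [Units.val_mul, Units.val_mul, hr, hgW, this, ← hΨmul, ← hΨmul]
    have mk : ∀ x y : GL ι F, (x : Matrix ι ι F) = (y : Matrix ι ι F) → y ∈ R → x ∈ R := fun x y e h => by
      rw [Units.ext e]; exact h
    induction hr using Subgroup.closure_induction with
    | mem r hr =>
      rcases hr with e | e | e | e <;> rw [e]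
      · exact mk _ (gA * gT * gI) (by rw [hval _ _ hgI, cI, Units.val_mul, Units.val_mul, hgA, hgT, hgI, ← hΨmul, ← hΨmul]) (mul_mem (mul_mem mA mT) mI)
      · exact mk _ (gB * gT) (by rw [hval _ _ hgA, cA, Units.val_mul, hgB, hgT, ← hΨmul]) (mul_mem mB mT)
      · exact mk _ (gA * gB * gT) (by rw [hval _ _ hgB, cB, Units.val_mul, Units.val_mul, hgA, hgB, hgT, ← hΨmul, ← hΨmul]) (mul_mem (mul_mem mA mB) mT)
      · exact mk _ (gT) (by rw [hval _ _ hgT, cT, hgT]) (mT)
    | one => simp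
    | mul a b _ _ ha hb' => rw [show gW * (a * b) * gW⁻¹ = gW * a * gW⁻¹ * (gW * b * gW⁻¹) by group]; exact mul_mem ha hb'
    | inv a _ ha => rw [show gW * a⁻¹ * gW⁻¹ = (gW * a * gW⁻¹)⁻¹ by group]; exact inv_mem ha
  refine ⟨subgroupNormalizer R ⊓ isoOf f, lt_of_le_of_ne (fun g hg => ⟨hnorm g (hconj g hg), hg.2⟩) fun heq => ?_,
    lt_of_le_of_ne inf_le_right fun heq => ?_⟩
  · rw [← heq] at hWmem
    have h := (hWmem.1 J).mp j.2
    have hinv : ((gW⁻¹ : GL ι F) : Matrix ι ι F) = Ψ W' :=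
      Units.inv_eq_of_mul_eq_one_right (by rw [hgW, ← hΨmul, hWW, hΨone])
    rw [hgW, hinv, ← hΨI, ← hΨmul, ← hΨmul, cI] at h
    rcases hroot _ h (by
      rw [← hΨmul, show A * T * I * (A * T * I) = -1 by decide +kernel, hΨneg, hΨone]) with e | e
    · exact neI (hΨinj (e.trans hΨI.symm))
    · exact neI' (hΨinj (by rw [e, hΨneg, hΨI]))
  · have h2 : (2 : ℕ) ≠ 3 := by norm_num
    have : Fact (Nat.Prime 2) := ⟨Nat.prime_two⟩
    refine (spTvSys hf).not_le_normalizer (by omega) hdich h2 hpg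
      (norms_isoOf (hRiso.trans fun g hg => ⟨1, fun u v => by rw [Units.val_one, one_mul]; exact hg u v⟩))
      (fun hle => ?_) (heq.symm.le.trans inf_le_left)
    obtain ⟨a, ha⟩ := mem_scalars_iff_isScalarMat.mp (hle mI)
    exact hJns a (by rw [← hΨI, ← hgI, ha])

end CfsgLib.Asch.SpFour
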