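import Cfsg.Agent.Lib.Aschbacher.SpList
import Cfsg.Agent.Lib.Aschbacher.FormKron

/-!
# A symplectic plane tensored with a four-space of plus type lies in a tensor cube
-/

set_option autoImplicit false

namespace CfsgLib.Asch

open Matrix Kronecker Cfsg.Geo CfsgLib.ClassicalMax CfsgLib.ClassicalMax.Tensor
open scoped MatrixGroups

namespace PlusTensor

variable {F : Type*} [Field F]

/-- the alternating matrix of size two -/
def J2 : Matrix (Fin 2) (Fin 2) F := !![0, 1; -1, 0]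

/-- the polar form of the determinant -/
def detPolar (X Y : Matrix (Fin 2) (Fin 2) F) : F := X 0 0 * Y 1 1 + X 1 1 * Y 0 0 - X 0 1 * Y 1 0 - X 1 0 * Y 0 1

/-- the area of two vectors -/
def area (x y : Fin 2 → F) : F := x 0 * y 1 - x 1 * y 0

lemma detPolar_outer (x y x' y' : Fin 2 → F) :
    detPolar (vecMulVec x y) (vecMulVec x' y') = area x x' * area y y' := by
  simp only [detPolar, area, vecMulVec_apply]; ring

lemma area_smul {x x' u : Fin 2 → F} (hD : area x x' ≠ 0) (h : area x u = 0) :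
    u = (area u x' / area x x') • x := by
  funext i
  rw [Pi.smul_apply, smul_eq_mul, div_mul_eq_mul_div, eq_div_iff hD]
  simp only [area] at h ⊢
  fin_cases i
  · show u 0 * _ = _ * x 0
    linear_combination x' 0 * h
  · show u 1 * _ = _ * x 1
    linear_combination x' 1 * h

lemma area_smul' {x x' u : Fin 2 → F} (hD : area x x' ≠ 0) (h : area x' u = 0) :
    u = (area x u / area x x') • x' := by
  funext i
  rw [Pi.smul_apply, smul_eq_mul, div_mul_eq_mul_div, eq_div_iff hD]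
  simp only [area] at h ⊢
  fin_cases i
  · show u 0 * _ = _ * x' 0
    linear_combination -(x 0) * h
  · show u 1 * _ = _ * x' 1
    linear_combination -(x 1) * h

lemma exists_outer {X : Matrix (Fin 2) (Fin 2) F} (hd : X 0 0 * X 1 1 - X 0 1 * X 1 0 = 0) :
    ∃ x y, X = vecMulVec x y := by
  by_cases h00 : X 0 0 = 0
  · rw [h00, zero_mul, zero_sub, neg_eq_zero, mul_eq_zero] at hd
    rcases hd with h01 | h10
    · refine ⟨![0, 1], ![X 1 0, X 1 1], ?_⟩
      ext i j; fin_cases i <;> fin_cases j <;> simp [vecMulVec_apply, h00, h01]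
    · refine ⟨![X 0 1, X 1 1], ![0, 1], ?_⟩
      ext i j; fin_cases i <;> fin_cases j <;> simp [vecMulVec_apply, h00, h10]
  · refine ⟨![1, X 1 0 / X 0 0], ![X 0 0, X 0 1], ?_⟩
    ext i j; fin_cases i <;> fin_cases j <;> simp [vecMulVec_apply]
    · rw [div_mul_cancel₀ _ h00]
    · field_simp
      linear_combination hd

/-- linear similitudes of the determinant act factorwise, possibly after transposing -/
lemma preserver (h2 : (2 : F) ≠ 0) (M : Fin 2 → Fin 2 → Matrix (Fin 2) (Fin 2) F) {μ : F} (hμ : μ ≠ 0)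
    (h : ∀ k l k' l', detPolar (M k l) (M k' l') = μ * (J2 k k' * J2 l l')) :
    ∃ A C : GL (Fin 2) F, (∀ i j k l, M k l i j = A i k * C j l) ∨ (∀ i j k l, M k l i j = A i l * C j k) := by
  have houter : ∀ k l, ∃ x y, M k l = vecMulVec x y := fun k l => by
    refine exists_outer (mul_left_cancel₀ h2 ?_)
    have := h k l k l
    rw [show (J2 k k * J2 l l : F) = 0 by fin_cases k <;> fin_cases l <;> simp [J2]] at this
    simp only [detPolar] at this
    linear_combination this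
  choose X Y hXY using houter
  have h' : ∀ k l k' l', area (X k l) (X k' l') * area (Y k l) (Y k' l') = μ * (J2 k k' * J2 l l') :=
    fun k l k' l' => by rw [← detPolar_outer, ← hXY, ← hXY, h]
  have hdiag : area (X 0 0) (X 1 1) * area (Y 0 0) (Y 1 1) = μ := by simpa [J2] using h' 0 0 1 1
  set x := X 0 0
  set x' := X 1 1
  set y := Y 0 0
  set y' := Y 1 1
  have hx : area x x' ≠ 0 := fun e => hμ (by rw [← hdiag, e, zero_mul])
  have hy : area y y' ≠ 0 := fun e => hμ (by rw [← hdiag, e, mul_zero])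
  have hne : ∀ k l, M k l ≠ 0 := fun k l e => by
    have hJ : ∀ a : Fin 2, ∃ a' : Fin 2, (J2 a a' : F) ≠ 0 := fun a => by
      fin_cases a
      exacts [⟨1, by simp [J2]⟩, ⟨0, by simp [J2]⟩]
    obtain ⟨k', hk⟩ := hJ k
    obtain ⟨l', hl⟩ := hJ l
    have := h k l k' l'
    rw [e] at this
    simp [detPolar, hμ, hk, hl] at this
  have hoff : ∀ k l, k ≠ l → (∃ c : F, M k l = c • vecMulVec x y') ∨ (∃ c : F, M k l = c • vecMulVec x' y) := by
    intro k l hkl
    have h1 : area x (X k l) * area y (Y k l) = 0 := by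
      rw [h' 0 0 k l]; fin_cases k <;> fin_cases l <;> simp [J2] at hkl ⊢
    have h3 : area x' (X k l) * area y' (Y k l) = 0 := by
      rw [h' 1 1 k l]; fin_cases k <;> fin_cases l <;> simp [J2] at hkl ⊢
    rcases mul_eq_zero.mp h1 with a | a <;> rcases mul_eq_zero.mp h3 with b | b
    · exfalso
      refine hne k l ?_
      have e1 := area_smul hx a
      have e2 : area x (X k l) = 0 := a
      rw [hXY, area_smul' hx b, e2, zero_div, zero_smul]
      simp
    · refine Or.inl ⟨area (X k l) x' / area x x' * (area y (Y k l) / area y y'), ?_⟩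
      rw [hXY]
      conv_lhs => rw [area_smul hx a, area_smul' hy b]
      rw [smul_vecMulVec, vecMulVec_smul, smul_smul]
    · refine Or.inr ⟨area x (X k l) / area x x' * (area (Y k l) y' / area y y'), ?_⟩
      rw [hXY]
      conv_lhs => rw [area_smul' hx b, area_smul hy a]
      rw [smul_vecMulVec, vecMulVec_smul, smul_smul]
    · exfalso
      refine hne k l ?_
      rw [hXY, area_smul' hy b, a, zero_div, zero_smul]
      simp
  have h01 := h 0 1 1 0
  simp only [J2, Matrix.cons_val', Matrix.cons_val_zero, Matrix.cons_val_one, Matrix.empty_val',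
    Matrix.cons_val_fin_one, Matrix.of_apply] at h01
  have mk : ∀ (a b : Fin 2 → F), area a b ≠ 0 → ∃ A : GL (Fin 2) F, ∀ i k, A i k = ![a, b] k i := by
    intro a b hab
    refine ⟨GeneralLinearGroup.mkOfDetNeZero (Matrix.of fun i k => ![a, b] k i) ?_, fun i k => rfl⟩
    rw [det_fin_two]
    simpa [area, mul_comm] using hab
  rcases hoff 0 1 (by decide) with ⟨c, hc⟩ | ⟨c, hc⟩ <;> rcases hoff 1 0 (by decide) with ⟨d, hd⟩ | ⟨d, hd⟩
  · exfalso
    rw [hc, hd] at h01
    simp [detPolar, vecMulVec_apply] at h01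
    exact hμ (by linear_combination h01)
  · have hcd : c * d = 1 := by
      rw [hc, hd] at h01
      simp only [area] at hdiag
      simp [detPolar, vecMulVec_apply] at h01
      refine mul_right_cancel₀ hμ ?_
      conv_lhs => rw [← hdiag]
      linear_combination -h01
    obtain ⟨A, hA⟩ := mk x (d • x') (by
      simp only [area, Pi.smul_apply, smul_eq_mul] at hx ⊢
      rw [show x 0 * (d * x' 1) - x 1 * (d * x' 0) = d * (x 0 * x' 1 - x 1 * x' 0) by ring]
      exact mul_ne_zero (right_ne_zero_of_mul_eq_one hcd) hx)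
    obtain ⟨C, hC⟩ := mk y (c • y') (by
      simp only [area, Pi.smul_apply, smul_eq_mul] at hy ⊢
      rw [show y 0 * (c * y' 1) - y 1 * (c * y' 0) = c * (y 0 * y' 1 - y 1 * y' 0) by ring]
      exact mul_ne_zero (left_ne_zero_of_mul_eq_one hcd) hy)
    refine ⟨A, C, Or.inl fun i j k l => ?_⟩
    rw [hA, hC]
    fin_cases k <;> fin_cases l <;> simp [hc, hd, hXY 0 0, hXY 1 1, vecMulVec_apply, x, x', y, y'] <;>
      first | linear_combination (0 : F) | linear_combination -(X 1 1 i * Y 1 1 j) * hcd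
  · have hcd : c * d = 1 := by
      rw [hc, hd] at h01
      simp only [area] at hdiag
      simp [detPolar, vecMulVec_apply] at h01
      refine mul_right_cancel₀ hμ ?_
      conv_lhs => rw [← hdiag]
      linear_combination -h01
    obtain ⟨A, hA⟩ := mk x (c • x') (by
      simp only [area, Pi.smul_apply, smul_eq_mul] at hx ⊢
      rw [show x 0 * (c * x' 1) - x 1 * (c * x' 0) = c * (x 0 * x' 1 - x 1 * x' 0) by ring]
      exact mul_ne_zero (left_ne_zero_of_mul_eq_one hcd) hx)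
    obtain ⟨C, hC⟩ := mk y (d • y') (by
      simp only [area, Pi.smul_apply, smul_eq_mul] at hy ⊢
      rw [show y 0 * (d * y' 1) - y 1 * (d * y' 0) = d * (y 0 * y' 1 - y 1 * y' 0) by ring]
      exact mul_ne_zero (right_ne_zero_of_mul_eq_one hcd) hy)
    refine ⟨A, C, Or.inr fun i j k l => ?_⟩
    rw [hA, hC]
    fin_cases k <;> fin_cases l <;> simp [hc, hd, hXY 0 0, hXY 1 1, vecMulVec_apply, x, x', y, y'] <;>
      first | linear_combination (0 : F) | linear_combination -(X 1 1 i * Y 1 1 j) * hcd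
  · exfalso
    rw [hc, hd] at h01
    simp [detPolar, vecMulVec_apply] at h01
    exact hμ (by linear_combination h01)

/-- the pairs of indices as four indices -/
def η : Fin 4 ≃ Fin 2 × Fin 2 := (finProdFinEquiv (m := 2) (n := 2)).symm

/-- the hyperbolic matrix of size four -/
def hyp : Matrix (Fin 4) (Fin 4) F := (J2 ⊗ₖ J2).submatrix η η

/-- the three indices -/
def ε3 : Fin 2 × Fin 4 ≃ (Fin 3 → Fin 2) where
  toFun p := ![p.1, (η p.2).1, (η p.2).2]
  invFun x := (x 0, η.symm (x 1, x 2))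
  left_inv p := by simp
  right_inv x := by funext i; fin_cases i <;> simp

variable [Fintype F]

/-- a plus-type four-space has a hyperbolic basis -/
lemma exists_basis (h2 : (2 : F) ≠ 0) {f₂ : (Fin 4 → F) → (Fin 4 → F) → F} (hf : IsSymmetricForm f₂)
    (hplus : IsPlusTypeOn (fun v : Fin 4 → F => f₂ v v) ⊤) :
    ∃ B : GL (Fin 4) F, (B : Matrix (Fin 4) (Fin 4) F)ᵀ * gramMatrix f₂ * (B : Matrix (Fin 4) (Fin 4) F) = hyp := by
  classical
  obtain ⟨U, -, hU, hdim⟩ := hplus
  rw [finrank_top, Module.finrank_fintype_fun_eq_card, Fintype.card_fin] at hdim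
  have hb := hf.bilinear
  let b := Module.finBasisOfFinrankEq F U (show Module.finrank F U = 2 by omega)
  set L := bilinOf hb with hL
  have hUU : ∀ u ∈ U, ∀ v ∈ U, f₂ u v = 0 := fun u hu v hv => by
    have h : f₂ (u + v) (u + v) = 0 := hU _ (add_mem hu hv)
    have hu0 : f₂ u u = 0 := hU u hu
    have hv0 : f₂ v v = 0 := hU v hv
    rw [hb.add_left, hb.add_right, hb.add_right, hu0, hv0, hf.symm v u] at h
    exact (mul_eq_zero.mp (show (2 : F) * f₂ u v = 0 by linear_combination h)).resolve_left h2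
  let T : (Fin 4 → F) →ₗ[F] (Fin 2 → F) := LinearMap.pi fun i => L (b i : Fin 4 → F)
  have hT : Function.Surjective T := by
    rw [← LinearMap.range_eq_top]
    refine Submodule.eq_top_of_finrank_eq ?_
    have h1 := T.finrank_range_add_finrank_ker
    have h2' := Submodule.finrank_le (LinearMap.range T)
    rw [Module.finrank_fintype_fun_eq_card, Fintype.card_fin] at h1
    rw [Module.finrank_fintype_fun_eq_card, Fintype.card_fin] at h2' ⊢
    by_contra hne
    obtain ⟨φ, hφ0, hφ⟩ := Submodule.exists_dual_map_eq_bot_of_lt_top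
      (lt_top_iff_ne_top.mpr (fun h => hne (by rw [h, finrank_top, Module.finrank_fintype_fun_eq_card, Fintype.card_fin]))
        : LinearMap.range T < ⊤) inferInstance
    let w : U := ∑ i, φ (Pi.single i 1) • b i
    have hw : ∀ v, f₂ (w : Fin 4 → F) v = φ (T v) := fun v => by
      rw [← bilinOf_apply hb]
      conv_rhs => rw [pi_eq_sum_univ (T v)]
      simp only [w, Submodule.coe_sum, Submodule.coe_smul, map_sum, map_smul, LinearMap.sum_apply,
        LinearMap.smul_apply, smul_eq_mul]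
      refine Finset.sum_congr rfl fun i _ => ?_
      rw [show (Pi.single i 1 : Fin 2 → F) = fun j => if i = j then 1 else 0 from funext fun j => by
        simp [Pi.single_apply, eq_comm], mul_comm]
      rfl
    have hw0 : (w : Fin 4 → F) = 0 := by
      by_contra hw0
      obtain ⟨-, v, hv⟩ := hf.nondegenerate _ hw0
      exact hv (by rw [hw]; exact (Submodule.mem_bot F).mp (hφ ▸ Submodule.mem_map_of_mem (LinearMap.mem_range_self T v)))
    have := Fintype.linearIndependent_iff.mp b.linearIndependent _ (Subtype.ext hw0 : w = 0)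
    exact hφ0 (LinearMap.ext fun y => by
      rw [pi_eq_sum_univ y, map_sum, LinearMap.zero_apply]
      refine Finset.sum_eq_zero fun i _ => ?_
      rw [map_smul, show (fun j => if i = j then (1 : F) else 0) = Pi.single i 1 from funext fun j => by
        simp [Pi.single_apply, eq_comm], this i, smul_zero])
  obtain ⟨g0, hg0⟩ := hT (Pi.single 0 1)
  obtain ⟨g1, hg1⟩ := hT (Pi.single 1 1)
  set e0 : Fin 4 → F := (b 0 : U).1
  set e1 : Fin 4 → F := (b 1 : U).1
  have he00 : f₂ e0 e0 = 0 := hUU _ (b 0).2 _ (b 0).2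
  have he11 : f₂ e1 e1 = 0 := hUU _ (b 1).2 _ (b 1).2
  have he01 : f₂ e0 e1 = 0 := hUU _ (b 0).2 _ (b 1).2
  have he10 : f₂ e1 e0 = 0 := hUU _ (b 1).2 _ (b 0).2
  have a00 : f₂ e0 g0 = 1 := by simpa [T, L] using congrFun hg0 0
  have a10 : f₂ e1 g0 = 0 := by simpa [T, L] using congrFun hg0 1
  have a01 : f₂ e0 g1 = 0 := by simpa [T, L] using congrFun hg1 0
  have a11 : f₂ e1 g1 = 1 := by simpa [T, L] using congrFun hg1 1
  have b00 : f₂ g0 e0 = 1 := by rw [hf.symm, a00]
  have b01 : f₂ g0 e1 = 0 := by rw [hf.symm, a10]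
  have b10 : f₂ g1 e0 = 0 := by rw [hf.symm, a01]
  have b11 : f₂ g1 e1 = 1 := by rw [hf.symm, a11]
  set p0 := g0 + (-(f₂ g0 g0 / 2)) • e0 with hp0
  set p1 := g1 + (-(f₂ g1 g1 / 2)) • e1 + (-(f₂ g0 g1)) • e0 with hp1
  have hg10 : f₂ g1 g0 = f₂ g0 g1 := hf.symm _ _
  let col : Fin 2 × Fin 2 → Fin 4 → F := fun p =>
    if p = (0, 0) then e0 else if p = (1, 1) then p0 else if p = (0, 1) then e1 else -p1
  let Bm : Matrix (Fin 4) (Fin 4) F := Matrix.of fun i j => col (η j) i
  have hgram : Bmᵀ * gramMatrix f₂ * Bm = hyp := by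
    ext i j
    have hij : (Bmᵀ * gramMatrix f₂ * Bm) i j = f₂ (col (η i)) (col (η j)) := by
      rw [← formOfGram_gram (σ := id) hb.add_left hb.smul_left hb.add_right hb.smul_right]
      simp only [formOfGram, id, Matrix.mul_apply, Bm, transpose_apply, Matrix.of_apply, Finset.sum_mul]
      rw [Finset.sum_comm]
    rw [hij, hyp, submatrix_apply, kroneckerMap_apply]
    generalize η i = a
    generalize η j = a'
    have hneg : ∀ u v : Fin 4 → F, f₂ (-u) v = -f₂ u v ∧ f₂ u (-v) = -f₂ u v := fun u v => by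
      constructor
      · rw [← neg_one_smul F u, hb.smul_left]; ring
      · rw [← neg_one_smul F v, hb.smul_right]; ring
    obtain ⟨i1, i2⟩ := a
    obtain ⟨j1, j2⟩ := a'
    fin_cases i1 <;> fin_cases i2 <;> fin_cases j1 <;> fin_cases j2 <;>
      simp only [col, J2, Fin.zero_eta, Fin.mk_one, Prod.mk.injEq, Fin.isValue, zero_ne_one, one_ne_zero,
        and_self, and_true, true_and, and_false, false_and, if_true, if_false, Matrix.of_apply,
        Matrix.cons_val', Matrix.cons_val_zero, Matrix.cons_val_one, Matrix.empty_val',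
        Matrix.cons_val_fin_one, hp0, hp1, (hneg _ _).1, (hneg _ _).2, hb.add_left, hb.add_right,
        hb.smul_left, hb.smul_right, he00, he01, he10, he11, a00, a01, a10, a11, b00, b01, b10, b11, hg10] <;>
      field_simp <;> ring
  have hdet : Bm.det ≠ 0 := fun h0 => by
    have hh : (hyp : Matrix (Fin 4) (Fin 4) F).det = 1 := by
      rw [hyp, det_submatrix_equiv_self, det_kronecker]
      simp [J2, det_fin_two]
    rw [← hgram, det_mul, h0, mul_zero] at hh
    exact zero_ne_one hh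
  exact ⟨GeneralLinearGroup.mkOfDetNeZero Bm hdet, hgram⟩

/-- a symplectic form on a plane is a multiple of the standard one -/
lemma gram_plane {f₁ : (Fin 2 → F) → (Fin 2 → F) → F} (hf : IsSymplecticForm f₁) :
    gramMatrix f₁ = gramMatrix f₁ 0 1 • J2 := by
  have h : f₁ (Pi.single 1 1) (Pi.single 0 1) = -f₁ (Pi.single 0 1) (Pi.single 1 1) := by
    have := hf.alternating (Pi.single 0 1 + Pi.single 1 1)
    rw [hf.bilinear.add_left, hf.bilinear.add_right, hf.bilinear.add_right, hf.alternating,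
      hf.alternating, zero_add, add_zero] at this
    linear_combination this
  ext i j
  fin_cases i <;> fin_cases j <;> simp [J2, gramMatrix, hf.alternating, h]

omit [Fintype F] in
lemma formOfGram_id_eq {κ : Type} [Fintype κ] (G : Matrix κ κ F) (x y : κ → F) :
    formOfGram id G x y = x ⬝ᵥ (G *ᵥ y) := by
  simp only [formOfGram, id, dotProduct, mulVec, Finset.mul_sum, mul_assoc]

omit [Fintype F] in
lemma dot_mulVec_mulVec {κ : Type} [Fintype κ] (K G K' : Matrix κ κ F) (x y : κ → F) :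
    (K *ᵥ x) ⬝ᵥ (G *ᵥ (K' *ᵥ y)) = x ⬝ᵥ ((Kᵀ * G * K') *ᵥ y) := by
  rw [dotProduct_comm, ← dotProduct_comm (K *ᵥ x), ← mulVec_mulVec, ← mulVec_mulVec,
    dotProduct_mulVec x Kᵀ, vecMul_transpose]

/-- the stabiliser of such a tensor decomposition is not maximal -/
theorem not_maximal {ι : Type} [Fintype ι] [DecidableEq ι] (h2 : (2 : F) ≠ 0)
    {f : (ι → F) → (ι → F) → F} (hf : IsSymplecticForm f) (e : ι ≃ Fin 2 × Fin 4) (P : GL ι F)
    {f₁ : (Fin 2 → F) → (Fin 2 → F) → F} {f₂ : (Fin 4 → F) → (Fin 4 → F) → F}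
    (hf₁ : IsSymplecticForm f₁) (hf₂ : IsSymmetricForm f₂)
    (hplus : IsPlusTypeOn (fun v : Fin 4 → F => f₂ v v) ⊤) (hT : IsTensorFormStructure id f f₁ f₂ e P) :
    ∃ K : Subgroup (GL ι F), tensorProductSubgroup 2 4 e P ⊓ isoOf f < K ∧ K < isoOf f := by
  classical
  have : Nonempty ι := ⟨e.symm (0, 0)⟩
  obtain ⟨c, hc0, hc⟩ := hT
  obtain ⟨B, hB⟩ := exists_basis h2 hf₂ hplus
  set G₁ := gramMatrix f₁ with hG₁
  set α := G₁ 0 1 with hα
  have hG₁' : G₁ = α • J2 := gram_plane hf₁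
  let k : GL (Fin 2 × Fin 4) F := kronUnit 1 B
  let e' : ι ≃ (Fin 3 → Fin 2) := e.trans ε3
  let P' : GL ι F := P * glReindex e.symm k
  have hval : ∀ x : Fin 2 × Fin 4 → F,
      (P' : Matrix ι ι F) *ᵥ (x ∘ e) = (P : Matrix ι ι F) *ᵥ (((k : Matrix _ _ F) *ᵥ x) ∘ e) := fun x => by
    rw [show (P' : Matrix ι ι F) = (P : Matrix ι ι F) * (k : Matrix _ _ F).submatrix e e from rfl,
      ← mulVec_mulVec, submatrix_mulVec_equiv]
    simp [Function.comp_assoc]
  -- the form in the new coordinates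
  have hpwJ : reindex ε3 ε3 (J2 ⊗ₖ (hyp : Matrix (Fin 4) (Fin 4) F)) = pw fun _ => J2 := by
    ext x y
    simp [ε3, hyp, pw, Fin.prod_univ_three, mul_assoc]
  have hk : (k : Matrix (Fin 2 × Fin 4) (Fin 2 × Fin 4) F)ᵀ * (G₁ ⊗ₖ gramMatrix f₂) *
      (k : Matrix (Fin 2 × Fin 4) (Fin 2 × Fin 4) F) = α • (J2 ⊗ₖ hyp) := by
    rw [show (k : Matrix (Fin 2 × Fin 4) (Fin 2 × Fin 4) F) = (1 : Matrix (Fin 2) (Fin 2) F) ⊗ₖ (B : Matrix (Fin 4) (Fin 4) F) from rfl,
      transpose_kron, ← mul_kronecker_mul, ← mul_kronecker_mul, transpose_one, one_mul, mul_one, hB, hG₁',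
      smul_kronecker]
  have hnew : ∀ x y : (Fin 3 → Fin 2) → F, f ((P' : Matrix ι ι F) *ᵥ (x ∘ e')) ((P' : Matrix ι ι F) *ᵥ (y ∘ e')) =
      c * α * (x ⬝ᵥ ((pw fun _ => J2) *ᵥ y)) := by
    intro x y
    rw [show x ∘ e' = (x ∘ ε3) ∘ e from rfl, show y ∘ e' = (y ∘ ε3) ∘ e from rfl, hval, hval, hc,
      formOfGram_id_eq, dot_mulVec_mulVec, hk, smul_mulVec, dotProduct_smul, smul_eq_mul, ← hpwJ]
    rw [show reindex ε3 ε3 (J2 ⊗ₖ (hyp : Matrix (Fin 4) (Fin 4) F)) = (J2 ⊗ₖ hyp).submatrix ε3.symm ε3.symm from rfl,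
      submatrix_mulVec_equiv]
    conv_rhs => rw [← comp_equiv_dotProduct_comp_equiv x _ ε3]
    simp [Function.comp_assoc]
    ring
  have hiso : ∀ (g : GL ι F) (M : Matrix (Fin 3 → Fin 2) (Fin 3 → Fin 2) F), (g : Matrix ι ι F) = cw e' P' M →
      Mᵀ * (pw fun _ => J2) * M = pw (fun _ => J2) → g ∈ isoOf f := by
    intro g M hg hM
    refine mem_isoOf.2 fun u v => ?_
    obtain ⟨x, rfl⟩ : ∃ x : (Fin 3 → Fin 2) → F, u = (P' : Matrix ι ι F) *ᵥ (x ∘ e') :=
      ⟨(((P'⁻¹ : GL ι F) : Matrix ι ι F) *ᵥ u) ∘ e'.symm, by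
        rw [Function.comp_assoc, Equiv.symm_comp_self, Function.comp_id, mulVec_mulVec, Units.mul_inv, one_mulVec]⟩
    obtain ⟨y, rfl⟩ : ∃ y : (Fin 3 → Fin 2) → F, v = (P' : Matrix ι ι F) *ᵥ (y ∘ e') :=
      ⟨(((P'⁻¹ : GL ι F) : Matrix ι ι F) *ᵥ v) ∘ e'.symm, by
        rw [Function.comp_assoc, Equiv.symm_comp_self, Function.comp_id, mulVec_mulVec, Units.mul_inv, one_mulVec]⟩
    have hgx : ∀ z : (Fin 3 → Fin 2) → F, (g : Matrix ι ι F) *ᵥ ((P' : Matrix ι ι F) *ᵥ (z ∘ e')) =
        (P' : Matrix ι ι F) *ᵥ ((M *ᵥ z) ∘ e') := fun z => by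
      rw [hg, cw, cj, mulVec_mulVec, mul_assoc, Units.inv_mul, mul_one, ← mulVec_mulVec]
      congr 1
      rw [show Matrix.reindexAlgEquiv F F e'.symm M = M.submatrix e' e' from rfl, submatrix_mulVec_equiv,
        Function.comp_assoc, Equiv.self_comp_symm, Function.comp_id]
    rw [hgx, hgx, hnew, hnew, dot_mulVec_mulVec, hM]
  -- elements of the tensor group, in the new coordinates
  have hmem : ∀ g ∈ tensorProductSubgroup 2 4 e P, ∃ (a : GL (Fin 2) F) (b : GL (Fin 4) F),
      (∀ x y, (g : Matrix ι ι F) *ᵥ pureL e P x y = pureL e P ((a : Matrix (Fin 2) (Fin 2) F) *ᵥ x) ((b : Matrix (Fin 4) (Fin 4) F) *ᵥ y)) ∧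
      (g : Matrix ι ι F) = cw e' P' (reindex ε3 ε3 ((a : Matrix (Fin 2) (Fin 2) F) ⊗ₖ
        (((B⁻¹ : GL (Fin 4) F) : Matrix (Fin 4) (Fin 4) F) * (b : Matrix (Fin 4) (Fin 4) F) * (B : Matrix (Fin 4) (Fin 4) F)))) := by
    intro g hg
    obtain ⟨y, ⟨k₀, hk₀, rfl⟩, rfl⟩ := hg
    obtain ⟨a, b, hab⟩ := hk₀
    refine ⟨a, b, fun x w => ?_, ?_⟩
    · have hmem' : P * glReindex e.symm k₀ * P⁻¹ ∈ tensorProductSubgroup 2 4 e P :=
        ⟨_, ⟨k₀, ⟨a, b, hab⟩, rfl⟩, rfl⟩
      change ((P * glReindex e.symm k₀ * P⁻¹ : GL ι F) : Matrix ι ι F) *ᵥ _ = _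
      rw [pureL_eq, pureL_eq, gl_mulVec_mul, gl_mulVec_mul, gl_inv_mulVec_mulVec,
        show (glReindex e.symm k₀ : Matrix ι ι F) = (k₀ : Matrix _ _ F).submatrix e e from rfl,
        submatrix_mulVec_equiv, Function.comp_assoc, Equiv.self_comp_symm, Function.comp_id, hab]
      congr 2
      funext s
      simp only [mulVec, dotProduct, Fintype.sum_prod_type, kroneckerMap_apply, Finset.sum_mul_sum]
      exact Finset.sum_congr rfl fun i _ => Finset.sum_congr rfl fun j _ => by ring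
    · have h1 : Matrix.reindexAlgEquiv F F e'.symm (reindex ε3 ε3 ((a : Matrix (Fin 2) (Fin 2) F) ⊗ₖ
          (((B⁻¹ : GL (Fin 4) F) : Matrix (Fin 4) (Fin 4) F) * (b : Matrix (Fin 4) (Fin 4) F) * (B : Matrix (Fin 4) (Fin 4) F)))) =
          Matrix.reindexAlgEquiv F F e.symm ((a : Matrix (Fin 2) (Fin 2) F) ⊗ₖ (((B⁻¹ : GL (Fin 4) F) : Matrix (Fin 4) (Fin 4) F) * (b : Matrix (Fin 4) (Fin 4) F) * (B : Matrix (Fin 4) (Fin 4) F))) := by
        ext i j; simp [e']
      rw [cw, h1, show P' = P * glReindex e.symm k from rfl, ← cj_cj]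
      refine congrArg (cj P) ?_
      rw [cj, show (glReindex e.symm k : Matrix ι ι F) = Matrix.reindexAlgEquiv F F e.symm (k : Matrix _ _ F) from rfl,
        ← map_inv (glReindex e.symm),
        show (glReindex e.symm k⁻¹ : Matrix ι ι F) = Matrix.reindexAlgEquiv F F e.symm ((k⁻¹ : GL _ F) : Matrix _ _ F) from rfl,
        ← map_mul, ← map_mul]
      refine congrArg (Matrix.reindexAlgEquiv F F e.symm) ?_
      rw [hab, show (k : Matrix (Fin 2 × Fin 4) (Fin 2 × Fin 4) F) = (1 : Matrix (Fin 2) (Fin 2) F) ⊗ₖ (B : Matrix (Fin 4) (Fin 4) F) from rfl,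
        show ((k⁻¹ : GL _ F) : Matrix (Fin 2 × Fin 4) (Fin 2 × Fin 4) F) = ((1⁻¹ : GL (Fin 2) F) : Matrix (Fin 2) (Fin 2) F) ⊗ₖ ((B⁻¹ : GL (Fin 4) F) : Matrix (Fin 4) (Fin 4) F) from rfl,
        inv_one, Units.val_one, ← mul_kronecker_mul, ← mul_kronecker_mul, one_mul, mul_one, ← mul_assoc,
        ← mul_assoc, Units.mul_inv, one_mul, mul_assoc, Units.mul_inv, mul_one]
  let σ : Equiv.Perm (Fin 3) := Equiv.swap 0 1
  let g₀ : GL ι F := P' * glReindex e'.symm (permUnit σ) * P'⁻¹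
  have hg₀ : (g₀ : Matrix ι ι F) = cw e' P' (permMat σ) := rfl
  refine ⟨tensorWreathSubgroup 2 3 e' P' ⊓ isoOf f, lt_of_le_of_ne ?_ ?_, lt_of_le_of_ne inf_le_right ?_⟩
  · intro g hg
    refine ⟨?_, hg.2⟩
    obtain ⟨a, b, hab, hgm⟩ := hmem g hg.1
    set b' : Matrix (Fin 4) (Fin 4) F := ((B⁻¹ : GL (Fin 4) F) : Matrix (Fin 4) (Fin 4) F) * (b : Matrix (Fin 4) (Fin 4) F) * (B : Matrix (Fin 4) (Fin 4) F) with hb'
    have hform := form_pureL e P (σ := id) (fun _ _ => rfl) hc
      (formOfGram_gram hf₁.bilinear.add_left hf₁.bilinear.smul_left hf₁.bilinear.add_right hf₁.bilinear.smul_right)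
      (formOfGram_gram hf₂.bilinear.add_left hf₂.bilinear.smul_left hf₂.bilinear.add_right hf₂.bilinear.smul_right)
    let u0 : Fin 2 → F := Pi.single 0 1
    obtain ⟨-, u1, hu⟩ := hf₁.nondegenerate u0 (by simp [u0])
    have hgf : ∀ x y, f₁ ((a : Matrix (Fin 2) (Fin 2) F) *ᵥ u0) ((a : Matrix (Fin 2) (Fin 2) F) *ᵥ u1) *
        f₂ ((b : Matrix (Fin 4) (Fin 4) F) *ᵥ x) ((b : Matrix (Fin 4) (Fin 4) F) *ᵥ y) = f₁ u0 u1 * f₂ x y := by
      intro x y
      have := mem_isoOf.1 hg.2 (pureL e P u0 x) (pureL e P u1 y)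
      rw [hab, hab, hform, hform] at this
      exact mul_left_cancel₀ hc0 this
    set A0 := f₁ ((a : Matrix (Fin 2) (Fin 2) F) *ᵥ u0) ((a : Matrix (Fin 2) (Fin 2) F) *ᵥ u1)
    have hA0 : A0 ≠ 0 := fun h0 => by
      let w : Fin 4 → F := Pi.single 0 1
      obtain ⟨-, z, hz⟩ := hf₂.nondegenerate w (by simp [w])
      have := hgf w z
      rw [h0, zero_mul] at this
      exact mul_ne_zero hu hz this.symm
    set μ := f₁ u0 u1 / A0 with hμ
    have hb2 : (b : Matrix (Fin 4) (Fin 4) F)ᵀ * gramMatrix f₂ * (b : Matrix (Fin 4) (Fin 4) F) = μ • gramMatrix f₂ := by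
      refine Matrix.ext fun i j => ?_
      have h1 : ((b : Matrix (Fin 4) (Fin 4) F)ᵀ * gramMatrix f₂ * (b : Matrix (Fin 4) (Fin 4) F)) i j =
          f₂ ((b : Matrix (Fin 4) (Fin 4) F) *ᵥ Pi.single i 1) ((b : Matrix (Fin 4) (Fin 4) F) *ᵥ Pi.single j 1) := by
        rw [← formOfGram_gram (σ := id) hf₂.bilinear.add_left hf₂.bilinear.smul_left hf₂.bilinear.add_right
          hf₂.bilinear.smul_right, formOfGram_id_eq, dot_mulVec_mulVec]
        simp
      rw [h1, hμ, Matrix.smul_apply, smul_eq_mul, div_mul_eq_mul_div, eq_div_iff hA0,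
        show gramMatrix f₂ i j = f₂ (Pi.single i 1) (Pi.single j 1) from rfl]
      linear_combination hgf (Pi.single i 1) (Pi.single j 1)
    have hb3 : b'ᵀ * hyp * b' = μ • hyp := by
      calc b'ᵀ * hyp * b' = (B : Matrix (Fin 4) (Fin 4) F)ᵀ * ((b : Matrix (Fin 4) (Fin 4) F)ᵀ * gramMatrix f₂ * (b : Matrix (Fin 4) (Fin 4) F)) * (B : Matrix (Fin 4) (Fin 4) F) := by
            rw [← hB, hb']
            simp only [transpose_mul, mul_assoc, Units.mul_inv_cancel_left]
            have hBB : ((B⁻¹ : GL (Fin 4) F) : Matrix (Fin 4) (Fin 4) F)ᵀ * ((B : Matrix (Fin 4) (Fin 4) F)ᵀ) = 1 := by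
              rw [← transpose_mul, Units.mul_inv, transpose_one]
            simp only [← mul_assoc ((B⁻¹ : GL (Fin 4) F) : Matrix (Fin 4) (Fin 4) F)ᵀ, hBB, one_mul]
        _ = μ • hyp := by rw [hb2, Matrix.mul_smul, Matrix.smul_mul, hB]
    let M : Fin 2 → Fin 2 → Matrix (Fin 2) (Fin 2) F := fun k l =>
      Matrix.of fun i j => b' (η.symm (i, j)) (η.symm (k, l))
    obtain ⟨A, C, hAC⟩ := preserver h2 M (show μ ≠ 0 from div_ne_zero hu hA0) fun k l k' l' => by
      have h := congrFun (congrFun hb3 (η.symm (k, l))) (η.symm (k', l'))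
      rw [Matrix.smul_apply, smul_eq_mul, show hyp (η.symm (k, l)) (η.symm (k', l')) = J2 k k' * J2 l l' by
        simp [hyp]] at h
      rw [← h, Matrix.mul_apply, ← Equiv.sum_comp η.symm, Fintype.sum_prod_type]
      simp only [Matrix.mul_apply, transpose_apply, Fin.sum_univ_two]
      simp only [← Equiv.sum_comp η.symm (fun s => b' s _ * hyp s _), Fintype.sum_prod_type, Fin.sum_univ_two]
      simp [detPolar, M, hyp, J2]
      ring
    rcases hAC with hAC | hAC
    · refine mem_tensorWreathSubgroup (pwUnit_mem ![a, A, C]) (hgm.trans (congrArg _ ?_))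
      ext x y
      simp only [pwUnit, pw, Matrix.of_apply, Fin.prod_univ_three, reindex_apply, submatrix_apply, kroneckerMap_apply]
      have := hAC (x 1) (x 2) (y 1) (y 2)
      simp [M] at this
      simp [ε3, this, mul_assoc]
    · refine mem_tensorWreathSubgroup (mul_mem (pwUnit_mem ![a, A, C]) (permUnit_mem (Equiv.swap 1 2)))
        (hgm.trans (congrArg _ ?_))
      rw [Units.val_mul, show (permUnit (F := F) (m := 2) (Equiv.swap (1 : Fin 3) 2) : Matrix (Fin 3 → Fin 2) (Fin 3 → Fin 2) F) = permMat (Equiv.swap 1 2) from rfl, mul_permMat]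
      ext x y
      simp only [pwUnit, pw, Matrix.of_apply, Fin.prod_univ_three, reindex_apply, submatrix_apply, kroneckerMap_apply]
      have := hAC (x 1) (x 2) (y 1) (y 2)
      simp [M] at this
      simp [ε3, this, mul_assoc, Equiv.swap_apply_of_ne_of_ne]
  · intro heq
    have hin : g₀ ∈ tensorWreathSubgroup 2 3 e' P' ⊓ isoOf f := by
      refine ⟨mem_tensorWreathSubgroup (permUnit_mem σ) hg₀, hiso g₀ _ hg₀ ?_⟩
      rw [permMat_transpose]
      simpa using permMat_conj_pw σ⁻¹ (fun _ : Fin 3 => (J2 : Matrix (Fin 2) (Fin 2) F))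
    rw [← heq] at hin
    obtain ⟨a, b, -, hgm⟩ := hmem g₀ hin.1
    have h := cw_injective e' P' (hg₀.symm.trans hgm)
    set b' : Matrix (Fin 4) (Fin 4) F := ((B⁻¹ : GL (Fin 4) F) : Matrix (Fin 4) (Fin 4) F) * (b : Matrix (Fin 4) (Fin 4) F) * (B : Matrix (Fin 4) (Fin 4) F)
    have key : ∀ x y : Fin 3 → Fin 2, (if y = x ∘ σ then (1 : F) else 0) =
        (a : Matrix (Fin 2) (Fin 2) F) (x 0) (y 0) * b' (η.symm (x 1, x 2)) (η.symm (y 1, y 2)) := fun x y => by
      have := congrFun (congrFun h x) y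
      simpa [permMat, ε3] using this
    have h1 := key ![0, 1, 0] ![1, 0, 0]
    rw [if_pos (by decide)] at h1
    have h2 := key ![0, 0, 0] ![0, 0, 0]
    rw [if_pos (by decide)] at h2
    have h3 := key ![0, 0, 0] ![1, 0, 0]
    rw [if_neg (by decide)] at h3
    simp only [Matrix.cons_val_zero, Matrix.cons_val_one, Matrix.cons_val] at h1 h2 h3
    rcases mul_eq_zero.mp h3.symm with h4 | h4
    · rw [h4, zero_mul] at h1; exact one_ne_zero h1
    · rw [h4, mul_zero] at h2; exact one_ne_zero h2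
  · intro heq
    exact not_le_wreath_two_three (spTvSys hf) e' P' (heq.symm.le.trans inf_le_left)

end PlusTensor

end CfsgLib.Asch
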