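import Cfsg.Agent.Lib.Aschbacher.TvProper
import Cfsg.Agent.Lib.ClassicalMax.SympTools
import Cfsg.Agent.Lib.Linear.SympSimple

/-!
# None of the class stabilisers contains the symplectic group
-/

set_option autoImplicit false

namespace CfsgLib.Asch

open Matrix Cfsg.Geo CfsgLib.ClassicalMax
open scoped MatrixGroups

variable {ι : Type} [Fintype ι] [DecidableEq ι] {F : Type*} [Field F] [DecidableEq F]
  {f : (ι → F) → (ι → F) → F}

/-- the transvections of a symplectic form -/
def spTvSys (hf : IsSymplecticForm f) [Nonempty ι] : TvSys (isoOf f) where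
  T := {v | v ≠ 0}
  φ := formDual f
  C := {c | c ≠ 0}
  c₀ := 1
  c₀_mem := one_ne_zero
  c₀_ne := one_ne_zero
  mem v _ c _ := sTv_mem_isoOf hf v c
  orth v _ := by rw [formDual_dot hf.bilinear, hf.alternating]
  ne v hv := hv
  span := eq_top_iff.mpr fun x _ => by
    rcases eq_or_ne x 0 with rfl | hx
    · exact Submodule.zero_mem _
    · exact Submodule.subset_span hx
  sep x h := eq_zero_of_form_left hf.nondegenerate fun v => by
    rcases eq_or_ne v 0 with rfl | hv
    · exact form_zero_right hf.bilinear x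
    · have := h v hv
      rwa [formDual_dot hf.bilinear] at this
  symm u _ v _ h := by
    rw [formDual_dot hf.bilinear] at h ⊢
    exact (form_symplectic_eq_zero_comm hf).1 h
  conn u hu v hv := by
    have hb := hf.bilinear
    obtain ⟨a, ha⟩ := (hf.nondegenerate u hu).2
    obtain ⟨b, hb'⟩ := (hf.nondegenerate v hv).2
    obtain ⟨z, -, hz1, hz2⟩ := exists_both_ne_zero (bilinOf hb u) (bilinOf hb v) ⊤
      ⟨a, trivial, ha⟩ ⟨b, trivial, hb'⟩
    refine ⟨z, fun e => hz1 (by rw [e]; exact form_zero_right hb u), ?_, ?_⟩ <;>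
      rw [formDual_dot hb]
    exacts [isoOf_comm_zero hf hz1, isoOf_comm_zero hf hz2]
  ex := by
    obtain ⟨i⟩ := ‹Nonempty ι›
    exact ⟨Pi.single i 1, by simp⟩

/-- subfield groups -/
lemma sp_not_le_subfield [Fintype F] [Nonempty ι] (hf : IsSymplecticForm f) {F₀ : Subfield F}
    (hF₀ : F₀ ≠ ⊤) (P : GL ι F) : ¬ isoOf f ≤ subfieldSubgroup F₀ P := by
  obtain ⟨c, hc⟩ : ∃ c, c ∉ F₀ := by
    by_contra h
    push Not at h
    exact hF₀ (eq_top_iff.mpr fun x _ => h x)
  obtain ⟨u, hu⟩ := (spTvSys hf).ex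
  obtain ⟨v, huv⟩ := (hf.nondegenerate u hu).2
  have hb := hf.bilinear
  have hvu := isoOf_comm_zero hf huv
  have hv0 : v ≠ 0 := fun e => huv (by rw [e]; exact form_zero_right hb u)
  have hw0 : u + v ≠ 0 := fun e => huv (by
    have := congrArg (f u) e
    rwa [hb.add_right, hf.alternating, zero_add, form_zero_right hb] at this)
  set pr := f v u * f (u + v) v * f u (u + v) with hpr
  have hpr0 : pr ≠ 0 := by
    rw [hpr, hb.add_left, hb.add_right, hf.alternating, hf.alternating, add_zero, zero_add]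
    exact mul_ne_zero (mul_ne_zero hvu huv) huv
  refine (spTvSys hf).not_le_subfield P (u := u) (v := v) (w := u + v) (a := c / pr) (b := 1) (d := 1)
    hu hv0 hw0 (div_ne_zero (fun e => hc (e ▸ F₀.zero_mem)) hpr0) one_ne_zero one_ne_zero ?_
  simp only [spTvSys, formDual_dot hb, mul_one]
  rwa [← hpr, div_mul_cancel₀ _ hpr0]

/-- groups of quadratic forms in characteristic two -/
lemma sp_not_le_quad [Fintype F] (hf : IsSymplecticForm f) (h4 : 4 ≤ Fintype.card ι)
    (h2 : (2 : F) = 0) {Q : (ι → F) → F} (hQ : IsNondegenerateQuadraticForm Q)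
    (hpol : ∀ u v, QuadraticMap.polar Q u v = f u v) : ¬ isoOf f ≤ quadSimilarityGroup Q := by
  intro hle
  have : CharP F 2 := CharTwo.of_one_ne_zero_of_two_eq_zero one_ne_zero h2
  have hb := hf.bilinear
  have hQadd : ∀ x y, Q (x + y) = Q x + Q y + f x y := fun x y => by
    rw [← hpol, QuadraticMap.polar]; ring
  have hone : ∀ v, v ≠ 0 → Q v = 1 := by
    intro v hv
    obtain ⟨x, hx⟩ := (hf.nondegenerate v hv).1
    obtain ⟨c, hc⟩ := hle (sTv_mem_isoOf hf v 1)
    have hc2 : (c : F) = 1 := by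
      have hsim : ∀ a b, f ((sTv f v 1 : Matrix ι ι F) *ᵥ a) ((sTv f v 1 : Matrix ι ι F) *ᵥ b) =
          (c : F) * f a b := fun a b => by
        simp only [← hpol, QuadraticMap.polar, ← mulVec_add, hc]; ring
      have h := hsim x v
      rw [mem_isoOf.1 (sTv_mem_isoOf hf v 1) x v] at h
      exact mul_right_cancel₀ hx (by rw [one_mul]; exact h.symm)
    have h := hc x
    rw [sTv_mulVec hf, one_mul, hc2, one_mul, hQadd, hQ.smul, hb.smul_right] at h
    have h' : f x v ^ 2 * (Q v + 1) = 0 := by linear_combination h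
    exact CharTwo.add_eq_zero.1 ((mul_eq_zero.1 h').resolve_left (pow_ne_zero 2 hx))
  obtain ⟨v, hv⟩ : ∃ v : ι → F, v ≠ 0 := by
    obtain ⟨i⟩ : Nonempty ι := Fintype.card_pos_iff.1 (by omega)
    exact ⟨Pi.single i 1, by simp⟩
  have hker := LinearMap.finrank_range_add_finrank_ker (bilinOf hb v)
  have hr := (LinearMap.range (bilinOf hb v)).finrank_le
  rw [Module.finrank_self] at hr
  rw [Module.finrank_fintype_fun_eq_card] at hker
  obtain ⟨w, hw, hwv⟩ : ∃ w ∈ LinearMap.ker (bilinOf hb v), w ∉ Submodule.span F ({v} : Set (ι → F)) := by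
    by_contra hc
    push Not at hc
    have h := Submodule.finrank_mono (show LinearMap.ker (bilinOf hb v) ≤ Submodule.span F {v} from hc)
    rw [finrank_span_singleton hv] at h
    omega
  have hfv : f v w = 0 := hw
  have hw0 : w ≠ 0 := fun e => hwv (e ▸ Submodule.zero_mem _)
  have hvw : v + w ≠ 0 := fun e => hwv (by
    rw [show w = -v from eq_neg_of_add_eq_zero_right e]
    exact neg_mem (Submodule.mem_span_singleton_self v))
  have h := hQadd v w
  rw [hone _ hvw, hone _ hv, hone _ hw0, hfv, CharTwo.add_self_eq_zero, add_zero] at h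
  exact one_ne_zero h

lemma pw_ne_zero {m t : ℕ} {A : Fin t → Matrix (Fin m) (Fin m) F} (h : ∀ i, A i ≠ 0) : pw A ≠ 0 := by
  have hex : ∀ i, ∃ a b, A i a b ≠ 0 := fun i => by
    by_contra hc
    push Not at hc
    exact h i (Matrix.ext hc)
  choose a b hab using hex
  intro h0
  have := congrFun (congrFun h0 a) b
  simp only [pw, Matrix.of_apply, Matrix.zero_apply, Finset.prod_eq_zero_iff] at this
  obtain ⟨i, -, hi⟩ := this
  exact hab i hi

omit [DecidableEq F] in
/-- the stabiliser of a third tensor power of a plane -/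
lemma not_le_wreath_two_three [DecidableEq F] {Ω : Subgroup (GL ι F)} (S : TvSys Ω)
    (e : ι ≃ (Fin 3 → Fin 2)) (P : GL ι F) : ¬ Ω ≤ tensorWreathSubgroup 2 3 e P := by
  classical
  intro hle
  let L : Fin 3 → Matrix (Fin 2) (Fin 2) F → Matrix ι ι F := fun i A => cw e P (pw (Function.update 1 i A))
  have hLmul : ∀ i A B, L i A * L i B = L i (A * B) := fun i A B => by
    simp only [L, ← cw_mul, update_one_mul]
  have hLsub : ∀ i A B, L i (A - B) = L i A - L i B := fun i A B => by
    simp only [L, ← cw_sub]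
    congr 1
    rw [eq_sub_iff_add_eq, ← update_one_add, sub_add_cancel]
  have hL1 : ∀ i, L i 1 = 1 := fun i => by
    simp only [L]
    rw [show Function.update (1 : Fin 3 → Matrix (Fin 2) (Fin 2) F) i 1 = 1 from Function.update_eq_self i 1,
      pw_one]
    simp [cw]
  have hLcomm : ∀ i j, i ≠ j → ∀ A B, L i A * L j B = L j B * L i A := fun i j hij A B => by
    simp only [L, ← cw_mul, pw_mul]
    congr 2
    funext k
    rcases eq_or_ne k i with rfl | hki
    · simp [hij]
    rcases eq_or_ne k j with rfl | hkj <;> simp [*]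
  have hL0 : ∀ i, L i 0 = 0 := fun i => by
    rw [show (0 : Matrix (Fin 2) (Fin 2) F) = 1 - 1 by simp, hLsub, sub_self]
  have hLne : ∀ i j k, i ≠ j → i ≠ k → j ≠ k → ∀ A B C, A ≠ 0 → B ≠ 0 → C ≠ 0 →
      L i A * (L j B * L k C) ≠ 0 := fun i j k hij hik hjk A B C hA hB hC h => by
    simp only [L, ← cw_mul, pw_mul] at h
    refine pw_ne_zero (fun l => ?_) (cw_injective e P (h.trans (by simp [cw])))
    simp only [Pi.mul_apply]
    rcases eq_or_ne l i with rfl | hli
    · simpa [hij, hik] using hA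
    rcases eq_or_ne l j with rfl | hlj
    · simpa [hli, hjk] using hB
    rcases eq_or_ne l k with rfl | hlk
    · simpa [hli, hlj] using hC
    · simp [hli, hlj, hlk]
  let E : Fin 2 → Matrix (Fin 2) (Fin 2) F := fun b => single b b 1
  have hE0 : ∀ b, E b ≠ 0 := fun b h => by simpa [E] using congrFun (congrFun h b) b
  have hEE : ∀ b c, E b * E c = if b = c then E b else 0 := fun b c => by
    rcases eq_or_ne b c with rfl | h
    · rw [if_pos rfl]; simp [E]
    · rw [if_neg h]; exact single_mul_single_of_ne _ _ _ _ h _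
  let pr : Fin 3 → Fin 2 × Fin 2 := ![(0, 0), (0, 1), (1, 0)]
  have hpr : Function.Injective pr := by decide
  -- three orthogonal idempotents built on two of the factors
  have hfull : ∀ (i k : Fin 3), i ≠ k → ∀ (d : Matrix ι ι F) (u w : ι → F),
      (∀ x, d *ᵥ x ∈ Submodule.span F (Set.range ![u, w])) →
      (∀ b c, d * (L i (E b) * L k (E c)) = (L i (E b) * L k (E c)) * d) →
      (∀ b c, d * (L i (E b) * L k (E c)) ≠ 0) → False := by
    intro i k hik d u w h hcomm hne
    have hmul : ∀ a b c b', L i a * L k b * (L i c * L k b') = L i (a * c) * L k (b * b') := by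
      intro a b c b'
      rw [mul_assoc, ← mul_assoc (L k b), ← hLcomm i k hik c b, mul_assoc, ← mul_assoc, hLmul, hLmul]
    refine range_not_small d (fun s => L i (E (pr s).1) * L k (E (pr s).2)) (fun s => ?_) (fun s s' hs => ?_)
      (fun s => hcomm _ _) (fun s => hne _ _) u w h
    · rw [hmul, hEE, hEE, if_pos rfl, if_pos rfl]
    · rw [hmul, hEE, hEE]
      by_cases h1 : (pr s).1 = (pr s').1
      · rw [if_neg fun h2 => hs (hpr (Prod.ext h1 h2)), hL0, mul_zero]
      · rw [if_neg h1, hL0, zero_mul]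
  obtain ⟨c, hc⟩ := S.scalar_of_small_steps (L 0 (E 0)) fun g hg u w h => by
    obtain ⟨j, A', hA'⟩ := permutes_of_mem (hle hg) 0 (E 0)
    change cj g (L 0 (E 0)) = L j A' at hA'
    by_contra hne
    by_cases hj : j = 0
    · subst hj
      have hd : cj g (L 0 (E 0)) - L 0 (E 0) = L 0 (A' - E 0) := by rw [hA', hLsub]
      rw [hd] at h
      refine hfull 1 2 (by decide) _ u w h (fun b c => ?_) fun b c => ?_
      · rw [← mul_assoc, hLcomm 0 1 (by decide), mul_assoc, hLcomm 0 2 (by decide), mul_assoc]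
      · exact hLne 0 1 2 (by decide) (by decide) (by decide) _ _ _
          (fun h0 => hne (by rw [hA', sub_eq_zero.mp h0])) (hE0 b) (hE0 c)
    · obtain ⟨k, hk0, hkj⟩ : ∃ k : Fin 3, k ≠ 0 ∧ k ≠ j :=
        (by decide : ∀ i : Fin 3, ∃ k : Fin 3, k ≠ 0 ∧ k ≠ i) j
      rw [hA'] at h
      have hA1 : A' ≠ 1 := fun h1 => by
        rw [h1, hL1] at hA'
        have h2 := cj_injective g (hA'.trans (cj_one g).symm)
        have h4 := congrFun (congrFun (update_one_injective two_pos 0 (cw_injective e P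
          (h2.trans (hL1 0).symm))) 1) 1
        simp [E] at h4
      have hA0 : A' ≠ 0 := fun h0 => by
        rw [h0, hL0] at hA'
        have h2 := cj_injective g (hA'.trans (cj_zero g).symm)
        have h4 := congrFun (congrFun (update_one_injective two_pos 0 (cw_injective e P
          (h2.trans (hL0 0).symm))) 0) 0
        simp [E] at h4
      refine hfull 0 k hk0.symm _ u w h (fun b c => ?_) fun b c => ?_
      · have hbE : E 0 * E b = E b * E 0 := by
          rw [hEE, hEE]; rcases eq_or_ne (0 : Fin 2) b with hb | hb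
          · rw [if_pos hb, if_pos hb.symm, hb]
          · rw [if_neg hb, if_neg hb.symm]
        rw [sub_mul, mul_sub]
        congr 1
        · rw [← mul_assoc, hLcomm j 0 hj, mul_assoc, hLcomm j k (Ne.symm hkj), mul_assoc]
        · rw [← mul_assoc, hLmul, hbE, ← hLmul, mul_assoc, hLcomm 0 k hk0.symm (E 0), mul_assoc]
      · rw [sub_mul, ← mul_assoc (L 0 (E 0)), hLmul, hEE]
        rcases eq_or_ne (0 : Fin 2) b with rfl | hb
        · rw [if_pos rfl, show L j A' * (L 0 (E 0) * L k (E c)) - L 0 (E 0) * L k (E c) =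
            (L j (A' - 1)) * (L 0 (E 0) * L k (E c)) by rw [hLsub, hL1, sub_mul, one_mul]]
          exact hLne j 0 k hj (Ne.symm hkj) hk0.symm _ _ _ (sub_ne_zero.mpr hA1) (hE0 0) (hE0 c)
        · rw [if_neg hb, hL0, zero_mul, sub_zero]
          exact hLne j 0 k hj (Ne.symm hkj) hk0.symm _ _ _ hA0 (hE0 b) (hE0 c)
  rw [← hL1 0, show L 0 1 = cw e P (pw (Function.update 1 0 1)) from rfl] at hc
  have h1 : E 0 = c • 1 := update_one_injective two_pos 0 (cw_injective e P (hc.trans (by
    rw [update_one_smul]; simp [cw])))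
  have h00 := congrFun (congrFun h1 0) 0
  have h11 := congrFun (congrFun h1 1) 1
  simp [E] at h00 h11
  rw [← h11] at h00
  exact one_ne_zero h00

/-- conjugation by a similarity preserves the isometries -/
lemma norms_isoOf {R : Subgroup (GL ι F)} (hsim : R ≤ similarityGroup f) : Norms R (isoOf f) := by
  intro x hx g hg u v
  change f (((x * g * x⁻¹ : GL ι F) : Matrix ι ι F) *ᵥ u) (((x * g * x⁻¹ : GL ι F) : Matrix ι ι F) *ᵥ v) = f u v
  obtain ⟨c, hc⟩ := hsim hx
  rw [gl_mulVec_mul, gl_mulVec_mul, gl_mulVec_mul, gl_mulVec_mul, hc,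
    show f ((g : Matrix ι ι F) *ᵥ _) ((g : Matrix ι ι F) *ᵥ _) = _ from hg _ _, ← hc,
    gl_mulVec_inv_mulVec, gl_mulVec_inv_mulVec]

/-- normal subgroups of the symplectic group -/
lemma sp_dichotomy [Fintype F] {m : ℕ} (h : 3 ≤ m ∨ (m = 2 ∧ 3 ≤ Fintype.card F)) :
    ∀ N ≤ isoOf (Cfsg.sympForm m F), Norms (isoOf (Cfsg.sympForm m F)) N →
      N ≤ scalars (Fin m ⊕ Fin m) F ∨ N = isoOf (Cfsg.sympForm m F) := by
  intro N hN hnorm
  let φ : Matrix.symplecticGroup (Fin m) F →* GL (Fin m ⊕ Fin m) F :=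
    MonoidHom.toHomUnits (Matrix.symplecticGroup (Fin m) F).subtype
  have hφ : ∀ s, (φ s : Matrix (Fin m ⊕ Fin m) (Fin m ⊕ Fin m) F) = s.1 := fun s => rfl
  have hmem : ∀ s, φ s ∈ isoOf (Cfsg.sympForm m F) := fun s u v => Linear.Symp.form_mulVec s.2 u v
  have hsurj : ∀ g ∈ isoOf (Cfsg.sympForm m F), ∃ s, φ s = g := fun g hg =>
    ⟨⟨_, Linear.Symp.mem_of_form_mulVec (fun u v => hg u v)⟩, Units.ext rfl⟩
  have : (N.comap φ).Normal := ⟨fun a ha b => by
    rw [Subgroup.mem_comap, map_mul, map_mul, map_inv]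
    exact hnorm _ (hmem b) _ ha⟩
  have : Nonempty (Fin m ⊕ Fin m) := ⟨.inl ⟨0, by omega⟩⟩
  classical
  rcases Linear.Symp.normal_le_center_or_eq_top (F := F) (m := m) (by tauto) (N.comap φ) with hc | hc
  · refine Or.inl fun x hx => mem_scalars_iff_isScalarMat.mpr ?_
    obtain ⟨s, rfl⟩ := hsurj x (hN hx)
    refine (spTvSys (isSymplecticForm_sympForm m F)).scalar_of_commute _ fun v hv => ?_
    obtain ⟨t, ht⟩ := hsurj _ ((spTvSys (isSymplecticForm_sympForm m F)).mem v hv _
      (spTvSys (isSymplecticForm_sympForm m F)).c₀_mem)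
    rw [← ht, cj_eq_iff_commute, ← Units.val_mul, ← Units.val_mul, ← map_mul, ← map_mul,
      Subgroup.mem_center_iff.mp (hc (show s ∈ N.comap φ from hx)) t]
  · refine Or.inr (le_antisymm hN fun g hg => ?_)
    obtain ⟨s, rfl⟩ := hsurj g hg
    exact (hc ▸ Subgroup.mem_top s : s ∈ N.comap φ)

end CfsgLib.Asch
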