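import Cfsg.Agent.Lib.Aschbacher.SuList

/-!
# Arithmetic of the fields of definition of the symplectic-type classes of unitary groups
-/

set_option autoImplicit false

namespace CfsgLib.Asch

open Matrix Cfsg.Geo CfsgLib.ClassicalMax
open scoped MatrixGroups

lemma symp_exp {r p j : ℕ} (hr : r.Prime) (hp : p.Prime) (hrp : r ≠ p) (hdiv : r ∣ p ^ (2 * j) - 1)
    (hmin : ∀ d, 0 < d → d < 2 * j → ¬ r ∣ p ^ d - 1) :
    p % r ≠ 0 ∧ 2 * j ≤ r - 1 ∧ (p % r) ^ (2 * j) % r = 1 ∧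
      ∀ d, 0 < d → d < 2 * j → (p % r) ^ d % r ≠ 1 := by
  have key : ∀ d, r ∣ p ^ d - 1 ↔ (p % r) ^ d % r = 1 := fun d => by
    rw [← Nat.modEq_iff_dvd' (Nat.one_le_pow _ _ hp.pos), ← Nat.pow_mod, Nat.ModEq,
      Nat.one_mod_eq_one.mpr hr.ne_one]
    exact eq_comm
  have hnd : ¬ r ∣ p := fun h => hrp ((Nat.prime_dvd_prime_iff_eq hr hp).mp h)
  refine ⟨fun h => hnd (Nat.dvd_of_mod_eq_zero h), ?_, (key _).mp hdiv,
    fun d h0 h1 h => hmin d h0 h1 ((key d).mpr h)⟩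
  by_contra hc
  have hr2 := hr.two_le
  refine hmin (r - 1) (by omega) (by omega) ((Nat.modEq_iff_dvd' (Nat.one_le_pow _ _ hp.pos)).mp ?_)
  have := (hr.coprime_iff_not_dvd.mpr hnd).symm
  simpa [Nat.totient_prime hr] using (Nat.ModEq.pow_totient this).symm

lemma symp_exp_three {p j : ℕ} (hp : p.Prime) (hrp : 3 ≠ p) (hj : 0 < j) (hdiv : 3 ∣ p ^ (2 * j) - 1)
    (hmin : ∀ d, 0 < d → d < 2 * j → ¬ 3 ∣ p ^ d - 1) : j = 1 ∧ p % 3 = 2 := by
  obtain ⟨h0, hle, -, hlt⟩ := symp_exp (by norm_num) hp hrp hdiv hmin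
  obtain rfl : j = 1 := by omega
  have := hlt 1 one_pos (by omega)
  have := Nat.mod_lt p (show 3 > 0 by norm_num)
  refine ⟨rfl, ?_⟩
  interval_cases h : p % 3 <;> simp_all

lemma symp_exp_five {p j : ℕ} (hp : p.Prime) (hrp : 5 ≠ p) (hj : 0 < j) (hdiv : 5 ∣ p ^ (2 * j) - 1)
    (hmin : ∀ d, 0 < d → d < 2 * j → ¬ 5 ∣ p ^ d - 1) :
    (j = 1 ∧ p % 5 = 4) ∨ (j = 2 ∧ (p % 5 = 2 ∨ p % 5 = 3)) := by
  obtain ⟨h0, hle, hq, hlt⟩ := symp_exp (by norm_num) hp hrp hdiv hmin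
  have := Nat.mod_lt p (show 5 > 0 by norm_num)
  have : j ≤ 2 := by omega
  have h1 := hlt 1
  have h2 := hlt 2
  interval_cases h : p % 5 <;> interval_cases j <;> simp_all

lemma symp_exp_seven {p j : ℕ} (hp : p.Prime) (hrp : 7 ≠ p) (hj : 0 < j) (hdiv : 7 ∣ p ^ (2 * j) - 1)
    (hmin : ∀ d, 0 < d → d < 2 * j → ¬ 7 ∣ p ^ d - 1) :
    (j = 1 ∧ p % 7 = 6) ∨ (j = 3 ∧ (p % 7 = 3 ∨ p % 7 = 5)) := by
  obtain ⟨h0, hle, hq, hlt⟩ := symp_exp (by norm_num) hp hrp hdiv hmin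
  have := Nat.mod_lt p (show 7 > 0 by norm_num)
  have : j ≤ 3 := by omega
  have h1 := hlt 1
  have h2 := hlt 2
  have h3 := hlt 3
  interval_cases h : p % 7 <;> interval_cases j <;> simp_all

lemma symp_exp_eleven {p j : ℕ} (hp : p.Prime) (hrp : 11 ≠ p) (hj : 0 < j)
    (hdiv : 11 ∣ p ^ (2 * j) - 1) (hmin : ∀ d, 0 < d → d < 2 * j → ¬ 11 ∣ p ^ d - 1) :
    (j = 1 ∧ p % 11 = 10) ∨
      (j = 5 ∧ (p % 11 = 2 ∨ p % 11 = 6 ∨ p % 11 = 7 ∨ p % 11 = 8)) := by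
  obtain ⟨h0, hle, hq, hlt⟩ := symp_exp (by norm_num) hp hrp hdiv hmin
  have := Nat.mod_lt p (show 11 > 0 by norm_num)
  have : j ≤ 5 := by omega
  have h1 := hlt 1
  have h2 := hlt 2
  have h5 := hlt 5
  interval_cases h : p % 11 <;> interval_cases j <;> simp_all

lemma symp_exp_two {p : ℕ} (hp : p.Prime) (hrp : 2 ≠ p)
    (hmin : ∀ d, 0 < d → d < 2 * 1 → ¬ 4 ∣ p ^ d - 1) : p % 4 = 3 := by
  have h := hmin 1 one_pos (by omega)
  rw [pow_one] at h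
  have := hp.eq_two_or_odd
  omega

/-- groups of odd exponent prime to the fixed units consist of isometries -/
lemma le_GU_of_pow_eq_one {n q r : ℕ} {F : Type*} [Field F] [Fintype F] (hF : Fintype.card F = q ^ 2)
    (hn : 0 < n) {R : Subgroup (GL (Fin n) F)} (hsim : R ≤ similarityGroup (Cfsg.hermForm n F q))
    (hexp : ∀ g ∈ R, g ^ r = 1) (hcop : Nat.Coprime r (q - 1)) : R ≤ Cfsg.GU n F q := by
  intro g hg u v
  obtain ⟨c, hc⟩ := hsim hg
  suffices hc1 : (c : F) = 1 by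
    change Cfsg.hermForm n F q ((g : Matrix (Fin n) (Fin n) F) *ᵥ u) ((g : Matrix (Fin n) (Fin n) F) *ᵥ v) = _
    rw [hc, hc1, one_mul]
  set f := Cfsg.hermForm n F q
  obtain ⟨σ, hσ, -, hne⟩ := Unit.exists_powEquiv hF
  have hf := Unit.isUnitaryForm_hermForm hF n hσ hne
  have hit : ∀ (m : ℕ) (u v : Fin n → F),
      f (((g ^ m : GL (Fin n) F) : Matrix (Fin n) (Fin n) F) *ᵥ u)
        (((g ^ m : GL (Fin n) F) : Matrix (Fin n) (Fin n) F) *ᵥ v) = (c : F) ^ m * f u v := by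
    intro m
    induction m with
    | zero => intro u v; simp
    | succ m ih =>
      intro u v
      rw [pow_succ', Units.val_mul, ← mulVec_mulVec, ← mulVec_mulVec, hc, ih]
      ring
  let x : Fin n → F := Pi.single ⟨0, hn⟩ 1
  have hq0 : q ≠ 0 := by have := Unit.two_le_of_card_eq_sq hF; omega
  have hx : f x x = 1 := by
    simp [f, x, Cfsg.hermForm, Pi.single_apply, ite_pow, zero_pow hq0, hq0]
  have h1 : (c : F) ^ r = 1 := by
    have := hit r x x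
    rw [hexp g hg, Units.val_one, one_mulVec, hx, mul_one] at this
    exact this.symm
  have hs : σ (c : F) = c := by
    have h := Unit.self_fixed hf ((g : Matrix (Fin n) (Fin n) F) *ᵥ x)
    rwa [show Cfsg.hermForm n F q _ _ = _ from hc x x, hx, mul_one] at h
  rw [hσ] at hs
  have h2 : (c : F) ^ (q - 1) = 1 := by
    refine mul_left_cancel₀ c.ne_zero ?_
    rw [← pow_succ', Nat.sub_add_cancel (Nat.one_le_iff_ne_zero.mpr hq0), hs, mul_one]
  have := pow_gcd_eq_one.mpr ⟨h1, h2⟩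
  rwa [show Nat.gcd r (q - 1) = 1 from hcop, pow_one] at this

end CfsgLib.Asch
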