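import Cfsg.Agent.Lib.Aschbacher.FourField
import Cfsg.Agent.Lib.Aschbacher.FormField
import Cfsg.Agent.Lib.Aschbacher.SetStab
import Cfsg.Agent.Lib.ClassicalMax.UnitStd
import Cfsg.Agent.Lib.ClassicalMax.UnitFrame

/-!
# Over four elements the normaliser of a field of degree five is not maximal in degree five

The normaliser is a group of order fifty-five; it stabilises, with a further isometry, a set of fifty-five
vectors, so it lies in a proper subgroup of order 660.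
-/

set_option autoImplicit false

namespace CfsgLib.Asch.FiveField

open Matrix Cfsg.Geo CfsgLib.ClassicalMax
open scoped MatrixGroups

/-- vectors of codes -/
abbrev Vec := Fin 5 → Fin 4

/-- matrices of codes -/
abbrev Mat := Fin 5 → Fin 5 → Fin 4

/-- sum of five codes -/
def sum5 (f : Fin 5 → Fin 4) : Fin 4 :=
  Four.add (Four.add (Four.add (Four.add (f 0) (f 1)) (f 2)) (f 3)) (f 4)

/-- matrix times vector -/
def mulV (A : Mat) (v : Vec) : Vec := fun i => sum5 fun k => Four.mul (A i k) (v k)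

/-- matrix product -/
def mulM (A B : Mat) : Mat := fun i j => sum5 fun k => Four.mul (A i k) (B k j)

/-- the identity -/
def one5 : Mat := fun i j => if i = j then 1 else 0

/-- a sesquilinear product -/
def inner (T : Mat) (u v : Vec) : Fin 4 :=
  sum5 fun i => Four.mul (u i) (sum5 fun j => Four.mul (T i j) (Four.conj (v j)))

/-- the Gram matrix of a vector with prescribed products with its images -/
def toep (t : Vec) : Mat := fun i j => if j ≤ i then t (i - j) else Four.conj (t (j - i))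

/-- membership in the set -/
def encode (v : Vec) : ℕ := v 0 + 4 * v 1 + 16 * v 2 + 64 * v 3 + 256 * v 4

/-- the coefficients of the minimal polynomial -/
def cp : Vec := ![1, 2, 1, 1, 3]

/-- the companion matrix and its powers -/
def cA : Fin 11 → Mat :=
  ![![![1, 0, 0, 0, 0], ![0, 1, 0, 0, 0], ![0, 0, 1, 0, 0], ![0, 0, 0, 1, 0], ![0, 0, 0, 0, 1]],
    ![![0, 0, 0, 0, 1], ![1, 0, 0, 0, 2], ![0, 1, 0, 0, 1], ![0, 0, 1, 0, 1], ![0, 0, 0, 1, 3]],
    ![![0, 0, 0, 1, 3], ![0, 0, 0, 2, 0], ![1, 0, 0, 1, 1], ![0, 1, 0, 1, 2], ![0, 0, 1, 3, 3]],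
    ![![0, 0, 1, 3, 3], ![0, 0, 2, 0, 2], ![0, 0, 1, 1, 3], ![1, 0, 1, 2, 2], ![0, 1, 3, 3, 0]],
    ![![0, 1, 3, 3, 0], ![0, 2, 0, 2, 3], ![0, 1, 1, 3, 2], ![0, 1, 2, 2, 3], ![1, 3, 3, 0, 2]],
    ![![1, 3, 3, 0, 2], ![2, 0, 2, 3, 3], ![1, 1, 3, 2, 1], ![1, 2, 2, 3, 0], ![3, 3, 0, 2, 2]],
    ![![3, 3, 0, 2, 2], ![0, 2, 3, 3, 1], ![1, 3, 2, 1, 1], ![2, 2, 3, 0, 3], ![3, 0, 2, 2, 1]],
    ![![3, 0, 2, 2, 1], ![2, 3, 3, 1, 0], ![3, 2, 1, 1, 0], ![2, 3, 0, 3, 0], ![0, 2, 2, 1, 0]],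
    ![![0, 2, 2, 1, 0], ![3, 3, 1, 0, 1], ![2, 1, 1, 0, 0], ![3, 0, 3, 0, 0], ![2, 2, 1, 0, 0]],
    ![![2, 2, 1, 0, 0], ![3, 1, 0, 1, 0], ![1, 1, 0, 0, 1], ![0, 3, 0, 0, 0], ![2, 1, 0, 0, 0]],
    ![![2, 1, 0, 0, 0], ![1, 0, 1, 0, 0], ![1, 0, 0, 1, 0], ![3, 0, 0, 0, 1], ![1, 0, 0, 0, 0]]]

/-- the automorphism of the field and its powers -/
def cPhi : Fin 5 → Mat :=
  ![![![1, 0, 0, 0, 0], ![0, 1, 0, 0, 0], ![0, 0, 1, 0, 0], ![0, 0, 0, 1, 0], ![0, 0, 0, 0, 1]],
    ![![1, 0, 0, 0, 1], ![0, 0, 3, 1, 2], ![0, 0, 2, 0, 1], ![0, 0, 3, 0, 1], ![0, 1, 2, 0, 3]],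
    ![![1, 1, 2, 0, 2], ![0, 2, 1, 0, 3], ![0, 1, 1, 0, 1], ![0, 1, 3, 0, 0], ![0, 3, 1, 1, 2]],
    ![![1, 2, 3, 1, 0], ![0, 3, 2, 2, 0], ![0, 1, 3, 1, 0], ![0, 0, 2, 1, 1], ![0, 2, 0, 3, 0]],
    ![![1, 0, 3, 2, 0], ![0, 0, 0, 3, 1], ![0, 0, 1, 1, 0], ![0, 1, 2, 0, 0], ![0, 0, 3, 2, 0]]]

/-- the Gram matrix -/
def cT : Mat := ![![1, 2, 3, 2, 2], ![3, 1, 2, 3, 2], ![2, 3, 1, 2, 3], ![3, 2, 3, 1, 2], ![3, 3, 2, 3, 1]]

/-- its inverse -/
def cTi : Mat := ![![0, 0, 2, 3, 0], ![0, 0, 1, 0, 3], ![3, 1, 1, 1, 2], ![2, 0, 1, 0, 0], ![0, 2, 3, 0, 0]]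

/-- a further isometry -/
def cW : Mat := ![![1, 3, 0, 2, 1], ![0, 1, 2, 2, 3], ![0, 1, 1, 3, 2], ![0, 3, 1, 2, 3], ![0, 1, 3, 0, 2]]

/-- an isometry moving the set -/
def cX : Mat := ![![1, 0, 0, 0, 0], ![0, 1, 0, 0, 0], ![0, 0, 1, 0, 0], ![3, 2, 0, 1, 0], ![1, 3, 0, 0, 1]]

/-- a member of the set -/
def cv : Vec := ![0, 1, 1, 2, 0]

/-- the set of fifty-five vectors, as bits -/
def bits : ℕ := 6858324779520250409811930443819089295633445933866324355424456328917139595895644835332985804095505962964258790064867238504868114846200735415463351806432762233263119253776806489760212449187482736490386062688028275019335211456122751512994327045177103473569620171009007629906219864642100389031236859880013824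

/-- normalised vectors -/
def wit : List (Vec × Vec) :=
  [(![1, 0, 0, 1, 1], ![0, 1, 0, 0, 3]),
    (![1, 0, 1, 3, 1], ![0, 0, 1, 2, 1]),
    (![1, 0, 2, 3, 2], ![0, 1, 1, 2, 1]),
    (![1, 0, 3, 1, 2], ![0, 1, 0, 1, 3]),
    (![1, 1, 0, 2, 3], ![0, 1, 0, 0, 1]),
    (![1, 1, 1, 0, 3], ![0, 0, 1, 0, 2]),
    (![1, 1, 2, 0, 0], ![0, 0, 0, 1, 3]),
    (![1, 1, 3, 2, 0], ![0, 0, 1, 0, 3]),
    (![1, 2, 0, 2, 2], ![0, 0, 0, 1, 2]),
    (![1, 2, 1, 0, 2], ![0, 1, 2, 2, 3]),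
    (![1, 2, 2, 0, 1], ![0, 0, 0, 1, 1]),
    (![1, 2, 3, 2, 1], ![0, 0, 1, 3, 2]),
    (![1, 3, 0, 1, 0], ![0, 0, 1, 2, 3]),
    (![1, 3, 1, 3, 0], ![0, 1, 1, 1, 3]),
    (![1, 3, 2, 3, 3], ![0, 0, 0, 0, 1]),
    (![1, 3, 3, 1, 3], ![0, 0, 1, 0, 1])]

/-- membership in the set -/
def memS (v : Vec) : Bool := bits.testBit (encode v)

/-- the exponents of the conjugates of the generator -/
def tbl : Fin 5 → Fin 11 := ![1, 4, 5, 9, 3]

/-- the value of the minimal polynomial at a power of the companion matrix -/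
def pval (i : Fin 11) : Mat := fun a b =>
  Four.add (Four.add (Four.add (Four.add (Four.add (cA (i * 5) a b) (Four.mul 3 (cA (i * 4) a b)))
    (cA (i * 3) a b)) (cA (i * 2) a b)) (Four.mul 2 (cA i a b))) (one5 a b)

lemma cA_zero : ∀ a b, cA 0 a b = one5 a b := by decide +kernel
lemma cA_succ : ∀ i a b, cA (i + 1) a b = mulM (cA 1) (cA i) a b := by decide +kernel
lemma cA_shift : ∀ a b : Fin 5, cA 1 a b = (if b = 4 then cp a else if a = b + 1 then 1 else 0) := by decide +kernel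
lemma cPhi_zero : ∀ a b, cPhi 0 a b = one5 a b := by decide +kernel
lemma cPhi_succ : ∀ m a b, cPhi (m + 1) a b = mulM (cPhi 1) (cPhi m) a b := by decide +kernel
lemma cPhi_conj : ∀ m a b, mulM (cPhi (-m)) (cA (tbl m)) a b = mulM (cA 1) (cPhi (-m)) a b := by decide +kernel
lemma cPhi_inv : ∀ m a b, mulM (cPhi m) (cPhi (-m)) a b = one5 a b := by decide +kernel
lemma cT_eq : ∀ a b, cT a b = toep (fun i => cT i 0) a b := by decide +kernel
lemma cT_inv : ∀ a b, mulM cT cTi a b = one5 a b := by decide +kernel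
lemma cW_sq : ∀ a b, mulM cW cW a b = one5 a b := by decide +kernel
lemma cX_sq : ∀ a b, mulM cX cX a b = one5 a b := by decide +kernel

/-- preservation of the Gram matrix -/
def isIso (X : Mat) : Bool :=
  decide (∀ a b, inner cT (fun k => X k a) (fun k => X k b) = cT a b)

lemma cPhi_iso : ∀ m, isIso (cPhi m) = true := by decide +kernel
lemma cW_iso : isIso cW = true := by decide +kernel
lemma cX_iso : isIso cX = true := by decide +kernel

lemma root_step : ∀ i : Fin 11, (∀ a b, pval i a b = 0) → ∃ m : Fin 5, i = tbl m := by decide +kernel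

lemma cent_step : ∀ c0 c1 c2 c3 c4 : Fin 4,
    (∀ j : Fin 5, inner cT (mulV (cA ⟨j, by omega⟩) ![c0, c1, c2, c3, c4]) ![c0, c1, c2, c3, c4] = cT j 0) →
      ∃ (l : Fin 11) (x : Fin 4), x ≠ 0 ∧ ∀ i, ![c0, c1, c2, c3, c4] i = Four.mul x (cA l i 0) := by
  decide +kernel

lemma cA_cols : ∀ (l : Fin 11) (j i : Fin 5), mulV (cA ⟨j, by omega⟩) (fun k => cA l k 0) i = cA l i j := by
  decide +kernel

lemma stable : (∀ (m : Fin 5) a b c d e, memS ![a, b, c, d, e] = true →
      memS (mulV (cPhi m) ![a, b, c, d, e]) = true) ∧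
    (∀ (l : Fin 11) a b c d e, memS ![a, b, c, d, e] = true → memS (mulV (cA l) ![a, b, c, d, e]) = true) ∧
    (∀ a b c d e, memS ![a, b, c, d, e] = true → memS (mulV cW ![a, b, c, d, e]) = true) ∧
    memS cv = true ∧ memS (mulV cX cv) = false := by
  decide +kernel

lemma cA_col0 : ∀ (j r : Fin 5), cA ⟨j, by omega⟩ r 0 = if r = j then 1 else 0 := by decide +kernel

lemma cW_out : ∀ (m : Fin 5) (l : Fin 11), ∃ a b, mulM (cPhi m) (cA l) a b ≠ cW a b := by decide +kernel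

lemma frame_step : ∀ t1 t2 t3 t4 : Fin 4,
    (∀ k : Fin 4, toep ![1, t1, t2, t3, t4] ⟨4 - k, by omega⟩ 0 =
      sum5 fun i => Four.mul (cp i) (toep ![1, t1, t2, t3, t4] i ⟨k + 1, by omega⟩)) →
    ∃ w ∈ wit, ∀ j : Fin 5,
      inner (toep ![1, t1, t2, t3, t4]) (mulV (cA ⟨j, by omega⟩) w.2) w.2 = cT j 0 := by
  decide +kernel

variable {F : Type*} [Field F] [Fintype F]

/-- the value of the minimal polynomial -/
def poly5 {n : Type} [Fintype n] [DecidableEq n] (w : F) (x : Matrix n n F) : Matrix n n F :=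
  x ^ 5 + w ^ 2 • x ^ 4 + x ^ 3 + x ^ 2 + w • x + 1

/-- a coding of the field of four elements -/
structure Code (φ : Fin 4 → F) : Prop where
  bij : Function.Bijective φ
  zero : φ 0 = 0
  one : φ 1 = 1
  add : ∀ a b, φ (Four.add a b) = φ a + φ b
  mul : ∀ a b, φ (Four.mul a b) = φ a * φ b
  conj : ∀ a, φ (Four.conj a) = φ a ^ 2

/-- the matrix of a code -/
def lift (φ : Fin 4 → F) (M : Mat) : Matrix (Fin 5) (Fin 5) F := Matrix.of fun i j => φ (M i j)

section

variable {φ : Fin 4 → F} {σ : F →+* F}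

omit [Fintype F] in
lemma sum5_eq (hc : Code φ) (g : Fin 5 → Fin 4) : φ (sum5 g) = ∑ i, φ (g i) := by
  simp only [sum5, hc.add, Fin.sum_univ_five]

omit [Fintype F] in
lemma lift_mul (hc : Code φ) (A B : Mat) : lift φ (mulM A B) = lift φ A * lift φ B := by
  ext i j
  simp [lift, mulM, sum5_eq hc, hc.mul, Matrix.mul_apply]

omit [Fintype F] in
lemma lift_mulV (hc : Code φ) (A : Mat) (v : Vec) : φ ∘ mulV A v = lift φ A *ᵥ (φ ∘ v) := by
  ext i
  simp [lift, mulV, sum5_eq hc, hc.mul, Matrix.mulVec, dotProduct]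

omit [Fintype F] in
lemma lift_one (hc : Code φ) : lift φ one5 = 1 := by
  ext i j
  rcases eq_or_ne i j with rfl | h
  · simp [lift, one5, hc.one]
  · simp [lift, one5, h, hc.zero]

omit [Fintype F] in
lemma lift_congr {A B : Mat} (h : ∀ a b, A a b = B a b) : lift φ A = lift φ B := by
  rw [show A = B from funext₂ h]

omit [Fintype F] in
lemma lift_inner (hc : Code φ) (hσ : ∀ a, σ a = a ^ 2) (T : Mat) (u v : Vec) :
    φ (inner T u v) = (φ ∘ u) ⬝ᵥ (lift φ T *ᵥ (σ ∘ φ ∘ v)) := by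
  simp only [inner, sum5_eq hc, hc.mul, hc.conj, lift, dotProduct, Matrix.mulVec, Matrix.of_apply,
    Function.comp_apply, hσ]

omit [Fintype F] in
lemma lift_iso (hc : Code φ) (hσ : ∀ a, σ a = a ^ 2) {X : Mat} (h : isIso X = true) :
    (lift φ X)ᵀ * lift φ cT * (lift φ X).map σ = lift φ cT := by
  ext a b
  have h' : inner cT (fun k => X k a) (fun k => X k b) = cT a b := (of_decide_eq_true h) a b
  rw [show lift φ cT a b = φ (cT a b) from rfl, ← h', lift_inner hc hσ, dotProduct_mulVec, mul_assoc]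
  simp only [Matrix.mul_apply, dotProduct, Matrix.vecMul, Function.comp_apply, transpose_apply,
    Matrix.map_apply, lift, Matrix.of_apply, Finset.mul_sum, Finset.sum_mul]
  rw [Finset.sum_comm]
  exact Finset.sum_congr rfl fun i _ => Finset.sum_congr rfl fun j _ => (mul_assoc _ _ _).symm

omit [Fintype F] in
lemma lift_cA_pow (hc : Code φ) : ∀ n : ℕ, lift φ (cA 1) ^ n = lift φ (cA (Fin.ofNat 11 n))
  | 0 => by
    rw [pow_zero, ← lift_one hc]
    exact (lift_congr cA_zero).symm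
  | n + 1 => by
    rw [pow_succ', lift_cA_pow hc n, ← lift_mul hc, ← lift_congr (cA_succ _)]
    congr 2
    apply Fin.ext
    simp [Fin.val_add, Fin.ofNat, Nat.add_mod]

end

variable {τ : F ≃+* F} {φ : Fin 4 → F}

set_option maxHeartbeats 1000000 in
/-- a generator of order eleven and a frame adapted to it -/
theorem exists_frame (h4 : Fintype.card F = 4) (hτ : ∀ a, τ a = a ^ 2)
    (hf : IsUnitaryForm τ (Cfsg.hermForm 5 F 2)) (hc : Code φ)
    {K : Subalgebra F (Matrix (Fin 5) (Fin 5) F)} (hK : IsFieldSubalgebra 5 K)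
    (hadj : IsAdjointClosedFor (Cfsg.hermForm 5 F 2) K) :
    ∃ a ∈ K, poly5 (φ 2) a = 0 ∧ (∀ x ∈ K, poly5 (φ 2) x = 0 → ∃ i : Fin 11, x = a ^ (i : ℕ)) ∧
      ∃ Q : Matrix (Fin 5) (Fin 5) F, Qᵀ * Q.map τ.toRingHom = lift φ cT ∧
        a * Q = Q * lift φ (cA 1) := by
  classical
  set f := Cfsg.hermForm 5 F 2
  set w := φ 2 with hw
  have h2 : (2 : F) = 0 := by
    have h := FiniteField.cast_card_eq_zero F
    rw [h4] at h
    push_cast at h
    exact mul_self_eq_zero.mp (show (2 : F) * 2 = 0 by linear_combination h)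
  haveI : CharP F 2 := CharTwo.of_one_ne_zero_of_two_eq_zero one_ne_zero h2
  have hw3 : w ^ 3 = 1 := by
    rw [hw, pow_succ, sq, ← hc.mul, ← hc.mul, ← hc.one]; rfl
  have hw1 : w + w ^ 2 = 1 := by
    rw [hw, sq, ← hc.mul, ← hc.add, ← hc.one]; rfl
  have hw0 : w ≠ 0 := fun h0 => by simp [h0] at hw3
  letI : Field K := (fieldSub_isField hK).toField
  haveI : Finite K := Module.finite_of_finite F
  haveI : CharP K 2 := charP_of_injective_algebraMap (algebraMap F K).injective 2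
  have hKcard : Nat.card K = 1024 := by
    rw [Module.natCard_eq_pow_finrank (K := F), hK.finrank_eq, Nat.card_eq_fintype_card, h4]; rfl
  set W : K := algebraMap F K w
  have hW3 : W ^ 3 = 1 := by rw [← map_pow, hw3, map_one]
  have hW1 : W + W ^ 2 = 1 := by rw [← map_pow, ← map_add, hw1, map_one]
  have hK2 : (2 : K) = 0 := CharTwo.two_eq_zero
  let p : K → K := fun b => b ^ 5 + W ^ 2 * b ^ 4 + b ^ 3 + b ^ 2 + W * b + 1
  let p' : K → K := fun b => b ^ 5 + W * b ^ 4 + b ^ 3 + b ^ 2 + W ^ 2 * b + 1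
  have hprod : ∀ b, (b - 1) * (p b * p' b) = b ^ 11 - 1 := fun b => by
    have h : p b * p' b = b ^ 10 + b ^ 9 + b ^ 8 + b ^ 7 + b ^ 6 + b ^ 5 + b ^ 4 + b ^ 3 + b ^ 2 + b + 1 := by
      simp only [p, p']
      linear_combination ((b ^ 5 + b ^ 3 + b ^ 2 + 1) * (b ^ 4 + b)) * hW1 + (b ^ 8 + b ^ 2) * hW3
        + b ^ 5 * (W * hW3 + hW1) + (b ^ 8 + b ^ 7 + b ^ 6 + 2 * b ^ 5 + b ^ 4 + b ^ 3 + b ^ 2) * hK2
    rw [h]; ring
  have hp' : ∀ b, p (b ^ 2) = p' b ^ 2 := fun b => by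
    simp only [p, p', CharTwo.add_sq, one_pow, mul_pow, ← pow_mul]
    linear_combination (-W * b ^ 2) * hW3
  obtain ⟨g₀, hg₀⟩ := IsCyclic.exists_ofOrder_eq_natCard (α := Kˣ)
  have hb : orderOf ((g₀ ^ 93 : Kˣ) : K) = 11 := by
    rw [orderOf_units, orderOf_pow, hg₀, Nat.card_units, hKcard]; rfl
  set b : K := ((g₀ ^ 93 : Kˣ) : K)
  have hb11 : b ^ 11 = 1 := hb ▸ pow_orderOf_eq_one b
  have hb1 : b ≠ 1 := fun h => by rw [h, orderOf_one] at hb; omega
  obtain ⟨aK, hpa⟩ : ∃ aK, p aK = 0 := by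
    have h := hprod b
    rw [hb11, sub_self, mul_eq_zero, mul_eq_zero] at h
    rcases h.resolve_left (sub_ne_zero.mpr hb1) with h | h
    · exact ⟨b, h⟩
    · exact ⟨b ^ 2, by rw [hp', h]; simp⟩
  have h11 : ∀ x, p x = 0 → x ^ 11 = 1 := fun x hx => by
    have h := hprod x
    rw [hx, zero_mul, mul_zero, eq_comm, sub_eq_zero] at h
    exact h
  have h11' : ∀ x, p' x = 0 → x ^ 11 = 1 := fun x hx => by
    have h := hprod x
    rw [hx, mul_zero, mul_zero, eq_comm, sub_eq_zero] at h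
    exact h
  have ha11 := h11 aK hpa
  have ha1 : aK ≠ 1 := fun h => by
    refine one_ne_zero (α := K) ?_
    rw [← hpa, h]
    simp only [p]
    linear_combination (-1 : K) * hW1 + (-2 : K) * hK2 + (0 : K) * hW3
  have hao : orderOf aK = 11 := by
    haveI : Fact (Nat.Prime 11) := ⟨by norm_num⟩
    exact orderOf_eq_prime ha11 ha1
  have hprim : IsPrimitiveRoot aK 11 := hao ▸ IsPrimitiveRoot.orderOf aK
  set a : Matrix (Fin 5) (Fin 5) F := Subtype.val aK
  have hval : ∀ n, ((aK ^ n : K) : Matrix (Fin 5) (Fin 5) F) = a ^ n := fun n => SubmonoidClass.coe_pow aK n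
  have hpv : ∀ x : K, ((p x : K) : Matrix (Fin 5) (Fin 5) F) = poly5 w (x : Matrix (Fin 5) (Fin 5) F) := fun x => by
    simp only [p, W, poly5, ← map_pow, ← Algebra.smul_def]
    rfl
  -- the adjoint of the generator is its inverse
  obtain ⟨a', ha', hadj'⟩ := hadj a aK.2
  have hpowadj : ∀ (n : ℕ) u v, f ((a ^ n) *ᵥ u) v = f u ((a' ^ n) *ᵥ v) := by
    intro n
    induction n with
    | zero => simp
    | succ n ih =>
      intro u v
      rw [pow_succ, ← mulVec_mulVec, ih, hadj', pow_succ', mulVec_mulVec]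
  have heq : ∀ {X : Matrix (Fin 5) (Fin 5) F}, (∀ u v, f u (X *ᵥ v) = 0) → X = 0 := by
    intro X h
    refine Matrix.ext_of_mulVec_single fun i => ?_
    rw [zero_mulVec]
    by_contra hne
    obtain ⟨⟨x, hx⟩, -⟩ := hf.nondegenerate _ hne
    exact hx (h x _)
  have ha'11 : (⟨a', ha'⟩ : K) ^ 11 = 1 := by
    refine h11' _ (Subtype.ext ?_)
    simp only [p', W, ← map_pow, ← Algebra.smul_def]
    show a' ^ 5 + w • a' ^ 4 + a' ^ 3 + a' ^ 2 + w ^ 2 • a' + 1 = 0
    refine heq fun u v => ?_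
    have h0 : f ((poly5 w a) *ᵥ u) v = 0 := by
      rw [← hpv, hpa]
      show f ((0 : Matrix (Fin 5) (Fin 5) F) *ᵥ u) v = 0
      rw [zero_mulVec, Unit.zero_left hf]
    simp only [poly5, add_mulVec, smul_mulVec, one_mulVec, hf.add_left, hf.smul_left, hpowadj, hadj'] at h0
    simp only [add_mulVec, smul_mulVec, one_mulVec, Unit.add_right hf, Unit.smul_right hf, hτ, ← pow_mul]
    linear_combination h0 + w * f u (a' *ᵥ v) * hw3
  obtain ⟨k, hk, hak⟩ := hprim.eq_pow_of_pow_eq_one ha'11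
  have hav : a' = a ^ k := by rw [← hval, hak]
  have hkk : aK ^ (k * k) = aK := by
    refine Subtype.ext (sub_eq_zero.mp (heq fun u v => ?_))
    rw [hval, sub_mulVec, sub_eq_add_neg, Unit.add_right hf, ← neg_one_smul F (a *ᵥ v), Unit.smul_right hf,
      pow_mul, ← hav, ← hpowadj k, ← hav, hf.herm (a' *ᵥ u), ← hadj', ← hf.herm, map_neg, map_one]
    ring
  have hk10 : k = 10 := by
    have h : k * k % 11 = 1 := hprim.pow_inj (Nat.mod_lt _ (by norm_num)) (by norm_num) (by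
      rw [← hao, pow_mod_orderOf, pow_one, hkk])
    interval_cases k <;> first | rfl | omega | skip
    exfalso
    have hp1 : p' aK = 0 := by
      refine Subtype.ext ?_
      simp only [p', W, ← map_pow, ← Algebra.smul_def]
      show a ^ 5 + w • a ^ 4 + a ^ 3 + a ^ 2 + w ^ 2 • a + 1 = 0
      refine heq fun u v => ?_
      have h0 : f ((poly5 w a) *ᵥ u) v = 0 := by
        rw [← hpv, hpa]
        show f ((0 : Matrix (Fin 5) (Fin 5) F) *ᵥ u) v = 0
        rw [zero_mulVec, Unit.zero_left hf]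
      rw [pow_one] at hav
      simp only [poly5, add_mulVec, smul_mulVec, one_mulVec, hf.add_left, hf.smul_left, hpowadj, hadj',
        hav] at h0
      simp only [add_mulVec, smul_mulVec, one_mulVec, Unit.add_right hf, Unit.smul_right hf, hτ, ← pow_mul]
      linear_combination h0 + w * f u (a *ᵥ v) * hw3
    have ha4 : aK ^ 4 = aK := by
      have hd : (W + W ^ 2) * (aK ^ 4 + aK) = 0 := by
        simp only [p, p'] at hpa hp1
        linear_combination hpa + hp1 - (aK ^ 5 + aK ^ 3 + aK ^ 2 + 1) * hK2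
      rw [hW1, one_mul] at hd
      exact CharTwo.add_eq_zero.mp hd
    have := hprim.pow_inj (show 4 < 11 by norm_num) (show 1 < 11 by norm_num) (by rw [ha4, pow_one])
    omega
  have hiso : ∀ (n : ℕ) u v, f ((a ^ n) *ᵥ u) ((a ^ n) *ᵥ v) = f u v := fun n u v => by
    rw [hpowadj, mulVec_mulVec, hav, hk10, ← pow_mul, ← pow_add, show 10 * n + n = 11 * n by ring,
      ← hval, pow_mul, ha11, one_pow, OneMemClass.coe_one, one_mulVec]
  have hpa5 : poly5 w a = 0 := by rw [← hpv, hpa]; rfl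
  have hrec : ∀ v : Fin 5 → F, (a ^ 5) *ᵥ v = ∑ i : Fin 5, φ (cp i) • ((a ^ (i : ℕ)) *ᵥ v) := by
    intro v
    have h := congrArg (fun X => X *ᵥ v) hpa5
    have h3 : φ 3 = w ^ 2 := by rw [show (3 : Fin 4) = Four.mul 2 2 from rfl, hc.mul, ← hw, sq]
    simp only [poly5, add_mulVec, smul_mulVec, one_mulVec, zero_mulVec] at h
    simp only [Fin.sum_univ_five, cp]
    simp only [Matrix.cons_val, hc.one, h3, ← hw, one_smul, Fin.val_zero, Fin.val_one, Fin.val_two, pow_zero,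
      pow_one, one_mulVec, show ((3 : Fin 5) : ℕ) = 3 from rfl, show ((4 : Fin 5) : ℕ) = 4 from rfl]
    ext i
    have hi := congrFun h i
    simp only [Pi.add_apply, Pi.smul_apply, Pi.zero_apply, smul_eq_mul] at hi ⊢
    linear_combination hi - (w * (a *ᵥ v) i + v i + ((a ^ 2) *ᵥ v) i + ((a ^ 3) *ᵥ v) i
      + w ^ 2 * ((a ^ 4) *ᵥ v) i) * h2
  let Qm : (Fin 5 → F) → Matrix (Fin 5) (Fin 5) F := fun v => Matrix.of fun r j => ((a ^ (j : ℕ)) *ᵥ v) r
  have hcol : ∀ v x, Qm v *ᵥ x = ∑ j : Fin 5, x j • ((a ^ (j : ℕ)) *ᵥ v) := fun v x => by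
    ext r
    simp [Qm, Matrix.mulVec, dotProduct, Finset.sum_apply, mul_comm]
  have hshift : ∀ v, a * Qm v = Qm v * lift φ (cA 1) := fun v => by
    ext r j
    have hl : (a * Qm v) r j = ((a ^ ((j : ℕ) + 1)) *ᵥ v) r := by
      rw [pow_succ', ← mulVec_mulVec]
      rfl
    have hr : (Qm v * lift φ (cA 1)) r j = ∑ i : Fin 5, φ (cA 1 i j) * ((a ^ (i : ℕ)) *ᵥ v) r := by
      simp [Qm, lift, Matrix.mul_apply, mul_comm]
    rw [hl, hr]
    simp only [cA_shift]
    by_cases hj : j = 4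
    · subst hj
      simp [hrec, Finset.sum_apply]
    · have hj' : (j : ℕ) < 4 := by
        have := j.isLt
        have : (j : ℕ) ≠ 4 := fun h => hj (Fin.ext h)
        omega
      have hv' : ((j + 1 : Fin 5) : ℕ) = j + 1 := by rw [Fin.val_add]; simp; omega
      simp [hj, apply_ite φ, hc.one, hc.zero, ← hv']
  have hgram : ∀ v i j, ((Qm v)ᵀ * (Qm v).map τ.toRingHom) i j = f ((a ^ (i : ℕ)) *ᵥ v) ((a ^ (j : ℕ)) *ᵥ v) := by
    intro v i j
    simp only [f, Cfsg.hermForm, Qm, Matrix.mul_apply, transpose_apply, Matrix.map_apply, Matrix.of_apply]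
    exact Finset.sum_congr rfl fun r _ => congrArg _ (hτ _)
  have htoep : ∀ (v : Fin 5 → F) (t : Vec), (∀ n : Fin 5, φ (t n) = f ((a ^ (n : ℕ)) *ᵥ v) v) →
      (Qm v)ᵀ * (Qm v).map τ.toRingHom = lift φ (toep t) := by
    intro v t ht
    have key : ∀ i j : Fin 5, j ≤ i → φ (t (i - j)) = f ((a ^ (i : ℕ)) *ᵥ v) ((a ^ (j : ℕ)) *ᵥ v) := by
      intro i j hij
      have hd : (i : ℕ) = (j : ℕ) + ((i - j : Fin 5) : ℕ) := by
        rw [Fin.sub_val_of_le hij]
        have : (j : ℕ) ≤ i := hij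
        omega
      rw [ht, hd, pow_add, ← mulVec_mulVec, hiso]
    ext i j
    rw [hgram]
    simp only [lift, toep, Matrix.of_apply]
    by_cases hij : j ≤ i
    · rw [if_pos hij, key i j hij]
    · rw [if_neg hij, hc.conj, key j i (le_of_lt (not_le.mp hij)), ← hτ, ← hf.herm]
  -- a normalised vector
  set v₀ : Fin 5 → F := Pi.single 0 1
  have hv₀ : f v₀ v₀ = 1 := by simp [f, v₀, Cfsg.hermForm, Pi.single_apply, ite_pow]
  choose t ht using fun n : Fin 5 => hc.bij.2 (f ((a ^ (n : ℕ)) *ᵥ v₀) v₀)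
  have ht0 : t 0 = 1 := hc.bij.1 (by rw [ht, hc.one]; simpa using hv₀)
  have hG₀ := htoep v₀ t ht
  have hGe : ∀ i j, φ (toep t i j) = f ((a ^ (i : ℕ)) *ᵥ v₀) ((a ^ (j : ℕ)) *ᵥ v₀) := fun i j => by
    rw [← hgram, hG₀]; rfl
  have htv : t = ![1, t 1, t 2, t 3, t 4] := by
    funext i; fin_cases i <;> simp [ht0]
  obtain ⟨wt, -, hwt⟩ := frame_step (t 1) (t 2) (t 3) (t 4) (fun k => by
    rw [← htv]
    apply hc.bij.1
    rw [sum5_eq hc]
    simp only [hc.mul, hGe]
    rw [Fin.val_zero, pow_zero, one_mulVec, ← hiso ((k : ℕ) + 1), mulVec_mulVec, ← pow_add,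
      show (k : ℕ) + 1 + (4 - (k : ℕ)) = 5 by omega, hrec, ← Unit.formL_apply hf, map_sum]
    simp [Unit.formL_apply, hf.smul_left])
  rw [← htv] at hwt
  set e := Qm v₀ *ᵥ (φ ∘ wt.2)
  have hpowQ : ∀ n : ℕ, a ^ n * Qm v₀ = Qm v₀ * lift φ (cA 1) ^ n := by
    intro n
    induction n with
    | zero => simp
    | succ n ih => rw [pow_succ, mul_assoc, hshift, ← mul_assoc, ih, mul_assoc, ← pow_succ]
  refine ⟨a, aK.2, hpa5, fun x hx hx0 => ?_, Qm e, ?_, hshift e⟩
  · obtain ⟨i, hi, he⟩ := hprim.eq_pow_of_pow_eq_one (h11 ⟨x, hx⟩ (Subtype.ext (by rw [hpv]; exact hx0)))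
    exact ⟨⟨i, hi⟩, by rw [← hval, he]⟩
  rw [htoep e (fun n => cT n 0) fun j => ?_]
  · exact lift_congr fun a b => (cT_eq a b).symm
  rw [← hwt j, lift_inner hc (σ := τ.toRingHom) hτ, lift_mulV hc, ← hG₀]
  simp only [e, mulVec_mulVec]
  rw [hpowQ, lift_cA_pow hc, show Fin.ofNat 11 (j : ℕ) = (⟨j, by omega⟩ : Fin 11) from
    Fin.ext (Nat.mod_eq_of_lt (by omega)), ← mulVec_mulVec, ← mulVec_mulVec, dotProduct_mulVec, vecMul_transpose]
  simp only [f, Cfsg.hermForm, dotProduct]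
  refine Finset.sum_congr rfl fun r _ => congrArg _ ?_
  rw [← hτ, Matrix.mulVec, Matrix.mulVec, dotProduct, dotProduct, map_sum]
  simp

set_option maxHeartbeats 1000000 in
/-- over four elements the normaliser of a field of degree five is not maximal -/
theorem not_maximal (h4 : Fintype.card F = 4) (hτ : ∀ a, τ a = a ^ 2)
    (hf : IsUnitaryForm τ (Cfsg.hermForm 5 F 2))
    {K : Subalgebra F (Matrix (Fin 5) (Fin 5) F)} (hK : IsFieldSubalgebra 5 K)
    (hadj : IsAdjointClosedFor (Cfsg.hermForm 5 F 2) K) :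
    ∃ L : Subgroup (GL (Fin 5) F), subalgebraNormalizer K ⊓ (Cfsg.GU 5 F 2 ⊓ specialLinear (Fin 5) F) < L ∧
      L < Cfsg.GU 5 F 2 ⊓ specialLinear (Fin 5) F := by
  classical
  obtain ⟨φ, hφ, hφ0, hφ1, hadd, hmul, hconj⟩ := Four.exists_code h4
  have hc : Code φ := ⟨hφ, hφ0, hφ1, hadd, hmul, hconj⟩
  obtain ⟨a, haK, hpa, hroot, Q, hQ, haQ⟩ := exists_frame h4 hτ hf hc hK hadj
  set σ : F →+* F := τ.toRingHom
  replace hQ : Qᵀ * Q.map σ = lift φ cT := hQ
  have hσ : ∀ x, σ x = x ^ 2 := hτ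
  have h2 : (2 : F) = 0 := by
    have h := FiniteField.cast_card_eq_zero F
    rw [h4] at h
    push_cast at h
    exact mul_self_eq_zero.mp (show (2 : F) * 2 = 0 by linear_combination h)
  have hTT : lift φ cT * lift φ cTi = 1 := by rw [← lift_mul hc, lift_congr cT_inv, lift_one hc]
  have hQd : Q.det ≠ 0 := fun h => by
    have h' := congrArg Matrix.det hTT
    rw [← hQ, det_mul, det_mul, det_transpose, h, zero_mul, zero_mul, det_one] at h'
    exact zero_ne_one h'
  obtain ⟨Qi, hQi⟩ := ((Matrix.isUnit_iff_isUnit_det Q).mpr hQd.isUnit).exists_left_inv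
  have hQQ : Q * Qi = 1 := mul_eq_one_comm.mp hQi
  have hpowQ : ∀ n : ℕ, a ^ n * Q = Q * lift φ (cA 1) ^ n := by
    intro n
    induction n with
    | zero => simp
    | succ n ih => rw [pow_succ, mul_assoc, haQ, ← mul_assoc, ih, mul_assoc, ← pow_succ]
  have hAi : ∀ i : Fin 11, a ^ (i : ℕ) * Q = Q * lift φ (cA i) := fun i => by
    rw [hpowQ, lift_cA_pow hc, show Fin.ofNat 11 (i : ℕ) = i from Fin.ext (Nat.mod_eq_of_lt i.isLt)]
  -- coordinates of the normaliser
  have hN : ∀ g ∈ subalgebraNormalizer K ⊓ (Cfsg.GU 5 F 2 ⊓ specialLinear (Fin 5) F),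
      ∃ (m : Fin 5) (l : Fin 11), (g : Matrix (Fin 5) (Fin 5) F) * Q = Q * lift φ (mulM (cPhi m) (cA l)) := by
    rintro g ⟨hgN, hgU, hgS⟩
    set G := (g : Matrix (Fin 5) (Fin 5) F)
    set Gi := ((g⁻¹ : GL (Fin 5) F) : Matrix (Fin 5) (Fin 5) F)
    have hGG : Gi * G = 1 := g.inv_mul
    have hcj : ∀ x : Matrix (Fin 5) (Fin 5) F, poly5 (φ 2) (G * x * Gi) = G * poly5 (φ 2) x * Gi := fun x => by
      simp only [G, Gi, poly5, ← Units.conj_pow, mul_add, add_mul, mul_smul_comm, smul_mul_assoc, mul_one,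
        Units.mul_inv]
    obtain ⟨i, hi⟩ := hroot _ ((hgN a).mp haK) (by rw [hcj, hpa]; simp)
    have hpi : lift φ (pval i) = 0 := by
      have h0 : poly5 (φ 2) (a ^ (i : ℕ)) * Q = Q * lift φ (pval i) := by
        have e : ∀ n : ℕ, (a ^ (i : ℕ)) ^ n * Q = Q * lift φ (cA (Fin.ofNat 11 ((i : ℕ) * n))) := fun n => by
          rw [← pow_mul, hpowQ, lift_cA_pow hc]
        have h3 : φ 3 = φ 2 ^ 2 := by rw [show (3 : Fin 4) = Four.mul 2 2 from rfl, hc.mul, sq]
        have hmk : ∀ n : Fin 11, Fin.ofNat 11 ((i : ℕ) * (n : ℕ)) = i * n := fun n =>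
          Fin.ext (by simp [Fin.val_mul, Fin.ofNat])
        have e5 : (a ^ (i : ℕ)) ^ 5 * Q = Q * lift φ (cA (i * 5)) := by
          rw [← hmk 5]; exact e 5
        have e4 : (a ^ (i : ℕ)) ^ 4 * Q = Q * lift φ (cA (i * 4)) := by
          rw [← hmk 4]; exact e 4
        have e3 : (a ^ (i : ℕ)) ^ 3 * Q = Q * lift φ (cA (i * 3)) := by
          rw [← hmk 3]; exact e 3
        have e2 : (a ^ (i : ℕ)) ^ 2 * Q = Q * lift φ (cA (i * 2)) := by
          rw [← hmk 2]; exact e 2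
        rw [show lift φ (pval i) = lift φ (cA (i * 5)) + φ 2 ^ 2 • lift φ (cA (i * 4)) + lift φ (cA (i * 3))
            + lift φ (cA (i * 2)) + φ 2 • lift φ (cA i) + 1 by
          rw [← lift_one hc]
          ext r s
          simp [lift, pval, hc.add, hc.mul, h3]]
        simp only [poly5, add_mul, smul_mul_assoc, one_mul, mul_add, mul_smul_comm, mul_one]
        rw [e5, e4, e3, e2, hAi]
      rw [← hi, hcj, hpa] at h0
      simp only [mul_zero, zero_mul] at h0
      rw [← one_mul (lift φ (pval i)), ← hQi, mul_assoc, ← h0, mul_zero]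
    obtain ⟨m, hm⟩ := root_step i fun r s => hc.bij.1 (by
      rw [hc.zero]; exact congrFun (congrFun hpi r) s)
    set Gc := Qi * G * Q
    have hQGc : Q * Gc = G * Q := by simp only [Gc, ← mul_assoc, hQQ, one_mul]
    have hGA : Gc * lift φ (cA 1) = lift φ (cA i) * Gc := by
      have h1 : G * a = a ^ (i : ℕ) * G := by rw [← hi, mul_assoc, hGG, mul_one]
      calc Gc * lift φ (cA 1) = Qi * G * (a * Q) := by rw [haQ]; simp only [Gc, mul_assoc]
        _ = Qi * (a ^ (i : ℕ) * (Q * Qi)) * G * Q := by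
            rw [hQQ, mul_one, mul_assoc Qi, ← mul_assoc G a, h1]; simp only [mul_assoc]
        _ = _ := by rw [← mul_assoc (a ^ _) Q, hAi]; simp only [Gc, ← mul_assoc, hQi, one_mul]
    have hGU : Gcᵀ * lift φ cT * Gc.map σ = lift φ cT := by
      have hg : Gᵀ * G.map σ = 1 := by
        ext r s
        have h := hgU (Pi.single r 1) (Pi.single s 1)
        simp only [Cfsg.hermForm, Units.coeHom_apply, mulVec_single_one] at h
        simp only [Matrix.mul_apply, transpose_apply, Matrix.map_apply, hσ, Matrix.one_apply]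
        rw [Matrix.col_def] at h
        refine h.trans ?_
        simp [Pi.single_apply, ite_pow, eq_comm]
      calc Gcᵀ * lift φ cT * Gc.map σ = (Q * Gc)ᵀ * (Q * Gc).map σ := by
            rw [← hQ]; simp only [transpose_mul, Matrix.map_mul, mul_assoc]
        _ = Qᵀ * (Gᵀ * G.map σ) * Q.map σ := by rw [hQGc]; simp only [transpose_mul, Matrix.map_mul, mul_assoc]
        _ = _ := by rw [hg, mul_one, hQ]
    set Pm := lift φ (cPhi (-m))
    set B := Pm * Gc
    have hBA : B * lift φ (cA 1) = lift φ (cA 1) * B := by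
      simp only [B, Pm]
      rw [mul_assoc, hGA, ← mul_assoc, ← lift_mul hc, hm, lift_congr (cPhi_conj m), lift_mul hc, mul_assoc]
    have hBU : Bᵀ * lift φ cT * B.map σ = lift φ cT := by
      calc Bᵀ * lift φ cT * B.map σ = Gcᵀ * (Pmᵀ * lift φ cT * Pm.map σ) * Gc.map σ := by
            simp only [B, transpose_mul, Matrix.map_mul, mul_assoc]
        _ = _ := by rw [lift_iso hc hσ (cPhi_iso _), hGU]
    obtain ⟨c, hcB⟩ : ∃ c : Vec, ∀ r, φ (c r) = B r 0 := ⟨fun r => (hc.bij.2 (B r 0)).choose,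
      fun r => (hc.bij.2 (B r 0)).choose_spec⟩
    have hBcol : ∀ j r : Fin 5, B r j = φ (mulV (cA ⟨j, by omega⟩) c r) := by
      intro j r
      have hcomm : B * lift φ (cA 1) ^ (j : ℕ) = lift φ (cA 1) ^ (j : ℕ) * B :=
        (Commute.pow_right hBA (j : ℕ) : _)
      rw [lift_cA_pow hc, show Fin.ofNat 11 (j : ℕ) = (⟨j, by omega⟩ : Fin 11) from
        Fin.ext (Nat.mod_eq_of_lt (by omega))] at hcomm
      have h1 := congrFun (congrFun hcomm r) 0
      rw [show φ (mulV (cA ⟨j, by omega⟩) c r) = (lift φ (cA ⟨j, by omega⟩) *ᵥ (φ ∘ c)) r from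
        congrFun (lift_mulV hc _ _) r, show (φ ∘ c) = fun s => B s 0 from funext hcB]
      rw [show (B * lift φ (cA ⟨j, by omega⟩)) r 0 = B r j by
        simp [Matrix.mul_apply, lift, cA_col0, apply_ite φ, hc.one, hc.zero]] at h1
      exact h1
    obtain ⟨l, x, hx, hcl⟩ := cent_step (c 0) (c 1) (c 2) (c 3) (c 4) (by
      rw [show ![c 0, c 1, c 2, c 3, c 4] = c from funext fun r => by fin_cases r <;> rfl]
      intro j
      apply hc.bij.1
      rw [lift_inner hc hσ]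
      have h := congrFun (congrFun hBU j) 0
      simp only [Matrix.mul_apply, transpose_apply, Matrix.map_apply, lift, Matrix.of_apply] at h
      rw [← h]
      simp only [dotProduct, Matrix.mulVec, Function.comp_apply, lift, Matrix.of_apply, ← hBcol, hcB,
        Finset.sum_mul, Finset.mul_sum]
      rw [Finset.sum_comm]
      exact Finset.sum_congr rfl fun r _ => Finset.sum_congr rfl fun s _ => (mul_assoc _ _ _).symm)
    have hB : B = φ x • lift φ (cA l) := by
      ext r j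
      have hcx : φ ∘ c = φ x • (φ ∘ fun k => cA l k 0) := funext fun k => by
        have hk : c k = Four.mul x (cA l k 0) := by
          rw [← hcl k]; fin_cases k <;> rfl
        simp [hk, hc.mul]
      rw [hBcol, show φ (mulV (cA ⟨j, by omega⟩) c r) = (lift φ (cA ⟨j, by omega⟩) *ᵥ (φ ∘ c)) r from
        congrFun (lift_mulV hc _ _) r, hcx, mulVec_smul, ← lift_mulV hc]
      simp [lift, cA_cols l j r]
    have hd5 : ∀ M : Mat, lift φ M ^ 5 = 1 → (lift φ M).det = 1 := fun M hM => by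
      have h5 : (lift φ M).det ^ 5 = 1 := by rw [← det_pow, hM, det_one]
      have h3 : (lift φ M).det ^ 3 = 1 := by
        have := FiniteField.pow_card_sub_one_eq_one _ (show (lift φ M).det ≠ 0 from fun h0 => by simp [h0] at h5)
        rwa [h4] at this
      calc (lift φ M).det = (lift φ M).det * ((lift φ M).det ^ 5) := by rw [h5, mul_one]
        _ = ((lift φ M).det ^ 3) ^ 2 := by ring
        _ = 1 := by rw [h3, one_pow]
    have hPd : Pm.det = 1 := by
      have hP : ∀ n : ℕ, lift φ (cPhi 1) ^ n = lift φ (cPhi (Fin.ofNat 5 n)) := by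
        intro n
        induction n with
        | zero => rw [pow_zero, ← lift_one hc]; exact (lift_congr cPhi_zero).symm
        | succ n ih =>
          rw [pow_succ', ih, ← lift_mul hc, ← lift_congr (cPhi_succ _)]
          congr 2
          apply Fin.ext
          simp [Fin.val_add, Fin.ofNat, Nat.add_mod]
      have h1 : (lift φ (cPhi 1)).det = 1 := hd5 _ (by
        rw [hP, ← lift_one hc]; exact lift_congr cPhi_zero)
      have h := hP ((-m : Fin 5) : ℕ)
      rw [show Fin.ofNat 5 ((-m : Fin 5) : ℕ) = -m from Fin.ext (Nat.mod_eq_of_lt (-m : Fin 5).isLt)] at h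
      show (lift φ (cPhi (-m))).det = 1
      rw [← h, det_pow, h1, one_pow]
    have hAd : (lift φ (cA l)).det = 1 := by
      have hA1 : ∀ n, (lift φ (cA 1)).det ^ n = (lift φ (cA (Fin.ofNat 11 n))).det := fun n => by
        rw [← det_pow, lift_cA_pow hc]
      have h11 : (lift φ (cA 1)).det ^ 11 = 1 := by
        rw [hA1, show Fin.ofNat 11 11 = 0 from rfl, lift_congr cA_zero, lift_one hc, det_one]
      have h3 : (lift φ (cA 1)).det ^ 3 = 1 := by
        have := FiniteField.pow_card_sub_one_eq_one _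
          (show (lift φ (cA 1)).det ≠ 0 from fun h0 => by simp [h0] at h11)
        rwa [h4] at this
      have h1 : (lift φ (cA 1)).det = 1 := by
        calc (lift φ (cA 1)).det = (lift φ (cA 1)).det * ((lift φ (cA 1)).det ^ 11) := by rw [h11, mul_one]
          _ = ((lift φ (cA 1)).det ^ 3) ^ 4 := by ring
          _ = 1 := by rw [h3, one_pow]
      rw [← show Fin.ofNat 11 (l : ℕ) = l from Fin.ext (Nat.mod_eq_of_lt l.isLt), ← hA1, h1, one_pow]
    have hBd : B.det = 1 := by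
      have hg1 : G.det = 1 := by
        have := congrArg (fun x : Fˣ => (x : F)) (MonoidHom.mem_ker.mp hgS)
        simpa using this
      rw [show B = Pm * (Qi * G * Q) from rfl, det_mul, det_mul, det_mul, hPd, hg1, mul_one, one_mul,
        ← det_mul, hQi, det_one]
    have hx1 : φ x = 1 := by
      have hx0 : φ x ≠ 0 := fun h0 => hx (hc.bij.1 (h0.trans hc.zero.symm))
      have h3 : φ x ^ 3 = 1 := by
        have := FiniteField.pow_card_sub_one_eq_one _ hx0
        rwa [h4] at this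
      rw [hB, det_smul, hAd, mul_one, Fintype.card_fin] at hBd
      calc φ x = φ x * φ x ^ 5 := by rw [hBd, mul_one]
        _ = (φ x ^ 3) ^ 2 := by ring
        _ = 1 := by rw [h3, one_pow]
    refine ⟨m, l, ?_⟩
    rw [← hQGc, lift_mul hc]
    congr 1
    calc Gc = (lift φ (cPhi m) * Pm) * Gc := by
          rw [← lift_mul hc, lift_congr (cPhi_inv m), lift_one hc, one_mul]
      _ = _ := by rw [mul_assoc, show Pm * Gc = B from rfl, hB, hx1, one_smul]
  -- the two further isometries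
  have hinv : ∀ X : Mat, (∀ r s, mulM X X r s = one5 r s) → isIso X = true →
      ∃ x ∈ Cfsg.GU 5 F 2 ⊓ specialLinear (Fin 5) F,
        (x : Matrix (Fin 5) (Fin 5) F) * Q = Q * lift φ X := by
    intro X hX hXi
    set M := Q * lift φ X * Qi
    have hMQ : M * Q = Q * lift φ X := by simp only [M, mul_assoc, hQi, mul_one]
    have hXX : lift φ X * lift φ X = 1 := by rw [← lift_mul hc, lift_congr hX, lift_one hc]
    have hMM : M * M = 1 := by
      calc M * M = Q * (lift φ X * (Qi * Q) * lift φ X) * Qi := by simp only [M, mul_assoc]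
        _ = 1 := by rw [hQi, mul_one, hXX, mul_one, hQQ]
    have hMU : Mᵀ * M.map σ = 1 := by
      calc Mᵀ * M.map σ = Qiᵀ * ((lift φ X)ᵀ * (Qᵀ * Q.map σ) * (lift φ X).map σ) * Qi.map σ := by
            simp only [M, transpose_mul, Matrix.map_mul, mul_assoc]
        _ = (Q * Qi)ᵀ * (Q * Qi).map σ := by
            rw [hQ, lift_iso hc hσ hXi, ← hQ]; simp only [transpose_mul, Matrix.map_mul, mul_assoc]
        _ = 1 := by rw [hQQ, transpose_one, Matrix.map_one σ (map_zero σ) (map_one σ), one_mul]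
    let x : GL (Fin 5) F := ⟨M, M, hMM, hMM⟩
    refine ⟨x, ⟨fun u v => ?_, ?_⟩, hMQ⟩
    · show Cfsg.hermForm 5 F 2 (M *ᵥ u) (M *ᵥ v) = _
      have hd : ∀ u v : Fin 5 → F, Cfsg.hermForm 5 F 2 u v = u ⬝ᵥ (σ ∘ v) := fun u v => by
        simp [Cfsg.hermForm, dotProduct, hσ]
      rw [hd, hd, show σ ∘ (M *ᵥ v) = M.map σ *ᵥ (σ ∘ v) from funext fun r => RingHom.map_mulVec σ M v r,
        dotProduct_mulVec, ← mulVec_transpose, mulVec_mulVec, show (M.map σ)ᵀ * M = 1 by
          have h := congrArg Matrix.transpose hMU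
          rw [transpose_mul, transpose_transpose, transpose_one] at h
          exact h, one_mulVec]
    · have h : (M.det - 1) * (M.det - 1) = 0 := by
        have h1 := congrArg Matrix.det hMM
        rw [det_mul, det_one] at h1
        linear_combination h1 + (1 - M.det) * h2
      refine MonoidHom.mem_ker.mpr (Units.ext ?_)
      simpa [x] using sub_eq_zero.mp (mul_self_eq_zero.mp h)
  obtain ⟨xw, hxwΩ, hxw⟩ := hinv cW cW_sq cW_iso
  obtain ⟨xt, hxtΩ, hxt⟩ := hinv cX cX_sq cX_iso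
  let S : Set (Fin 5 → F) := {v | ∃ u : Vec, memS u = true ∧ v = Q *ᵥ (φ ∘ u)}
  have hmove : ∀ (g : GL (Fin 5) F) (X : Mat) (u : Vec), (g : Matrix (Fin 5) (Fin 5) F) * Q = Q * lift φ X →
      (g : Matrix (Fin 5) (Fin 5) F) *ᵥ (Q *ᵥ (φ ∘ u)) = Q *ᵥ (φ ∘ mulV X u) := fun g X u h => by
    rw [mulVec_mulVec, h, ← mulVec_mulVec, lift_mulV hc]
  have heta : ∀ u : Vec, u = ![u 0, u 1, u 2, u 3, u 4] := fun u => funext fun r => by fin_cases r <;> rfl
  obtain ⟨hS1, hS2, hS3, hS4, hS5⟩ := stable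
  refine not_maximal_of_setStab S ?_ hxwΩ ?_ ?_ hxtΩ (v := Q *ᵥ (φ ∘ cv)) ⟨cv, hS4, rfl⟩ ?_
  · rintro g hg _ ⟨u, hu, rfl⟩
    obtain ⟨m, l, hml⟩ := hN g hg
    refine ⟨mulV (cPhi m) (mulV (cA l) u), ?_, ?_⟩
    · rw [heta u] at hu ⊢
      have h1 := hS2 l _ _ _ _ _ hu
      rw [heta (mulV (cA l) _)] at h1 ⊢
      exact hS1 m _ _ _ _ _ h1
    · rw [mulVec_mulVec, hml, ← mulVec_mulVec, lift_mul hc, ← mulVec_mulVec, lift_mulV hc, lift_mulV hc]
  · rintro _ ⟨u, hu, rfl⟩
    rw [heta u] at hu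
    exact ⟨mulV cW u, by rw [heta u]; exact hS3 _ _ _ _ _ hu, hmove xw cW u hxw⟩
  · intro hM
    obtain ⟨m, l, hml⟩ := hN xw ⟨hM, hxwΩ⟩
    obtain ⟨r, s, hrs⟩ := cW_out m l
    refine hrs (hc.bij.1 ?_)
    have := congrArg (fun N => Qi * N) (hml.symm.trans hxw)
    simp only [← mul_assoc, hQi, one_mul] at this
    exact congrFun (congrFun this r) s
  · rintro ⟨u, hu, he⟩
    rw [hmove xt cX cv hxt] at he
    have h := congrArg (fun z => Qi *ᵥ z) he
    simp only [mulVec_mulVec, hQi, one_mulVec] at h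
    have : mulV cX cv = u := funext fun r => hc.bij.1 (congrFun h r)
    rw [this, hu] at hS5
    exact absurd hS5 (by decide)

end CfsgLib.Asch.FiveField
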