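import Cfsg.Agent.Lib.Aschbacher.SuProper
import Cfsg.Agent.Lib.Aschbacher.SetStab
import Cfsg.Agent.Lib.Aschbacher.NineField
import Cfsg.Agent.Lib.ClassicalMax.UnitFrame

/-!
# Monomial subgroups of the unitary group of degree four over nine elements
-/

set_option autoImplicit false

namespace CfsgLib.Asch

open Matrix Cfsg.Geo CfsgLib.ClassicalMax
open scoped MatrixGroups

namespace FourLines

open Nine

/-- one for non-zero codes -/
def cnt (a : Fin 9) : ℕ := if a = 0 then 0 else 1

/-- equal norms unless one is zero -/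
def same (a b : Fin 9) : Bool := a == 0 || b == 0 || norm a == norm b

/-- the distinguished vectors -/
def good (a b c d : Fin 9) : Bool :=
  cnt a + cnt b + cnt c + cnt d == 1 ||
    ((same a b && same a c && same a d && same b c && same b d && same c d) &&
      (cnt a + cnt b + cnt c + cnt d == 2 ||
        (cnt a + cnt b + cnt c + cnt d == 4 &&
          mul (mul (mul (mul a b) c) d) (mul (mul (mul a b) c) d) == 1)))

lemma good_step : ∀ a b c d : Fin 9, good a b c d = true →
    good (mul 4 (add a b)) (mul 4 (add a (mul 2 b))) (mul 5 (add c d)) (mul 5 (add c (mul 2 d))) = true := by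
  decide +kernel

variable {F : Type*} [Field F] [Fintype F] {σ : F ≃+* F} {f : (Fin 4 → F) → (Fin 4 → F) → F}

/-- the stabiliser of four orthogonal lines is not maximal over nine elements -/
theorem not_maximal (hF : Fintype.card F = 9) (hσ : ∀ a, σ a = a ^ 3) (hf : IsUnitaryForm σ f)
    {D : Fin 4 → Submodule F (Fin 4 → F)} (hD : IsNondegenerateMDecomposition f 1 D) :
    ∃ K : Subgroup (GL (Fin 4) F), decompositionStabilizer D ⊓ (Unit.isoOf f ⊓ specialLinear (Fin 4) F) < K ∧
      K < Unit.isoOf f ⊓ specialLinear (Fin 4) F := by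
  classical
  have hne : ∀ i, ∃ e ∈ D i, e ≠ 0 := fun i => (Submodule.ne_bot_iff _).mp fun hb => by
    have := hD.decomp.finrank_eq i
    rw [hb, finrank_bot] at this
    omega
  choose e' he' he0' using hne
  have hspan' : ∀ i, Submodule.span F {e' i} = D i := fun i =>
    Submodule.eq_of_le_of_finrank_eq ((Submodule.span_singleton_le_iff_mem _ _).2 (he' i))
      (by rw [finrank_span_singleton (he0' i), hD.decomp.finrank_eq])
  have hee' : ∀ i, f (e' i) (e' i) ≠ 0 := fun i h0 => by
    obtain ⟨-, x, hx, hne⟩ := hD.nondegenerate i _ (he' i) (he0' i)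
    rw [← hspan' i] at hx
    obtain ⟨c, rfl⟩ := Submodule.mem_span_singleton.mp hx
    exact hne (by rw [Unit.smul_right hf, h0, mul_zero])
  have hsc : ∀ i, ∃ c : F, c * σ c = (f (e' i) (e' i))⁻¹ := fun i =>
    Unit.exists_norm_eq hf.ne_refl hf.involutive (by rw [map_inv₀, Unit.self_fixed hf])
  choose s hs using hsc
  have hs0 : ∀ i, s i ≠ 0 := fun i h => inv_ne_zero (hee' i) (by rw [← hs i, h, zero_mul])
  let e : Fin 4 → Fin 4 → F := fun i => s i • e' i
  have he : ∀ i, e i ∈ D i := fun i => Submodule.smul_mem _ _ (he' i)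
  have hspan : ∀ i, Submodule.span F {e i} = D i := fun i => by
    rw [← hspan' i, Submodule.span_singleton_smul_eq (IsUnit.mk0 _ (hs0 i))]
  have hee : ∀ i, f (e i) (e i) = 1 := fun i => by
    rw [hf.smul_left, Unit.smul_right hf, ← mul_assoc, hs, inv_mul_cancel₀ (hee' i)]
  have horth : ∀ i j, f (e i) (e j) = if i = j then 1 else 0 := fun i j => by
    split_ifs with h
    · rw [h, hee]
    · exact hD.orthogonal i j h _ (he i) _ (he j)
  let crd : (Fin 4 → F) → Fin 4 → F := fun v i => f v (e i)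
  let vec : (Fin 4 → F) → Fin 4 → F := fun x => ∑ i, x i • e i
  have hcrd : ∀ x, crd (vec x) = x := fun x => funext fun j => by
    simp only [crd, vec, ← Unit.formL_apply hf, map_sum, map_smul]
    simp [Unit.formL_apply, horth]
  have hvec : ∀ v, vec (crd v) = v := fun v => by
    have hsurj : Function.Surjective crd := fun x => ⟨vec x, hcrd x⟩
    exact (Finite.injective_iff_surjective.mpr hsurj) (hcrd (crd v))
  have hform : ∀ x y, f (vec x) (vec y) = ∑ i, x i * σ (y i) := fun x y => by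
    rw [← Unit.formL_apply hf (vec y)]
    simp only [vec, map_sum, map_smul, Unit.formL_apply, smul_eq_mul]
    refine Finset.sum_congr rfl fun i _ => ?_
    congr 1
    rw [hf.herm, show f (∑ j, y j • e j) (e i) = y i from congrFun (hcrd y) i]
  let num : (Fin 4 → F) → ℕ := fun x => (Finset.univ.filter fun i => x i ≠ 0).card
  let good' : (Fin 4 → F) → Prop := fun x => num x = 1 ∨
    ((∀ i j, x i ≠ 0 → x j ≠ 0 → x i * σ (x i) = x j * σ (x j)) ∧
      (num x = 2 ∨ (num x = 4 ∧ (∏ i, x i) * (∏ i, x i) = 1)))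
  let S : Set (Fin 4 → F) := {v | good' (crd v)}
  let Pm : Matrix (Fin 4) (Fin 4) F := Matrix.of fun i k => e k i
  have hPm : ∀ x, Pm *ᵥ x = vec x := fun x => funext fun i => by
    simp [Pm, vec, Matrix.mulVec, dotProduct, Finset.sum_apply, mul_comm]
  have hdetP : Pm.det ≠ 0 := fun h => by
    obtain ⟨x, hx0, hx⟩ := (Matrix.exists_mulVec_eq_zero_iff).mpr h
    rw [hPm] at hx
    refine hx0 ?_
    rw [← hcrd x, hx]
    funext i
    exact Unit.zero_left hf _
  have hM : ∀ g ∈ decompositionStabilizer D ⊓ (Unit.isoOf f ⊓ specialLinear (Fin 4) F),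
      ∀ v ∈ S, (g : Matrix (Fin 4) (Fin 4) F) *ᵥ v ∈ S := by
    intro g hg v hv
    obtain ⟨⟨π, hπ⟩, hiso, hdet⟩ := hg
    have hge : ∀ i, ∃ a : F, (g : Matrix (Fin 4) (Fin 4) F) *ᵥ e i = a • e (π i) := fun i => by
      have h : (g : Matrix (Fin 4) (Fin 4) F) *ᵥ e i ∈ D (π i) := by
        rw [← hπ i]; exact ⟨_, he i, Matrix.toLin'_apply _ _⟩
      rw [← hspan] at h
      obtain ⟨a, ha⟩ := Submodule.mem_span_singleton.mp h
      exact ⟨a, ha.symm⟩
    choose a ha using hge
    have hna : ∀ i, a i * σ (a i) = 1 := fun i => by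
      have h := hiso (e i) (e i)
      change f ((g : Matrix (Fin 4) (Fin 4) F) *ᵥ e i) ((g : Matrix (Fin 4) (Fin 4) F) *ᵥ e i) = _ at h
      rw [ha, hf.smul_left, Unit.smul_right hf, hee, hee, mul_one] at h
      exact h
    have hcg : ∀ w i, crd ((g : Matrix (Fin 4) (Fin 4) F) *ᵥ w) (π i) = a i * crd w i := fun w i => by
      have h : f ((g : Matrix (Fin 4) (Fin 4) F) *ᵥ w) ((g : Matrix (Fin 4) (Fin 4) F) *ᵥ e i) = f w (e i) := hiso w (e i)
      rw [ha, Unit.smul_right hf] at h
      simp only [crd]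
      rw [← h, ← mul_assoc, hna, one_mul]
    have ha0 : ∀ i, a i ≠ 0 := fun i h0 => by
      have := hna i
      rw [h0, zero_mul] at this
      exact zero_ne_one this
    have hprod : (∏ i, a i) * (∏ i, a i) = 1 := by
      have h : (g : Matrix (Fin 4) (Fin 4) F) * Pm = Pm * (π.permMatrix F)ᵀ * diagonal a := by
        ext i k
        have h' := congrFun (ha k) i
        simp only [Matrix.mulVec, dotProduct, Pi.smul_apply, smul_eq_mul] at h'
        rw [Matrix.mul_diagonal, Matrix.mul_apply, Matrix.mul_apply]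
        simp only [Pm, Matrix.of_apply]
        rw [h', Finset.sum_eq_single (π k)]
        · simp [Equiv.Perm.permMatrix, PEquiv.toMatrix, mul_comm]
        · intro l _ hl
          simp [Equiv.Perm.permMatrix, PEquiv.toMatrix, Ne.symm hl]
        · simp
      have h' := congrArg Matrix.det h
      rw [det_mul, det_mul, det_mul, det_mem_sl.mp hdet, one_mul, det_transpose, Matrix.det_permutation,
        det_diagonal, mul_assoc] at h'
      have h1 := mul_left_cancel₀ hdetP ((mul_one _).trans h')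
      rcases Int.units_eq_one_or (Equiv.Perm.sign π) with hs' | hs' <;> rw [hs'] at h1 <;> push_cast at h1
      · rw [one_mul] at h1; rw [← h1, mul_one]
      · rw [show ∏ i, a i = -1 by linear_combination h1]; ring
    have hnum : num (crd ((g : Matrix (Fin 4) (Fin 4) F) *ᵥ v)) = num (crd v) := by
      refine (Finset.card_equiv π fun i => ?_).symm
      simp only [Finset.mem_filter, Finset.mem_univ, true_and, hcg, ne_eq, mul_eq_zero, ha0 i, false_or]
    change good' _
    simp only [good', hnum]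
    rcases hv with hv | ⟨hv, hv'⟩
    · exact Or.inl hv
    refine Or.inr ⟨fun i j => ?_, hv'.imp_right fun ⟨h4, hp⟩ => ⟨h4, ?_⟩⟩
    · obtain ⟨i, rfl⟩ := π.surjective i
      obtain ⟨j, rfl⟩ := π.surjective j
      simp only [hcg, mul_ne_zero_iff, map_mul, mul_mul_mul_comm, hna, one_mul]
      exact fun h h' => hv i j h.2 h'.2
    · rw [← Equiv.prod_comp π]
      simp only [hcg, Finset.prod_mul_distrib]
      rw [mul_mul_mul_comm, hprod, hp, one_mul]
  obtain ⟨φ, hφ, φ0, φ1, φadd, φmul, φconj⟩ := exists_code hF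
  have hnz : ∀ x : Fin 9, φ x = 0 ↔ x = 0 := fun x => by rw [← φ0]; exact hφ.1.eq_iff
  have hnorm : ∀ x, φ x * σ (φ x) = φ (Nine.norm x) := fun x => by rw [hσ, Nine.norm, φmul, φconj]
  have hgood : ∀ y : Fin 4 → Fin 9, good' (fun i => φ (y i)) ↔ good (y 0) (y 1) (y 2) (y 3) = true := by
    intro y
    have hn : num (fun i => φ (y i)) = cnt (y 0) + cnt (y 1) + cnt (y 2) + cnt (y 3) := by
      simp only [num, Finset.card_filter, Fin.sum_univ_four, ne_eq, hnz, cnt, ite_not]
    have hsame : ∀ i j, (φ (y i) ≠ 0 → φ (y j) ≠ 0 → φ (y i) * σ (φ (y i)) = φ (y j) * σ (φ (y j))) ↔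
        same (y i) (y j) = true := by
      intro i j
      simp only [ne_eq, hnz, hnorm, hφ.1.eq_iff, same, Bool.or_eq_true, beq_iff_eq]
      tauto
    simp only [good', hn, hsame, Fin.prod_univ_four, ← φmul, ← φ1, hφ.1.eq_iff, good, Bool.or_eq_true,
      Bool.and_eq_true, beq_iff_eq]
    refine or_congr Iff.rfl (and_congr_left fun _ => ?_)
    constructor
    · exact fun h => ⟨⟨⟨⟨⟨h 0 1, h 0 2⟩, h 0 3⟩, h 1 2⟩, h 1 3⟩, h 2 3⟩
    · rintro ⟨⟨⟨⟨⟨h01, h02⟩, h03⟩, h12⟩, h13⟩, h23⟩ i j
      have hsymm : ∀ p q, same p q = true → same q p = true := by decide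
      have hrefl : ∀ p, same p p = true := by decide
      fin_cases i <;> fin_cases j <;> first | exact hrefl _ | assumption | exact hsymm _ _ (by assumption)
  -- the extra element
  let N : Matrix (Fin 4) (Fin 4) F := !![φ 4, φ 4, 0, 0; φ 4, φ 4 * φ 2, 0, 0; 0, 0, φ 5, φ 5; 0, 0, φ 5, φ 5 * φ 2]
  have hNiso : Nᵀ * N.map σ = 1 := by
    ext i j
    fin_cases i <;> fin_cases j <;>
      simp [N, Matrix.mul_apply, Fin.sum_univ_four, hσ, mul_pow] <;>
      (simp only [← φconj, ← φmul, ← φadd, ← φ1, ← φ0]; exact congrArg φ (by decide))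
  have hNdet : N.det = 1 := by
    simp [N, det_succ_row_zero, Fin.sum_univ_succ, Fin.succAbove]
    have e4 : φ 4 * (φ 4 * φ 2) + φ 2 * (φ 4 * φ 4) = φ (add (mul 4 (mul 4 2)) (mul 2 (mul 4 4))) := by
      simp only [φadd, φmul]
    have hd : (φ 4 * (φ 4 * φ 2) + φ 2 * (φ 4 * φ 4)) * (φ 5 * (φ 5 * φ 2) + φ 2 * (φ 5 * φ 5)) = 1 := by
      simp only [← φmul, ← φadd, ← φ1]
      exact congrArg φ (by decide)
    have h2 : φ 2 = -1 := by
      have h : φ 2 + φ 1 = φ 0 := by rw [← φadd]; exact congrArg φ (by decide)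
      rw [φ0, φ1] at h
      linear_combination h
    rw [h2] at hd ⊢
    linear_combination hd
  let Pg : GL (Fin 4) F := GeneralLinearGroup.mkOfDetNeZero Pm hdetP
  let w : GL (Fin 4) F := Pg * GeneralLinearGroup.mkOfDetNeZero N (by rw [hNdet]; exact one_ne_zero) * Pg⁻¹
  have hwv : ∀ x, (w : Matrix (Fin 4) (Fin 4) F) *ᵥ vec x = vec (N *ᵥ x) := fun x => by
    rw [← hPm, ← hPm]
    show ((Pg : Matrix (Fin 4) (Fin 4) F) * N * ((Pg⁻¹ : GL (Fin 4) F) : Matrix (Fin 4) (Fin 4) F)) *ᵥ ((Pg : Matrix (Fin 4) (Fin 4) F) *ᵥ x) = _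
    rw [mulVec_mulVec, mul_assoc _ _ (Pg : Matrix (Fin 4) (Fin 4) F), Units.inv_mul, mul_one, ← mulVec_mulVec]
    rfl
  have hwΩ : w ∈ Unit.isoOf f ⊓ specialLinear (Fin 4) F := by
    refine ⟨fun u v => ?_, det_mem_sl.mpr ?_⟩
    · change f ((w : Matrix (Fin 4) (Fin 4) F) *ᵥ u) ((w : Matrix (Fin 4) (Fin 4) F) *ᵥ v) = f u v
      rw [← hvec u, ← hvec v, hwv, hwv, hform, hform]
      change (N *ᵥ crd u) ⬝ᵥ (fun i => σ ((N *ᵥ crd v) i)) = crd u ⬝ᵥ fun i => σ (crd v i)
      rw [show (fun i => σ ((N *ᵥ crd v) i)) = N.map σ *ᵥ fun i => σ (crd v i) from funext fun i =>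
          RingHom.map_mulVec σ.toRingHom N (crd v) i,
        ← vecMul_transpose, ← dotProduct_mulVec, mulVec_mulVec, hNiso, one_mulVec]
    · show (((Pg : Matrix (Fin 4) (Fin 4) F) * N * ((Pg⁻¹ : GL (Fin 4) F) : Matrix (Fin 4) (Fin 4) F))).det = 1
      rw [det_mul, det_mul, hNdet, mul_one, ← det_mul, Units.mul_inv, det_one]
  have hwS : ∀ v ∈ S, (w : Matrix (Fin 4) (Fin 4) F) *ᵥ v ∈ S := by
    intro v hv
    obtain ⟨y, hy⟩ : ∃ y : Fin 4 → Fin 9, crd v = fun i => φ (y i) :=
      ⟨fun i => (hφ.2 (crd v i)).choose, funext fun i => (hφ.2 (crd v i)).choose_spec.symm⟩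
    have h := good_step _ _ _ _ ((hgood y).mp (hy ▸ hv))
    set z : Fin 4 → Fin 9 := ![mul 4 (add (y 0) (y 1)), mul 4 (add (y 0) (mul 2 (y 1))),
      mul 5 (add (y 2) (y 3)), mul 5 (add (y 2) (mul 2 (y 3)))]
    have hz : crd ((w : Matrix (Fin 4) (Fin 4) F) *ᵥ v) = fun i => φ (z i) := by
      rw [← hvec v, hwv, hcrd, hy]
      funext i
      fin_cases i <;> simp [z, N, Matrix.mulVec, dotProduct, Fin.sum_univ_four, φmul, φadd] <;> ring
    exact (show good' _ from hz ▸ (hgood z).mpr h)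
  have hwM : w ∉ decompositionStabilizer D := by
    rintro ⟨π, hπ⟩
    let x0 : Fin 4 → F := fun i => if i = 0 then 1 else 0
    have h : (w : Matrix (Fin 4) (Fin 4) F) *ᵥ vec x0 ∈ D (π 0) := by
      rw [← hπ 0]
      refine ⟨vec x0, ?_, Matrix.toLin'_apply _ _⟩
      simp only [vec, x0, ite_smul, one_smul, zero_smul, Finset.sum_ite_eq', Finset.mem_univ, if_true]
      exact he 0
    rw [← hspan] at h
    obtain ⟨c, hc⟩ := Submodule.mem_span_singleton.mp h
    have hall : ∀ i : Fin 4, i.val < 2 → i = π 0 := fun i hi => by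
      by_contra hne
      have := congrArg (fun u => crd u i) hc
      simp only [hwv, hcrd] at this
      have h0 : crd (c • e (π 0)) i = 0 := by
        simp only [crd, hf.smul_left, horth, if_neg (Ne.symm hne), mul_zero]
      rw [h0] at this
      have h4 : φ 4 ≠ 0 := fun h => by simpa using (hnz 4).mp h
      fin_cases i <;> simp [x0, N, Matrix.mulVec, dotProduct, Fin.sum_univ_four] at this hi <;> exact h4 this.symm
    have := hall 0 (by decide)
    have := hall 1 (by decide)
    omega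
  -- a diagonal-free element moving the set
  obtain ⟨τ, hτ0, hτ⟩ := Unit.exists_trace_zero hf.ne_refl hf.involutive
  have h3 : (3 : F) = 0 := by
    have h9 := FiniteField.cast_card_eq_zero F
    rw [hF] at h9
    push_cast at h9
    exact mul_self_eq_zero.mp (show (3 : F) * 3 = 0 by linear_combination h9)
  let a : Fin 4 → F := ![1, 1, 1, 0]
  have ha : f (vec a) (vec a) = 0 := by
    rw [hform, Fin.sum_univ_four]
    simp [a]
    linear_combination h3
  refine not_maximal_of_setStab S hM hwΩ hwS hwM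
    (t := Unit.uTv hf (vec a) τ) ⟨Unit.uTv_mem_isoOf hf ha hτ, Unit.uTv_mem_sl hf _ _⟩
    (v := vec (fun i => if i = 0 then 1 else 0)) (Or.inl ?_) ?_
  · show (Finset.univ.filter fun i => crd (vec _) i ≠ 0).card = 1
    rw [hcrd]
    simp [Finset.filter_eq']
  have hval : crd ((Unit.uTv hf (vec a) τ : Matrix (Fin 4) (Fin 4) F) *ᵥ vec (fun i => if i = 0 then 1 else 0)) =
      ![1 + τ, τ, τ, 0] := by
    funext i
    rw [Unit.uTv_mulVec hf ha, hform, Fin.sum_univ_four]
    simp only [crd, hf.add_left, hf.smul_left]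
    rw [show ∀ x j, f (vec x) (e j) = x j from fun x j => congrFun (hcrd x) j,
      show ∀ x j, f (vec x) (e j) = x j from fun x j => congrFun (hcrd x) j]
    fin_cases i <;> simp [a]
  have h1τ : 1 + τ ≠ 0 := fun h => by
    have h' := congrArg σ h
    rw [map_add, map_one, hτ, map_zero] at h'
    exact one_ne_zero (show (1 : F) = 0 by linear_combination h3 - h - h')
  have hn3 : num ![1 + τ, τ, τ, 0] = 3 := by
    simp only [num]
    rw [show (Finset.univ.filter fun i => (![1 + τ, τ, τ, 0] : Fin 4 → F) i ≠ 0) = {0, 1, 2} by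
      ext i; fin_cases i <;> simp [h1τ, hτ0]]
    decide
  rintro (h | ⟨-, h⟩)
  · rw [hval, hn3] at h
    omega
  · rw [hval, hn3] at h
    omega

end FourLines

end CfsgLib.Asch
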