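import Cfsg.Agent.Lib.Aschbacher.SuList

/-!
# Over small fields two complementary singular planes carry a symplectic subfield structure
-/

set_option autoImplicit false

namespace CfsgLib.Asch

open Matrix Cfsg.Geo CfsgLib.ClassicalMax
open scoped MatrixGroups

namespace SuPair

variable {ι : Type} [Fintype ι] [DecidableEq ι] {F : Type*} [Field F] [Fintype F]
  {σ : F ≃+* F} {f : (ι → F) → (ι → F) → F}

omit [DecidableEq ι] [Fintype F] in
/-- a frame adapted to two complementary totally singular planes -/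
lemma exists_frame (hf : IsUnitaryForm σ f) {D : Fin 2 → Submodule F (ι → F)} (hD : IsMDecomposition 2 D)
    (hs : ∀ i, IsTotallySingularFor f (D i)) :
    ∃ e p : Fin 2 → ι → F, (∀ i, e i ∈ D 0) ∧ (∀ i, p i ∈ D 1) ∧
      (∀ i j, f (e i) (p j) = if i = j then 1 else 0) ∧
      (∀ v ∈ D 0, v = f v (p 0) • e 0 + f v (p 1) • e 1) ∧
      (∀ v ∈ D 1, v = f v (e 0) • p 0 + f v (e 1) • p 1) := by
  classical
  let b := Module.finBasisOfFinrankEq F (D 0) (hD.finrank_eq 0)
  have hdec : ∀ v, ∀ hv : v ∈ D 0, v = b.repr ⟨v, hv⟩ 0 • (b 0 : ι → F) + b.repr ⟨v, hv⟩ 1 • (b 1 : ι → F) := by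
    intro v hv
    have h := congrArg Subtype.val (b.sum_repr ⟨v, hv⟩)
    simp only [Fin.sum_univ_two, Submodule.coe_add, Submodule.coe_smul] at h
    exact h.symm
  have hsplit : ∀ x, ∃ u ∈ D 0, ∃ v ∈ D 1, u + v = x := fun x => by
    have : x ∈ D 0 ⊔ D 1 := by
      have h : iSup D = D 0 ⊔ D 1 := le_antisymm
        (iSup_le (Fin.forall_fin_two.2 ⟨le_sup_left, le_sup_right⟩)) (sup_le (le_iSup D 0) (le_iSup D 1))
      rw [← h, hD.iSup_eq_top]; trivial
    exact Submodule.mem_sup.mp this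
  let T : D 1 →ₗ[F] (Fin 2 → F) :=
    { toFun := fun w i => f w (b i : ι → F)
      map_add' := fun x y => funext fun i => hf.add_left _ _ _
      map_smul' := fun c x => funext fun i => hf.smul_left _ _ _ }
  have hTinj : Function.Injective T := by
    rw [← LinearMap.ker_eq_bot, LinearMap.ker_eq_bot']
    intro w hw
    by_contra h0
    obtain ⟨-, x, hx⟩ := hf.nondegenerate (w : ι → F) (fun e => h0 (Subtype.ext e))
    obtain ⟨u, hu, v, hv, rfl⟩ := hsplit x
    refine hx ?_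
    have w0 : f (w : ι → F) (b 0 : ι → F) = 0 := congrFun hw 0
    have w1 : f (w : ι → F) (b 1 : ι → F) = 0 := congrFun hw 1
    rw [Unit.add_right hf, hs 1 w w.2 v hv, add_zero, hdec u hu, Unit.add_right hf, Unit.smul_right hf,
      Unit.smul_right hf, w0, w1, mul_zero, mul_zero, add_zero]
  have hT : Function.Surjective T :=
    (LinearMap.injective_iff_surjective_of_finrank_eq_finrank
      (by rw [hD.finrank_eq, Module.finrank_fintype_fun_eq_card, Fintype.card_fin])).mp hTinj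
  choose p hp using fun j => hT (Pi.single j 1)
  have hpe : ∀ j i, f (p j : ι → F) (b i : ι → F) = if i = j then 1 else 0 := fun j i => by
    have := congrFun (hp j) i
    rw [Pi.single_apply] at this
    exact this
  have hep : ∀ i j, f (b i : ι → F) (p j : ι → F) = if i = j then 1 else 0 := fun i j => by
    rw [hf.herm, hpe]
    split_ifs <;> simp
  refine ⟨fun i => b i, fun j => p j, fun i => (b i).2, fun j => (p j).2, hep, fun v hv => ?_, fun v hv => ?_⟩
  · have h0 : ∀ j, f v (p j : ι → F) = b.repr ⟨v, hv⟩ j := fun j => by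
      conv_lhs => rw [hdec v hv]
      rw [hf.add_left, hf.smul_left, hf.smul_left, hep, hep]
      fin_cases j <;> simp
    rw [h0, h0]
    exact hdec v hv
  · have hq : (⟨v, hv⟩ : D 1) = f v (b 0 : ι → F) • p 0 + f v (b 1 : ι → F) • p 1 := hTinj (by
      rw [map_add, map_smul, map_smul, hp, hp]
      funext i
      fin_cases i <;> simp [T])
    exact congrArg Subtype.val hq

omit [DecidableEq ι] in
/-- the symplectic subfield structure -/
theorem subfieldSymp_of_pair [DecidableEq ι] (hf : IsUnitaryForm σ f)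
    (hN : ∀ a : F, σ a = a → a ≠ 0 → a * a = 1) (hι : Fintype.card ι = 4)
    {D : Fin 2 → Submodule F (ι → F)} (hD : IsMDecomposition 2 D) (hs : ∀ i, IsTotallySingularFor f (D i)) :
    ∃ (F₀ : Subfield F) (P : GL ι F) (ζ : F), Fintype.card F = Nat.card F₀ ^ 2 ∧ F₀ ≠ ⊤ ∧ ζ ≠ 0 ∧ σ ζ = -ζ ∧
      IsFormRationalStructure f F₀ ζ P ∧
      (∀ u : ι → F, (∀ i, u i ∈ F₀) → f ((P : Matrix ι ι F) *ᵥ u) ((P : Matrix ι ι F) *ᵥ u) = 0) ∧
      decompositionStabilizer D ⊓ (Unit.isoOf f ⊓ specialLinear ι F) ≤ subfieldSubgroup F₀ P := by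
  classical
  obtain ⟨e, p, he, hp, hep, hD0, hD1⟩ := exists_frame hf hD hs
  have hee : ∀ i j, f (e i) (e j) = 0 := fun i j => hs 0 _ (he i) _ (he j)
  have hpp : ∀ i j, f (p i) (p j) = 0 := fun i j => hs 1 _ (hp i) _ (hp j)
  have hpe : ∀ i j, f (p i) (e j) = if j = i then 1 else 0 := fun i j => by
    rw [hf.herm, hep]; split_ifs <;> simp
  obtain ⟨ρ, hρ⟩ : ∃ ρ : F, σ ρ ≠ ρ := by
    by_contra h
    push Not at h
    exact hf.ne_refl (RingEquiv.ext h)
  have hneg : ∀ u v, f (-u) v = -f u v := fun u v => by rw [← neg_one_smul F u, hf.smul_left, neg_one_mul]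
  have hnegr : ∀ u v, f u (-v) = -f u v := fun u v => by
    rw [← neg_one_smul F v, Unit.smul_right hf, map_neg, map_one, neg_one_mul]
  have hz : ∀ v, f 0 v = 0 := fun v => Unit.zero_left hf v
  have hρ0 : ρ - σ ρ ≠ 0 := sub_ne_zero.mpr (Ne.symm hρ)
  set F₀ := Unit.fixedField σ
  obtain ⟨ζ, hζ0, hζ⟩ := Unit.exists_trace_zero hf.ne_refl hf.involutive
  obtain ⟨ev⟩ := (Fintype.card_eq.mp (show Fintype.card ι = Fintype.card (Fin 4) by rw [hι, Fintype.card_fin]) :
    Nonempty (ι ≃ Fin 4))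
  -- the twisted sums
  let x : F → F → ι → F := fun a b => a • e 0 + b • e 1 + (-σ a) • p 1 + σ b • p 0
  have xadd : ∀ a b a' b', x (a + a') (b + b') = x a b + x a' b' := fun a b a' b' => by
    simp only [x, map_add]; module
  have xform : ∀ a b a' b', f (x a b) (x a' b') = a * b' - b * a' - σ (a * b') + σ (b * a') := fun a b a' b' => by
    simp only [x, hf.add_left, Unit.add_right hf, hf.smul_left, Unit.smul_right hf, hee, hpp, hep, hpe,
      map_neg, hf.involutive, map_mul, hneg, hnegr]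
    simp
    ring
  let col : Fin 4 → ι → F := ![x 1 0, x ρ 0, x 0 1, x 0 ρ]
  let Pm : Matrix ι ι F := Matrix.of fun i k => col (ev k) i
  have hPu : ∀ u : ι → F, (∀ i, σ (u i) = u i) → Pm *ᵥ u =
      x (u (ev.symm 0) + u (ev.symm 1) * ρ) (u (ev.symm 2) + u (ev.symm 3) * ρ) := by
    intro u hu
    have h1 : Pm *ᵥ u = ∑ k, u (ev.symm k) • col k := by
      funext i
      simp only [Matrix.mulVec, dotProduct, Pm, Matrix.of_apply, Finset.sum_apply, Pi.smul_apply, smul_eq_mul]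
      rw [← Equiv.sum_comp ev.symm]
      exact Finset.sum_congr rfl fun k _ => by rw [ev.apply_symm_apply, mul_comm]
    rw [h1, Fin.sum_univ_four]
    simp only [col, Matrix.cons_val_zero, Matrix.cons_val_one, Matrix.cons_val, x, map_add, map_mul, map_one,
      map_zero, hu]
    module
  have hsplitF : ∀ z : F, ∃ c0 c1 : F, σ c0 = c0 ∧ σ c1 = c1 ∧ z = c0 + c1 * ρ := by
    intro z
    refine ⟨z - (z - σ z) / (ρ - σ ρ) * ρ, (z - σ z) / (ρ - σ ρ), ?_, ?_, by ring⟩
    · simp only [map_sub, map_mul, map_div₀, hf.involutive]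
      rw [show (σ z - z) / (σ ρ - ρ) = (z - σ z) / (ρ - σ ρ) by rw [← neg_sub z, ← neg_sub ρ, neg_div_neg_eq]]
      field_simp
      ring
    · simp only [map_div₀, map_sub, hf.involutive]
      rw [← neg_sub z, ← neg_sub ρ, neg_div_neg_eq]
  have hker : ∀ (v : ι → F), Pm *ᵥ v = 0 → v = 0 := by
    intro v hv
    have h1 : ∀ w, f (Pm *ᵥ v) w = 0 := fun w => by rw [hv]; exact Unit.zero_left hf w
    have h2 : Pm *ᵥ v = ∑ k, v (ev.symm k) • col k := by
      funext i
      simp only [Matrix.mulVec, dotProduct, Pm, Matrix.of_apply, Finset.sum_apply, Pi.smul_apply, smul_eq_mul]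
      rw [← Equiv.sum_comp ev.symm]
      exact Finset.sum_congr rfl fun k _ => by rw [ev.apply_symm_apply, mul_comm]
    have a0 := h1 (p 0)
    have a1 := h1 (p 1)
    have b0 := h1 (e 0)
    have b1 := h1 (e 1)
    rw [h2, Fin.sum_univ_four] at a0 a1 b0 b1
    simp [col, x, hf.add_left, hf.smul_left, hee, hpp, hep, hpe, hneg, hz] at a0 a1 b0 b1
    have k1 : v (ev.symm 1) = 0 :=
      (mul_eq_zero.mp (show (ρ - σ ρ) * v (ev.symm 1) = 0 by linear_combination a0 + b1)).resolve_left hρ0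
    have k3 : v (ev.symm 3) = 0 :=
      (mul_eq_zero.mp (show (ρ - σ ρ) * v (ev.symm 3) = 0 by linear_combination a1 - b0)).resolve_left hρ0
    rw [k1] at a0
    rw [k3] at a1
    funext i
    obtain ⟨k, rfl⟩ := ev.symm.surjective i
    fin_cases k
    · simpa using a0
    · exact k1
    · simpa using a1
    · exact k3
  have hdetP : Pm.det ≠ 0 := fun h => by
    obtain ⟨v, hv0, hv⟩ := (Matrix.exists_mulVec_eq_zero_iff).mpr h
    exact hv0 (hker v hv)
  let P : GL ι F := GeneralLinearGroup.mkOfDetNeZero Pm hdetP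
  have hform : ∀ u v : ι → F, (∀ i, u i ∈ F₀) → (∀ i, v i ∈ F₀) →
      σ (f (Pm *ᵥ u) (Pm *ᵥ v)) = -f (Pm *ᵥ u) (Pm *ᵥ v) := by
    intro u v hu hv
    rw [hPu u hu, hPu v hv, xform]
    simp only [map_sub, map_add, map_mul, hf.involutive, hu _, hv _]
    ring
  refine ⟨F₀, P, ζ, (Unit.exists_card_eq hf.ne_refl hf.involutive).1, fun h => hρ (h.ge trivial : ρ ∈ F₀), hζ0,
    hζ, fun u v hu hv => ?_, fun u hu => ?_, fun g hg => ?_⟩
  · refine Unit.mem_fixedField.mpr ?_
    rw [map_mul, hζ, show σ (f ((P : Matrix ι ι F) *ᵥ u) ((P : Matrix ι ι F) *ᵥ v)) = _ from hform u v hu hv]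
    exact neg_mul_neg _ _
  · change f (Pm *ᵥ u) (Pm *ᵥ u) = 0
    rw [hPu u hu, xform]
    simp only [map_mul, map_add, hu _]
    ring
  obtain ⟨⟨π, hπ⟩, hiso, hdet⟩ := hg
  have hdet1 : (g : Matrix ι ι F).det = 1 := det_mem_sl.mp hdet
  have hge : ∀ i j, f ((g : Matrix ι ι F) *ᵥ e i) ((g : Matrix ι ι F) *ᵥ p j) = if i = j then 1 else 0 :=
    fun i j => (hiso _ _).trans (hep i j)
  have hmap : ∀ i, ∀ y ∈ D i, (g : Matrix ι ι F) *ᵥ y ∈ D (π i) := fun i y hy => by
    rw [← hπ i]; exact ⟨y, hy, Matrix.toLin'_apply _ _⟩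
  -- determinants in the frame
  let c4 : Fin 4 → ι → F := ![e 0, e 1, p 0, p 1]
  let P₀ : Matrix ι ι F := Matrix.of fun i k => c4 (ev k) i
  have hP₀ : P₀.det ≠ 0 := fun h => by
    obtain ⟨v, hv0, hv⟩ := (Matrix.exists_mulVec_eq_zero_iff).mpr h
    have h2 : P₀ *ᵥ v = ∑ k, v (ev.symm k) • c4 k := by
      funext i
      simp only [Matrix.mulVec, dotProduct, P₀, Matrix.of_apply, Finset.sum_apply, Pi.smul_apply, smul_eq_mul]
      rw [← Equiv.sum_comp ev.symm]
      exact Finset.sum_congr rfl fun k _ => by rw [ev.apply_symm_apply, mul_comm]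
    have h1 : ∀ w, f (P₀ *ᵥ v) w = 0 := fun w => by rw [hv]; exact Unit.zero_left hf w
    have a0 := h1 (p 0)
    have a1 := h1 (p 1)
    have b0 := h1 (e 0)
    have b1 := h1 (e 1)
    rw [h2, Fin.sum_univ_four] at a0 a1 b0 b1
    simp [c4, hf.add_left, hf.smul_left, hee, hpp, hep, hpe] at a0 a1 b0 b1
    refine hv0 (funext fun i => ?_)
    obtain ⟨k, rfl⟩ := ev.symm.surjective i
    fin_cases k
    exacts [a0, a1, b0, b1]
  have hdetM : ∀ M : Matrix (Fin 4) (Fin 4) F, (∀ k, (g : Matrix ι ι F) *ᵥ c4 k = ∑ l, M l k • c4 l) → M.det = 1 := by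
    intro M hM
    have h : (g : Matrix ι ι F) * P₀ = P₀ * M.submatrix ev ev := by
      ext i k
      have h' := congrFun (hM (ev k)) i
      rw [Matrix.mul_apply, Matrix.mul_apply, ← Equiv.sum_comp ev.symm (fun j => P₀ i j * M.submatrix ev ev j k)]
      simp only [Matrix.mulVec, dotProduct, Finset.sum_apply, Pi.smul_apply, smul_eq_mul] at h'
      simp only [P₀, Matrix.of_apply, Matrix.submatrix_apply, Equiv.apply_symm_apply]
      rw [h']
      exact Finset.sum_congr rfl fun l _ => mul_comm _ _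
    have h' := congrArg Matrix.det h
    rw [det_mul, det_mul, hdet1, one_mul, det_submatrix_equiv_self] at h'
    exact mul_left_cancel₀ hP₀ (by rw [mul_one]; exact h'.symm)
  -- it is enough to find a scalar
  suffices key : ∃ lam : F, lam ≠ 0 ∧ ∀ a b, ∃ a' b', (g : Matrix ι ι F) *ᵥ x a b = lam • x a' b' by
    obtain ⟨lam, hlam, key⟩ := key
    have hcol : ∀ k : ι, ∃ m : ι → F, (∀ i, σ (m i) = m i) ∧
        (g : Matrix ι ι F) *ᵥ col (ev k) = lam • (Pm *ᵥ m) := by
      intro k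
      obtain ⟨a, b, hab⟩ : ∃ a b, col (ev k) = x a b := by
        generalize ev k = j
        fin_cases j <;> exact ⟨_, _, rfl⟩
      obtain ⟨a', b', h⟩ := key a b
      obtain ⟨c0, c1, hc0, hc1, rfl⟩ := hsplitF a'
      obtain ⟨d0, d1, hd0, hd1, rfl⟩ := hsplitF b'
      have hmm : ∀ i, σ (![c0, c1, d0, d1] (ev i)) = ![c0, c1, d0, d1] (ev i) := fun i => by
        generalize ev i = j
        fin_cases j <;> first | exact hc0 | exact hc1 | exact hd0 | exact hd1
      refine ⟨fun i => ![c0, c1, d0, d1] (ev i), hmm, ?_⟩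
      rw [hab, h, hPu (fun i => ![c0, c1, d0, d1] (ev i)) hmm]
      simp
    choose m hm hgm using hcol
    let M₀ : Matrix ι ι F₀ := Matrix.of fun i k => ⟨m k i, hm k i⟩
    have hgP : (g : Matrix ι ι F) * Pm = lam • (Pm * M₀.map F₀.subtype) := by
      ext i k
      have h := congrFun (hgm k) i
      simp only [Matrix.mulVec, dotProduct, Pi.smul_apply, smul_eq_mul] at h
      simp only [Matrix.mul_apply, Matrix.smul_apply, smul_eq_mul, Pm, Matrix.of_apply, Matrix.map_apply, M₀]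
      exact h
    have hdet0 : M₀.det ≠ 0 := fun h0 => by
      have h := congrArg Matrix.det hgP
      rw [det_mul, hdet1, one_mul, det_smul, det_mul, show M₀.map F₀.subtype = F₀.subtype.mapMatrix M₀ from rfl,
        ← RingHom.map_det, h0, map_zero, mul_zero, mul_zero] at h
      exact hdetP h
    let U₀ : GL ι F₀ := GeneralLinearGroup.mkOfDetNeZero M₀ hdet0
    let s : GL ι F := Units.map (Matrix.scalar ι : F →+* Matrix ι ι F).toMonoidHom (Units.mk0 lam hlam)
    refine ⟨GeneralLinearGroup.map (F₀.subtype : F₀ →+* F) U₀ * s,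
      Subgroup.mul_mem_sup ⟨U₀, rfl⟩ (mem_scalars_iff_isScalarMat.mpr ⟨lam, by simp [s, Matrix.smul_one_eq_diagonal]⟩), ?_⟩
    refine Units.ext ?_
    have hs' : (s : Matrix ι ι F) = lam • 1 := by simp [s, Matrix.smul_one_eq_diagonal]
    have hPP : Pm * ((P⁻¹ : GL ι F) : Matrix ι ι F) = 1 := P.mul_inv
    change (P : Matrix ι ι F) * ((M₀.map F₀.subtype) * (s : Matrix ι ι F)) * ((P⁻¹ : GL ι F) : Matrix ι ι F) = (g : Matrix ι ι F)
    rw [hs', Matrix.mul_smul, mul_one, Matrix.mul_smul, show (P : Matrix ι ι F) * M₀.map F₀.subtype = Pm * M₀.map F₀.subtype from rfl,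
      ← hgP, mul_assoc, hPP, mul_one]
  have hiff : ∀ D' : F, D' ≠ 0 → σ D' = D' → ∃ lam : F, lam ≠ 0 ∧ σ lam = D' * lam := by
    intro D' h0 h1
    rcases mul_self_eq_one_iff.mp (hN D' h1 h0) with rfl | rfl
    · exact ⟨1, one_ne_zero, by rw [map_one, one_mul]⟩
    · exact ⟨ζ, hζ0, by rw [hζ, neg_one_mul]⟩
  have σinj : ∀ z : F, σ z = 0 → z = 0 := fun z h => σ.injective (h.trans (map_zero σ).symm)
  rcases (show π 0 = 0 ∨ π 0 = 1 by omega) with h0 | h0
  · have h1 : π 1 = 1 := by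
      have : π 1 ≠ π 0 := fun h => by simpa using π.injective h
      omega
    have me : ∀ i, (g : Matrix ι ι F) *ᵥ e i ∈ D 0 := fun i => h0 ▸ hmap 0 _ (he i)
    have mp : ∀ i, (g : Matrix ι ι F) *ᵥ p i ∈ D 1 := fun i => h1 ▸ hmap 1 _ (hp i)
    obtain ⟨α, γ, hga⟩ : ∃ a c : F, (g : Matrix ι ι F) *ᵥ e 0 = a • e 0 + c • e 1 := ⟨_, _, hD0 _ (me 0)⟩
    obtain ⟨β, δ, hgb⟩ : ∃ b d : F, (g : Matrix ι ι F) *ᵥ e 1 = b • e 0 + d • e 1 := ⟨_, _, hD0 _ (me 1)⟩
    obtain ⟨α', γ', hgp⟩ : ∃ a c : F, (g : Matrix ι ι F) *ᵥ p 0 = a • p 0 + c • p 1 := ⟨_, _, hD1 _ (mp 0)⟩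
    obtain ⟨β', δ', hgq⟩ : ∃ b d : F, (g : Matrix ι ι F) *ᵥ p 1 = b • p 0 + d • p 1 := ⟨_, _, hD1 _ (mp 1)⟩
    have e00 := hge 0 0; have e01 := hge 0 1; have e10 := hge 1 0; have e11 := hge 1 1
    simp [hga, hgb, hgp, hgq, hf.add_left, Unit.add_right hf, hf.smul_left, Unit.smul_right hf, hep] at e00 e01 e10 e11
    have hd := hdetM !![α, β, 0, 0; γ, δ, 0, 0; 0, 0, α', β'; 0, 0, γ', δ'] (fun k => by
      fin_cases k <;> simp [c4, Fin.sum_univ_four, hga, hgb, hgp, hgq])
    simp [det_succ_row_zero, Fin.sum_univ_succ, Fin.succAbove] at hd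
    set Δ := α * δ - β * γ with hΔ
    have hnorm : Δ * σ (α' * δ' - β' * γ') = 1 := by
      rw [map_sub, map_mul, map_mul, hΔ]
      linear_combination (σ β' * β + σ δ' * δ) * e00 + e11 - (σ α' * β + σ γ' * δ) * e01
    have hΔ0 : Δ ≠ 0 := left_ne_zero_of_mul_eq_one hnorm
    have hΔσ : σ Δ = Δ := by
      have h' : Δ * (α' * δ' - β' * γ') = 1 := by rw [hΔ]; linear_combination hd
      have h'' := congrArg σ h'
      rw [map_mul, map_one] at h''
      exact mul_right_cancel₀ (right_ne_zero_of_mul_eq_one hnorm) (h''.trans hnorm.symm)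
    obtain ⟨lam, hlam, hlamσ⟩ := hiff Δ hΔ0 hΔσ
    have hΔΔ : Δ * Δ = 1 := hN Δ hΔσ hΔ0
    have sa : α' = σ δ * Δ := by
      have h : σ α' * Δ = δ := by rw [hΔ]; linear_combination δ * e00 - γ * e10
      have h' := congrArg σ h
      rw [map_mul, hf.involutive, hΔσ] at h'
      linear_combination Δ * h' - α' * hΔΔ
    have sc : γ' = -(σ β * Δ) := by
      have h : σ γ' * Δ = -β := by rw [hΔ]; linear_combination α * e10 - β * e00
      have h' := congrArg σ h
      rw [map_mul, hf.involutive, hΔσ, map_neg] at h'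
      linear_combination Δ * h' - γ' * hΔΔ
    have sb : β' = -(σ γ * Δ) := by
      have h : σ β' * Δ = -γ := by rw [hΔ]; linear_combination δ * e01 - γ * e11
      have h' := congrArg σ h
      rw [map_mul, hf.involutive, hΔσ, map_neg] at h'
      linear_combination Δ * h' - β' * hΔΔ
    have sd : δ' = σ α * Δ := by
      have h : σ δ' * Δ = α := by rw [hΔ]; linear_combination α * e11 - β * e01
      have h' := congrArg σ h
      rw [map_mul, hf.involutive, hΔσ] at h'
      linear_combination Δ * h' - δ' * hΔΔ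
    refine ⟨lam, hlam, fun a b => ⟨(a * α + b * β) / lam, (a * γ + b * δ) / lam, ?_⟩⟩
    simp only [x, mulVec_add, mulVec_smul, hga, hgb, hgp, hgq, sa, sb, sc, sd, map_div₀, map_add, map_mul, hlamσ]
    match_scalars <;> field_simp
    all_goals first
      | linear_combination (0 : F)
      | linear_combination (σ a * σ α + σ b * σ β) * lam * hΔΔ
      | linear_combination -((σ a * σ α + σ b * σ β) * lam) * hΔΔ
      | linear_combination (σ a * σ γ + σ b * σ δ) * lam * hΔΔ
      | linear_combination -((σ a * σ γ + σ b * σ δ) * lam) * hΔΔ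
      | linear_combination (σ a * σ α + σ b * σ β) * hΔΔ
      | linear_combination -(σ a * σ α + σ b * σ β) * hΔΔ
      | linear_combination (σ a * σ γ + σ b * σ δ) * hΔΔ
      | linear_combination -(σ a * σ γ + σ b * σ δ) * hΔΔ
  · have h1 : π 1 = 0 := by
      have : π 1 ≠ π 0 := fun h => by simpa using π.injective h
      omega
    have me : ∀ i, (g : Matrix ι ι F) *ᵥ e i ∈ D 1 := fun i => h0 ▸ hmap 0 _ (he i)
    have mp : ∀ i, (g : Matrix ι ι F) *ᵥ p i ∈ D 0 := fun i => h1 ▸ hmap 1 _ (hp i)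
    obtain ⟨α, γ, hga⟩ : ∃ a c : F, (g : Matrix ι ι F) *ᵥ e 0 = a • p 0 + c • p 1 := ⟨_, _, hD1 _ (me 0)⟩
    obtain ⟨β, δ, hgb⟩ : ∃ b d : F, (g : Matrix ι ι F) *ᵥ e 1 = b • p 0 + d • p 1 := ⟨_, _, hD1 _ (me 1)⟩
    obtain ⟨α', γ', hgp⟩ : ∃ a c : F, (g : Matrix ι ι F) *ᵥ p 0 = a • e 0 + c • e 1 := ⟨_, _, hD0 _ (mp 0)⟩
    obtain ⟨β', δ', hgq⟩ : ∃ b d : F, (g : Matrix ι ι F) *ᵥ p 1 = b • e 0 + d • e 1 := ⟨_, _, hD0 _ (mp 1)⟩
    have e00 := hge 0 0; have e01 := hge 0 1; have e10 := hge 1 0; have e11 := hge 1 1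
    simp [hga, hgb, hgp, hgq, hf.add_left, Unit.add_right hf, hf.smul_left, Unit.smul_right hf, hpe] at e00 e01 e10 e11
    have hd := hdetM !![0, 0, α', β'; 0, 0, γ', δ'; α, β, 0, 0; γ, δ, 0, 0] (fun k => by
      fin_cases k <;> simp [c4, Fin.sum_univ_four, hga, hgb, hgp, hgq])
    simp [det_succ_row_zero, Fin.sum_univ_succ, Fin.succAbove] at hd
    set Δ := α * δ - β * γ with hΔ
    have hnorm : Δ * σ (α' * δ' - β' * γ') = 1 := by
      rw [map_sub, map_mul, map_mul, hΔ]
      linear_combination (σ β' * β + σ δ' * δ) * e00 + e11 - (σ α' * β + σ γ' * δ) * e01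
    have hΔ0 : Δ ≠ 0 := left_ne_zero_of_mul_eq_one hnorm
    have hΔσ : σ Δ = Δ := by
      have h' : Δ * (α' * δ' - β' * γ') = 1 := by rw [hΔ]; linear_combination hd
      have h'' := congrArg σ h'
      rw [map_mul, map_one] at h''
      exact mul_right_cancel₀ (right_ne_zero_of_mul_eq_one hnorm) (h''.trans hnorm.symm)
    obtain ⟨lam, hlam, hlamσ⟩ := hiff (-Δ) (neg_ne_zero.mpr hΔ0) (by rw [map_neg, hΔσ])
    have hΔΔ : Δ * Δ = 1 := hN Δ hΔσ hΔ0
    have sa : α' = σ δ * Δ := by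
      have h : σ α' * Δ = δ := by rw [hΔ]; linear_combination δ * e00 - γ * e10
      have h' := congrArg σ h
      rw [map_mul, hf.involutive, hΔσ] at h'
      linear_combination Δ * h' - α' * hΔΔ
    have sc : γ' = -(σ β * Δ) := by
      have h : σ γ' * Δ = -β := by rw [hΔ]; linear_combination α * e10 - β * e00
      have h' := congrArg σ h
      rw [map_mul, hf.involutive, hΔσ, map_neg] at h'
      linear_combination Δ * h' - γ' * hΔΔ
    have sb : β' = -(σ γ * Δ) := by
      have h : σ β' * Δ = -γ := by rw [hΔ]; linear_combination δ * e01 - γ * e11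
      have h' := congrArg σ h
      rw [map_mul, hf.involutive, hΔσ, map_neg] at h'
      linear_combination Δ * h' - β' * hΔΔ
    have sd : δ' = σ α * Δ := by
      have h : σ δ' * Δ = α := by rw [hΔ]; linear_combination α * e11 - β * e01
      have h' := congrArg σ h
      rw [map_mul, hf.involutive, hΔσ] at h'
      linear_combination Δ * h' - δ' * hΔΔ
    refine ⟨lam, hlam, fun a b => ⟨Δ * σ (a * γ + b * δ) / lam, -(Δ * σ (a * α + b * β) / lam), ?_⟩⟩
    simp only [x, mulVec_add, mulVec_smul, hga, hgb, hgp, hgq, sa, sb, sc, sd, map_div₀, map_add, map_mul, map_neg,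
      hlamσ, hΔσ, hf.involutive]
    match_scalars <;> field_simp
    all_goals first
      | linear_combination (0 : F)
      | linear_combination (σ a * σ γ + σ b * σ δ) * hΔΔ
      | linear_combination (a * α + b * β) * hΔΔ
      | linear_combination -(a * α + b * β) * hΔΔ
      | linear_combination (a * γ + b * δ) * hΔΔ
      | linear_combination -(a * γ + b * δ) * hΔΔ

end SuPair

end CfsgLib.Asch
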