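import Cfsg.Agent.Lib.Aschbacher.SuProper
import Cfsg.Agent.Lib.Aschbacher.SmallForms
import Cfsg.Agent.Lib.Aschbacher.FormTypes
import Cfsg.Agent.Lib.ClassicalMax.UnitTensor

/-!
# Maximal subgroups of unitary groups of dimension at most twelve: the list
-/

set_option autoImplicit false

namespace CfsgLib.Asch

open Matrix Kronecker Cfsg.Geo CfsgLib.ClassicalMax CfsgLib.ClassicalMax.Tensor
open scoped MatrixGroups

variable {n : ℕ} {F : Type*} [Field F] [Fintype F]

/-- the intersection of a class stabiliser with the special unitary group -/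
local notation "SUg(" n ", " q ")" => Cfsg.GU n F q ⊓ Cfsg.Geo.specialLinear (Fin n) F

/-- the types of maximal subgroups, before the exceptions special to small dimensions -/
inductive SuType (n q : ℕ) (H : Subgroup (GL (Fin n) F)) : Prop
  | singular (W : Submodule F (Fin n → F)) (h0 : W ≠ ⊥)
      (hs : IsTotallySingularFor (Cfsg.hermForm n F q) W) (he : H = subspaceStabilizer W ⊓ SUg(n, q))
  | nondeg (W : Submodule F (Fin n → F)) (h0 : W ≠ ⊥) (hnd : IsNondegenerateOn (Cfsg.hermForm n F q) W)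
      (hd : 2 * Module.finrank F W < n) (he : H = subspaceStabilizer W ⊓ SUg(n, q))
  | decomp (t k : ℕ) (D : Fin t → Submodule F (Fin n → F)) (ht : 2 ≤ t) (hk : 1 ≤ k) (htk : t * k = n)
      (h2 : k = 2 → 3 ≤ q) (hD : IsNondegenerateMDecomposition (Cfsg.hermForm n F q) k D)
      (he : H = decompositionStabilizer D ⊓ SUg(n, q))
  | pair (k : ℕ) (D : Fin 2 → Submodule F (Fin n → F)) (hk : 2 * k = n) (hD : IsMDecomposition k D)
      (hs : ∀ i, IsTotallySingularFor (Cfsg.hermForm n F q) (D i))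
      (he : H = decompositionStabilizer D ⊓ SUg(n, q))
  | extField (r : ℕ) (K : Subalgebra F (Matrix (Fin n) (Fin n) F)) (hr : r.Prime) (hro : Odd r)
      (hrn : r ∣ n) (hK : IsFieldSubalgebra r K) (hadj : IsAdjointClosedFor (Cfsg.hermForm n F q) K)
      (he : H = subalgebraNormalizer K ⊓ SUg(n, q))
  | tensor (n₁ n₂ : ℕ) (e : Fin n ≃ Fin n₁ × Fin n₂) (P : GL (Fin n) F)
      (f₁ : (Fin n₁ → F) → (Fin n₁ → F) → F) (f₂ : (Fin n₂ → F) → (Fin n₂ → F) → F)
      (h₁ : 2 ≤ n₁) (h₁₂ : n₁ < n₂) (hn : n₁ * n₂ = n) (h2 : n₁ = 2 → 3 ≤ q)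
      (hf₁ : IsUnitaryFormPow q f₁) (hf₂ : IsUnitaryFormPow q f₂)
      (hstr : IsTensorFormStructure (fun x : F => x ^ q) (Cfsg.hermForm n F q) f₁ f₂ e P)
      (he : H = tensorProductSubgroup n₁ n₂ e P ⊓ SUg(n, q))
  | wreath (k t : ℕ) (e : Fin n ≃ (Fin t → Fin k)) (P : GL (Fin n) F)
      (f₁ : (Fin k → F) → (Fin k → F) → F) (hk : 3 ≤ k) (ht : 2 ≤ t) (hn : k ^ t = n)
      (h3 : k = 3 → 3 ≤ q) (hf₁ : IsUnitaryFormPow q f₁)
      (hstr : IsTensorPowerFormStructure (fun x : F => x ^ q) (Cfsg.hermForm n F q) f₁ e P)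
      (he : H = tensorWreathSubgroup k t e P ⊓ SUg(n, q))
  | subfieldOdd (F₀ : Subfield F) (r : ℕ) (P : GL (Fin n) F) (hr : r.Prime) (hro : Odd r)
      (hc : Fintype.card F = Nat.card F₀ ^ r) (hrat : IsFormRationalStructure (Cfsg.hermForm n F q) F₀ 1 P)
      (he : H = subfieldSubgroup F₀ P ⊓ SUg(n, q))
  | subfieldOrth (F₀ : Subfield F) (P : GL (Fin n) F) (hqo : Odd q) (hc : Fintype.card F = Nat.card F₀ ^ 2)
      (hrat : IsFormRationalStructure (Cfsg.hermForm n F q) F₀ 1 P)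
      (he : H = subfieldSubgroup F₀ P ⊓ SUg(n, q))
  | subfieldSymp (F₀ : Subfield F) (P : GL (Fin n) F) (ζ : F) (hne : Even n)
      (hc : Fintype.card F = Nat.card F₀ ^ 2) (hζ : ζ ≠ 0) (hζq : ζ + ζ ^ q = 0)
      (hrat : IsFormRationalStructure (Cfsg.hermForm n F q) F₀ ζ P)
      (halt : ∀ u : Fin n → F, (∀ i, u i ∈ F₀) → Cfsg.hermForm n F q ((P : Matrix (Fin n) (Fin n) F) *ᵥ u)
        ((P : Matrix (Fin n) (Fin n) F) *ᵥ u) = 0)
      (he : H = subfieldSubgroup F₀ P ⊓ SUg(n, q))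
  | sympType (r : ℕ) (R : Subgroup (GL (Fin n) F)) (p j k : ℕ) (hR : IsSymplecticTypeGroup r R)
      (hirr : ActsAbsolutelyIrreducibly (matrixSet R)) (hsim : R ≤ similarityGroup (Cfsg.hermForm n F q))
      (hp : p.Prime) (hchar : CharP F p) (hrp : r ≠ p) (hq : q = p ^ j) (hk : 1 ≤ k) (hn : r ^ k = n)
      (hj : 0 < j) (hdiv : Nat.card (Subgroup.center R) ∣ p ^ (2 * j) - 1)
      (hmin : ∀ d, 0 < d → d < 2 * j → ¬ Nat.card (Subgroup.center R) ∣ p ^ d - 1)
      (hcase : (Odd r ∧ Nat.card (Subgroup.center R) = r ∧ Nat.card R = r ^ (1 + 2 * k)) ∨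
        (r = 2 ∧ j = 1 ∧ Nat.card (Subgroup.center R) = 4 ∧ Nat.card R = 2 ^ (2 + 2 * k)))
      (he : H = subgroupNormalizer R ⊓ SUg(n, q))
  | residual (h : InUnitaryResidualClass H)

lemma isUnitaryForm_of_pow {ι : Type} [Fintype ι] [DecidableEq ι] {q : ℕ} {σ : F ≃+* F}
    (hσ : ∀ a, σ a = a ^ q) (hinv : ∀ a, σ (σ a) = a) (hne : σ ≠ RingEquiv.refl F)
    {f : (ι → F) → (ι → F) → F} (h : IsUnitaryFormPow q f) : IsUnitaryForm σ f where
  ne_refl := hne
  involutive := hinv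
  add_left := h.add_left
  smul_left := h.smul_left
  herm v w := by rw [hσ]; exact h.herm v w
  nondegenerate := h.nondegenerate

/-- orthogonal non-singular vectors give a decomposition into lines -/
lemma lines_decomposition {κ : Type} [Fintype κ] [DecidableEq κ] {f : (Fin n → F) → (Fin n → F) → F}
    {σ : F ≃+* F} (hf : IsUnitaryForm σ f) (hn : 2 ≤ n) {e : κ → Fin n → F} (hli : LinearIndependent F e)
    (hcard : Fintype.card κ = n) (horth : ∀ a b, a ≠ b → f (e a) (e b) = 0) (hne : ∀ a, f (e a) (e a) ≠ 0) :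
    IsNondegenerateMDecomposition f 1 (Frames.lines e) := by
  set v := fun i => e ((Fintype.equivFin κ).symm i) with hv
  have hv' : LinearIndependent F v := hli.comp _ (Equiv.injective _)
  refine ⟨⟨by omega, one_pos, fun i => finrank_span_singleton (hli.ne_zero _),
    hv'.iSupIndep_span_singleton, ?_⟩, fun i x hx hx0 => ?_, fun i j hij x hx y hy => ?_⟩
  · have h := hv'.span_eq_top_of_card_eq_finrank' (by rw [Fintype.card_fin, hcard]; simp)
    rw [Submodule.span_range_eq_iSup] at h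
    exact h
  · obtain ⟨c, rfl⟩ := Submodule.mem_span_singleton.mp hx
    have hc : c ≠ 0 := fun h => hx0 (by rw [h, zero_smul])
    refine ⟨⟨_, Submodule.mem_span_singleton_self _, ?_⟩, ⟨_, Submodule.mem_span_singleton_self _, ?_⟩⟩
    · rw [Unit.smul_right hf]
      exact mul_ne_zero (fun h => hc (by simpa using congrArg σ.symm h)) (hne _)
    · rw [hf.smul_left]
      exact mul_ne_zero hc (hne _)
  · obtain ⟨c, rfl⟩ := Submodule.mem_span_singleton.mp hx
    obtain ⟨d, rfl⟩ := Submodule.mem_span_singleton.mp hy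
    rw [hf.smul_left, Unit.smul_right hf, horth _ _ fun h => hij ((Fintype.equivFin κ).symm.injective h),
      mul_zero, mul_zero]

/-- over four elements a decomposition into planes refines to lines -/
lemma exists_lines_of_planes (hF : Fintype.card F = 4) {σ : F ≃+* F} (hσ : ∀ a, σ a = a ^ 2)
    {f : (Fin n → F) → (Fin n → F) → F} (hf : IsUnitaryForm σ f) (hn : 2 ≤ n) {t : ℕ}
    {D : Fin t → Submodule F (Fin n → F)} (hD : IsNondegenerateMDecomposition f 2 D) :
    ∃ (N : ℕ) (D' : Fin N → Submodule F (Fin n → F)), N = n ∧ IsNondegenerateMDecomposition f 1 D' ∧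
      decompositionStabilizer D ⊓ Unit.isoOf f ≤ decompositionStabilizer D' := by
  classical
  choose v hvW hv1 hv01 hvli hvline using fun i =>
    Unit.Frame.exists_unit_pair hF hσ hf (hD.decomp.finrank_eq i) (hD.nondegenerate i)
  let e : Fin t × Fin 2 → Fin n → F := fun s => v s.1 s.2
  have hli : LinearIndependent F e :=
    Frames.linearIndependent_blocks hD.decomp.indep (v := e) (fun i b => hvW i b) hvli
  have hcard : Fintype.card (Fin t × Fin 2) = n := by
    rw [Fintype.card_prod, Fintype.card_fin, Fintype.card_fin, mul_comm, Unit.Frame.card_blocks hD.decomp,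
      Fintype.card_fin]
  refine ⟨_, Frames.lines e, hcard, lines_decomposition hf hn hli hcard ?_ (fun s => ?_), fun g hg => ?_⟩
  · rintro ⟨i, b⟩ ⟨j, c⟩ hne
    rcases eq_or_ne i j with rfl | hij
    · fin_cases b <;> fin_cases c
      · exact absurd rfl hne
      · exact hv01 i
      · exact Unit.eq_zero_comm hf (hv01 i)
      · exact absurd rfl hne
    · exact hD.orthogonal i j hij _ (hvW i b) _ (hvW j c)
  · exact (hv1 s.1 s.2).trans_ne one_ne_zero
  · refine Frames.mem_lines_stab hli fun s => ?_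
    obtain ⟨j, hj⟩ := Frames.exists_block_image hg.1 s.1
    obtain ⟨b, c, hc⟩ := hvline j _ (hj _ (hvW s.1 s.2)) ((hg.2 _ _).trans (hv1 s.1 s.2))
    exact ⟨(j, b), c, hc⟩

/-- over four elements a tensor product with a unitary plane decomposes -/
lemma exists_decomposition_of_tensor_two (hF : Fintype.card F = 4) {σ : F ≃+* F} (hσ : ∀ a, σ a = a ^ 2)
    {f : (Fin n → F) → (Fin n → F) → F} {n₂ : ℕ} (hn : 0 < n₂) (e : Fin n ≃ Fin 2 × Fin n₂)
    (P : GL (Fin n) F) {f₁ : (Fin 2 → F) → (Fin 2 → F) → F} {f₂ : (Fin n₂ → F) → (Fin n₂ → F) → F}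
    (hf₁ : IsUnitaryForm σ f₁) (hf₂ : IsUnitaryForm σ f₂) (hT : IsTensorFormStructure (⇑σ) f f₁ f₂ e P) :
    ∃ D : Fin 2 → Submodule F (Fin n → F), IsNondegenerateMDecomposition f n₂ D ∧
      tensorProductSubgroup 2 n₂ e P ⊓ Unit.isoOf f ≤ decompositionStabilizer D := by
  classical
  obtain ⟨c, hc0, hc⟩ := hT
  have hform := form_pureL e P (map_mul σ) hc
    (formOfGram_gram hf₁.add_left hf₁.smul_left (Unit.add_right hf₁) (Unit.smul_right hf₁))
    (formOfGram_gram hf₂.add_left hf₂.smul_left (Unit.add_right hf₂) (Unit.smul_right hf₂))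
  obtain ⟨u, -, hu1, hu01, huli, huline⟩ := Unit.Frame.exists_unit_pair hF hσ hf₁
    (W := (⊤ : Submodule F (Fin 2 → F))) (by rw [finrank_top, Module.finrank_fintype_fun_eq_card,
      Fintype.card_fin]) (fun w _ hw => ⟨(hf₁.nondegenerate w hw).1.imp fun x hx => ⟨trivial, hx⟩,
      (hf₁.nondegenerate w hw).2.imp fun x hx => ⟨trivial, hx⟩⟩)
  refine ⟨parts e P u, parts_decomposition e P huli le_rfl hn hc0 hform ?_ (fun i => ?_) hf₂.nondegenerate,
    fun g hg => ?_⟩
  · intro i j hij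
    fin_cases i <;> fin_cases j
    · exact absurd rfl hij
    · exact hu01
    · exact Unit.eq_zero_comm hf₁ hu01
    · exact absurd rfl hij
  · exact (hu1 i).trans_ne one_ne_zero
  obtain ⟨a, b, hab⟩ := exists_factors e P hg.1
  refine mem_parts_stab e P huli hab fun k => huline _ trivial ?_
  let w : Fin n₂ → F := Pi.single ⟨0, hn⟩ 1
  obtain ⟨⟨z, hz⟩, -⟩ := hf₂.nondegenerate w (by simp [w])
  have h : f₁ ((a : Matrix _ _ F) *ᵥ u k) ((a : Matrix _ _ F) *ᵥ u k) *
        f₂ ((b : Matrix _ _ F) *ᵥ z) ((b : Matrix _ _ F) *ᵥ w) = f₁ (u k) (u k) * f₂ z w := by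
    have := hg.2 (pureL e P (u k) z) (pureL e P (u k) w)
    change f ((g : Matrix (Fin n) (Fin n) F) *ᵥ _) ((g : Matrix (Fin n) (Fin n) F) *ᵥ _) = _ at this
    rw [hab, hab, hform, hform] at this
    exact mul_left_cancel₀ hc0 this
  refine (Unit.Frame.fixed_eq hσ (Unit.self_fixed hf₁ _)).resolve_left fun h0 => hz ?_
  rw [h0, zero_mul, hu1, one_mul] at h
  exact h.symm

lemma max_eq_inf {ι : Type} [Fintype ι] [DecidableEq ι] {Ω H M : Subgroup (GL ι F)}
    (hH : IsMaximalIn Ω H) (h : H ≤ M) (hns : ¬ Ω ≤ M) : H = M ⊓ Ω :=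
  ((hH.2 _ (le_inf h hH.1.le) inf_le_right).resolve_right fun e => hns (e.ge.trans inf_le_left)).symm

/-- every maximal subgroup is of one of the types, given its class -/
theorem suType_of_case {q : ℕ} (hF : Fintype.card F = q ^ 2) (hn3 : 3 ≤ n) (hn12 : n ≤ 12)
    (h32 : n = 3 → 3 ≤ q)
    {H : Subgroup (GL (Fin n) F)} (hH : IsMaximalIn SUg(n, q) H) (hc : UnitCase n q H) : SuType n q H := by
  classical
  obtain ⟨σ, hσ, hinv, hne⟩ := Unit.exists_powEquiv hF
  have hf := Unit.isUnitaryForm_hermForm hF n hσ hne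
  have hq2 := Unit.two_le_of_card_eq_sq hF
  have hcard : Fintype.card (Fin n) = n := Fintype.card_fin n
  have : Nonempty (Fin n) := ⟨⟨0, by omega⟩⟩
  let S : TvSys SUg(n, q) := suTvSys hf (by omega)
  have hq4 : q = 2 → Fintype.card F = 4 := fun h => by rw [hF, h]; norm_num
  have hσ2 : q = 2 → ∀ a, σ a = a ^ 2 := fun h a => by rw [hσ, h]
  have hiso : H ≤ Unit.isoOf (Cfsg.hermForm n F q) := hH.1.le.trans inf_le_left
  have hctop : ∀ W : Submodule F (Fin n → F), IsTotallySingularFor (Cfsg.hermForm n F q) W → W ≠ ⊤ := by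
    rintro W hW rfl
    obtain ⟨u, hu, -⟩ := S.ex
    obtain ⟨v, hv⟩ := (hf.nondegenerate u hu).2
    exact hv (hW u trivial v trivial)
  have hsub : ∀ (F₀ : Subfield F) (r : ℕ), 2 ≤ r → Fintype.card F = Nat.card F₀ ^ r → F₀ ≠ ⊤ := by
    rintro F₀ r hr hc rfl
    have h1 : Nat.card (⊤ : Subfield F) = Fintype.card F := by
      rw [Nat.card_congr (Subfield.topEquiv (K := F)).toEquiv, Nat.card_eq_fintype_card]
    rw [h1] at hc
    have h4 := Nat.pow_lt_pow_right (Fintype.one_lt_card (α := F)) (show 1 < r by omega)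
    rw [pow_one, ← hc] at h4
    exact lt_irrefl _ h4
  rcases hc with ⟨W, h0, hs, hle⟩ | ⟨W, h0, hnd, hd, hle⟩ | ⟨t, k, D, hD, htk, hle⟩ |
    ⟨k, D, hk, hD, hs, hle⟩ | ⟨r, K, hr, hro, hrn, hK, hadj, hle⟩ |
    ⟨n₁, n₂, e, P, f₁, f₂, h₁, h₁₂, hn, hf₁, hf₂, hstr, hle⟩ |
    ⟨k, t, e, P, f₁, hk, ht, hex, hn, hf₁, hstr, hle⟩ |
    ⟨F₀, r, P, hr, hro, hc, hrat, hle⟩ | ⟨F₀, P, hqo, hc, hrat, hle⟩ |
    ⟨F₀, P, ζ, hne', hc, hζ, hζq, hrat, halt, hle⟩ |
    ⟨r, R, p, e, k, hR, hirr, hsim, hrp, hmin, hk, hn, hcase, hle⟩ | h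
  · exact .singular W h0 hs (max_eq_inf hH hle (S.not_le_subspace h0 (hctop W hs)))
  · refine .nondeg W h0 hnd hd (max_eq_inf hH hle (S.not_le_subspace h0 ?_))
    rintro rfl
    rw [finrank_top, Module.finrank_fintype_fun_eq_card, hcard] at hd
    omega
  · have ht2 := hD.decomp.two_le
    have hk1 := hD.decomp.pos
    have key : ∀ {N : ℕ} (D' : Fin N → Submodule F (Fin n → F)), N = n →
        IsNondegenerateMDecomposition (Cfsg.hermForm n F q) 1 D' → H ≤ decompositionStabilizer D' →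
        SuType n q H := by
      rintro N D' rfl hD' hle'
      refine .decomp N 1 D' (by omega) le_rfl (mul_one _) (by omega) hD'
        (max_eq_inf hH hle' (su_not_le_lines hf hD' ?_ (by omega)))
      rcases (show 4 ≤ N ∨ N = 3 by omega) with h | h
      · exact Or.inl h
      · refine Or.inr ⟨by omega, ?_⟩
        rw [hF]
        nlinarith [h32 h]
    rcases (show k = 1 ∨ (k = 2 ∧ q = 2) ∨ (2 ≤ k ∧ (k = 2 → 3 ≤ q)) by omega) with rfl | ⟨rfl, hq⟩ | ⟨hk2, h2⟩
    · exact key D (by omega) hD hle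
    · obtain ⟨N, D', hN, hD', hle'⟩ := exists_lines_of_planes (hq4 hq) (hσ2 hq) hf (by omega) hD
      exact key D' hN hD' ((le_inf hle hiso).trans hle')
    · exact .decomp t k D ht2 hk1 htk h2 hD (max_eq_inf hH hle (S.not_le_decomposition hk2 hD.decomp))
  · refine .pair k D hk hD hs (max_eq_inf hH hle (S.not_le_decomposition ?_ hD))
    omega
  · exact .extField r K hr hro hrn hK hadj (max_eq_inf hH hle (S.not_le_extField (by omega) hr.two_le hK))
  · by_cases h2 : n₁ = 2 ∧ q = 2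
    · obtain ⟨rfl, hq⟩ := h2
      have hT : IsTensorFormStructure (⇑σ) (Cfsg.hermForm n F q) f₁ f₂ e P := by
        rwa [show (⇑σ : F → F) = fun x => x ^ q from funext hσ]
      obtain ⟨D, hD, hleD⟩ := exists_decomposition_of_tensor_two (hq4 hq) (hσ2 hq) (by omega) e P
        (isUnitaryForm_of_pow hσ hinv hne hf₁) (isUnitaryForm_of_pow hσ hinv hne hf₂) hT
      exact .decomp 2 n₂ D le_rfl (by omega) hn (by omega) hD
        (max_eq_inf hH ((le_inf hle hiso).trans hleD) (S.not_le_decomposition (by omega) hD.decomp))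
    · exact .tensor n₁ n₂ e P f₁ f₂ h₁ h₁₂ hn (fun h => by omega) hf₁ hf₂ hstr
        (max_eq_inf hH hle (S.not_le_tensor h₁ (by omega) e P))
  · exact .wreath k t e P f₁ hk ht hn (fun h => by omega) hf₁ hstr
      (max_eq_inf hH hle (not_le_wreath S hk ht e P))
  · exact .subfieldOdd F₀ r P hr hro hc hrat
      (max_eq_inf hH hle (su_not_le_subfield hf (by omega) (hsub F₀ r hr.two_le hc) P))
  · exact .subfieldOrth F₀ P hqo hc hrat
      (max_eq_inf hH hle (su_not_le_subfield hf (by omega) (hsub F₀ 2 le_rfl hc) P))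
  · exact .subfieldSymp F₀ P ζ hne' hc hζ hζq hrat halt
      (max_eq_inf hH hle (su_not_le_subfield hf (by omega) (hsub F₀ 2 le_rfl hc) P))
  · obtain ⟨hp, hchar, hcd, hdiv, hlt⟩ := hmin
    have := Fact.mk hp
    have := Fact.mk hR.prime
    obtain ⟨j, -, hj⟩ := (Nat.dvd_prime_pow hp).1 (show q ∣ p ^ e from hcd ▸ hF ▸ dvd_pow_self q two_ne_zero)
    have he : e = 2 * j := by
      rw [hF, hj, ← pow_mul] at hcd
      have := Nat.pow_right_injective hp.two_le hcd
      omega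
    have hj0 : 0 < j := by
      by_contra h
      rw [show j = 0 by omega, pow_zero] at hj
      omega
    subst he
    refine .sympType r R p j k hR hirr hsim hp hchar hrp hj hk hn hj0 hdiv hlt ?_ (max_eq_inf hH hle ?_)
    · rcases hcase with h | ⟨h1, h2, h3, h4⟩
      · exact Or.inl h
      · exact Or.inr ⟨h1, by omega, h3, h4⟩
    exact S.not_le_normalizer (by omega) (su_dichotomy hF hn3 fun h => by have := h32 h.1; omega)
      (r := r) (p := p) hrp hR.pGroup (norms_iso_sl hsim)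
      (not_le_scalars_of_spans (by omega) (spans_of_absIrred hirr))
  · exact .residual h

end CfsgLib.Asch
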