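import Cfsg.Agent.Lib.Aschbacher.TvProper
import Cfsg.Agent.Lib.ClassicalMax.UnitStd
import Cfsg.Agent.Lib.ClassicalMax.UnitShort
import Cfsg.Agent.Lib.Classical.Herm.Std

/-!
# None of the class stabilisers contains the special unitary group
-/

set_option autoImplicit false

namespace CfsgLib.Asch

open Matrix Cfsg.Geo CfsgLib.ClassicalMax
open scoped MatrixGroups

variable {ι : Type} [Fintype ι] [DecidableEq ι] {F : Type*} [Field F] [Fintype F] [DecidableEq F]
  {σ : F ≃+* F} {f : (ι → F) → (ι → F) → F}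

omit [DecidableEq F] in
lemma isotropic_span_top (hf : IsUnitaryForm σ f) (h2 : 2 ≤ Fintype.card ι) :
    Submodule.span F {v : ι → F | v ≠ 0 ∧ f v v = 0} = ⊤ := by
  obtain ⟨u, -, hu0, hu⟩ := Unit.exists_isotropic_mem hf (W := (⊤ : Submodule F (ι → F)))
    (by rw [finrank_top, Module.finrank_fintype_fun_eq_card]; exact h2)
  obtain ⟨y, hy⟩ := (hf.nondegenerate u hu0).1
  have h := Unit.isotropic_span_of_mem hf (W := (⊤ : Submodule F (ι → F))) (u := u) trivial hu
    ⟨y, trivial, hy⟩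
  refine eq_top_iff.mpr (h.ge.trans (Submodule.span_le.mpr ?_))
  rintro v ⟨-, hv⟩
  rcases eq_or_ne v 0 with rfl | hv0
  · exact Submodule.zero_mem _
  · exact Submodule.subset_span ⟨hv0, hv⟩

omit [DecidableEq F] in
/-- an isotropic vector meeting two given isotropic vectors -/
lemma exists_isotropic_conn (hf : IsUnitaryForm σ f) {u v : ι → F} (hu0 : u ≠ 0) (hu : f u u = 0)
    (hv0 : v ≠ 0) : ∃ w, f w w = 0 ∧ f w u ≠ 0 ∧ f w v ≠ 0 := by
  obtain ⟨q₀, hq1, hq2⟩ : ∃ q₀, f u q₀ ≠ 0 ∧ f v q₀ ≠ 0 := by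
    obtain ⟨z₁, h1⟩ := (hf.nondegenerate u hu0).2
    obtain ⟨z₂, h2⟩ := (hf.nondegenerate v hv0).2
    by_cases h : f v z₁ = 0
    · by_cases h' : f u z₂ = 0
      · refine ⟨z₁ + z₂, ?_, ?_⟩
        · rw [Unit.add_right hf, h', add_zero]; exact h1
        · rw [Unit.add_right hf, h, zero_add]; exact h2
      · exact ⟨z₂, h', h2⟩
    · exact ⟨z₁, h1, h⟩
  obtain ⟨τ, hτ0, hτ⟩ := Unit.exists_trace_zero hf.ne_refl hf.involutive
  obtain ⟨a, ha⟩ := Unit.exists_trace_eq hf (s := -f q₀ q₀) (by rw [map_neg, Unit.self_fixed hf])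
  have key : ∀ a : F, a + σ a = -f q₀ q₀ → f v q₀ + σ (a / f u q₀) * f v u ≠ 0 →
      ∃ w, f w w = 0 ∧ f w u ≠ 0 ∧ f w v ≠ 0 := by
    intro a ha hav
    refine ⟨q₀ + (a / f u q₀) • u, ?_, ?_, ?_⟩
    · have hqu : f q₀ u = σ (f u q₀) := hf.herm _ _
      have hs0 : σ (f u q₀) ≠ 0 := fun e => hq1 (by simpa using congrArg σ.symm e)
      rw [hf.add_left, Unit.add_right hf, Unit.add_right hf, hf.smul_left, hf.smul_left,
        Unit.smul_right hf, Unit.smul_right hf, hu, hqu, map_div₀, div_mul_cancel₀ _ hq1,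
        div_mul_cancel₀ _ hs0]
      linear_combination ha
    · rw [hf.add_left, hf.smul_left, hu, mul_zero, add_zero]
      exact Unit.ne_zero_comm hf hq1
    · refine Unit.ne_zero_comm hf ?_
      rwa [Unit.add_right hf, Unit.smul_right hf]
  by_cases h : f v q₀ + σ (a / f u q₀) * f v u = 0
  · refine key (a + τ) (by rw [map_add, hτ]; linear_combination ha) fun h' => ?_
    have h3 : σ (τ / f u q₀) * f v u = 0 := by
      rw [add_div, map_add] at h'
      linear_combination h' - h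
    rcases mul_eq_zero.mp h3 with h4 | h4
    · exact div_ne_zero hτ0 hq1 (by simpa using congrArg σ.symm h4)
    · rw [h4, mul_zero, add_zero] at h
      exact hq2 h
  · exact key a ha h

/-- the transvections of a unitary form -/
noncomputable def suTvSys (hf : IsUnitaryForm σ f) (h2 : 2 ≤ Fintype.card ι) :
    TvSys (Unit.isoOf f ⊓ specialLinear ι F) where
  T := {v | v ≠ 0 ∧ f v v = 0}
  φ := Unit.formDual hf
  C := {c | c ≠ 0 ∧ σ c = -c}
  c₀ := (Unit.exists_trace_zero hf.ne_refl hf.involutive).choose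
  c₀_mem := (Unit.exists_trace_zero hf.ne_refl hf.involutive).choose_spec
  c₀_ne := (Unit.exists_trace_zero hf.ne_refl hf.involutive).choose_spec.1
  mem v hv c hc := ⟨Unit.uTv_mem_isoOf hf hv.2 hc.2, Unit.uTv_mem_sl hf v c⟩
  orth v hv := by rw [Unit.formDual_dot, hv.2]
  ne v hv := hv.1
  span := isotropic_span_top hf h2
  sep x h := by
    by_contra hx
    obtain ⟨y, hy⟩ := (hf.nondegenerate x hx).2
    refine hy ?_
    clear hy
    have hmem : y ∈ Submodule.span F {v : ι → F | v ≠ 0 ∧ f v v = 0} :=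
      (isotropic_span_top hf h2).symm ▸ Submodule.mem_top
    induction hmem using Submodule.span_induction with
    | mem v hv => rw [← Unit.formDual_dot hf]; exact h v hv
    | zero => exact Unit.zero_right hf x
    | add a b _ _ ha hb => rw [Unit.add_right hf, ha, hb, add_zero]
    | smul c a _ ha => rw [Unit.smul_right hf, ha, mul_zero]
  symm u _ v _ h := by
    rw [Unit.formDual_dot] at h ⊢
    exact Unit.eq_zero_comm hf h
  conn u hu v hv := by
    obtain ⟨w, hw, hwu, hwv⟩ := exists_isotropic_conn hf hu.1 hu.2 hv.1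
    refine ⟨w, ⟨fun e => hwu (by rw [e]; exact Unit.zero_left hf u), hw⟩, ?_, ?_⟩ <;> rw [Unit.formDual_dot]
    exacts [hwu, hwv]
  ex := by
    obtain ⟨u, -, hu0, hu⟩ := Unit.exists_isotropic_mem hf (W := (⊤ : Submodule F (ι → F)))
      (by rw [finrank_top, Module.finrank_fintype_fun_eq_card]; exact h2)
    exact ⟨u, hu0, hu⟩

/-- subfield groups of any index -/
lemma su_not_le_subfield (hf : IsUnitaryForm σ f) (h3 : 3 ≤ Fintype.card ι) {F₀ : Subfield F}
    (hF₀ : F₀ ≠ ⊤) (P : GL ι F) : ¬ Unit.isoOf f ⊓ specialLinear ι F ≤ subfieldSubgroup F₀ P := by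
  obtain ⟨y, hy⟩ : ∃ y, y ∉ F₀ := by
    by_contra h
    push Not at h
    exact hF₀ (eq_top_iff.mpr fun x _ => h x)
  set S := suTvSys hf (by omega) with hS
  obtain ⟨τ, hτ0, hτ⟩ := Unit.exists_trace_zero hf.ne_refl hf.involutive
  obtain ⟨u, hu0, hu⟩ := S.ex
  obtain ⟨v, hv, huv, -⟩ := Unit.exists_isotropic_pairing hf (v := fun _ : Fin (0 + 1) => u)
    (Fintype.linearIndependent_iff.mpr fun g hg i => by
      simpa [Fin.eq_zero i, hu0] using hg) (fun _ => hu)
  have hvu : f v u = 1 := by rw [hf.herm, huv, map_one]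
  have hv0 : v ≠ 0 := fun e => one_ne_zero (huv.symm.trans (by rw [e]; exact Unit.zero_right hf u))
  have hperp : ∀ x, f (x - (f x v) • u - (f x u) • v) u = 0 ∧ f (x - (f x v) • u - (f x u) • v) v = 0 := by
    intro x
    constructor <;>
      rw [Unit.sub_left hf, Unit.sub_left hf, hf.smul_left, hf.smul_left] <;>
      simp [hu, hv, huv, hvu]
  -- a non-singular vector orthogonal to both
  obtain ⟨z, hzu, hzv, hz⟩ : ∃ z, f z u = 0 ∧ f z v = 0 ∧ f z z ≠ 0 := by
    obtain ⟨x, hx⟩ : ∃ x, x - (f x v) • u - (f x u) • v ≠ 0 := by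
      by_contra hc
      push Not at hc
      have hle : (⊤ : Submodule F (ι → F)) ≤ Submodule.span F (Set.range ![u, v]) := fun x _ => by
        have h := hc x
        rw [sub_sub, sub_eq_zero] at h
        rw [h]
        exact add_mem (Submodule.smul_mem _ _ (Submodule.subset_span ⟨0, rfl⟩))
          (Submodule.smul_mem _ _ (Submodule.subset_span ⟨1, rfl⟩))
      have h4 := Submodule.finrank_mono hle
      have h5 : Module.finrank F (Submodule.span F (Set.range ![u, v])) ≤ 2 :=
        (finrank_range_le_card (R := F) ![u, v]).trans_eq (Fintype.card_fin 2)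
      rw [finrank_top, Module.finrank_fintype_fun_eq_card] at h4
      omega
    obtain ⟨h1, h2⟩ := hperp x
    set z := x - (f x v) • u - (f x u) • v with hz
    by_cases hzz : f z z = 0
    swap
    · exact ⟨z, h1, h2, hzz⟩
    obtain ⟨w, hw⟩ := (hf.nondegenerate z hx).1
    obtain ⟨h1', h2'⟩ := hperp w
    set w' := w - (f w v) • u - (f w u) • v with hw'
    have hw'z : f w' z = f w z := by
      rw [hw', Unit.sub_left hf, Unit.sub_left hf, hf.smul_left, hf.smul_left,
        Unit.eq_zero_comm hf h1, Unit.eq_zero_comm hf h2]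
      ring
    obtain ⟨a, ha⟩ := Unit.exists_trace_eq hf (s := 1 - f w' w') (by rw [map_sub, map_one, Unit.self_fixed hf])
    refine ⟨w' + (a / f z w') • z, ?_, ?_, ?_⟩
    · rw [hf.add_left, hf.smul_left, h1', h1, mul_zero, add_zero]
    · rw [hf.add_left, hf.smul_left, h2', h2, mul_zero, add_zero]
    · have hne : f w' z ≠ 0 := by rw [hw'z]; exact hw
      have hne' : f z w' ≠ 0 := Unit.ne_zero_comm hf hne
      have hs0 : σ (f z w') ≠ 0 := fun e => hne' (by simpa using congrArg σ.symm e)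
      rw [hf.add_left, Unit.add_right hf, Unit.add_right hf, hf.smul_left, hf.smul_left,
        Unit.smul_right hf, Unit.smul_right hf, hzz, div_mul_cancel₀ _ hne', hf.herm w' z, map_div₀,
        div_mul_cancel₀ _ hs0]
      intro h
      exact one_ne_zero (by linear_combination h - ha)
  obtain ⟨b, hb⟩ := Unit.exists_norm_eq hf.ne_refl hf.involutive
    (s := -(y / τ ^ 3 + σ (y / τ ^ 3)) / f z z)
    (by rw [map_div₀, map_neg, map_add, hf.involutive, Unit.self_fixed hf, add_comm])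
  set a := y / τ ^ 3 with ha
  set w := a • u + v + b • z with hwdef
  have huz : f u z = 0 := Unit.eq_zero_comm hf hzu
  have hvz : f v z = 0 := Unit.eq_zero_comm hf hzv
  have hwv : f w v = a := by
    rw [hwdef, hf.add_left, hf.add_left, hf.smul_left, hf.smul_left, huv, hv, hzv]; ring
  have huw : f u w = 1 := by
    rw [hwdef, Unit.add_right hf, Unit.add_right hf, Unit.smul_right hf, Unit.smul_right hf, hu, huv, huz]
    ring
  have hww : f w w = 0 := by
    simp only [hwdef, hf.add_left, hf.smul_left, Unit.add_right hf, Unit.smul_right hf, hu, hv, huv,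
      hvu, huz, hvz, hzu, hzv]
    rw [eq_div_iff hz] at hb
    linear_combination hb
  have ha0 : a ≠ 0 := div_ne_zero (fun e => hy (e ▸ F₀.zero_mem)) (pow_ne_zero 3 hτ0)
  refine S.not_le_subfield P (u := u) (v := v) (w := w) ⟨hu0, hu⟩ ⟨hv0, hv⟩
    ⟨fun e => ha0 (hwv.symm.trans (by rw [e]; exact Unit.zero_left hf v)), hww⟩
    (a := τ) (b := τ) (d := τ) ⟨hτ0, hτ⟩ ⟨hτ0, hτ⟩ ⟨hτ0, hτ⟩ ?_
  simp only [hS, suTvSys, Unit.formDual_dot, hvu, hwv, huw, one_mul, mul_one]
  rwa [show τ * τ * τ * a = y by rw [ha]; field_simp]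

/-- decompositions into orthogonal lines -/
lemma su_not_le_lines (hf : IsUnitaryForm σ f) {t : ℕ} {D : Fin t → Submodule F (ι → F)}
    (hD : IsNondegenerateMDecomposition f 1 D) (h : 4 ≤ t ∨ (3 ≤ t ∧ Fintype.card F ≠ 4))
    (h2 : 2 ≤ Fintype.card ι) :
    ¬ Unit.isoOf f ⊓ specialLinear ι F ≤ decompositionStabilizer D := by
  classical
  have hne : ∀ i, ∃ e ∈ D i, e ≠ 0 := fun i => (Submodule.ne_bot_iff _).mp fun hb => by
    have := hD.decomp.finrank_eq i
    rw [hb, finrank_bot] at this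
    omega
  choose e he he0 using hne
  have hee : ∀ i, f (e i) (e i) ≠ 0 := fun i h0 => by
    obtain ⟨-, x, hx, hne⟩ := hD.nondegenerate i _ (he i) (he0 i)
    have hsp : Submodule.span F {e i} = D i :=
      Submodule.eq_of_le_of_finrank_eq ((Submodule.span_singleton_le_iff_mem _ _).2 (he i))
        (by rw [finrank_span_singleton (he0 i), hD.decomp.finrank_eq])
    rw [← hsp] at hx
    obtain ⟨c, rfl⟩ := Submodule.mem_span_singleton.mp hx
    exact hne (by rw [Unit.smul_right hf, h0, mul_zero])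
  have horth : ∀ i j, i ≠ j → f (e i) (e j) = 0 := fun i j hij =>
    hD.orthogonal i j hij _ (he i) _ (he j)
  -- support and values
  obtain ⟨s, lam, hs3, hlam, hsum⟩ : ∃ (s : Finset (Fin t)) (lam : Fin t → F), 3 ≤ s.card ∧
      (∀ i ∈ s, σ (lam i) = lam i ∧ lam i ≠ 0) ∧ ∑ i ∈ s, lam i = 0 := by
    obtain ⟨hcard, hσ⟩ := Unit.exists_card_eq hf.ne_refl hf.involutive
    rcases (show (3 ≤ t ∧ Fintype.card F ≠ 4) ∨ (4 ≤ t ∧ Fintype.card F = 4) by omega) with ⟨ht, hq⟩ | ⟨ht, hq⟩
    · obtain ⟨x, hx, hx0, hx1⟩ : ∃ x ∈ Unit.fixedField σ, x ≠ 0 ∧ x ≠ -1 := by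
        by_contra hc
        push Not at hc
        have hle : Nat.card (Unit.fixedField σ) ≤ 2 := by
          refine (Nat.card_le_card_of_injective
            (fun x : Unit.fixedField σ => decide ((x : F) = 0)) fun x y hxy => Subtype.ext ?_).trans_eq
            (by simp)
          have hiff : (x : F) = 0 ↔ (y : F) = 0 := by simpa using hxy
          by_cases hx0 : (x : F) = 0
          · rw [hx0, hiff.mp hx0]
          · rw [hc _ x.2 hx0, hc _ y.2 fun h => hx0 (hiff.mpr h)]
        have h2q : 2 ≤ Nat.card (Unit.fixedField σ) := by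
          have := Fintype.one_lt_card (α := F)
          by_contra h1
          interval_cases (Nat.card (Unit.fixedField σ)) <;> simp_all
        exact hq (by rw [hcard, le_antisymm hle h2q]; norm_num)
      let i : Fin 3 → Fin t := fun k => ⟨k, by omega⟩
      refine ⟨{i 0, i 1, i 2}, fun j => if j = i 0 then 1 else if j = i 1 then x else -1 - x, ?_, ?_, ?_⟩
      · simp [i, Fin.ext_iff]
      · intro j hj
        have hσx : σ x = x := hx
        simp only [Finset.mem_insert, Finset.mem_singleton] at hj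
        rcases hj with rfl | rfl | rfl <;> simp [i, Fin.ext_iff, hσx, hx0]
        intro h0; exact hx1 (by linear_combination -h0)
      · rw [Finset.sum_insert (by simp [i, Fin.ext_iff]), Finset.sum_pair (by simp [i, Fin.ext_iff])]
        simp [i, Fin.ext_iff]
    · let i : Fin 4 → Fin t := fun k => ⟨k, by omega⟩
      have hi : Function.Injective i := fun a b hab => by simpa [i, Fin.ext_iff] using hab
      refine ⟨Finset.univ.image i, fun _ => 1, ?_, fun _ _ => ⟨map_one σ, one_ne_zero⟩, ?_⟩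
      · rw [Finset.card_image_of_injective _ hi]; simp
      · rw [Finset.sum_image fun a _ b _ hab => hi hab]
        have h4 := FiniteField.cast_card_eq_zero F
        rw [hq] at h4
        simpa using h4
  have hnorm : ∀ i ∈ s, ∃ a, a * σ a = lam i / f (e i) (e i) := fun i hi =>
    Unit.exists_norm_eq hf.ne_refl hf.involutive (by rw [map_div₀, (hlam i hi).1, Unit.self_fixed hf])
  choose! a ha using hnorm
  set v := ∑ i ∈ s, a i • e i with hv
  have hve : ∀ k ∈ s, f v (e k) = a k * f (e k) (e k) := fun k hk => by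
    rw [hv, ← Unit.formL_apply hf (e k), map_sum, Finset.sum_eq_single k]
    · simp [hf.smul_left]
    · intro i _ hik
      simp [hf.smul_left, horth i k hik]
    · simp [hk]
  have hne_v : ∀ k ∈ s, f v (e k) ≠ 0 := fun k hk => by
    rw [hve k hk]
    refine mul_ne_zero (fun h0 => ?_) (hee k)
    have := ha k hk
    rw [h0, zero_mul] at this
    exact div_ne_zero (hlam k hk).2 (hee k) this.symm
  have hvv : f v v = 0 := by
    have hterm : ∀ k ∈ s, f (a k • e k) v = lam k := fun k hk => by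
      rw [hf.smul_left, hf.herm, hve k hk, map_mul, Unit.self_fixed hf, ← mul_assoc, ha k hk,
        div_mul_cancel₀ _ (hee k)]
    calc f v v = Unit.formL hf v (∑ i ∈ s, a i • e i) := by rw [Unit.formL_apply, ← hv]
      _ = ∑ i ∈ s, lam i := by rw [map_sum]; exact Finset.sum_congr rfl fun k hk => hterm k hk
      _ = 0 := hsum
  obtain ⟨k₀, hk₀⟩ := Finset.card_pos.mp (show 0 < s.card by omega)
  have hv0 : v ≠ 0 := fun h0 => hne_v k₀ hk₀ (by rw [h0]; exact Unit.zero_left hf _)
  refine (suTvSys hf h2).not_le_decomposition_lines hD.decomp (v := v) ⟨hv0, hvv⟩ fun i j hmem => ?_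
  obtain ⟨k, hk, hki, hkj⟩ : ∃ k ∈ s, k ≠ i ∧ k ≠ j := by
    have hlt : ({i, j} : Finset (Fin t)).card < s.card :=
      lt_of_le_of_lt (Finset.card_le_two) (by omega)
    obtain ⟨k, hk, hk'⟩ := Finset.exists_mem_notMem_of_card_lt_card hlt
    simp only [Finset.mem_insert, Finset.mem_singleton, not_or] at hk'
    exact ⟨k, hk, hk'.1, hk'.2⟩
  obtain ⟨x, hx, y, hy, hxy⟩ := Submodule.mem_sup.mp hmem
  refine hne_v k hk ?_
  rw [← hxy, hf.add_left, hD.orthogonal i k hki.symm _ hx _ (he k),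
    hD.orthogonal j k hkj.symm _ hy _ (he k), add_zero]

omit [DecidableEq F] in
/-- normal subgroups of the special unitary group -/
lemma su_dichotomy {n q : ℕ} (hF : Fintype.card F = q ^ 2) (hn : 3 ≤ n) (h32 : ¬ (n = 3 ∧ q = 2)) :
    ∀ N ≤ Cfsg.GU n F q ⊓ specialLinear (Fin n) F, Norms (Cfsg.GU n F q ⊓ specialLinear (Fin n) F) N →
      N ≤ scalars (Fin n) F ∨ N = Cfsg.GU n F q ⊓ specialLinear (Fin n) F := by
  intro N hN hnorm
  let E := Classical.Herm.suEquivRoot hF hn
  let φ : Cfsg.SU n F q →* GL (Fin n) F :=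
    (Matrix.SpecialLinearGroup.toGL).comp (Cfsg.SU n F q).subtype
  have hmem : ∀ s, φ s ∈ Cfsg.GU n F q ⊓ specialLinear (Fin n) F := fun s =>
    ⟨s.2, det_mem_sl.mpr s.1.2⟩
  have hsurj : ∀ g ∈ Cfsg.GU n F q ⊓ specialLinear (Fin n) F, ∃ s, φ s = g := fun g hg =>
    ⟨⟨⟨_, det_mem_sl.mp hg.2⟩, fun x y => hg.1 x y⟩, Units.ext rfl⟩
  let ψ : Classical.Herm.rootGen (Classical.Herm.stdHerm hF n) →* GL (Fin n) F := φ.comp E.symm.toMonoidHom
  have : (N.comap ψ).Normal := ⟨fun a ha b => by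
    rw [Subgroup.mem_comap, map_mul, map_mul, map_inv]
    exact hnorm _ (hmem _) _ ha⟩
  obtain ⟨e, f', p⟩ := Classical.Herm.exists_pair_std hF hn
  rcases Classical.Herm.normal_rootGen_dichotomy (Classical.Herm.big_std hF hn)
    (Classical.Herm.perfectable_std hF hn h32) p (N.comap ψ) inferInstance with hc | hc
  · refine Or.inl fun x hx => mem_scalars_iff_isScalarMat.mpr ?_
    obtain ⟨s, rfl⟩ := hsurj x (hN hx)
    obtain ⟨μ, -, hμ⟩ := hc (E s) (by simpa [ψ] using hx)
    refine ⟨μ, Matrix.toLin'.injective (LinearMap.ext fun v => ?_)⟩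
    rw [Matrix.toLin'_apply, Matrix.toLin'_apply, smul_mulVec, one_mulVec]
    exact (Classical.Herm.suEquiv_apply hF n s v).symm.trans (hμ v)
  · refine Or.inr (le_antisymm hN fun g hg => ?_)
    obtain ⟨s, rfl⟩ := hsurj g hg
    have h := (hc ▸ Subgroup.mem_top (E s) : E s ∈ N.comap ψ)
    simpa [ψ] using h

omit [Fintype F] [DecidableEq F] in
lemma norms_iso_sl {R : Subgroup (GL ι F)} (hsim : R ≤ similarityGroup f) :
    Norms R (Unit.isoOf f ⊓ specialLinear ι F) := by
  intro x hx g hg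
  refine ⟨fun u v => ?_, norms_sl ⊤ x (Subgroup.mem_top _) g hg.2⟩
  change f (((x * g * x⁻¹ : GL ι F) : Matrix ι ι F) *ᵥ u) (((x * g * x⁻¹ : GL ι F) : Matrix ι ι F) *ᵥ v) = f u v
  obtain ⟨c, hc⟩ := hsim hx
  rw [gl_mulVec_mul, gl_mulVec_mul, gl_mulVec_mul, gl_mulVec_mul, hc,
    show f ((g : Matrix ι ι F) *ᵥ _) ((g : Matrix ι ι F) *ᵥ _) = _ from hg.1 _ _, ← hc,
    gl_mulVec_inv_mulVec, gl_mulVec_inv_mulVec]

end CfsgLib.Asch
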