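import Cfsg.Agent.Lib.Aschbacher.FourField
import Cfsg.Agent.Lib.Aschbacher.FormField
import Cfsg.Agent.Lib.Aschbacher.FormInvol
import Cfsg.Agent.Lib.ClassicalMax.UnitStd
import Cfsg.Agent.Lib.ClassicalMax.UnitFrame

/-!
# A field of degree three inside the unitary group of degree six over four elements
-/

set_option autoImplicit false

namespace CfsgLib.Asch.SixField

open Matrix Cfsg.Geo CfsgLib.ClassicalMax
open scoped MatrixGroups

variable {F : Type*} [Field F] [Fintype F]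

/-- multiplication by a cube root of `w` -/
def cC (w : F) : Matrix (Fin 3) (Fin 3) F := !![0, 0, w; 1, 0, 0; 0, 1, 0]

/-- the inversion of the cube root -/
def cR (w : F) : Matrix (Fin 3) (Fin 3) F := !![1, 0, 0; 0, 0, w ^ 2; 0, w ^ 2, 0]

/-- an element of the field -/
def blk (w x y u : F) : Matrix (Fin 3) (Fin 3) F := !![x, w * u, w * y; y, x, w * u; u, y, x]

omit [Fintype F] in
lemma eq_blk {w : F} {a : Matrix (Fin 3) (Fin 3) F} (h : a * cC w = cC w * a) :
    a = blk w (a 0 0) (a 1 0) (a 2 0) := by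
  have e := fun i j => congrFun (congrFun h i) j
  have e00 := e 0 0; have e10 := e 1 0; have e20 := e 2 0; have e01 := e 0 1; have e11 := e 1 1; have e21 := e 2 1
  simp [cC, Matrix.mul_apply, Fin.sum_univ_three] at e00 e10 e20 e01 e11 e21
  ext i j
  fin_cases i <;> fin_cases j <;> simp [blk] <;> grind

omit [Fintype F] in
lemma blk_comm (w x y u x' y' u' : F) : blk w x y u * blk w x' y' u' = blk w x' y' u' * blk w x y u := by
  ext i j
  fin_cases i <;> fin_cases j <;> simp [blk, Matrix.mul_apply, Fin.sum_univ_three] <;> ring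

omit [Fintype F] in
lemma det_blk (w x y u : F) :
    (blk w x y u).det = x ^ 3 + w * y ^ 3 + w ^ 2 * u ^ 3 - 3 * w * x * y * u := by
  simp [blk, Matrix.det_fin_three]; ring

/-- the rules for two commuting pairs -/
lemma two_by_two {S : Type*} [CommRing S] (h2 : (2 : S) = 0) {a b c d a' b' c' d' : S}
    (e1 : a' * a + c' * c = 1) (e2 : a' * b + c' * d = 0) (e3 : b' * a + d' * c = 0) (e4 : b' * b + d' * d = 1) :
    (a * d + b * c) * d' = a ∧ (a * d + b * c) * c' = b ∧ (a * d + b * c) * b' = c ∧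
      (a * d + b * c) * a' = d ∧ (a * d + b * c) * (a * d + b * c) * (a' * d' + b' * c') = a * d + b * c := by
  have h : ∀ x : S, x = -x := fun x => by linear_combination x * h2
  have k1 : (a * d + b * c) * d' = a := by linear_combination a * e4 + b * e3 - (a * b * b') * h2
  have k2 : (a * d + b * c) * c' = b := by linear_combination a * e2 + b * e1 - (a * a' * b) * h2
  have k3 : (a * d + b * c) * b' = c := by linear_combination d * e3 + c * e4 - (c * d * d') * h2
  have k4 : (a * d + b * c) * a' = d := by linear_combination d * e1 + c * e2 - (c * c' * d) * h2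
  refine ⟨k1, k2, k3, k4, ?_⟩
  linear_combination ((a * d + b * c) * d') * k4 + d * k1 + ((a * d + b * c) * c') * k3 + c * k2

/-- the conjugation and the norm on codes -/
lemma unit_codes : ∀ x y u : Fin 4,
    Four.add (Four.add (Four.mul x (Four.mul x x)) (Four.mul 2 (Four.mul y (Four.mul y y))))
      (Four.add (Four.mul 3 (Four.mul u (Four.mul u u))) (Four.mul 2 (Four.mul x (Four.mul y u)))) = 1 →
    Four.add (Four.mul x (Four.conj x)) (Four.add (Four.mul y (Four.conj y)) (Four.mul u (Four.conj u))) = 1 →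
    Four.add (Four.mul y (Four.conj x)) (Four.add (Four.mul u (Four.conj y)) (Four.mul 3 (Four.mul x (Four.conj u)))) = 0 →
    y = 0 ∧ u = 0 ∧ x ≠ 0 := by
  decide +kernel

lemma norm_codes : ∀ t : Fin 4, ∃ x y u : Fin 4,
    let m := fun a b => Four.mul a (Four.conj b)
    let s := Four.conj t
    Four.add (Four.add (m x x) (Four.add (m y y) (m u u)))
      (Four.add (Four.add (Four.mul t (Four.add (m y x) (m u y))) (Four.mul s (Four.add (m x y) (m y u))))
        (Four.add (Four.mul (Four.mul 2 s) (m u x)) (Four.mul (Four.mul 3 t) (m x u)))) = 1 ∧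
    Four.add (Four.add (Four.mul t (Four.add (m x x) (Four.add (m y y) (m u u)))) (Four.add (m x y) (m y u)))
      (Four.add (Four.add (Four.mul (Four.mul 2 s) (Four.add (m y x) (m u y))) (Four.mul s (m x u)))
        (Four.mul 2 (m u x))) = 0 := by
  decide +kernel

variable {σ : F →+* F} {w : F}

omit [Fintype F] in
lemma blk_map (x y u : F) : (blk w x y u).map σ
    = !![σ x, σ w * σ u, σ w * σ y; σ y, σ x, σ w * σ u; σ u, σ y, σ x] := by
  ext i j
  fin_cases i <;> fin_cases j <;> simp [blk]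

omit [Fintype F] in
/-- the inversion carries the entrywise conjugate to the transpose -/
lemma cR_conj (hσw : σ w = w ^ 2) (hw : w ^ 3 = 1) {a : Matrix (Fin 3) (Fin 3) F} (ha : a * cC w = cC w * a) :
    cR w * a.map σ * (cR w).map σ = (a.map σ)ᵀ := by
  rw [eq_blk ha, blk_map]
  ext i j
  fin_cases i <;> fin_cases j <;> simp [cR, Matrix.mul_apply, Fin.sum_univ_three, hσw] <;> grind

omit [Fintype F] in
lemma map_transpose_comm (hσw : σ w = w ^ 2) (hw : w ^ 3 = 1) {a : Matrix (Fin 3) (Fin 3) F}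
    (ha : a * cC w = cC w * a) : (a.map σ)ᵀ * cC w = cC w * (a.map σ)ᵀ := by
  rw [eq_blk ha, blk_map]
  ext i j
  fin_cases i <;> fin_cases j <;> simp [cC, Matrix.mul_apply, Fin.sum_univ_three, hσw] <;> grind

omit [Fintype F] in
lemma cR_map (hσw : σ w = w ^ 2) (hw : w ^ 3 = 1) : cR w * (cR w).map σ = 1 := by
  ext i j
  fin_cases i <;> fin_cases j <;> simp [cR, Matrix.mul_apply, Fin.sum_univ_three, hσw] <;> grind

/-- the generator in two blocks -/
def cZ (w : F) : Matrix (Fin 3 ⊕ Fin 3) (Fin 3 ⊕ Fin 3) F := fromBlocks (cC w) 0 0 (cC w)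

/-- the semilinear involution -/
def cJ (w : F) : Matrix (Fin 3 ⊕ Fin 3) (Fin 3 ⊕ Fin 3) F := fromBlocks 0 (cR w) (cR w) 0

/-- the basis of the fixed points -/
def cP (w : F) : Matrix (Fin 3 ⊕ Fin 3) (Fin 3 ⊕ Fin 3) F :=
  fromBlocks 1 (w • 1) (cR w) (w ^ 2 • cR w)

/-- the automorphism of the field on two blocks -/
def cT (w : F) : Matrix (Fin 3 ⊕ Fin 3) (Fin 3 ⊕ Fin 3) F :=
  fromBlocks (diagonal ![1, w, w ^ 2]) 0 0 (diagonal ![1, w, w ^ 2])

set_option maxHeartbeats 1000000 in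
/-- the linear part, up to a scalar, commutes with the involution -/
theorem linear_part (hσ : ∀ a, σ a = a ^ 2) (h4 : Fintype.card F = 4) {φ : Fin 4 → F}
    (hφ : Function.Bijective φ) (hφ0 : φ 0 = 0) (hφ1 : φ 1 = 1) (hadd : ∀ a b, φ (Four.add a b) = φ a + φ b)
    (hmul : ∀ a b, φ (Four.mul a b) = φ a * φ b) (hconj : ∀ a, φ (Four.conj a) = φ a ^ 2)
    (hw : w = φ 2) (hw3 : w ^ 3 = 1) {A : Matrix (Fin 3 ⊕ Fin 3) (Fin 3 ⊕ Fin 3) F}
    (hu : (A.map σ)ᵀ * A = 1) (hd : A.det = 1) (hZ : A * cZ w = cZ w * A) :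
    ∃ x : F, x ≠ 0 ∧ cJ w * (x • A).map σ * (cJ w).map σ = x • A := by
  classical
  have h2 : (2 : F) = 0 := by
    have h := FiniteField.cast_card_eq_zero F
    rw [h4] at h
    push_cast at h
    exact mul_self_eq_zero.mp (show (2 : F) * 2 = 0 by linear_combination h)
  have hσw : σ w = w ^ 2 := hσ w
  obtain ⟨a, b, c, d, rfl⟩ : ∃ a b c d, A = fromBlocks a b c d :=
    ⟨_, _, _, _, (fromBlocks_toBlocks A).symm⟩
  simp only [cZ, fromBlocks_multiply, Matrix.mul_zero, Matrix.zero_mul, zero_add, add_zero,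
    fromBlocks_inj] at hZ
  obtain ⟨ha, hb, hc, hd'⟩ := hZ
  simp only [fromBlocks_map, fromBlocks_transpose, fromBlocks_multiply] at hu
  rw [← fromBlocks_one, fromBlocks_inj] at hu
  obtain ⟨e1, e2, e3, e4⟩ := hu
  let S := Subalgebra.centralizer F ({cC w} : Set (Matrix (Fin 3) (Fin 3) F))
  have hmem : ∀ {X : Matrix (Fin 3) (Fin 3) F}, X * cC w = cC w * X → X ∈ S := fun {X} hX =>
    Subalgebra.mem_centralizer_iff F |>.mpr fun g hg => by rw [Set.mem_singleton_iff.mp hg, hX]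
  have hofmem : ∀ X : S, (X : Matrix (Fin 3) (Fin 3) F) * cC w = cC w * X := fun X =>
    (Subalgebra.mem_centralizer_iff F |>.mp X.2 _ rfl).symm
  letI : CommRing S := { (inferInstance : Ring S) with
    mul_comm := fun X Y => Subtype.ext (by
      show (X : Matrix (Fin 3) (Fin 3) F) * Y = Y * X
      rw [eq_blk (hofmem X), eq_blk (hofmem Y)]
      exact blk_comm w _ _ _ _ _ _) }
  have h2S : (2 : S) = 0 := Subtype.ext (by
    show (2 : Matrix (Fin 3) (Fin 3) F) = 0
    ext i j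
    simp [Matrix.ofNat_apply, h2])
  let s : ∀ X : Matrix (Fin 3) (Fin 3) F, X * cC w = cC w * X → S := fun X h => ⟨X, hmem h⟩
  obtain ⟨k1, k2, k3, k4, k5⟩ := two_by_two h2S (a := s a ha) (b := s b hb) (c := s c hc) (d := s d hd')
    (a' := s _ (map_transpose_comm hσw hw3 ha)) (b' := s _ (map_transpose_comm hσw hw3 hb))
    (c' := s _ (map_transpose_comm hσw hw3 hc)) (d' := s _ (map_transpose_comm hσw hw3 hd'))
    (Subtype.ext e1) (Subtype.ext e2) (Subtype.ext e3) (Subtype.ext e4)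
  set δ := a * d + b * c with hδdef
  replace k1 : δ * (d.map σ)ᵀ = a := congrArg Subtype.val k1
  replace k2 : δ * (c.map σ)ᵀ = b := congrArg Subtype.val k2
  replace k3 : δ * (b.map σ)ᵀ = c := congrArg Subtype.val k3
  replace k4 : δ * (a.map σ)ᵀ = d := congrArg Subtype.val k4
  replace k5 : δ * δ * ((a.map σ)ᵀ * (d.map σ)ᵀ + (b.map σ)ᵀ * (c.map σ)ᵀ) = δ := congrArg Subtype.val k5
  have hT : fromBlocks δ 0 0 δ * (cJ w * (fromBlocks a b c d).map σ * (cJ w).map σ) = fromBlocks a b c d := by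
    simp only [cJ, fromBlocks_map, fromBlocks_multiply, Matrix.map_zero σ (map_zero σ), Matrix.mul_zero,
      Matrix.zero_mul, zero_add, add_zero, cR_conj hσw hw3 ha, cR_conj hσw hw3 hb, cR_conj hσw hw3 hc,
      cR_conj hσw hw3 hd', k1, k2, k3, k4]
  have hJJ : cJ w * (cJ w).map σ = 1 := by
    simp only [cJ, fromBlocks_map, fromBlocks_multiply, Matrix.map_zero σ (map_zero σ), Matrix.mul_zero,
      Matrix.zero_mul, zero_add, add_zero, cR_map hσw hw3, fromBlocks_one]
  have hdδ : δ.det = 1 := by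
    have h := congrArg Matrix.det hT
    have hm : ((fromBlocks a b c d).map σ).det = 1 := by
      rw [show (fromBlocks a b c d).map σ = σ.mapMatrix (fromBlocks a b c d) from rfl, ← RingHom.map_det, hd,
        map_one]
    have hJd : (cJ w).det * ((cJ w).map σ).det = 1 := by rw [← det_mul, hJJ, det_one]
    rw [det_mul, det_mul, det_mul, hm, mul_one, hJd, mul_one, det_fromBlocks_zero₂₁, hd] at h
    have : (δ.det - 1) * (δ.det - 1) = 0 := by linear_combination h + (1 - δ.det) * h2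
    exact sub_eq_zero.mp (mul_self_eq_zero.mp this)
  have hδ1 : δ * (δ.map σ)ᵀ = 1 := by
    have hu : IsUnit δ := (Matrix.isUnit_iff_isUnit_det δ).mpr (hdδ ▸ isUnit_one)
    refine hu.mul_left_cancel ?_
    rw [← mul_assoc, mul_one]
    conv_rhs => rw [← k5]
    congr 1
    simp only [δ, Matrix.map_add σ (map_add σ), Matrix.map_mul, transpose_add, transpose_mul]
    rw [show (d.map σ)ᵀ * (a.map σ)ᵀ = (a.map σ)ᵀ * (d.map σ)ᵀ from congrArg Subtype.val
        (mul_comm (s _ (map_transpose_comm hσw hw3 hd')) (s _ (map_transpose_comm hσw hw3 ha))),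
      show (c.map σ)ᵀ * (b.map σ)ᵀ = (b.map σ)ᵀ * (c.map σ)ᵀ from congrArg Subtype.val
        (mul_comm (s _ (map_transpose_comm hσw hw3 hc)) (s _ (map_transpose_comm hσw hw3 hb)))]
  have hδC : δ * cC w = cC w * δ := hofmem (s a ha * s d hd' + s b hb * s c hc)
  obtain ⟨x, y, u, hx, hy, hu'⟩ : ∃ x y u, φ x = δ 0 0 ∧ φ y = δ 1 0 ∧ φ u = δ 2 0 :=
    ⟨_, _, _, (hφ.2 _).choose_spec, (hφ.2 _).choose_spec, (hφ.2 _).choose_spec⟩
  have hblk := eq_blk hδC
  rw [← hx, ← hy, ← hu'] at hblk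
  have h33 : φ 3 = w ^ 2 := by
    rw [show (3 : Fin 4) = Four.mul 2 2 from rfl, hmul, ← hw, sq]
  have hw0 : w ≠ 0 := fun h0 => by simp [h0] at hw3
  obtain ⟨hy0, hu0, hx0⟩ := unit_codes x y u
    (hφ.1 (by
      rw [hblk, det_blk] at hdδ
      simp only [hadd, hmul, h33, ← hw, hφ1]
      linear_combination hdδ + (w ^ 1 * φ x * φ y * φ u * 2) * h2))
    (hφ.1 (by
      have h := congrFun (congrFun hδ1 0) 0
      rw [hblk] at h
      simp [blk, Matrix.mul_apply, Fin.sum_univ_three, hσ] at h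
      simp only [hadd, hmul, hconj, hφ1]
      grind))
    (hφ.1 (by
      have h := congrFun (congrFun hδ1 1) 0
      rw [hblk] at h
      simp [blk, Matrix.mul_apply, Fin.sum_univ_three, hσ] at h
      simp only [hadd, hmul, hconj, hφ0, h33]
      grind))
  have hδx : δ = φ x • (1 : Matrix (Fin 3) (Fin 3) F) := by
    rw [hblk, hy0, hu0, hφ0]
    ext i j
    fin_cases i <;> fin_cases j <;> simp [blk]
  have hx1 : φ x ≠ 0 := fun h => hx0 (hφ.1 (h.trans hφ0.symm))
  have hx3 : φ x ^ 3 = 1 := by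
    have := FiniteField.pow_card_sub_one_eq_one (φ x) hx1
    rwa [h4] at this
  refine ⟨φ x, hx1, ?_⟩
  have hσx : σ (φ x) = φ x * φ x := by rw [hσ, sq]
  calc cJ w * (φ x • fromBlocks a b c d).map σ * (cJ w).map σ
      = φ x • (φ x • (cJ w * (fromBlocks a b c d).map σ * (cJ w).map σ)) := by
        rw [show (φ x • fromBlocks a b c d).map σ = σ (φ x) • (fromBlocks a b c d).map σ by ext i j; simp, hσx]
        simp only [Matrix.mul_smul, Matrix.smul_mul, smul_smul]
    _ = φ x • fromBlocks a b c d := by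
        congr 1
        conv_rhs => rw [← hT, hδx]
        rw [show fromBlocks (φ x • (1 : Matrix (Fin 3) (Fin 3) F)) 0 0 (φ x • 1) = φ x • 1 by
          rw [← fromBlocks_one, fromBlocks_smul, smul_zero], smul_mul_assoc, one_mul]

/-- the automorphism commutes with the involution -/
lemma cT_conj (hσw : σ w = w ^ 2) (hw : w ^ 3 = 1) : cJ w * (cT w).map σ * (cJ w).map σ = cT w := by
  simp only [cJ, cT, fromBlocks_map, fromBlocks_multiply, Matrix.map_zero σ (map_zero σ), Matrix.mul_zero,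
    Matrix.zero_mul, zero_add, add_zero]
  congr 1 <;>
    (ext i j; fin_cases i <;> fin_cases j <;>
      simp [cR, Matrix.mul_apply, Fin.sum_univ_three, Matrix.vecMul_diagonal, hσw] <;> grind)

lemma cP_facts (hσw : σ w = w ^ 2) (hw : w ^ 3 = 1) (hs : w + w ^ 2 = 1) (h2 : (2 : F) = 0) :
    cJ w * (cP w).map σ = cP w ∧
      (cP w)ᵀ * (cP w).map σ = fromBlocks 0 1 1 0 := by
  constructor <;> simp only [cJ, cP, fromBlocks_map, fromBlocks_transpose, fromBlocks_multiply,
    Matrix.map_zero σ (map_zero σ), Matrix.mul_zero, Matrix.zero_mul, zero_add, add_zero] <;>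
  congr 1 <;>
    (ext i j; fin_cases i <;> fin_cases j <;>
      simp [cR, Matrix.mul_apply, Fin.sum_univ_three, Matrix.one_apply, hσw] <;> grind)

variable {τ : F ≃+* F} {f : (Fin 6 → F) → (Fin 6 → F) → F}

/-- an isometry with cube a scalar: a vector with prescribed products with its images -/
lemma exists_normal {φ : Fin 4 → F} (hφ : Function.Bijective φ) (hφ0 : φ 0 = 0) (hφ1 : φ 1 = 1)
    (hadd : ∀ a b, φ (Four.add a b) = φ a + φ b) (hmul : ∀ a b, φ (Four.mul a b) = φ a * φ b)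
    (hconj : ∀ a, φ (Four.conj a) = φ a ^ 2) (hw : w = φ 2) (hw3 : w ^ 3 = 1) (hτ : ∀ a, τ a = a ^ 2)
    (hf : IsUnitaryForm τ f) {z : Matrix (Fin 6) (Fin 6) F} (hz3 : ∀ v, z *ᵥ z *ᵥ z *ᵥ v = w • v)
    (hiso : ∀ u v, f (z *ᵥ u) (z *ᵥ v) = f u v) {v : Fin 6 → F} (hv : f v v = 1) :
    ∃ x y u : F, let e := x • v + y • (z *ᵥ v) + u • (z *ᵥ z *ᵥ v)
      f e e = 1 ∧ f (z *ᵥ e) e = 0 := by
  obtain ⟨t, ht⟩ := hφ.2 (f (z *ᵥ v) v)
  obtain ⟨x, y, u, h1, h2⟩ := norm_codes t
  refine ⟨φ x, φ y, φ u, ?_⟩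
  have h33 : φ 3 = w ^ 2 := by
    rw [show (3 : Fin 4) = Four.mul 2 2 from rfl, hmul, ← hw, sq]
  have a10 : f (z *ᵥ v) v = φ t := ht.symm
  have a01 : f v (z *ᵥ v) = φ (Four.conj t) := by rw [hf.herm, a10, hτ, hconj]
  have a20 : f (z *ᵥ z *ᵥ v) v = w * φ (Four.conj t) := by
    rw [← hiso, hz3, hf.smul_left, a01]
  have a02 : f v (z *ᵥ z *ᵥ v) = w ^ 2 * φ t := by
    rw [hf.herm, a20, hτ, hconj, mul_pow, ← pow_mul]
    have h := FiniteField.pow_card (φ t)
    rw [show Fintype.card F = 4 by rw [← Fintype.card_of_bijective hφ, Fintype.card_fin]] at h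
    rw [h]
  have g1 := congrArg φ h1
  have g2 := congrArg φ h2
  simp only [hadd, hmul, hconj, hφ0, hφ1, h33, ← hw] at g1 g2 a01 a20 a02
  constructor
  · simp only [hf.add_left, hf.smul_left, Unit.add_right hf, Unit.smul_right hf, hiso, a10, a01, a20, a02, hv, hτ]
    linear_combination g1
  · simp only [mulVec_add, mulVec_smul, hf.add_left, hf.smul_left, Unit.add_right hf, Unit.smul_right hf,
      hiso, hz3, a10, a01, a20, a02, hv, hτ]
    linear_combination g2 + (φ u ^ 3 * φ t) * hw3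

/-- the automorphism on two blocks is a special isometry moving the generator -/
lemma cT_facts (hσw : σ w = w ^ 2) (hw : w ^ 3 = 1) :
    ((cT w).map σ)ᵀ * cT w = 1 ∧ (cT w).det = 1 ∧ cT w * cZ w = w • (cZ w * cT w) := by
  refine ⟨?_, ?_, ?_⟩
  · simp only [cT, fromBlocks_map, fromBlocks_transpose, fromBlocks_multiply, Matrix.map_zero σ (map_zero σ),
      Matrix.transpose_zero, Matrix.mul_zero, Matrix.zero_mul, zero_add, add_zero, diagonal_map (map_zero σ),
      diagonal_transpose, diagonal_mul_diagonal]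
    rw [← fromBlocks_one, ← diagonal_one]
    congr 1 <;> (congr 1; funext i; fin_cases i <;> simp [hσw] <;> grind)
  · rw [cT, det_fromBlocks_zero₂₁, det_diagonal, Fin.prod_univ_three]
    simp
    grind
  · simp only [cT, cZ, fromBlocks_multiply, Matrix.mul_zero, Matrix.zero_mul, zero_add, add_zero, fromBlocks_smul,
      smul_zero]
    congr 1 <;> (ext i j; fin_cases i <;> fin_cases j <;> simp [cC, Matrix.vecMul_diagonal] <;> grind)

set_option maxHeartbeats 2000000 in
/-- a generator of a cubic field and an orthonormal frame adapted to it -/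
theorem exists_frame (h4 : Fintype.card F = 4) (hτ : ∀ a, τ a = a ^ 2)
    (hf : IsUnitaryForm τ (Cfsg.hermForm 6 F 2)) {φ : Fin 4 → F} (hφ : Function.Bijective φ) (hφ0 : φ 0 = 0)
    (hφ1 : φ 1 = 1) (hadd : ∀ a b, φ (Four.add a b) = φ a + φ b) (hmul : ∀ a b, φ (Four.mul a b) = φ a * φ b)
    (hconj : ∀ a, φ (Four.conj a) = φ a ^ 2) (hw : w = φ 2) (hw3 : w ^ 3 = 1)
    {K : Subalgebra F (Matrix (Fin 6) (Fin 6) F)} (hK : IsFieldSubalgebra 3 K)
    (hadj : IsAdjointClosedFor (Cfsg.hermForm 6 F 2) K) :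
    ∃ z ∈ K, z * z * z = w • 1 ∧ (∀ k ∈ K, k * k * k = w • 1 → ∃ c : F, c ^ 3 = 1 ∧ k = c • z) ∧
      ∃ Q : Matrix (Fin 3 ⊕ Fin 3) (Fin 3 ⊕ Fin 3) F, Qᵀ * Q.map τ.toRingHom = 1 ∧
        z.submatrix finSumFinEquiv finSumFinEquiv * Q = Q * cZ w := by
  classical
  have hττ : ∀ a, τ (τ a) = a := hf.involutive
  set f := Cfsg.hermForm 6 F 2
  set σ : F →+* F := τ.toRingHom
  have hσ : ∀ a, σ a = a ^ 2 := hτ
  have h2 : (2 : F) = 0 := by
    have h := FiniteField.cast_card_eq_zero F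
    rw [h4] at h
    push_cast at h
    exact mul_self_eq_zero.mp (show (2 : F) * 2 = 0 by linear_combination h)
  have hw0 : w ≠ 0 := fun h0 => by simp [h0] at hw3
  have hw1 : w + w ^ 2 = 1 := by
    rw [hw, sq, ← hmul, ← hadd, ← hφ1]; rfl
  -- a generator of the field
  letI : Field K := (fieldSub_isField hK).toField
  haveI : Finite K := Module.finite_of_finite F
  have hKcard : Nat.card K = 64 := by
    rw [Module.natCard_eq_pow_finrank (K := F), hK.finrank_eq, Nat.card_eq_fintype_card, h4]; rfl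
  let W : Kˣ := Units.map (algebraMap F K).toMonoidHom (Units.mk0 w hw0)
  obtain ⟨g₀, hg₀⟩ := IsCyclic.exists_generator (α := Kˣ)
  obtain ⟨m, hm⟩ := (mem_powers_iff_mem_zpowers (x := g₀)).mpr (hg₀ W)
  obtain ⟨zK, hzK⟩ : ∃ zK : K, zK ^ 3 = algebraMap F K w := by
    have hW : W ^ 21 = 1 := by
      rw [← map_pow, show Units.mk0 w hw0 ^ 21 = (1 : Fˣ) from Units.ext (by
        rw [Units.val_pow_eq_pow_val, Units.val_mk0, show (21 : ℕ) = 3 * 7 from rfl, pow_mul, hw3, one_pow,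
          Units.val_one]), map_one]
    have hm' : g₀ ^ m = W := hm
    have h63 : orderOf g₀ = 63 := by
      rw [orderOf_eq_card_of_forall_mem_zpowers hg₀, Nat.card_units, hKcard]
    rw [← hm', ← pow_mul] at hW
    have := orderOf_dvd_of_pow_eq_one hW
    rw [h63] at this
    obtain ⟨k, rfl⟩ : 3 ∣ m := by omega
    refine ⟨((g₀ ^ k : Kˣ) : K), ?_⟩
    rw [← Units.val_pow_eq_pow_val, ← pow_mul, mul_comm k, hm']
    rfl
  have hroots : ∀ p : K, p ^ 3 = 1 → ∃ c : F, c ^ 3 = 1 ∧ p = algebraMap F K c := by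
    intro p hp
    have key : (p - algebraMap F K 1) * (p - algebraMap F K w) * (p - algebraMap F K (w ^ 2)) = 0 := by
      have e1 := congrArg (algebraMap F K) hw1
      have e3 := congrArg (algebraMap F K) hw3
      have e2 := congrArg (algebraMap F K) h2
      simp only [map_add, map_pow, map_one, map_zero, map_ofNat] at e1 e2 e3
      simp only [map_one, map_pow]
      linear_combination hp - (p ^ 2) * e1 + p * e1 + (p - 1) * e3 + (p - p ^ 2) * e2
    rcases mul_eq_zero.mp key with h | h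
    · rcases mul_eq_zero.mp h with h | h
      · exact ⟨1, one_pow _, sub_eq_zero.mp h⟩
      · exact ⟨w, hw3, sub_eq_zero.mp h⟩
    · exact ⟨w ^ 2, by rw [← pow_mul, mul_comm, pow_mul, hw3, one_pow], sub_eq_zero.mp h⟩
  have hz0 : zK ≠ 0 := fun h => by
    rw [h, zero_pow three_ne_zero, eq_comm, map_eq_zero] at hzK
    exact hw0 hzK
  set z : Matrix (Fin 6) (Fin 6) F := Subtype.val zK
  have hzm : z * z * z = w • 1 := by
    have := congrArg Subtype.val (show zK * zK * zK = algebraMap F K w by rw [← pow_three', hzK])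
    rw [← Algebra.algebraMap_eq_smul_one]
    exact this
  have hz3 : ∀ v, z *ᵥ z *ᵥ z *ᵥ v = w • v := fun v => by
    rw [mulVec_mulVec, mulVec_mulVec, hzm, smul_mulVec, one_mulVec]
  have heqf : ∀ {a b : Fin 6 → F}, (∀ u, f u a = f u b) → a = b := by
    intro a b h
    by_contra hne'
    obtain ⟨⟨x, hx⟩, -⟩ := hf.nondegenerate (a - b) (sub_ne_zero.mpr hne')
    refine hx ?_
    have := h x
    rw [← sub_add_cancel a b, Unit.add_right hf] at this
    simpa using this
  obtain ⟨z', hz', hzadj⟩ := hadj z zK.2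
  have hz'3 : ∀ v, z' *ᵥ z' *ᵥ z' *ᵥ v = w ^ 2 • v := fun v => heqf fun u => by
    rw [← hzadj, ← hzadj, ← hzadj, hz3, hf.smul_left, Unit.smul_right hf, hτ, ← pow_mul,
      show 2 * 2 = 3 + 1 from rfl, pow_succ, hw3, one_mul]
  obtain ⟨c, hc3, hc⟩ := hroots (zK * ⟨z', hz'⟩) (by
    refine Subtype.ext (Matrix.ext_of_mulVec_single fun i => ?_)
    rw [mul_pow, pow_three', pow_three']
    show (z * z * z * (z' * z' * z')) *ᵥ _ = (1 : Matrix (Fin 6) (Fin 6) F) *ᵥ _
    rw [hzm, smul_mul_assoc, one_mul, smul_mulVec, ← mulVec_mulVec, ← mulVec_mulVec, hz'3, smul_smul,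
      ← pow_succ', hw3, one_smul, one_mulVec])
  have hzz' : z * z' = c • 1 := by
    rw [← Algebra.algebraMap_eq_smul_one]
    exact congrArg Subtype.val hc
  have hiso0 : ∀ u v, f (z *ᵥ u) (z *ᵥ v) = τ c * f u v := fun u v => by
    rw [hzadj, mulVec_mulVec, ← hK.comm z zK.2 z' hz', hzz', smul_mulVec, one_mulVec, Unit.smul_right hf]
  obtain ⟨v₀, hv₀⟩ : ∃ v₀, f v₀ v₀ = 1 :=
    ⟨Pi.single 0 1, by simp [f, Cfsg.hermForm, Pi.single_apply, ite_pow]⟩
  have hc1 : c = 1 := by
    have hc0 : c ≠ 0 := fun h => by simp [h] at hc3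
    have h := Unit.self_fixed hf (z *ᵥ v₀)
    rw [hiso0, hv₀, mul_one, hττ] at h
    exact ((Unit.Frame.fixed_eq hτ h.symm).resolve_left hc0)
  have hiso : ∀ u v, f (z *ᵥ u) (z *ᵥ v) = f u v := fun u v => by rw [hiso0, hc1, map_one, one_mul]
  -- frames
  have frame : ∀ e, f e e = 1 → f (z *ᵥ e) e = 0 → ∀ i j : Fin 3,
      f (![e, z *ᵥ e, z *ᵥ z *ᵥ e] i) (![e, z *ᵥ e, z *ᵥ z *ᵥ e] j) = if i = j then 1 else 0 := by
    intro e h1 h0
    have h0' : f e (z *ᵥ e) = 0 := by rw [hf.herm, h0, map_zero]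
    have h20 : f (z *ᵥ z *ᵥ e) e = 0 := by rw [← hiso, hz3, hf.smul_left, h0', mul_zero]
    have h02 : f e (z *ᵥ z *ᵥ e) = 0 := by rw [hf.herm, h20, map_zero]
    intro i j
    fin_cases i <;> fin_cases j <;> simp [-mulVec_mulVec, hiso, h1, h0, h0', h20, h02]
  obtain ⟨x₁, y₁, u₁, he1, he0⟩ := exists_normal hφ hφ0 hφ1 hadd hmul hconj hw hw3 hτ hf hz3 hiso hv₀
  set e₁ := x₁ • v₀ + y₁ • (z *ᵥ v₀) + u₁ • (z *ᵥ z *ᵥ v₀)
  set E : Fin 3 → Fin 6 → F := ![e₁, z *ᵥ e₁, z *ᵥ z *ᵥ e₁]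
  have hE : ∀ i j, f (E i) (E j) = if i = j then 1 else 0 := frame e₁ he1 he0
  let L : (Fin 6 → F) →ₗ[F] (Fin 3 → F) := LinearMap.pi fun i => Unit.formL hf (E i)
  have hL : ∀ v, L v = 0 ↔ ∀ i, f v (E i) = 0 := fun v => by
    rw [funext_iff]; rfl
  obtain ⟨v, hvL, hv⟩ : ∃ v, L v = 0 ∧ f v v = 1 := by
    by_contra hc'
    push Not at hc'
    have hzero : ∀ v, L v = 0 → f v v = 0 := fun v hv =>
      (Unit.Frame.fixed_eq hτ (Unit.self_fixed hf v)).resolve_right (hc' v hv)
    have hpol : ∀ v v', L v = 0 → L v' = 0 → f v v' = 0 := by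
      intro v v' hv hv'
      have e1 := hzero (v + v') (by rw [map_add, hv, hv', add_zero])
      have e2 := hzero (w • v + v') (by rw [map_add, map_smul, hv, hv', smul_zero, add_zero])
      simp only [hf.add_left, Unit.add_right hf, hf.smul_left, Unit.smul_right hf, hτ, hzero v hv,
        hzero v' hv'] at e1 e2
      linear_combination e2 + w ^ 2 * e1 - (w ^ 2 * f v' v) * h2 - f v v' * hw1
    obtain ⟨v, hv, hv0⟩ : ∃ v, L v = 0 ∧ v ≠ 0 := by
      by_contra hc''
      push Not at hc''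
      exact LinearMap.ker_ne_bot_of_finrank_lt (f := L) (by simp) (LinearMap.ker_eq_bot'.mpr hc'')
    obtain ⟨-, x, hx⟩ := hf.nondegenerate v hv0
    refine hx ?_
    set p := x - ∑ i, f x (E i) • E i
    have hp : L p = 0 := (hL p).mpr fun j => by
      simp only [p, ← Unit.formL_apply hf, map_sub, map_sum, map_smul]
      simp [Unit.formL_apply, hE]
    have hvE := (hL v).mp hv
    rw [show x = p + ∑ i, f x (E i) • E i by simp [p], Unit.add_right hf, hpol v p hv hp, zero_add]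
    simp [Fin.sum_univ_three, Unit.add_right hf, Unit.smul_right hf, hvE]
  obtain ⟨x₂, y₂, u₂, hd1, hd0⟩ := exists_normal hφ hφ0 hφ1 hadd hmul hconj hw hw3 hτ hf hz3 hiso hv
  set e₂ := x₂ • v + y₂ • (z *ᵥ v) + u₂ • (z *ᵥ z *ᵥ v)
  set E' : Fin 3 → Fin 6 → F := ![e₂, z *ᵥ e₂, z *ᵥ z *ᵥ e₂]
  have hshift : ∀ v, (∀ i, f v (E i) = 0) → ∀ i, f (z *ᵥ v) (E i) = 0 := by
    intro v hv i
    fin_cases i
    · show f (z *ᵥ v) e₁ = 0
      have h : f v (z *ᵥ z *ᵥ e₁) = 0 := hv 2
      rw [← hiso, ← hiso, hz3, hf.smul_left, h, mul_zero]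
    · show f (z *ᵥ v) (z *ᵥ e₁) = 0
      rw [hiso]; exact hv 0
    · show f (z *ᵥ v) (z *ᵥ z *ᵥ e₁) = 0
      rw [hiso]; exact hv 1
  have hv' := (hL v).mp hvL
  have he₂ : ∀ i, f e₂ (E i) = 0 := fun i => by
    simp only [e₂, hf.add_left, hf.smul_left, hv' i, hshift v hv' i, hshift _ (hshift v hv') i, mul_zero, add_zero]
  have hcross : ∀ j i, f (E' j) (E i) = 0 := fun j i => by
    fin_cases j
    · exact he₂ i
    · exact hshift _ he₂ i
    · exact hshift _ (hshift _ he₂) i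
  let b : Fin 3 ⊕ Fin 3 → Fin 6 → F := Sum.elim E E'
  have hb : ∀ i j, f (b i) (b j) = if i = j then 1 else 0 := by
    rintro (i | i) (j | j)
    · simp [b, hE]
    · simp [b, hf.herm (E i), hcross]
    · simp [b, hcross]
    · exact (frame e₂ hd1 hd0 i j).trans (by simp)
  let e : Fin 3 ⊕ Fin 3 ≃ Fin 6 := finSumFinEquiv
  let Q : Matrix (Fin 3 ⊕ Fin 3) (Fin 3 ⊕ Fin 3) F := Matrix.of fun i j => b j (e i)
  have hQ : Qᵀ * Q.map σ = 1 := by
    ext i j
    rw [Matrix.one_apply, ← hb]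
    simp only [Q, f, Cfsg.hermForm, Matrix.mul_apply, transpose_apply, Matrix.map_apply, Matrix.of_apply, hσ]
    exact e.sum_comp fun k => b i k * b j k ^ 2
  have hzQ : z.submatrix e e * Q = Q * cZ w := by
    ext i j
    have hl : (z.submatrix e e * Q) i j = (z *ᵥ b j) (e i) := by
      simp only [Q, Matrix.mul_apply, Matrix.mulVec, dotProduct, submatrix_apply, Matrix.of_apply]
      exact e.sum_comp fun k => z (e i) k * b j k
    rw [hl]
    rcases j with j | j <;> fin_cases j <;>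
      simp [-mulVec_mulVec, b, E, E', Q, cZ, cC, Matrix.mul_apply, Fintype.sum_sum_type, Fin.sum_univ_three, hz3, mul_comm]
  refine ⟨z, zK.2, hzm, fun k hk hk3 => ?_, Q, hQ, hzQ⟩
  obtain ⟨c, hc3', hc'⟩ := hroots (⟨k, hk⟩ * zK⁻¹) (by
    rw [mul_pow, inv_pow, hzK, ← div_eq_mul_inv, div_eq_one_iff_eq (by simpa using hw0)]
    refine Subtype.ext ?_
    rw [pow_three']
    show k * k * k = algebraMap F (Matrix (Fin 6) (Fin 6) F) w
    rw [hk3, Algebra.algebraMap_eq_smul_one])
  refine ⟨c, hc3', ?_⟩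
  have h := congrArg Subtype.val ((mul_inv_eq_iff_eq_mul₀ hz0).mp hc')
  change k = algebraMap F (Matrix (Fin 6) (Fin 6) F) c * z at h
  rw [h, Algebra.algebraMap_eq_smul_one, smul_mul_assoc, one_mul]

set_option maxHeartbeats 2000000 in
/-- over four elements the normaliser of a cubic field is contained in a subfield group -/
theorem exists_rational (h4 : Fintype.card F = 4) {K : Subalgebra F (Matrix (Fin 6) (Fin 6) F)}
    (hK : IsFieldSubalgebra 3 K) (hadj : IsAdjointClosedFor (Cfsg.hermForm 6 F 2) K) :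
    ∃ (F₀ : Subfield F) (P : GL (Fin 6) F), Fintype.card F = Nat.card F₀ ^ 2 ∧
      IsFormRationalStructure (Cfsg.hermForm 6 F 2) F₀ 1 P ∧
      (∀ u : Fin 6 → F, (∀ i, u i ∈ F₀) → Cfsg.hermForm 6 F 2 ((P : Matrix (Fin 6) (Fin 6) F) *ᵥ u)
        ((P : Matrix (Fin 6) (Fin 6) F) *ᵥ u) = 0) ∧
      subalgebraNormalizer K ⊓ (Cfsg.GU 6 F 2 ⊓ specialLinear (Fin 6) F) ≤ subfieldSubgroup F₀ P := by
  classical
  have hF : Fintype.card F = 2 ^ 2 := h4
  obtain ⟨τ, hτ, hττ, hne⟩ := Unit.exists_powEquiv (F := F) hF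
  have hf := Unit.isUnitaryForm_hermForm (F := F) hF 6 hτ hne
  set f := Cfsg.hermForm 6 F 2
  set σ : F →+* F := τ.toRingHom
  have hσ : ∀ a, σ a = a ^ 2 := hτ
  obtain ⟨φ, hφ, hφ0, hφ1, hadd, hmul, hconj⟩ := Four.exists_code h4
  have h2 : (2 : F) = 0 := by
    have h := FiniteField.cast_card_eq_zero F
    rw [h4] at h
    push_cast at h
    exact mul_self_eq_zero.mp (show (2 : F) * 2 = 0 by linear_combination h)
  haveI : CharP F 2 := CharTwo.of_one_ne_zero_of_two_eq_zero one_ne_zero h2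
  set w : F := φ 2 with hw
  have hw3 : w ^ 3 = 1 := by
    rw [hw, pow_succ, sq, ← hmul, ← hmul, ← hφ1]; rfl
  have hw0 : w ≠ 0 := fun h0 => by simp [h0] at hw3
  have hw1 : w + w ^ 2 = 1 := by
    rw [hw, sq, ← hmul, ← hadd, ← hφ1]; rfl
  have hσw : σ w = w ^ 2 := hσ w
  obtain ⟨z, hzK, hzm, hroot, Q, hQ, hzQ⟩ := exists_frame h4 hτ hf hφ hφ0 hφ1 hadd hmul hconj hw hw3 hK hadj
  let e : Fin 3 ⊕ Fin 3 ≃ Fin 6 := finSumFinEquiv
  replace hQ : Qᵀ * Q.map σ = 1 := hQ
  set zs := z.submatrix e e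
  set Qi := (Q.map σ)ᵀ
  have hσσ : ∀ M : Matrix (Fin 3 ⊕ Fin 3) (Fin 3 ⊕ Fin 3) F, (M.map σ).map σ = M := fun M => by
    ext i j; exact hττ _
  have hQi : Qi * Q = 1 := by
    have h := congrArg (fun M => M.map σ) hQ
    simp only [Matrix.map_mul, hσσ, transpose_map, Matrix.map_one σ (map_zero σ) (map_one σ)] at h
    exact h
  have hQQ : Q * Qi = 1 := mul_eq_one_comm.mp hQi
  obtain ⟨hJP, hgram⟩ := cP_facts (σ := σ) hσw hw3 hw1 h2
  obtain ⟨R, hRdef⟩ : ∃ R, R = Q * cP w := ⟨_, rfl⟩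
  have hR : Rᵀ * R.map σ = fromBlocks 0 1 1 0 := by
    calc Rᵀ * R.map σ = (cP w)ᵀ * (Qᵀ * Q.map σ) * (cP w).map σ := by
          simp only [hRdef, transpose_mul, Matrix.map_mul, mul_assoc]
      _ = _ := by rw [hQ, mul_one, hgram]
  have hRdet : R.det ≠ 0 := fun h => by
    have h' := congrArg Matrix.det hR
    rw [det_mul, det_transpose, h, zero_mul] at h'
    have hsq : (fromBlocks 0 1 1 0 : Matrix (Fin 3 ⊕ Fin 3) (Fin 3 ⊕ Fin 3) F) * fromBlocks 0 1 1 0 = 1 := by
      simp [fromBlocks_multiply, fromBlocks_one]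
    have := congrArg Matrix.det hsq
    rw [det_mul, ← h', zero_mul, det_one] at this
    exact zero_ne_one this
  let P : GL (Fin 6) F := Matrix.GeneralLinearGroup.mkOfDetNeZero (R.submatrix e.symm e.symm)
    (by rwa [det_submatrix_equiv_self])
  let F₀ := fixedField σ
  have hσne : σ ≠ RingHom.id F := fun h => hne (RingEquiv.ext fun a => RingHom.congr_fun h a)
  have hform : ∀ u v : Fin 6 → F, (∀ i, v i ∈ F₀) →
      f ((P : Matrix (Fin 6) (Fin 6) F) *ᵥ u) ((P : Matrix (Fin 6) (Fin 6) F) *ᵥ v)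
        = (u ∘ e) ⬝ᵥ ((fromBlocks 0 1 1 0 : Matrix (Fin 3 ⊕ Fin 3) (Fin 3 ⊕ Fin 3) F) *ᵥ (v ∘ e)) := by
    intro u v hv
    have hP : ∀ (x : Fin 6 → F) i, ((P : Matrix (Fin 6) (Fin 6) F) *ᵥ x) (e i) = (R *ᵥ (x ∘ e)) i := fun x i => by
      simp only [P, Matrix.GeneralLinearGroup.mkOfDetNeZero, Matrix.mulVec, dotProduct, submatrix_apply,
        Function.comp_apply]
      rw [← e.sum_comp]
      simp
    rw [← hR, ← mulVec_mulVec, dotProduct_mulVec, vecMul_transpose]
    simp only [f, Cfsg.hermForm]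
    rw [← e.sum_comp]
    simp only [hP, dotProduct]
    refine Finset.sum_congr rfl fun i _ => ?_
    congr 1
    rw [← hσ]
    simp only [Matrix.mulVec, dotProduct, map_sum, map_mul, Matrix.map_apply, Function.comp_apply]
    exact Finset.sum_congr rfl fun j _ => by rw [show σ (v (e j)) = v (e j) from hv _]
  refine ⟨F₀, P, card_eq_sq_fixedField hττ hσne, ?_, ?_, ?_⟩
  · intro u v hu hv
    rw [one_mul, hform u v hv]
    simp only [dotProduct, Matrix.mulVec]
    refine F₀.sum_mem fun i _ => F₀.mul_mem (hu _) (F₀.sum_mem fun j _ => F₀.mul_mem ?_ (hv _))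
    rcases i with i | i <;> rcases j with j | j <;> simp [Matrix.one_apply] <;> split <;>
      simp [F₀.one_mem, F₀.zero_mem]
  · intro u hu
    rw [hform u u hu]
    simp [dotProduct, Matrix.mulVec, Fintype.sum_sum_type, Matrix.one_apply]
    rw [← Finset.sum_add_distrib]
    exact Finset.sum_eq_zero fun i _ => by rw [mul_comm]; exact CharTwo.add_self_eq_zero _
  rintro g ⟨hgN, hgU, hgS⟩
  -- the image of the generator
  set G := (g : Matrix (Fin 6) (Fin 6) F)
  set Gi := ((g⁻¹ : GL (Fin 6) F) : Matrix (Fin 6) (Fin 6) F)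
  have hzg : (G * z * Gi) * (G * z * Gi) * (G * z * Gi) = w • 1 := by
    rw [show (G * z * Gi) * (G * z * Gi) * (G * z * Gi) = G * (z * z * z) * Gi by
      simp [G, Gi, mul_assoc], hzm]
    simp [G, Gi]
  obtain ⟨c', hc'3, h⟩ := hroot _ ((hgN z).mp hzK) hzg
  have hgz : G * z = c' • (z * G) := by
    calc G * z = (G * z * Gi) * G := by simp [G, Gi, mul_assoc]
      _ = _ := by rw [h, smul_mul_assoc]
  set A := Qi * G.submatrix e e * Q
  have hgu : (G.submatrix e e)ᵀ * (G.submatrix e e).map σ = 1 := by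
    ext i j
    have h := hgU (Pi.single (e i) 1) (Pi.single (e j) 1)
    simp only [Cfsg.hermForm, Units.coeHom_apply, mulVec_single_one] at h
    simp only [Matrix.mul_apply, transpose_apply, Matrix.map_apply, submatrix_apply, hσ, Matrix.one_apply]
    rw [show (∑ k, G (e k) (e i) * G (e k) (e j) ^ 2) = ∑ k, G k (e i) * G k (e j) ^ 2 from
      e.sum_comp fun k => G k (e i) * G k (e j) ^ 2]
    rw [Matrix.col_def] at h
    refine h.trans ?_
    simp [Pi.single_apply, ite_pow, eq_comm]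
  have hAu : (A.map σ)ᵀ * A = 1 := by
    have hgu' : ((G.submatrix e e).map σ)ᵀ * G.submatrix e e = 1 := by
      have h := congrArg (fun M => M.map σ) hgu
      simp only [Matrix.map_mul, hσσ, transpose_map, Matrix.map_one σ (map_zero σ) (map_one σ)] at h
      exact h
    have hQiσ : ((Qi.map σ))ᵀ = Q := by simp only [Qi, transpose_map, hσσ, transpose_transpose]
    simp only [A, Matrix.map_mul, transpose_mul, hQiσ]
    calc (Q.map σ)ᵀ * (((G.submatrix e e).map σ)ᵀ * Q) * (Qi * G.submatrix e e * Q)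
        = Qi * (((G.submatrix e e).map σ)ᵀ * (Q * Qi) * G.submatrix e e) * Q := by simp only [Qi, mul_assoc]
      _ = 1 := by rw [hQQ, mul_one, hgu', mul_one, hQi]
  have hAd : A.det = 1 := by
    have hg1 : G.det = 1 := by
      have := congrArg (fun x : Fˣ => (x : F)) (MonoidHom.mem_ker.mp hgS)
      simpa using this
    rw [det_mul, det_mul, det_submatrix_equiv_self, hg1, mul_one, ← det_mul, hQi, det_one]
  have hAZ : A * cZ w = c' • (cZ w * A) := by
    have h := congrArg (fun M => M.submatrix e e) hgz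
    rw [← submatrix_mul_equiv G z e e e] at h
    simp only [submatrix_smul, Pi.smul_apply, ← submatrix_mul_equiv z G e e e] at h
    calc A * cZ w = Qi * (G.submatrix e e * (zs * Q)) := by rw [hzQ]; simp only [A, mul_assoc]
      _ = Qi * ((G.submatrix e e * zs) * Q) := by simp only [mul_assoc]
      _ = c' • (Qi * (zs * Q) * (Qi * (G.submatrix e e * Q))) := by
          rw [h]
          simp only [smul_mul_assoc, mul_smul_comm, mul_assoc]
          rw [← mul_assoc Q Qi, hQQ, one_mul]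
      _ = _ := by rw [hzQ, ← mul_assoc Qi Q, hQi, one_mul]; simp only [A, mul_assoc]
  obtain ⟨hTu, hTd, hTZ⟩ := cT_facts (σ := σ) hσw hw3
  obtain ⟨m, hm⟩ : ∃ m : ℕ, c' * w ^ m = 1 := by
    obtain ⟨a, ha⟩ := hφ.2 c'
    have hc'0 : a ≠ 0 := fun h => by rw [← ha, h, hφ0] at hc'3; simp at hc'3
    fin_cases a
    · exact absurd rfl hc'0
    · exact ⟨0, by rw [← ha]; simp [hφ1]⟩
    · exact ⟨2, by rw [← ha, ← hw3]; simp [w]; ring⟩
    · refine ⟨1, ?_⟩
      rw [← ha, ← hφ1, pow_one, hw, ← hmul]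
      rfl
  set T := cT w ^ m
  have hTm : cJ w * T.map σ * (cJ w).map σ = T ∧ (T.map σ)ᵀ * T = 1 ∧ T.det = 1 ∧
      T * cZ w = w ^ m • (cZ w * T) := by
    have hJJ' : (cJ w).map σ * cJ w = 1 := by
      have h : cJ w * (cJ w).map σ = 1 := by
        simp [cJ, fromBlocks_map, fromBlocks_multiply, cR_map hσw hw3, fromBlocks_one]
      exact mul_eq_one_comm.mp h
    clear hm
    induction m with
    | zero =>
      simp only [T, pow_zero, Matrix.map_one σ (map_zero σ) (map_one σ), mul_one, one_mul, transpose_one,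
        det_one, one_smul, and_true]
      exact mul_eq_one_comm.mp hJJ'
    | succ k ih =>
      obtain ⟨i1, i2, i3, i4⟩ := ih
      refine ⟨?_, ?_, ?_, ?_⟩
      · simp only [T, pow_succ, Matrix.map_mul]
        calc cJ w * ((cT w ^ k).map σ * (cT w).map σ) * (cJ w).map σ
            = cJ w * (cT w ^ k).map σ * ((cJ w).map σ * cJ w) * ((cT w).map σ * (cJ w).map σ) := by
              rw [hJJ', mul_one]; simp only [mul_assoc]
          _ = (cJ w * (cT w ^ k).map σ * (cJ w).map σ) * (cJ w * (cT w).map σ * (cJ w).map σ) := by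
              simp only [mul_assoc]
          _ = _ := by rw [i1, cT_conj hσw hw3]
      · simp only [T, pow_succ, Matrix.map_mul, transpose_mul]
        rw [mul_assoc, ← mul_assoc _ (cT w ^ k), i2, one_mul, hTu]
      · rw [show T = cT w ^ k * cT w from pow_succ _ _, det_mul, i3, hTd, one_mul]
      · simp only [T, pow_succ]
        rw [mul_assoc, hTZ, mul_smul_comm, ← mul_assoc, i4, smul_mul_assoc, smul_smul, mul_comm w,
          mul_assoc (cZ w)]
  obtain ⟨hT1, hT2, hT3', hT4⟩ := hTm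
  obtain ⟨x, hx0, hx⟩ := linear_part (A := T * A) hσ h4 hφ hφ0 hφ1 hadd hmul hconj rfl hw3
    (by rw [Matrix.map_mul, transpose_mul, mul_assoc, ← mul_assoc _ T, hT2, one_mul, hAu])
    (by rw [det_mul, hT3', hAd, one_mul])
    (by
      rw [mul_assoc, hAZ, mul_smul_comm, ← mul_assoc, hT4, smul_mul_assoc, smul_smul, hm, one_smul, mul_assoc])
  have hTdet : IsUnit T := (Matrix.isUnit_iff_isUnit_det T).mpr (hT3' ▸ isUnit_one)
  have hxA : cJ w * (x • A).map σ * (cJ w).map σ = x • A := by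
    refine hTdet.mul_left_cancel ?_
    conv_rhs => rw [mul_smul_comm, ← hx]
    conv_lhs => rw [← hT1]
    have hJJ' : (cJ w).map σ * cJ w = 1 := mul_eq_one_comm.mp (show cJ w * (cJ w).map σ = 1 by
      simp [cJ, fromBlocks_map, fromBlocks_multiply, cR_map hσw hw3, fromBlocks_one])
    rw [show x • (T * A) = T * (x • A) from (mul_smul_comm x T A).symm, Matrix.map_mul]
    calc cJ w * T.map σ * (cJ w).map σ * (cJ w * (x • A).map σ * (cJ w).map σ)
        = cJ w * T.map σ * ((cJ w).map σ * cJ w) * ((x • A).map σ * (cJ w).map σ) := by simp only [mul_assoc]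
      _ = _ := by rw [hJJ', mul_one]; simp only [mul_assoc]; rfl
  -- the rational matrix
  have hRu : IsUnit R := (Matrix.isUnit_iff_isUnit_det R).mpr hRdet.isUnit
  obtain ⟨Ri, hRi⟩ := hRu.exists_left_inv
  obtain ⟨M, hRM⟩ : ∃ M, R * M = (x • G.submatrix e e) * R :=
    ⟨Ri * (x • G.submatrix e e) * R, by rw [← mul_assoc, ← mul_assoc, mul_eq_one_comm.mp hRi, one_mul]⟩
  have hQA : Q * (x • A) = (x • G.submatrix e e) * Q := by
    simp only [A, mul_smul_comm, smul_mul_assoc, ← mul_assoc, hQQ, one_mul]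
  have hMfix : M.map σ = M := by
    have hP1 : cP w * M = (x • A) * cP w := by
      have hQu : IsUnit Q := ⟨⟨Q, Qi, hQQ, hQi⟩, rfl⟩
      refine hQu.mul_left_cancel ?_
      rw [← mul_assoc, ← mul_assoc, hQA, mul_assoc (x • G.submatrix e e), ← hRdef]
      exact hRM
    have hPu : IsUnit (cP w) := by
      refine (Matrix.isUnit_iff_isUnit_det _).mpr (Ne.isUnit fun h => hRdet ?_)
      rw [hRdef, det_mul, h, mul_zero]
    refine hPu.mul_left_cancel ?_
    rw [hP1]
    conv_lhs => rw [← hJP]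
    rw [mul_assoc, ← Matrix.map_mul, hP1, Matrix.map_mul]
    conv_rhs => rw [← hxA, ← hJP]
    rw [mul_assoc (cJ w * (x • A).map σ) ((cJ w).map σ), ← mul_assoc ((cJ w).map σ),
      show (cJ w).map σ * cJ w = 1 from mul_eq_one_comm.mp (by
        simp [cJ, fromBlocks_map, fromBlocks_multiply, cR_map hσw hw3, fromBlocks_one]), one_mul, mul_assoc]
  have hMmem : ∀ i j, M i j ∈ F₀ := fun i j => congrFun (congrFun hMfix i) j
  let M₀ : Matrix (Fin 6) (Fin 6) F₀ := Matrix.of fun i j => ⟨M (e.symm i) (e.symm j), hMmem _ _⟩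
  have hM₀ : M₀.map F₀.subtype = M.submatrix e.symm e.symm := rfl
  have hM₀d : M₀.det ≠ 0 := fun h => by
    have h' := congrArg F₀.subtype h
    rw [RingHom.map_det, map_zero, RingHom.mapMatrix_apply, hM₀, det_submatrix_equiv_self] at h'
    have hGd : IsUnit (G.submatrix e e).det := by
      rw [det_submatrix_equiv_self]; exact (Matrix.isUnit_iff_isUnit_det G).mp g.isUnit
    have hd := congrArg Matrix.det hRM
    rw [det_mul, det_mul, det_smul, h', mul_zero] at hd
    exact mul_ne_zero (mul_ne_zero (pow_ne_zero _ hx0) hGd.ne_zero) hRdet hd.symm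
  let s : GL (Fin 6) F := Units.map (Matrix.scalar (Fin 6) : F →+* Matrix (Fin 6) (Fin 6) F).toMonoidHom
    (Units.mk0 x⁻¹ (inv_ne_zero hx0))
  refine ⟨Matrix.GeneralLinearGroup.map (F₀.subtype : F₀ →+* F)
      (Matrix.GeneralLinearGroup.mkOfDetNeZero M₀ hM₀d) * s,
    Subgroup.mul_mem_sup ⟨_, rfl⟩ ⟨_, rfl⟩, ?_⟩
  show P * _ * P⁻¹ = g
  rw [mul_inv_eq_iff_eq_mul]
  refine Units.ext ?_
  show (P : Matrix (Fin 6) (Fin 6) F) * (M₀.map F₀.subtype * Matrix.scalar (Fin 6) x⁻¹) = G * (P : Matrix (Fin 6) (Fin 6) F)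
  rw [hM₀, show (P : Matrix (Fin 6) (Fin 6) F) = R.submatrix e.symm e.symm from rfl, ← mul_assoc,
    submatrix_mul_equiv, hRM, Matrix.scalar_apply, ← smul_one_eq_diagonal, mul_smul_comm, mul_one,
    smul_mul_assoc]
  simp only [submatrix_smul, Pi.smul_apply, smul_smul, inv_mul_cancel₀ hx0, one_smul]
  rw [← submatrix_mul_equiv _ _ _ e.symm _]
  simp

end CfsgLib.Asch.SixField
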