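import Cfsg.Agent.Lib.Aschbacher.SuProper
import Cfsg.Agent.Lib.Aschbacher.SetStab
import Cfsg.Agent.Lib.Aschbacher.FourField
import Cfsg.Agent.Lib.ClassicalMax.UnitFrame

/-!
# Monomial subgroups of the unitary group of degree six over four elements
-/

set_option autoImplicit false

namespace CfsgLib.Asch

open Matrix Cfsg.Geo CfsgLib.ClassicalMax
open scoped MatrixGroups

namespace SixLines

open Four

/-- the distinguished vectors -/
def good (a b c d e f : Fin 4) : Bool :=
  (([a, b, c, d, e, f].filter (fun x => x != 0)).length == 2) ||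
    ((([a, b, c, d, e, f].filter (fun x => x != 0)).length == 6) && ([a, b, c, d, e, f].foldl mul 1 == 1))

/-- the sum of the coordinates -/
def total (a b c d e f : Fin 4) : Fin 4 := add (add (add (add (add a b) c) d) e) f

lemma good_step : ∀ a b c d e f : Fin 4, good a b c d e f = true →
    good (add a (total a b c d e f)) (add b (total a b c d e f)) (add c (total a b c d e f))
      (add d (total a b c d e f)) (add e (total a b c d e f)) (add f (total a b c d e f)) = true := by
  decide +kernel

variable {F : Type*} [Field F] [Fintype F] {σ : F ≃+* F} {f : (Fin 6 → F) → (Fin 6 → F) → F}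

/-- the stabiliser of six orthogonal lines is not maximal over four elements -/
theorem not_maximal (hF : Fintype.card F = 4) (hσ : ∀ a, σ a = a ^ 2) (hf : IsUnitaryForm σ f)
    {D : Fin 6 → Submodule F (Fin 6 → F)} (hD : IsNondegenerateMDecomposition f 1 D) :
    ∃ K : Subgroup (GL (Fin 6) F), decompositionStabilizer D ⊓ (Unit.isoOf f ⊓ specialLinear (Fin 6) F) < K ∧
      K < Unit.isoOf f ⊓ specialLinear (Fin 6) F := by
  classical
  have h2 : (2 : F) = 0 := by
    have h := FiniteField.cast_card_eq_zero F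
    rw [hF] at h
    push_cast at h
    exact mul_self_eq_zero.mp (show (2 : F) * 2 = 0 by linear_combination h)
  haveI : CharP F 2 := CharTwo.of_one_ne_zero_of_two_eq_zero one_ne_zero h2
  have hne : ∀ i, ∃ e ∈ D i, e ≠ 0 := fun i => (Submodule.ne_bot_iff _).mp fun hb => by
    have := hD.decomp.finrank_eq i
    rw [hb, finrank_bot] at this
    omega
  choose e he he0 using hne
  have hspan : ∀ i, Submodule.span F {e i} = D i := fun i =>
    Submodule.eq_of_le_of_finrank_eq ((Submodule.span_singleton_le_iff_mem _ _).2 (he i))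
      (by rw [finrank_span_singleton (he0 i), hD.decomp.finrank_eq])
  have hee : ∀ i, f (e i) (e i) = 1 := fun i => by
    refine (Unit.Frame.fixed_eq hσ (Unit.self_fixed hf _)).resolve_left fun h0 => ?_
    obtain ⟨-, x, hx, hne⟩ := hD.nondegenerate i _ (he i) (he0 i)
    rw [← hspan i] at hx
    obtain ⟨c, rfl⟩ := Submodule.mem_span_singleton.mp hx
    exact hne (by rw [Unit.smul_right hf, h0, mul_zero])
  have horth : ∀ i j, f (e i) (e j) = if i = j then 1 else 0 := fun i j => by
    split_ifs with h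
    · rw [h, hee]
    · exact hD.orthogonal i j h _ (he i) _ (he j)
  let crd : (Fin 6 → F) → Fin 6 → F := fun v i => f v (e i)
  let vec : (Fin 6 → F) → Fin 6 → F := fun x => ∑ i, x i • e i
  have hcrd : ∀ x, crd (vec x) = x := fun x => funext fun j => by
    simp only [crd, vec, ← Unit.formL_apply hf, map_sum, map_smul]
    simp [Unit.formL_apply, horth]
  have hvec : ∀ v, vec (crd v) = v := fun v => by
    have hsurj : Function.Surjective crd := fun x => ⟨vec x, hcrd x⟩
    exact (Finite.injective_iff_surjective.mpr hsurj) (hcrd (crd v))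
  -- the set
  let good' : (Fin 6 → F) → Prop := fun x => (Finset.univ.filter fun i => x i ≠ 0).card = 2 ∨
    ((∀ i, x i ≠ 0) ∧ ∏ i, x i = 1)
  let S : Set (Fin 6 → F) := {v | good' (crd v)}
  have hM : ∀ g ∈ decompositionStabilizer D ⊓ (Unit.isoOf f ⊓ specialLinear (Fin 6) F),
      ∀ v ∈ S, (g : Matrix (Fin 6) (Fin 6) F) *ᵥ v ∈ S := by
    intro g hg v hv
    obtain ⟨⟨π, hπ⟩, hiso, hdet⟩ := hg
    have hge : ∀ i, ∃ a : F, (g : Matrix (Fin 6) (Fin 6) F) *ᵥ e i = a • e (π i) := fun i => by
      have h : (g : Matrix (Fin 6) (Fin 6) F) *ᵥ e i ∈ D (π i) := by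
        rw [← hπ i]; exact ⟨_, he i, Matrix.toLin'_apply _ _⟩
      rw [← hspan] at h
      obtain ⟨a, ha⟩ := Submodule.mem_span_singleton.mp h
      exact ⟨a, ha.symm⟩
    choose a ha using hge
    have hna : ∀ i, a i * σ (a i) = 1 := fun i => by
      have h := hiso (e i) (e i)
      change f ((g : Matrix (Fin 6) (Fin 6) F) *ᵥ e i) ((g : Matrix (Fin 6) (Fin 6) F) *ᵥ e i) = _ at h
      rw [ha, hf.smul_left, Unit.smul_right hf, hee, hee, mul_one] at h
      exact h
    have hcg : ∀ w i, crd ((g : Matrix (Fin 6) (Fin 6) F) *ᵥ w) (π i) = a i * crd w i := fun w i => by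
      have h : f ((g : Matrix (Fin 6) (Fin 6) F) *ᵥ w) ((g : Matrix (Fin 6) (Fin 6) F) *ᵥ e i) = f w (e i) := hiso w (e i)
      rw [ha, Unit.smul_right hf] at h
      simp only [crd]
      rw [← h, ← mul_assoc, hna, one_mul]
    have ha0 : ∀ i, a i ≠ 0 := fun i h0 => by
      have := hna i
      rw [h0, zero_mul] at this
      exact zero_ne_one this
    have hprod : ∏ i, a i = 1 := by
      let Pm : Matrix (Fin 6) (Fin 6) F := Matrix.of fun i k => e k i
      have hPm : ∀ x, Pm *ᵥ x = vec x := fun x => funext fun i => by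
        simp [Pm, vec, Matrix.mulVec, dotProduct, Finset.sum_apply, mul_comm]
      have hdetP : Pm.det ≠ 0 := fun h => by
        obtain ⟨x, hx0, hx⟩ := (Matrix.exists_mulVec_eq_zero_iff).mpr h
        rw [hPm] at hx
        refine hx0 ?_
        rw [← hcrd x, hx]
        funext i
        exact Unit.zero_left hf _
      have h : (g : Matrix (Fin 6) (Fin 6) F) * Pm = Pm * (π.permMatrix F)ᵀ * diagonal a := by
        ext i k
        have h' := congrFun (ha k) i
        simp only [Matrix.mulVec, dotProduct, Pi.smul_apply, smul_eq_mul] at h'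
        rw [Matrix.mul_diagonal, Matrix.mul_apply, Matrix.mul_apply]
        simp only [Pm, Matrix.of_apply]
        rw [h', Finset.sum_eq_single (π k)]
        · simp [Equiv.Perm.permMatrix, PEquiv.toMatrix, mul_comm]
        · intro l _ hl
          simp [Equiv.Perm.permMatrix, PEquiv.toMatrix, Ne.symm hl]
        · simp
      have h' := congrArg Matrix.det h
      rw [det_mul, det_mul, det_mul, det_mem_sl.mp hdet, one_mul, det_transpose, Matrix.det_permutation, det_diagonal] at h'
      rcases Int.units_eq_one_or (Equiv.Perm.sign π) with hs | hs <;> rw [hs] at h' <;>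
        simp only [Units.val_one, Int.cast_one, mul_one, Units.val_neg, Int.cast_neg, CharTwo.neg_eq] at h' <;>
        exact mul_left_cancel₀ hdetP (by rw [mul_one]; exact h'.symm)
    rcases hv with hv | ⟨hv, hv1⟩
    · refine Or.inl (Eq.trans ?_ hv)
      refine (Finset.card_equiv π fun i => ?_).symm
      simp only [Finset.mem_filter, Finset.mem_univ, true_and, hcg, ne_eq, mul_eq_zero, ha0 i, false_or]
    · refine Or.inr ⟨fun i => ?_, ?_⟩
      · obtain ⟨j, rfl⟩ := π.surjective i
        rw [hcg]
        exact mul_ne_zero (ha0 j) (hv j)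
      · rw [← Equiv.prod_comp π]
        simp only [hcg, Finset.prod_mul_distrib, hprod, hv1, one_mul]
  -- the extra element
  have hσ1 : σ (1 : F) = -1 := by rw [map_one, CharTwo.neg_eq]
  have hcadd : ∀ v w i, crd (v + w) i = crd v i + crd w i := fun v w i => hf.add_left _ _ _
  have hcsmul : ∀ (c : F) v i, crd (c • v) i = c * crd v i := fun c v i => hf.smul_left _ _ _
  let tv : (Fin 6 → F) → GL (Fin 6) F := fun x => Unit.uTv hf (vec x) 1
  have hform : ∀ x y, f (vec x) (vec y) = ∑ i, x i * σ (y i) := fun x y => by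
    rw [← Unit.formL_apply hf (vec y)]
    simp only [vec, map_sum, map_smul, Unit.formL_apply, smul_eq_mul]
    refine Finset.sum_congr rfl fun i _ => ?_
    congr 1
    rw [hf.herm, show f (∑ j, y j • e j) (e i) = y i from congrFun (hcrd y) i]
  have htv : ∀ x, f (vec x) (vec x) = 0 → tv x ∈ Unit.isoOf f ⊓ specialLinear (Fin 6) F ∧
      ∀ v i, crd ((tv x : Matrix (Fin 6) (Fin 6) F) *ᵥ v) i = crd v i + (∑ j, crd v j * σ (x j)) * x i := by
    intro x hx
    refine ⟨⟨Unit.uTv_mem_isoOf hf hx hσ1, Unit.uTv_mem_sl hf _ _⟩, fun v i => ?_⟩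
    rw [Unit.uTv_mulVec hf hx, hcadd, hcsmul, one_mul, hcrd]
    conv_lhs => rw [← hvec v]
    rw [hform, hcrd]
  obtain ⟨φ, hφ, φ0, φ1, φadd, φmul, -⟩ := exists_code hF
  let a1 : Fin 6 → F := fun _ => 1
  have ha1 : f (vec a1) (vec a1) = 0 := by
    rw [hform]
    simp only [a1, map_one, mul_one, Finset.sum_const, Finset.card_univ, Fintype.card_fin, nsmul_eq_mul]
    push_cast
    linear_combination 3 * h2
  obtain ⟨hwΩ, hw⟩ := htv a1 ha1
  have hnz : ∀ x : Fin 4, φ x = 0 ↔ x = 0 := fun x => by
    rw [← φ0]; exact hφ.1.eq_iff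
  have hgood : ∀ y : Fin 6 → Fin 4, good' (fun i => φ (y i)) ↔ good (y 0) (y 1) (y 2) (y 3) (y 4) (y 5) = true := by
    intro y
    have hp : ∏ i, φ (y i) = φ ([y 0, y 1, y 2, y 3, y 4, y 5].foldl mul 1) := by
      simp only [List.foldl_cons, List.foldl_nil, φmul, φ1, one_mul, Fin.prod_univ_six]
    simp only [good', hp, ne_eq, hnz, ← φ1, hφ.1.eq_iff, good, Bool.or_eq_true, Bool.and_eq_true, beq_iff_eq]
    have hlen : (Finset.univ.filter fun i => ¬ y i = 0).card =
        ([y 0, y 1, y 2, y 3, y 4, y 5].filter (fun x => x != 0)).length := by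
      rw [show ([y 0, y 1, y 2, y 3, y 4, y 5]) = List.ofFn y by simp [List.ofFn_succ], List.ofFn_eq_map,
        List.filter_map, List.length_map]
      rw [← List.toFinset_card_of_nodup ((List.nodup_finRange 6).filter _)]
      congr 1
      ext i
      simp
    rw [hlen]
    refine or_congr Iff.rfl (and_congr_left fun _ => ?_)
    rw [← hlen]
    constructor
    · intro h
      rw [Finset.filter_true_of_mem (fun i _ => h i)]
      simp
    · intro h i hi
      have := Finset.eq_univ_of_card _ (h.trans (Fintype.card_fin 6).symm)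
      have hm : i ∈ Finset.univ.filter fun i => ¬ y i = 0 := by rw [this]; exact Finset.mem_univ i
      exact (Finset.mem_filter.mp hm).2 hi
  have hwS : ∀ v ∈ S, (tv a1 : Matrix (Fin 6) (Fin 6) F) *ᵥ v ∈ S := by
    intro v hv
    obtain ⟨y, hy⟩ : ∃ y : Fin 6 → Fin 4, crd v = fun i => φ (y i) :=
      ⟨fun i => (hφ.2 (crd v i)).choose, funext fun i => (hφ.2 (crd v i)).choose_spec.symm⟩
    have h := good_step _ _ _ _ _ _ ((hgood y).mp (hy ▸ hv))
    set z : Fin 6 → Fin 4 := fun i => add (y i) (total (y 0) (y 1) (y 2) (y 3) (y 4) (y 5))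
    have hz : crd ((tv a1 : Matrix (Fin 6) (Fin 6) F) *ᵥ v) = fun i => φ (z i) := funext fun i => by
      rw [hw, hy]
      simp only [z, a1, total, φadd, map_one, mul_one, Fin.sum_univ_six]
    exact (show good' _ from hz ▸ (hgood z).mpr h)
  let x0 : Fin 6 → F := fun i => if i = 0 then 1 else 0
  have hwM : tv a1 ∉ decompositionStabilizer D := by
    rintro ⟨π, hπ⟩
    have h : (tv a1 : Matrix (Fin 6) (Fin 6) F) *ᵥ vec x0 ∈ D (π 0) := by
      rw [← hπ 0]
      refine ⟨vec x0, ?_, Matrix.toLin'_apply _ _⟩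
      simp only [vec, x0, ite_smul, one_smul, zero_smul, Finset.sum_ite_eq', Finset.mem_univ, if_true]
      exact he 0
    rw [← hspan] at h
    obtain ⟨c, hc⟩ := Submodule.mem_span_singleton.mp h
    have hall : ∀ i, i ≠ 0 → i = π 0 := fun i hi => by
      by_contra hne
      have := congrArg (fun u => crd u i) hc
      simp only [hcsmul, hw, hcrd] at this
      simp [crd, horth, Ne.symm hne, x0, a1, hi] at this
    have := hall 1 (by decide)
    have := hall 2 (by decide)
    omega
  obtain ⟨hu0, hu1⟩ : φ 2 ≠ 0 ∧ φ 2 ≠ 1 := ⟨fun h => by simpa using (hnz 2).mp h, fun h => by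
    rw [← φ1] at h; simpa using hφ.1 h⟩
  let b : Fin 6 → F := fun i => if i.val < 4 then 1 else 0
  have hb : f (vec b) (vec b) = 0 := by
    rw [hform, Fin.sum_univ_six]
    simp [b]
    linear_combination 2 * h2
  obtain ⟨htΩ, ht⟩ := htv b hb
  let x : Fin 6 → F := ![1, φ 2, 0, 0, 0, 0]
  have hx : vec x ∈ S := by
    refine Or.inl ?_
    rw [hcrd]
    rw [show (Finset.univ.filter fun i => x i ≠ 0) = {0, 1} by
      ext i; fin_cases i <;> simp [x, hu0]]
    decide
  refine not_maximal_of_setStab S hM hwΩ hwS hwM htΩ hx ?_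
  have hval : crd ((tv b : Matrix (Fin 6) (Fin 6) F) *ᵥ vec x) = fun i => x i + (1 + φ 2) * b i := funext fun i => by
    rw [ht, hcrd, Fin.sum_univ_six]
    simp [x, b]
  rintro (h | ⟨h, -⟩)
  · rw [hval, show (Finset.univ.filter fun i => x i + (1 + φ 2) * b i ≠ 0) = {0, 1, 2, 3} by
      have h1 : (1 : F) + φ 2 ≠ 0 := fun h => hu1 (by linear_combination h - h2)
      have h3 : (1 : F) + (1 + φ 2) ≠ 0 := fun h => hu0 (by linear_combination h - h2)
      have h4 : φ 2 + (1 + φ 2) ≠ 0 := fun h => one_ne_zero (show (1 : F) = 0 by linear_combination h - φ 2 * h2)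
      ext i; fin_cases i <;> simp [x, b, h1, h3, h4]] at h
    exact absurd h (by decide)
  · have := h 4
    rw [hval] at this
    simp [x, b] at this

end SixLines

end CfsgLib.Asch
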