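import Cfsg.Agent.Lib.Aschbacher.SetStab
import Cfsg.Agent.Lib.ClassicalMax.UnitStd

/-!
# Coded three by three matrices: a frame in which a group and a further isometry stabilise a set
-/

set_option autoImplicit false

namespace CfsgLib.Asch.Three

open Matrix Cfsg.Geo CfsgLib.ClassicalMax
open scoped MatrixGroups

/-- operations on codes -/
structure Ops (n : ℕ) where
  add : Fin n → Fin n → Fin n
  mul : Fin n → Fin n → Fin n
  neg : Fin n → Fin n
  conj : Fin n → Fin n
  zero : Fin n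
  one : Fin n

section

variable {n : ℕ} (O : Ops n)

/-- vectors of codes -/
abbrev Vec (n : ℕ) := Fin 3 → Fin n

/-- matrices of codes -/
abbrev Mat (n : ℕ) := Fin 3 → Fin 3 → Fin n

namespace Ops

/-- sum of three codes -/
def sum3 (a b c : Fin n) : Fin n := O.add (O.add a b) c

/-- matrix times vector -/
def mulV (A : Mat n) (v : Vec n) : Vec n := fun i =>
  O.sum3 (O.mul (A i 0) (v 0)) (O.mul (A i 1) (v 1)) (O.mul (A i 2) (v 2))

/-- matrix product -/
def mulM (A B : Mat n) : Mat n := fun i j =>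
  O.sum3 (O.mul (A i 0) (B 0 j)) (O.mul (A i 1) (B 1 j)) (O.mul (A i 2) (B 2 j))

/-- the standard form -/
def inner (u v : Vec n) : Fin n :=
  O.sum3 (O.mul (u 0) (O.conj (v 0))) (O.mul (u 1) (O.conj (v 1))) (O.mul (u 2) (O.conj (v 2)))

/-- difference -/
def sub (a b : Fin n) : Fin n := O.add a (O.neg b)

/-- the determinant -/
def det3 (A : Mat n) : Fin n :=
  O.sum3 (O.mul (A 0 0) (O.sub (O.mul (A 1 1) (A 2 2)) (O.mul (A 1 2) (A 2 1))))
    (O.mul (A 0 1) (O.sub (O.mul (A 1 2) (A 2 0)) (O.mul (A 1 0) (A 2 2))))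
    (O.mul (A 0 2) (O.sub (O.mul (A 1 0) (A 2 1)) (O.mul (A 1 1) (A 2 0))))

/-- the identity -/
def id3 : Mat n := fun i j => if i = j then O.one else O.zero

/-- a diagonal matrix -/
def diag (a b c : Fin n) : Mat n := fun i j => if i = j then ![a, b, c] i else O.zero

/-- a special isometry -/
def isU (A : Mat n) : Bool :=
  decide (∀ a b, O.inner (fun k => A k a) (fun k => A k b) = O.id3 a b) && decide (O.det3 A = O.one)

end Ops

/-- a set of vectors, given by the last coordinates over each pair of the first two -/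
def mem (rows : Fin n → Fin n → List (Fin n)) (v : Vec n) : Bool := (rows (v 0) (v 1)).contains (v 2)

/-- stability of a coded set -/
def stableB (rows : Fin n → Fin n → List (Fin n)) (X : Mat n) : Bool :=
  decide (∀ a b, ∀ c ∈ rows a b, mem rows (O.mulV X ![a, b, c]) = true)

/-- stability of a coded set -/
def Stable (rows : Fin n → Fin n → List (Fin n)) (X : Mat n) : Prop :=
  ∀ v, mem rows v = true → mem rows (O.mulV X v) = true

lemma stable_of_stableB {rows : Fin n → Fin n → List (Fin n)} {X : Mat n} (h : stableB O rows X = true) :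
    Stable O rows X := by
  intro v hv
  have hv' : v = ![v 0, v 1, v 2] := funext fun i => by fin_cases i <;> rfl
  rw [hv']
  exact (of_decide_eq_true h) (v 0) (v 1) (v 2) (by simpa [mem] using hv)

end

variable {F : Type*} [Field F]

/-- a coding of a field with an involution -/
structure Code {n : ℕ} (O : Ops n) (φ : Fin n → F) (σ : F →+* F) : Prop where
  bij : Function.Bijective φ
  zero : φ O.zero = 0
  one : φ O.one = 1
  add : ∀ a b, φ (O.add a b) = φ a + φ b
  mul : ∀ a b, φ (O.mul a b) = φ a * φ b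
  neg : ∀ a, φ (O.neg a) = - φ a
  conj : ∀ a, φ (O.conj a) = σ (φ a)

/-- the matrix of a code -/
def lift {n : ℕ} (φ : Fin n → F) (A : Mat n) : Matrix (Fin 3) (Fin 3) F := Matrix.of fun i j => φ (A i j)

variable {n : ℕ} {O : Ops n} {φ : Fin n → F} {σ : F →+* F}

lemma Code.sum3 (hC : Code O φ σ) (a b c : Fin n) : φ (O.sum3 a b c) = φ a + φ b + φ c := by
  simp only [Ops.sum3, hC.add]

lemma lift_mul (hC : Code O φ σ) (A B : Mat n) : lift φ (O.mulM A B) = lift φ A * lift φ B := by
  ext i j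
  simp [lift, Ops.mulM, hC.sum3, hC.mul, Matrix.mul_apply, Fin.sum_univ_three]

lemma lift_mulV (hC : Code O φ σ) (A : Mat n) (v : Vec n) : φ ∘ O.mulV A v = lift φ A *ᵥ (φ ∘ v) := by
  ext i
  simp [lift, Ops.mulV, hC.sum3, hC.mul, Matrix.mulVec, dotProduct, Fin.sum_univ_three]

lemma lift_id (hC : Code O φ σ) : lift φ O.id3 = 1 := by
  ext i j
  simp [lift, Ops.id3, apply_ite φ, hC.one, hC.zero, Matrix.one_apply]

lemma lift_inner (hC : Code O φ σ) (u v : Vec n) : φ (O.inner u v) = (φ ∘ u) ⬝ᵥ (σ ∘ φ ∘ v) := by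
  simp [Ops.inner, hC.sum3, hC.mul, hC.conj, dotProduct, Fin.sum_univ_three]

lemma lift_det (hC : Code O φ σ) (A : Mat n) : φ (O.det3 A) = (lift φ A).det := by
  simp only [Ops.det3, Ops.sub, hC.sum3, hC.mul, hC.add, hC.neg, Matrix.det_fin_three, lift, Matrix.of_apply]
  ring

lemma lift_injective (hC : Code O φ σ) {A B : Mat n} (h : lift φ A = lift φ B) : A = B :=
  funext₂ fun i j => hC.bij.1 (congrFun (congrFun h i) j)

lemma lift_congr {A B : Mat n} (h : ∀ i j, A i j = B i j) : lift φ A = lift φ B := by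
  rw [show A = B from funext₂ h]

lemma Stable.mul (hC : Code O φ σ) {rows : Fin n → Fin n → List (Fin n)} {A B : Mat n}
    (hA : Stable O rows A) (hB : Stable O rows B) : Stable O rows (O.mulM A B) := by
  intro v hv
  have h : O.mulV (O.mulM A B) v = O.mulV A (O.mulV B v) := funext fun i => hC.bij.1 (congrFun
    (show φ ∘ O.mulV (O.mulM A B) v = φ ∘ O.mulV A (O.mulV B v) by
      simp only [lift_mulV hC, lift_mul hC, mulVec_mulVec]) i)
  rw [h]
  exact hA _ (hB v hv)

lemma stable_id (hC : Code O φ σ) (rows : Fin n → Fin n → List (Fin n)) : Stable O rows O.id3 := by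
  intro v hv
  rw [show O.mulV O.id3 v = v from funext fun i => hC.bij.1 (congrFun
    (show φ ∘ O.mulV O.id3 v = φ ∘ v by rw [lift_mulV hC, lift_id hC, one_mulVec]) i)]
  exact hv

/-- products of stabilising matrices, listed with their predecessors, stabilise -/
lemma stable_chain (hC : Code O φ σ) {rows : Fin n → Fin n → List (Fin n)} {G : List (Mat n)}
    (hG : G.all (stableB O rows) = true) {m : ℕ} {L : Fin m → Mat n} {par : Fin m → Fin m}
    (h : ∀ k, (∀ i j, L k i j = O.id3 i j) ∨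
      (par k < k ∧ ∃ g ∈ G, ∀ i j, L k i j = O.mulM g (L (par k)) i j)) (k : Fin m) : Stable O rows (L k) := by
  suffices H : ∀ (r : ℕ) (k : Fin m), (k : ℕ) = r → Stable O rows (L k) from H _ k rfl
  intro r
  induction r using Nat.strong_induction_on with
  | _ r ih =>
    intro k hk
    rcases h k with h0 | ⟨hlt, g, hg, hL⟩
    · rw [show L k = O.id3 from funext₂ h0]
      exact stable_id hC rows
    · rw [show L k = O.mulM g (L (par k)) from funext₂ hL]
      exact (stable_of_stableB O (List.all_eq_true.mp hG g hg)).mul hC (ih _ (hk ▸ hlt) _ rfl)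

lemma Code.exists_mat (hC : Code O φ σ) (M : Matrix (Fin 3) (Fin 3) F) : ∃ A : Mat n, lift φ A = M :=
  ⟨fun i j => (hC.bij.2 (M i j)).choose, by ext i j; exact (hC.bij.2 (M i j)).choose_spec⟩

lemma isU_iff (hC : Code O φ σ) (A : Mat n) :
    O.isU A = true ↔ (lift φ A)ᵀ * (lift φ A).map σ = 1 ∧ (lift φ A).det = 1 := by
  simp only [Ops.isU, Bool.and_eq_true, decide_eq_true_eq, ← lift_det hC]
  refine and_congr ?_ ⟨fun h => by rw [h, hC.one], fun h => hC.bij.1 (h.trans hC.one.symm)⟩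
  have he : ∀ a b, ((lift φ A)ᵀ * (lift φ A).map σ) a b = φ (O.inner (fun k => A k a) (fun k => A k b)) :=
    fun a b => by
      rw [lift_inner hC]
      simp [Matrix.mul_apply, lift, dotProduct, Fin.sum_univ_three]
  rw [← lift_id hC]
  constructor
  · intro h; ext a b; rw [he, h]; rfl
  · intro h a b; exact hC.bij.1 ((he a b).symm.trans (congrFun (congrFun h a) b))

variable [Fintype F]

/-- a group in coordinates, with a further isometry stabilising a set -/
theorem not_maximal_of_frame (hC : Code O φ σ) {q : ℕ} (hσ : ∀ a, σ a = a ^ q) (hσσ : ∀ a, σ (σ a) = a)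
    (hq : q ≠ 0) {Q : Matrix (Fin 3) (Fin 3) F} (hQ : Qᵀ * Q.map σ = 1) {M : Subgroup (GL (Fin 3) F)}
    (rows : Fin n → Fin n → List (Fin n)) (P : Mat n → Prop)
    (hMP : ∀ g ∈ M ⊓ (Cfsg.GU 3 F q ⊓ specialLinear (Fin 3) F), ∀ Y : Mat n,
      (g : Matrix (Fin 3) (Fin 3) F) * Q = Q * lift φ Y → O.isU Y = true → P Y)
    (hPS : ∀ Y, P Y → Stable O rows Y) {W T : Mat n} (hW : O.isU W = true) (hWS : stableB O rows W = true)
    (hPW : ¬ P W) (hT : O.isU T = true) {v : Vec n} (hv : mem rows v = true)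
    (hTv : mem rows (O.mulV T v) = false) :
    ∃ L : Subgroup (GL (Fin 3) F), M ⊓ (Cfsg.GU 3 F q ⊓ specialLinear (Fin 3) F) < L ∧
      L < Cfsg.GU 3 F q ⊓ specialLinear (Fin 3) F := by
  classical
  have hmm : ∀ M : Matrix (Fin 3) (Fin 3) F, (M.map σ).map σ = M := fun M => by ext i j; exact hσσ _
  set Qi := (Q.map σ)ᵀ
  have hQi : Qi * Q = 1 := by
    have h := congrArg Matrix.transpose hQ
    rw [transpose_mul, transpose_transpose, transpose_one] at h
    exact h
  have hQQ : Q * Qi = 1 := mul_eq_one_comm.mp hQi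
  have hd : ∀ u v : Fin 3 → F, Cfsg.hermForm 3 F q u v = u ⬝ᵥ (σ ∘ v) := fun u v => by
    simp [Cfsg.hermForm, dotProduct, hσ]
  have hcoord : ∀ g ∈ Cfsg.GU 3 F q ⊓ specialLinear (Fin 3) F, ∀ Y : Mat n,
      (g : Matrix (Fin 3) (Fin 3) F) * Q = Q * lift φ Y → O.isU Y = true := by
    rintro g ⟨hgU, hgS⟩ Y hY
    set G := (g : Matrix (Fin 3) (Fin 3) F)
    have hg : Gᵀ * G.map σ = 1 := by
      ext r s
      have h := hgU (Pi.single r 1) (Pi.single s 1)
      simp only [Cfsg.hermForm, Units.coeHom_apply, mulVec_single_one] at h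
      simp only [Matrix.mul_apply, transpose_apply, Matrix.map_apply, hσ, Matrix.one_apply]
      rw [Matrix.col_def] at h
      refine h.trans ?_
      simp [Pi.single_apply, ite_pow, zero_pow hq, eq_comm]
    rw [isU_iff hC]
    refine ⟨?_, ?_⟩
    · calc (lift φ Y)ᵀ * (lift φ Y).map σ = (Q * lift φ Y)ᵀ * (Q * lift φ Y).map σ := by
            simp only [transpose_mul, Matrix.map_mul]
            rw [mul_assoc, ← mul_assoc Qᵀ, hQ, one_mul]
        _ = Qᵀ * (Gᵀ * G.map σ) * Q.map σ := by rw [← hY]; simp only [transpose_mul, Matrix.map_mul, mul_assoc]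
        _ = 1 := by rw [hg, mul_one, hQ]
    · have hg1 : G.det = 1 := by
        have := congrArg (fun x : Fˣ => (x : F)) (MonoidHom.mem_ker.mp hgS)
        simpa using this
      have h := congrArg Matrix.det hY
      rw [det_mul, det_mul, hg1, one_mul] at h
      have hd0 : Q.det ≠ 0 := fun h0 => by
        have h1 := congrArg Matrix.det hQQ
        rw [det_mul, h0, zero_mul, det_one] at h1
        exact zero_ne_one h1
      exact (mul_left_cancel₀ hd0 ((mul_one Q.det).trans h)).symm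
  have hback : ∀ Y : Mat n, O.isU Y = true → ∃ x ∈ Cfsg.GU 3 F q ⊓ specialLinear (Fin 3) F,
      (x : Matrix (Fin 3) (Fin 3) F) * Q = Q * lift φ Y := by
    intro Y hY
    obtain ⟨hU, hD⟩ := (isU_iff hC Y).mp hY
    set X := Q * lift φ Y * Qi
    have hXU : Xᵀ * X.map σ = 1 := by
      calc Xᵀ * X.map σ = Qiᵀ * ((lift φ Y)ᵀ * (Qᵀ * Q.map σ) * (lift φ Y).map σ) * Qi.map σ := by
            simp only [X, transpose_mul, Matrix.map_mul, mul_assoc]
        _ = (Q * Qi)ᵀ * (Q * Qi).map σ := by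
            rw [hQ, mul_one, hU, ← hQ]; simp only [transpose_mul, Matrix.map_mul, mul_assoc]
        _ = 1 := by rw [hQQ, transpose_one, Matrix.map_one σ (map_zero σ) (map_one σ), one_mul]
    have hXd : X.det = 1 := by
      simp only [X, det_mul, hD, mul_one]
      rw [← det_mul, hQQ, det_one]
    let x : GL (Fin 3) F := Matrix.GeneralLinearGroup.mkOfDetNeZero X (by rw [hXd]; exact one_ne_zero)
    refine ⟨x, ⟨fun u v => ?_, ?_⟩, ?_⟩
    · show Cfsg.hermForm 3 F q (X *ᵥ u) (X *ᵥ v) = _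
      rw [hd, hd, show σ ∘ (X *ᵥ v) = X.map σ *ᵥ (σ ∘ v) from funext fun r => RingHom.map_mulVec σ X v r,
        dotProduct_mulVec, ← mulVec_transpose, mulVec_mulVec, show (X.map σ)ᵀ * X = 1 by
          have h := congrArg Matrix.transpose hXU
          rw [transpose_mul, transpose_transpose, transpose_one] at h
          exact h, one_mulVec]
    · refine MonoidHom.mem_ker.mpr (Units.ext ?_)
      simpa [x] using hXd
    · show X * Q = _
      simp only [X, mul_assoc, hQi, mul_one]
  obtain ⟨xw, hxwΩ, hxw⟩ := hback W hW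
  obtain ⟨xt, hxtΩ, hxt⟩ := hback T hT
  let S : Set (Fin 3 → F) := {x | ∃ u : Vec n, mem rows u = true ∧ x = Q *ᵥ (φ ∘ u)}
  have hmove : ∀ (g : GL (Fin 3) F) (Y : Mat n) (u : Vec n), (g : Matrix (Fin 3) (Fin 3) F) * Q = Q * lift φ Y →
      (g : Matrix (Fin 3) (Fin 3) F) *ᵥ (Q *ᵥ (φ ∘ u)) = Q *ᵥ (φ ∘ O.mulV Y u) := fun g Y u h => by
    rw [mulVec_mulVec, h, ← mulVec_mulVec, lift_mulV hC]
  refine not_maximal_of_setStab S ?_ hxwΩ ?_ ?_ hxtΩ (v := Q *ᵥ (φ ∘ v)) ⟨v, hv, rfl⟩ ?_
  · rintro g hg _ ⟨u, hu, rfl⟩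
    obtain ⟨Y, hY⟩ := hC.exists_mat (Qi * (g : Matrix (Fin 3) (Fin 3) F) * Q)
    have hgY : (g : Matrix (Fin 3) (Fin 3) F) * Q = Q * lift φ Y := by
      rw [hY]; simp only [← mul_assoc, hQQ, one_mul]
    exact ⟨O.mulV Y u, hPS Y (hMP g hg Y hgY (hcoord g hg.2 Y hgY)) u hu, hmove g Y u hgY⟩
  · rintro _ ⟨u, hu, rfl⟩
    exact ⟨O.mulV W u, stable_of_stableB O hWS u hu, hmove xw W u hxw⟩
  · exact fun hM => hPW (hMP xw ⟨hM, hxwΩ⟩ W hxw hW)
  · rintro ⟨u, hu, he⟩
    rw [hmove xt T v hxt] at he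
    have h := congrArg (fun z => Qi *ᵥ z) he
    simp only [mulVec_mulVec, hQi, one_mulVec] at h
    rw [show O.mulV T v = u from funext fun r => hC.bij.1 (congrFun h r), hu] at hTv
    exact Bool.noConfusion hTv

end CfsgLib.Asch.Three
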