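import Cfsg.Agent.Lib.Aschbacher.SuThreeField

/-!
# A field of degree three: the normaliser inside a set stabiliser
-/

set_option autoImplicit false

namespace CfsgLib.Asch.Three

open Matrix Cfsg.Geo CfsgLib.ClassicalMax
open scoped MatrixGroups

variable {n : ℕ}

namespace Ops

variable (O : Ops n)

/-- transpose with conjugation -/
def star (A : Mat n) : Mat n := fun i j => O.conj (A j i)

/-- transpose -/
def tp (A : Mat n) : Mat n := fun i j => A j i

/-- entrywise conjugation -/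
def cmap (A : Mat n) : Mat n := fun i j => O.conj (A i j)

/-- the companion matrix of the cubic -/
def comp (al : Fin n) : Mat n :=
  ![![O.zero, O.zero, O.one], ![O.one, O.zero, O.neg (O.conj al)], ![O.zero, O.one, al]]

/-- the Gram matrix of a vector and its images -/
def gram (al t : Fin n) : Mat n :=
  let u := O.add (O.add (O.mul al t) (O.neg (O.conj al))) (O.conj t)
  ![![O.one, O.conj t, O.conj u], ![t, O.one, O.conj t], ![u, t, O.one]]

/-- the first coordinate vector and its images -/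
def krylov (A : Fin 7 → Mat n) : Mat n := fun i j => A ⟨j, by omega⟩ i 0

/-- columns of images of a vector -/
def cols (A : Fin 7 → Mat n) (c : Vec n) : Mat n := fun i j => O.mulV (A ⟨j, by omega⟩) c i

/-- columns of images of a vector under the companion matrix -/
def compCols (al : Fin n) (c : Vec n) : Mat n := fun i j =>
  (![c, O.mulV (O.comp al) c, O.mulV (O.comp al) (O.mulV (O.comp al) c)] j) i

end Ops

/-- the computed facts used for a field of degree three -/
structure FieldData (O : Ops n) (al : Fin n) (A : Fin 7 → Mat n) (Ki : Mat n) (wit : Fin n → Vec n)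
    (Y : Fin 3 → Mat n × Mat n) (Z : List (Mat n)) (rows : Fin n → Fin n → List (Fin n)) (W T : Mat n)
    (v : Vec n) : Prop where
  A_zero : ∀ i j, A 0 i j = O.id3 i j
  A_succ : ∀ k i j, A (k + 1) i j = O.mulM (A 1) (A k) i j
  trace : O.add al (O.conj al) = O.neg O.one ∧ O.mul al (O.conj al) = O.add O.one O.one ∧ al ≠ O.conj al
  kry : ∀ i j, O.mulM (Ops.krylov A) Ki i j = O.id3 i j
  frame : ∀ t, let Q := O.mulM (O.compCols al (wit t)) Ki
    (∀ i j, O.mulM (O.mulM (Ops.tp Q) (O.gram al t)) (O.cmap Q) i j = O.id3 i j) ∧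
      ∀ i j, O.mulM (O.comp al) Q i j = O.mulM Q (A 1) i j
  conjY : ∀ k : Fin 3, O.isU (Y k).1 = true ∧ stableB O rows (Y k).2 = true ∧
    (∀ i j, O.mulM (Y k).2 (Y k).1 i j = O.id3 i j) ∧
    ∀ i j, O.mulM (Y k).1 (A (![1, 2, 4] k)) i j = O.mulM (A 1) (Y k).1 i j
  cent : ∀ a b c, O.inner ![a, b, c] ![a, b, c] = O.one → O.isU (O.mulM (O.cols A ![a, b, c]) Ki) = true →
    ∃ l, ∃ z ∈ Z, ∀ i j, O.mulM (O.cols A ![a, b, c]) Ki i j = O.mulM z (A l) i j
  stableA : stableB O rows (A 1) = true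
  stableZ : Z.all (stableB O rows) = true
  W_iso : O.isU W = true
  W_stable : stableB O rows W = true
  W_out : ∀ k : Fin 3, ∃ i j, O.mulM W (A 1) i j ≠ O.mulM (A (![1, 2, 4] k)) W i j
  T_iso : O.isU T = true
  v_mem : mem rows v = true
  T_out : mem rows (O.mulV T v) = false

variable {F : Type*} [Field F] [Fintype F]

set_option maxHeartbeats 1000000 in
/-- the normaliser of a field of degree three is not maximal, given the computed facts -/
theorem field_not_maximal {O : Ops n} {al : Fin n} {A : Fin 7 → Mat n} {Ki : Mat n} {wit : Fin n → Vec n}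
    {Y : Fin 3 → Mat n × Mat n} {Z : List (Mat n)} {rows : Fin n → Fin n → List (Fin n)} {W T : Mat n}
    {v : Vec n} (hd : FieldData O al A Ki wit Y Z rows W T v) {q : ℕ} {φ : Fin n → F} {τ : F ≃+* F}
    (hC : Code O φ τ.toRingHom) (hτ : ∀ a, τ a = a ^ q) (hf : IsUnitaryForm τ (Cfsg.hermForm 3 F q))
    (h7 : 7 ∣ Fintype.card F ^ 3 - 1) (hq : q ≠ 0)
    {K : Subalgebra F (Matrix (Fin 3) (Fin 3) F)} (hK : IsFieldSubalgebra 3 K)
    (hadj : IsAdjointClosedFor (Cfsg.hermForm 3 F q) K) :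
    ∃ L : Subgroup (GL (Fin 3) F), subalgebraNormalizer K ⊓ (Cfsg.GU 3 F q ⊓ specialLinear (Fin 3) F) < L ∧
      L < Cfsg.GU 3 F q ⊓ specialLinear (Fin 3) F := by
  classical
  have hcσ : ∀ x, φ (O.conj x) = τ (φ x) := hC.conj
  obtain ⟨t1, t2, t3⟩ := hd.trace
  obtain ⟨a, haK, hpa, ha7, hroots, Q₀, t, hG, haQ₀⟩ := exists_generator hτ hf (α := φ al)
    (by rw [← hcσ, ← hC.add, t1, hC.neg, hC.one])
    (by rw [← hcσ, ← hC.mul, t2, hC.add, hC.one, one_add_one_eq_two])
    (fun h => t3 (hC.bij.1 (h.trans (hcσ al).symm))) h7 hK hadj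
  obtain ⟨s, rfl⟩ := hC.bij.2 t
  obtain ⟨hQ1, hQ2⟩ := hd.frame s
  set Q' := O.mulM (O.compCols al (wit s)) Ki
  set σ : F →+* F := τ.toRingHom
  set Q := Q₀ * lift φ Q'
  have hgram : !![1, τ (φ s), τ (φ al * φ s - τ (φ al) + τ (φ s)); φ s, 1, τ (φ s);
      φ al * φ s - τ (φ al) + τ (φ s), φ s, 1] = lift φ (O.gram al s) := by
    ext i j
    fin_cases i <;> fin_cases j <;>
      simp [lift, Ops.gram, hC.one, hC.add, hC.mul, hC.neg, hcσ, sub_eq_add_neg]
  have hcomp : !![0, 0, 1; 1, 0, -τ (φ al); 0, 1, φ al] = lift φ (O.comp al) := by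
    ext i j
    fin_cases i <;> fin_cases j <;> simp [lift, Ops.comp, hC.one, hC.zero, hC.neg, hcσ]
  have hQ : Qᵀ * Q.map σ = 1 := by
    calc Qᵀ * Q.map σ = (lift φ Q')ᵀ * (Q₀ᵀ * Q₀.map σ) * (lift φ Q').map σ := by
          simp only [Q, transpose_mul, Matrix.map_mul, mul_assoc]
      _ = lift φ (Ops.tp Q') * lift φ (O.gram al s) * lift φ (O.cmap Q') := by
          rw [show Q₀ᵀ * Q₀.map σ = lift φ (O.gram al s) from hG.trans hgram]
          congr 1
          ext i j
          exact (hC.conj _).symm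
      _ = 1 := by rw [← lift_mul hC, ← lift_mul hC, lift_congr hQ1, lift_id hC]
  have haQ : a * Q = Q * lift φ (A 1) := by
    rw [show a * Q = a * Q₀ * lift φ Q' from (mul_assoc _ _ _).symm, haQ₀, hcomp, mul_assoc, ← lift_mul hC,
      lift_congr hQ2, lift_mul hC, ← mul_assoc]
  have hpowA : ∀ k : ℕ, lift φ (A 1) ^ k = lift φ (A (Fin.ofNat 7 k)) := by
    intro k
    induction k with
    | zero => rw [pow_zero, ← lift_id hC]; exact (lift_congr hd.A_zero).symm
    | succ k ih =>
      rw [pow_succ', ih, ← lift_mul hC, ← lift_congr (hd.A_succ _)]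
      congr 2
      apply Fin.ext
      simp [Fin.val_add, Fin.ofNat, Nat.add_mod]
  have hpowQ : ∀ k : ℕ, a ^ k * Q = Q * lift φ (A 1) ^ k := by
    intro k
    induction k with
    | zero => simp
    | succ k ih => rw [pow_succ, mul_assoc, haQ, ← mul_assoc, ih, mul_assoc, ← pow_succ]
  have hQiQ : (Q.map σ)ᵀ * Q = 1 := by
    have h := congrArg Matrix.transpose hQ
    rw [transpose_mul, transpose_transpose, transpose_one] at h
    exact h
  refine not_maximal_of_frame hC (fun x => hτ x) hf.involutive hq hQ rows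
    (fun Y' => O.isU Y' = true ∧ ∃ k : Fin 3, ∀ i j, O.mulM Y' (A 1) i j = O.mulM (A (![1, 2, 4] k)) Y' i j)
    ?_ ?_ hd.W_iso hd.W_stable (fun hP => ?_) hd.T_iso hd.v_mem hd.T_out
  · rintro g ⟨hgN, -⟩ Y' hY hYU
    refine ⟨hYU, ?_⟩
    set G := (g : Matrix (Fin 3) (Fin 3) F)
    set Gi := ((g⁻¹ : GL (Fin 3) F) : Matrix (Fin 3) (Fin 3) F)
    have hcj : cubic (φ al) (τ (φ al)) (G * a * Gi) = G * cubic (φ al) (τ (φ al)) a * Gi := by
      simp only [G, Gi, cubic, ← Units.conj_pow, mul_add, add_mul, mul_sub, sub_mul, mul_smul_comm, smul_mul_assoc,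
        mul_one, Units.mul_inv]
    have hr := hroots _ ((hgN a).mp haK) (by rw [hcj, hpa]; simp)
    obtain ⟨k, hk⟩ : ∃ k : Fin 3, G * a * Gi = a ^ ((![1, 2, 4] k : Fin 7) : ℕ) := by
      rcases hr with h | h | h
      · exact ⟨0, h⟩
      · exact ⟨1, h⟩
      · exact ⟨2, h⟩
    refine ⟨k, fun i j => ?_⟩
    have hGa : G * a = a ^ ((![1, 2, 4] k : Fin 7) : ℕ) * G := by
      rw [← hk]; simp [G, Gi, mul_assoc]
    have h : Q * lift φ (O.mulM Y' (A 1)) = Q * lift φ (O.mulM (A (![1, 2, 4] k)) Y') := by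
      rw [lift_mul hC, lift_mul hC, ← mul_assoc, ← hY, mul_assoc, ← haQ, ← mul_assoc, hGa, mul_assoc, hY,
        ← mul_assoc, hpowQ, hpowA, mul_assoc,
        show Fin.ofNat 7 ((![1, 2, 4] k : Fin 7) : ℕ) = ![1, 2, 4] k from
          Fin.ext (Nat.mod_eq_of_lt (![1, 2, 4] k : Fin 7).isLt)]
    have h' := congrArg (fun N => (Q.map σ)ᵀ * N) h
    simp only [← mul_assoc, hQiQ, one_mul] at h'
    exact congrFun (congrFun (lift_injective hC h') i) j
  · rintro Y' ⟨hYU, k, hk⟩
    obtain ⟨hX1, hX2, hX3, hX4⟩ := hd.conjY k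
    obtain ⟨B, hBdef⟩ : ∃ B, B = O.mulM (Y k).1 Y' := ⟨_, rfl⟩
    have hBA : lift φ B * lift φ (A 1) = lift φ (A 1) * lift φ B := by
      simp only [hBdef, lift_mul hC]
      rw [mul_assoc, ← lift_mul hC Y', lift_congr hk, lift_mul hC, ← mul_assoc, ← lift_mul hC (Y k).1,
        lift_congr hX4, lift_mul hC, mul_assoc]
    have hBU : O.isU B = true := by
      obtain ⟨u1, d1⟩ := (isU_iff hC _).mp hX1
      obtain ⟨u2, d2⟩ := (isU_iff hC _).mp hYU
      rw [isU_iff hC, hBdef, lift_mul hC, det_mul, d1, d2, one_mul, transpose_mul, Matrix.map_mul, mul_assoc,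
        ← mul_assoc (lift φ (Y k).1)ᵀ, u1, one_mul, u2]
      exact ⟨rfl, rfl⟩
    have hBK : ∀ i j, O.mulM B (Ops.krylov A) i j = O.cols A (fun r => B r 0) i j := by
      intro i j
      have hc : lift φ (O.mulM B (A ⟨j, by omega⟩)) = lift φ (O.mulM (A ⟨j, by omega⟩) B) := by
        rw [lift_mul hC, lift_mul hC, show A ⟨j, by omega⟩ = A (Fin.ofNat 7 (j : ℕ)) by
          congr 1; exact Fin.ext (Nat.mod_eq_of_lt (show (j : ℕ) < 7 by omega)).symm, ← hpowA]
        exact Commute.pow_right hBA _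
      exact congrFun (congrFun (lift_injective hC hc) i) 0
    have hB : B = O.mulM (O.cols A (fun r => B r 0)) Ki := by
      refine lift_injective hC ?_
      rw [lift_mul hC, ← lift_congr hBK, lift_mul hC, mul_assoc, ← lift_mul hC (Ops.krylov A),
        lift_congr hd.kry, lift_id hC, mul_one]
    have he : (fun r => B r 0) = ![B 0 0, B 1 0, B 2 0] := funext fun r => by fin_cases r <;> rfl
    obtain ⟨l, z, hz, hzl⟩ := hd.cent (B 0 0) (B 1 0) (B 2 0) (by
      rw [← he]
      have h := hBU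
      simp only [Ops.isU, Bool.and_eq_true, decide_eq_true_eq] at h
      simpa [Ops.id3] using h.1 0 0) (by rw [← he, ← hB]; exact hBU)
    rw [← he, ← hB] at hzl
    have hY' : Y' = O.mulM (Y k).2 (O.mulM z (A l)) := by
      refine lift_injective hC ?_
      rw [lift_mul hC, ← lift_congr hzl]
      simp only [hBdef, lift_mul hC]
      rw [← mul_assoc, ← lift_mul hC, lift_congr hX3, lift_id hC, one_mul]
    rw [hY']
    have hSA : ∀ (r : ℕ) (l : Fin 7), (l : ℕ) = r → Stable O rows (A l) := by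
      intro r
      induction r with
      | zero =>
        intro l hl
        rw [show l = 0 from Fin.ext hl, show A 0 = O.id3 from funext₂ hd.A_zero]
        exact stable_id hC rows
      | succ r ih =>
        intro l hl
        obtain ⟨l', rfl, hl'⟩ : ∃ l' : Fin 7, l = l' + 1 ∧ (l' : ℕ) = r := by
          refine ⟨⟨r, by omega⟩, Fin.ext ?_, rfl⟩
          simp [Fin.val_add]; omega
        rw [show A (l' + 1) = O.mulM (A 1) (A l') from funext₂ (hd.A_succ l')]
        exact (stable_of_stableB O hd.stableA).mul hC (ih l' hl')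
    exact (stable_of_stableB O hX2).mul hC
      ((stable_of_stableB O (List.all_eq_true.mp hd.stableZ z hz)).mul hC (hSA _ l rfl))
  · obtain ⟨-, k, hk⟩ := hP
    obtain ⟨i, j, h⟩ := hd.W_out k
    exact h (hk i j)

end CfsgLib.Asch.Three
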