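import Cfsg.Agent.Lib.Aschbacher.SuThreeDataFiveGens
import Cfsg.Agent.Lib.Aschbacher.SuThreeFieldMax

/-!
# Computed facts for lines, rotations and the extraspecial group over twenty-five elements
-/

set_option autoImplicit false

namespace CfsgLib.Asch.Three

namespace D25

lemma lines_pattern : ∀ i₀ i₁ i₂ : Fin 3, i₀ ≠ i₁ → i₀ ≠ i₂ → i₁ ≠ i₂ → ∃ p ∈ linesP,
    ∀ k j, k ≠ ![i₀, i₁, i₂] j → p k j = 0 := by decide +kernel

lemma lines_chain : linesG.all (stableB ops linesRows) = true ∧ ∀ k, (∀ i j, linesL k i j = ops.id3 i j) ∨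
    (linesPar k < k ∧ ∃ g ∈ linesG, ∀ i j, linesL k i j = ops.mulM g (linesL (linesPar k)) i j) := by
  decide +kernel

lemma lines_perm : linesP.all (fun p => decide (∃ k, ∀ i j, p i j = linesL k i j) && ops.isU (Ops.tp p) &&
    decide (∀ i j, ops.mulM p (Ops.tp p) i j = ops.id3 i j)) = true := by decide +kernel

lemma lines_diag : ∀ a, ops.inner ![a, 0, 0] ![a, 0, 0] = 1 → ∀ b, ops.inner ![0, b, 0] ![0, b, 0] = 1 →
    ∀ c, ops.isU (ops.diag a b c) = true → ∃ k, ∀ i j, ops.diag a b c i j = linesL k i j := by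
  decide +kernel

lemma lines_other : ops.isU linesW = true ∧ stableB ops linesRows linesW = true ∧ ops.isU linesT = true ∧
    mem linesRows linesV = true ∧ mem linesRows (ops.mulV linesT linesV) = false ∧
    ∀ i₀ i₁ i₂ : Fin 3, ∃ j k, k ≠ ![i₀, i₁, i₂] j ∧ linesW k j ≠ 0 := by decide +kernel

lemma orth_chain : orthG.all (stableB ops orthRows) = true ∧ ∀ k, (∀ i j, orthL k i j = ops.id3 i j) ∨
    (orthPar k < k ∧ ∃ g ∈ orthG, ∀ i j, orthL k i j = ops.mulM g (orthL (orthPar k)) i j) := by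
  decide +kernel

lemma orth_fix : orthA.all (fun A => decide (∃ k, ∀ i j, A i j = orthL k i j) && ops.isU (Ops.tp A) &&
    decide (∀ i j, ops.mulM A (Ops.tp A) i j = ops.id3 i j ∧ ops.conj (A i j) = A i j)) = true := by decide +kernel

lemma orth_col : ∀ a b c : Fin 5,
    ops.inner ![Fin.castLE (by norm_num) a, Fin.castLE (by norm_num) b, Fin.castLE (by norm_num) c]
      ![Fin.castLE (by norm_num) a, Fin.castLE (by norm_num) b, Fin.castLE (by norm_num) c] = 1 →
    ∃ A ∈ orthA, ops.mulV (Ops.tp A) ![Fin.castLE (by norm_num) a, Fin.castLE (by norm_num) b,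
      Fin.castLE (by norm_num) c] 0 = 1 ∧
      ops.mulV (Ops.tp A) ![Fin.castLE (by norm_num) a, Fin.castLE (by norm_num) b,
      Fin.castLE (by norm_num) c] 1 = 0 ∧
      ops.mulV (Ops.tp A) ![Fin.castLE (by norm_num) a, Fin.castLE (by norm_num) b,
      Fin.castLE (by norm_num) c] 2 = 0 := by decide +kernel

/-- a real matrix fixing the first axis -/
def axisMat (p q r s t u : Fin 5) : Mat 25 :=
  ![![1, Fin.castLE (by norm_num) p, Fin.castLE (by norm_num) q],
    ![0, Fin.castLE (by norm_num) r, Fin.castLE (by norm_num) s],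
    ![0, Fin.castLE (by norm_num) t, Fin.castLE (by norm_num) u]]

lemma orth_axis : ∀ p r t : Fin 5,
    ops.inner (fun i => axisMat p 0 r 0 t 0 i 1) (fun i => axisMat p 0 r 0 t 0 i 1) = 1 →
    ops.inner (fun i => axisMat p 0 r 0 t 0 i 0) (fun i => axisMat p 0 r 0 t 0 i 1) = 0 →
    ∀ q s u : Fin 5, ops.isU (axisMat p q r s t u) = true →
      ∃ k, ∀ i j, axisMat p q r s t u i j = orthL k i j := by decide +kernel

lemma orth_scalar : ∀ a, ops.mul a (ops.mul a a) = 1 → ∃ k, ∀ i j, ops.diag a a a i j = orthL k i j := by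
  decide +kernel

lemma orth_real : ∀ x : Fin 25, ops.conj x = x → ∃ y : Fin 5, Fin.castLE (by norm_num) y = x := by decide +kernel

lemma orth_diag : ∀ a b c : Fin 25, ops.conj a = a → ops.conj b = b → ops.conj c = c → a ≠ 0 → b ≠ 0 → c ≠ 0 →
    ∃ kS ∈ orthS, ops.conj kS.1 = kS.1 ∧ kS.1 ≠ 0 ∧ (∀ i j, ops.conj (kS.2 i j) = kS.2 i j) ∧
      ∀ i j, ops.mulM (ops.mulM (Ops.tp kS.2) (ops.diag a b c)) kS.2 i j = ops.diag kS.1 kS.1 kS.1 i j := by
  decide +kernel

lemma orth_other : ops.isU orthW = true ∧ stableB ops orthRows orthW = true ∧ ops.isU orthT = true ∧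
    mem orthRows orthV = true ∧ mem orthRows (ops.mulV orthT orthV) = false ∧
    ∀ l : Fin 25, l ≠ 0 → ∃ i j, ops.conj (ops.mul l (orthW i j)) ≠ ops.mul l (orthW i j) := by decide +kernel

/-- the diagonal generator -/
def sympX : Mat 25 := ops.diag 1 omega (ops.mul omega omega)

/-- the permuting generator -/
def sympY : Mat 25 := ![![0, 0, 1], ![1, 0, 0], ![0, 1, 0]]

/-- the products of the generators -/
def sympProd (e : Fin 3 × Fin 3 × Fin 3) : Mat 25 :=
  ops.mulM (ops.mulM (![ops.id3, sympX, ops.mulM sympX sympX] e.1) (![ops.id3, sympY, ops.mulM sympY sympY] e.2.1))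
    (![ops.id3, ops.diag omega omega omega,
      ops.diag (ops.mul omega omega) (ops.mul omega omega) (ops.mul omega omega)] e.2.2)

lemma symp_prod : (∀ e, ∃ r ∈ sympR, ∀ i j, sympProd e i j = r i j) ∧
    (∀ e e', (∀ i j, sympProd e i j = sympProd e' i j) → e = e') := by decide +kernel

lemma symp_omega : ops.mul omega (ops.mul omega omega) = 1 ∧ omega ≠ 1 ∧
    ∀ a, ops.mul a (ops.mul a a) = 1 → a = 1 ∨ a = omega ∨ a = ops.mul omega omega := by decide +kernel

lemma symp_step : sympR.all (fun r => decide ((∃ a, ∀ i j, r i j = ops.diag a a a i j) ∨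
    ∃ p ∈ sympN, ∀ i j, ops.mulM p.2 r i j = ops.mulM sympX p.2 i j)) = true := by decide +kernel

lemma symp_conj : sympN.all (fun p => sympR.all fun r => sympR.any fun r' =>
    decide (∀ i j, ops.mulM p.2 r i j = ops.mulM r' p.2 i j)) = true := by decide +kernel

lemma symp_chain : sympG.all (stableB ops sympRows) = true ∧ ∀ k, (∀ i j, sympL k i j = ops.id3 i j) ∨
    (sympPar k < k ∧ ∃ g ∈ sympG, ∀ i j, sympL k i j = ops.mulM g (sympL (sympPar k)) i j) := by
  decide +kernel

lemma symp_lift : sympN.all (fun p => decide (∃ k, ∀ i j, p.1 i j = sympL k i j) && ops.isU p.2 &&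
    decide (∀ i j, ops.mulM p.1 p.2 i j = ops.id3 i j)) = true := by decide +kernel

lemma symp_diag : ∀ a, ops.inner ![a, 0, 0] ![a, 0, 0] = 1 → ∀ b, ops.inner ![0, b, 0] ![0, b, 0] = 1 →
    ∀ c, ops.isU (ops.diag a b c) = true →
    (∃ r ∈ sympR, ∀ i j, ops.mulM (ops.diag a b c) sympY i j = ops.mulM r (ops.diag a b c) i j) →
    ∃ k, ∀ i j, ops.diag a b c i j = sympL k i j := by decide +kernel

lemma diag_guard {a b c : Fin 25} (h : ops.isU (ops.diag a b c) = true) :
    ops.inner ![a, 0, 0] ![a, 0, 0] = 1 ∧ ops.inner ![0, b, 0] ![0, b, 0] = 1 := by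
  simp only [Ops.isU, Bool.and_eq_true, decide_eq_true_eq] at h
  have e : ∀ x : Fin 25, (fun k => ops.diag x b c k 0) = ![x, 0, 0] :=
    fun x => funext fun k => by fin_cases k <;> rfl
  have e' : (fun k => ops.diag a b c k 1) = ![0, b, 0] := funext fun k => by fin_cases k <;> rfl
  have h0 := h.1 0 0
  have h1 := h.1 1 1
  rw [e a] at h0
  rw [e'] at h1
  exact ⟨h0, h1⟩

lemma symp_other : ops.isU sympW = true ∧ stableB ops sympRows sympW = true ∧ ops.isU sympT = true ∧
    mem sympRows sympV = true ∧ mem sympRows (ops.mulV sympT sympV) = false ∧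
    sympR.all (fun r => decide (∃ i j, ops.mulM sympW sympX i j ≠ ops.mulM r sympW i j) ||
      decide (∃ i j, ops.mulM sympW sympY i j ≠ ops.mulM r sympW i j)) = true ∧
    (sympR.all fun r => decide (∃ i j, ops.mulM sympW sympX i j ≠ ops.mulM r sympW i j)) = true := by
  decide +kernel

end D25

end CfsgLib.Asch.Three
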