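import Cfsg.Agent.Lib.Aschbacher.SuThreeCode

/-!
# Data for the exclusions in degree three over 25 elements
-/

set_option autoImplicit false

namespace CfsgLib.Asch.Three.D25

/-- operations on codes `a + 5 b` of `a + b s`, where `s ^ 2 = 2` -/
def ops : Ops 25 where
  add x y := ⟨(x.val % 5 + y.val % 5) % 5 + 5 * ((x.val / 5 + y.val / 5) % 5), by omega⟩
  mul x y := ⟨(x.val % 5 * (y.val % 5) + 2 * (x.val / 5 * (y.val / 5))) % 5 +
    5 * ((x.val % 5 * (y.val / 5) + x.val / 5 * (y.val % 5)) % 5), by omega⟩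
  neg x := ⟨(5 - x.val % 5) % 5 + 5 * ((5 - x.val / 5) % 5), by omega⟩
  conj x := ⟨x.val % 5 + 5 * ((5 - x.val / 5) % 5), by omega⟩
  zero := 0
  one := 1

/-- the set for the lines -/
def linesRows : Fin 25 → Fin 25 → List (Fin 25) :=
  ![![[1, 4, 12, 13, 17, 18], [0], [], [], [0], [5, 11, 14, 16, 19, 20], [], [], [], [], [], [5, 11, 14, 16, 19, 20], [0], [0], [5, 11, 14, 16, 19, 20], [], [5, 11, 14, 16, 19, 20], [0], [0], [5, 11, 14, 16, 19, 20], [5, 11, 14, 16, 19, 20], [], [], [], []],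
    ![[0], [9, 21], [13, 17], [13, 17], [9, 21], [], [12, 18], [], [], [1, 4], [], [], [6, 24], [2, 3], [], [], [], [2, 3], [6, 24], [], [], [1, 4], [], [], [12, 18]],
    ![[], [13, 17], [11, 19], [11, 19], [13, 17], [9, 21], [14, 16], [], [], [5, 20], [], [2, 3], [12, 18], [1, 4], [6, 24], [], [6, 24], [1, 4], [12, 18], [2, 3], [9, 21], [5, 20], [], [], [14, 16]],
    ![[], [13, 17], [11, 19], [11, 19], [13, 17], [9, 21], [14, 16], [], [], [5, 20], [], [2, 3], [12, 18], [1, 4], [6, 24], [], [6, 24], [1, 4], [12, 18], [2, 3], [9, 21], [5, 20], [], [], [14, 16]],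
    ![[0], [9, 21], [13, 17], [13, 17], [9, 21], [], [12, 18], [], [], [1, 4], [], [], [6, 24], [2, 3], [], [], [], [2, 3], [6, 24], [], [], [1, 4], [], [], [12, 18]],
    ![[5, 11, 14, 16, 19, 20], [], [9, 21], [9, 21], [], [0], [6, 24], [], [], [2, 3], [], [0], [], [], [0], [], [0], [], [], [0], [0], [2, 3], [], [], [6, 24]],
    ![[], [12, 18], [14, 16], [14, 16], [12, 18], [6, 24], [5, 20], [], [], [11, 19], [], [9, 21], [1, 4], [13, 17], [2, 3], [], [2, 3], [13, 17], [1, 4], [9, 21], [6, 24], [11, 19], [], [], [5, 20]],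
    ![[], [], [], [], [], [], [], [10, 15], [8, 22], [], [7, 23], [], [], [], [], [7, 23], [], [], [], [], [], [], [8, 22], [10, 15], []],
    ![[], [], [], [], [], [], [], [8, 22], [7, 23], [], [10, 15], [], [], [], [], [10, 15], [], [], [], [], [], [], [7, 23], [8, 22], []],
    ![[], [1, 4], [5, 20], [5, 20], [1, 4], [2, 3], [11, 19], [], [], [14, 16], [], [6, 24], [13, 17], [12, 18], [9, 21], [], [9, 21], [12, 18], [13, 17], [6, 24], [2, 3], [14, 16], [], [], [11, 19]],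
    ![[], [], [], [], [], [], [], [7, 23], [10, 15], [], [8, 22], [], [], [], [], [8, 22], [], [], [], [], [], [], [10, 15], [7, 23], []],
    ![[5, 11, 14, 16, 19, 20], [], [2, 3], [2, 3], [], [0], [9, 21], [], [], [6, 24], [], [0], [], [], [0], [], [0], [], [], [0], [0], [6, 24], [], [], [9, 21]],
    ![[0], [6, 24], [12, 18], [12, 18], [6, 24], [], [1, 4], [], [], [13, 17], [], [], [2, 3], [9, 21], [], [], [], [9, 21], [2, 3], [], [], [13, 17], [], [], [1, 4]],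
    ![[0], [2, 3], [1, 4], [1, 4], [2, 3], [], [13, 17], [], [], [12, 18], [], [], [9, 21], [6, 24], [], [], [], [6, 24], [9, 21], [], [], [12, 18], [], [], [13, 17]],
    ![[5, 11, 14, 16, 19, 20], [], [6, 24], [6, 24], [], [0], [2, 3], [], [], [9, 21], [], [0], [], [], [0], [], [0], [], [], [0], [0], [9, 21], [], [], [2, 3]],
    ![[], [], [], [], [], [], [], [7, 23], [10, 15], [], [8, 22], [], [], [], [], [8, 22], [], [], [], [], [], [], [10, 15], [7, 23], []],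
    ![[5, 11, 14, 16, 19, 20], [], [6, 24], [6, 24], [], [0], [2, 3], [], [], [9, 21], [], [0], [], [], [0], [], [0], [], [], [0], [0], [9, 21], [], [], [2, 3]],
    ![[0], [2, 3], [1, 4], [1, 4], [2, 3], [], [13, 17], [], [], [12, 18], [], [], [9, 21], [6, 24], [], [], [], [6, 24], [9, 21], [], [], [12, 18], [], [], [13, 17]],
    ![[0], [6, 24], [12, 18], [12, 18], [6, 24], [], [1, 4], [], [], [13, 17], [], [], [2, 3], [9, 21], [], [], [], [9, 21], [2, 3], [], [], [13, 17], [], [], [1, 4]],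
    ![[5, 11, 14, 16, 19, 20], [], [2, 3], [2, 3], [], [0], [9, 21], [], [], [6, 24], [], [0], [], [], [0], [], [0], [], [], [0], [0], [6, 24], [], [], [9, 21]],
    ![[5, 11, 14, 16, 19, 20], [], [9, 21], [9, 21], [], [0], [6, 24], [], [], [2, 3], [], [0], [], [], [0], [], [0], [], [], [0], [0], [2, 3], [], [], [6, 24]],
    ![[], [1, 4], [5, 20], [5, 20], [1, 4], [2, 3], [11, 19], [], [], [14, 16], [], [6, 24], [13, 17], [12, 18], [9, 21], [], [9, 21], [12, 18], [13, 17], [6, 24], [2, 3], [14, 16], [], [], [11, 19]],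
    ![[], [], [], [], [], [], [], [8, 22], [7, 23], [], [10, 15], [], [], [], [], [10, 15], [], [], [], [], [], [], [7, 23], [8, 22], []],
    ![[], [], [], [], [], [], [], [10, 15], [8, 22], [], [7, 23], [], [], [], [], [7, 23], [], [], [], [], [], [], [8, 22], [10, 15], []],
    ![[], [12, 18], [14, 16], [14, 16], [12, 18], [6, 24], [5, 20], [], [], [11, 19], [], [9, 21], [1, 4], [13, 17], [2, 3], [], [2, 3], [13, 17], [1, 4], [9, 21], [6, 24], [11, 19], [], [], [5, 20]]]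

/-- a further isometry for the lines -/
def linesW : Mat 25 := ![![2, 17, 17], ![1, 17, 9], ![17, 24, 12]]

/-- an isometry moving the set of the lines -/
def linesT : Mat 25 := ![![8, 16, 12], ![7, 23, 10], ![10, 4, 14]]

/-- a moved member for the lines -/
def linesV : Vec 25 := ![0, 0, 1]

/-- signed permutations -/
def linesP : List (Mat 25) :=
  [![![1, 0, 0], ![0, 1, 0], ![0, 0, 1]],
    ![![0, 0, 1], ![1, 0, 0], ![0, 1, 0]],
    ![![0, 1, 0], ![0, 0, 1], ![1, 0, 0]],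
    ![![0, 1, 0], ![1, 0, 0], ![0, 0, 4]],
    ![![0, 0, 1], ![0, 4, 0], ![1, 0, 0]],
    ![![4, 0, 0], ![0, 0, 1], ![0, 1, 0]]]

/-- the set for the orth -/
def orthRows : Fin 25 → Fin 25 → List (Fin 25) :=
  ![![[1, 4, 12, 13, 17, 18], [0], [], [], [0], [5, 11, 14, 16, 19, 20], [], [], [], [], [], [5, 11, 14, 16, 19, 20], [0], [0], [5, 11, 14, 16, 19, 20], [], [5, 11, 14, 16, 19, 20], [0], [0], [5, 11, 14, 16, 19, 20], [5, 11, 14, 16, 19, 20], [], [], [], []],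
    ![[0], [2, 3], [1, 4], [1, 4], [2, 3], [], [13, 17], [], [], [12, 18], [], [], [9, 21], [6, 24], [], [], [], [6, 24], [9, 21], [], [], [12, 18], [], [], [13, 17]],
    ![[], [1, 4], [5, 20], [5, 20], [1, 4], [2, 3], [11, 19], [], [], [14, 16], [], [6, 24], [13, 17], [12, 18], [9, 21], [], [9, 21], [12, 18], [13, 17], [6, 24], [2, 3], [14, 16], [], [], [11, 19]],
    ![[], [1, 4], [5, 20], [5, 20], [1, 4], [2, 3], [11, 19], [], [], [14, 16], [], [6, 24], [13, 17], [12, 18], [9, 21], [], [9, 21], [12, 18], [13, 17], [6, 24], [2, 3], [14, 16], [], [], [11, 19]],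
    ![[0], [2, 3], [1, 4], [1, 4], [2, 3], [], [13, 17], [], [], [12, 18], [], [], [9, 21], [6, 24], [], [], [], [6, 24], [9, 21], [], [], [12, 18], [], [], [13, 17]],
    ![[5, 11, 14, 16, 19, 20], [], [2, 3], [2, 3], [], [0], [9, 21], [], [], [6, 24], [], [0], [], [], [0], [], [0], [], [], [0], [0], [6, 24], [], [], [9, 21]],
    ![[], [13, 17], [11, 19], [11, 19], [13, 17], [9, 21], [14, 16], [], [], [5, 20], [], [2, 3], [12, 18], [1, 4], [6, 24], [], [6, 24], [1, 4], [12, 18], [2, 3], [9, 21], [5, 20], [], [], [14, 16]],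
    ![[], [], [], [], [], [], [], [7, 23], [10, 15], [], [8, 22], [], [], [], [], [8, 22], [], [], [], [], [], [], [10, 15], [7, 23], []],
    ![[], [], [], [], [], [], [], [10, 15], [8, 22], [], [7, 23], [], [], [], [], [7, 23], [], [], [], [], [], [], [8, 22], [10, 15], []],
    ![[], [12, 18], [14, 16], [14, 16], [12, 18], [6, 24], [5, 20], [], [], [11, 19], [], [9, 21], [1, 4], [13, 17], [2, 3], [], [2, 3], [13, 17], [1, 4], [9, 21], [6, 24], [11, 19], [], [], [5, 20]],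
    ![[], [], [], [], [], [], [], [8, 22], [7, 23], [], [10, 15], [], [], [], [], [10, 15], [], [], [], [], [], [], [7, 23], [8, 22], []],
    ![[5, 11, 14, 16, 19, 20], [], [6, 24], [6, 24], [], [0], [2, 3], [], [], [9, 21], [], [0], [], [], [0], [], [0], [], [], [0], [0], [9, 21], [], [], [2, 3]],
    ![[0], [9, 21], [13, 17], [13, 17], [9, 21], [], [12, 18], [], [], [1, 4], [], [], [6, 24], [2, 3], [], [], [], [2, 3], [6, 24], [], [], [1, 4], [], [], [12, 18]],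
    ![[0], [6, 24], [12, 18], [12, 18], [6, 24], [], [1, 4], [], [], [13, 17], [], [], [2, 3], [9, 21], [], [], [], [9, 21], [2, 3], [], [], [13, 17], [], [], [1, 4]],
    ![[5, 11, 14, 16, 19, 20], [], [9, 21], [9, 21], [], [0], [6, 24], [], [], [2, 3], [], [0], [], [], [0], [], [0], [], [], [0], [0], [2, 3], [], [], [6, 24]],
    ![[], [], [], [], [], [], [], [8, 22], [7, 23], [], [10, 15], [], [], [], [], [10, 15], [], [], [], [], [], [], [7, 23], [8, 22], []],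
    ![[5, 11, 14, 16, 19, 20], [], [9, 21], [9, 21], [], [0], [6, 24], [], [], [2, 3], [], [0], [], [], [0], [], [0], [], [], [0], [0], [2, 3], [], [], [6, 24]],
    ![[0], [6, 24], [12, 18], [12, 18], [6, 24], [], [1, 4], [], [], [13, 17], [], [], [2, 3], [9, 21], [], [], [], [9, 21], [2, 3], [], [], [13, 17], [], [], [1, 4]],
    ![[0], [9, 21], [13, 17], [13, 17], [9, 21], [], [12, 18], [], [], [1, 4], [], [], [6, 24], [2, 3], [], [], [], [2, 3], [6, 24], [], [], [1, 4], [], [], [12, 18]],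
    ![[5, 11, 14, 16, 19, 20], [], [6, 24], [6, 24], [], [0], [2, 3], [], [], [9, 21], [], [0], [], [], [0], [], [0], [], [], [0], [0], [9, 21], [], [], [2, 3]],
    ![[5, 11, 14, 16, 19, 20], [], [2, 3], [2, 3], [], [0], [9, 21], [], [], [6, 24], [], [0], [], [], [0], [], [0], [], [], [0], [0], [6, 24], [], [], [9, 21]],
    ![[], [12, 18], [14, 16], [14, 16], [12, 18], [6, 24], [5, 20], [], [], [11, 19], [], [9, 21], [1, 4], [13, 17], [2, 3], [], [2, 3], [13, 17], [1, 4], [9, 21], [6, 24], [11, 19], [], [], [5, 20]],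
    ![[], [], [], [], [], [], [], [10, 15], [8, 22], [], [7, 23], [], [], [], [], [7, 23], [], [], [], [], [], [], [8, 22], [10, 15], []],
    ![[], [], [], [], [], [], [], [7, 23], [10, 15], [], [8, 22], [], [], [], [], [8, 22], [], [], [], [], [], [], [10, 15], [7, 23], []],
    ![[], [13, 17], [11, 19], [11, 19], [13, 17], [9, 21], [14, 16], [], [], [5, 20], [], [2, 3], [12, 18], [1, 4], [6, 24], [], [6, 24], [1, 4], [12, 18], [2, 3], [9, 21], [5, 20], [], [], [14, 16]]]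

/-- a further isometry for the orth -/
def orthW : Mat 25 := ![![5, 6, 21], ![19, 3, 6], ![0, 11, 20]]

/-- an isometry moving the set of the orth -/
def orthT : Mat 25 := ![![8, 16, 12], ![7, 23, 10], ![10, 4, 14]]

/-- a moved member for the orth -/
def orthV : Vec 25 := ![0, 0, 1]

/-- one rotation for every image of the first axis -/
def orthA : List (Mat 25) :=
  [![![0, 0, 4], ![0, 1, 0], ![1, 0, 0]],
    ![![0, 0, 1], ![0, 1, 0], ![4, 0, 0]],
    ![![0, 0, 1], ![1, 0, 0], ![0, 1, 0]],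
    ![![0, 0, 4], ![4, 0, 0], ![0, 1, 0]],
    ![![1, 0, 0], ![0, 0, 4], ![0, 1, 0]],
    ![![1, 1, 2], ![1, 2, 1], ![2, 1, 1]],
    ![![1, 1, 3], ![1, 2, 4], ![3, 4, 1]],
    ![![1, 1, 3], ![2, 1, 4], ![1, 2, 4]],
    ![![1, 1, 2], ![2, 1, 1], ![4, 3, 4]],
    ![![1, 1, 2], ![3, 4, 4], ![1, 2, 1]],
    ![![1, 1, 3], ![3, 4, 1], ![4, 3, 1]],
    ![![1, 1, 3], ![4, 3, 1], ![2, 1, 4]],
    ![![1, 1, 2], ![4, 3, 4], ![3, 4, 4]],
    ![![2, 1, 1], ![1, 1, 2], ![1, 2, 1]],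
    ![![2, 1, 4], ![1, 1, 3], ![4, 3, 1]],
    ![![2, 1, 1], ![4, 3, 4], ![1, 1, 2]],
    ![![2, 1, 4], ![4, 3, 1], ![4, 4, 2]],
    ![![3, 1, 1], ![1, 3, 4], ![1, 4, 3]],
    ![![3, 1, 4], ![1, 3, 1], ![4, 1, 3]],
    ![![3, 1, 1], ![4, 1, 2], ![1, 3, 4]],
    ![![3, 1, 4], ![4, 1, 3], ![4, 2, 4]],
    ![![4, 0, 0], ![0, 0, 1], ![0, 1, 0]],
    ![![4, 1, 3], ![1, 3, 1], ![2, 4, 1]],
    ![![4, 1, 2], ![1, 3, 4], ![3, 1, 1]],
    ![![4, 1, 2], ![2, 4, 4], ![1, 3, 4]],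
    ![![4, 1, 3], ![2, 4, 1], ![4, 2, 4]],
    ![![4, 1, 3], ![3, 1, 4], ![1, 3, 1]],
    ![![4, 1, 2], ![3, 1, 1], ![4, 2, 1]],
    ![![4, 1, 2], ![4, 2, 1], ![2, 4, 4]],
    ![![4, 1, 3], ![4, 2, 4], ![3, 1, 4]]]

/-- the rotations fixing the first axis -/
def orthB : List (Mat 25) :=
  [![![1, 0, 0], ![0, 0, 4], ![0, 1, 0]],
    ![![1, 0, 0], ![0, 0, 1], ![0, 4, 0]],
    ![![1, 0, 0], ![0, 1, 0], ![0, 0, 1]],
    ![![1, 0, 0], ![0, 4, 0], ![0, 0, 4]]]

/-- the set for the symp -/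
def sympRows : Fin 25 → Fin 25 → List (Fin 25) :=
  ![![[], [4, 13, 18], [], [], [1, 12, 17], [], [], [], [], [], [], [], [4, 13, 18], [1, 12, 17], [], [], [], [4, 13, 18], [1, 12, 17], [], [], [], [], [], []],
    ![[4, 13, 18], [], [], [], [0], [14], [], [], [], [], [], [11], [], [0], [5], [], [20], [], [0], [19], [16], [], [], [], []],
    ![[], [], [6], [6, 24], [], [], [2, 3], [], [], [21], [], [], [], [], [], [], [], [], [], [], [], [9, 21], [], [], [3]],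
    ![[], [], [6, 24], [24], [], [], [2], [], [], [9, 21], [], [], [], [], [], [], [], [], [], [], [], [9], [], [], [2, 3]],
    ![[1, 12, 17], [0], [], [], [], [14], [], [], [], [], [], [11], [0], [], [5], [], [20], [0], [], [19], [16], [], [], [], []],
    ![[], [14], [], [], [14], [12, 18], [], [15], [8], [], [], [13, 17], [5], [11], [1, 4], [7], [], [11], [5], [], [], [], [], [], []],
    ![[], [], [2, 3], [2], [], [], [9], [], [], [6, 24], [], [], [], [], [], [], [], [], [], [], [], [24], [], [], [9, 21]],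
    ![[], [], [], [], [], [15], [], [11], [14], [], [], [7], [], [], [8], [5], [], [], [], [], [], [], [], [], []],
    ![[], [], [], [], [], [8], [], [14], [5], [], [], [15], [], [], [7], [11], [], [], [], [], [], [], [], [], []],
    ![[], [], [21], [9, 21], [], [], [6, 24], [], [], [3], [], [], [], [], [], [], [], [], [], [], [], [2, 3], [], [], [6]],
    ![[], [], [], [], [], [], [], [], [], [], [16], [], [], [], [], [], [10], [], [], [22], [23], [], [19], [20], []],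
    ![[], [11], [], [], [11], [13, 17], [], [7], [15], [], [], [1, 4], [14], [5], [12, 18], [8], [], [5], [14], [], [], [], [], [], []],
    ![[4, 13, 18], [], [], [], [0], [5], [], [], [], [], [], [14], [], [0], [11], [], [19], [], [0], [16], [20], [], [], [], []],
    ![[1, 12, 17], [0], [], [], [], [11], [], [], [], [], [], [5], [0], [], [14], [], [16], [0], [], [20], [19], [], [], [], []],
    ![[], [5], [], [], [5], [1, 4], [], [8], [7], [], [], [12, 18], [11], [14], [13, 17], [15], [], [14], [11], [], [], [], [], [], []],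
    ![[], [], [], [], [], [7], [], [5], [11], [], [], [8], [], [], [15], [14], [], [], [], [], [], [], [], [], []],
    ![[], [20], [], [], [20], [], [], [], [], [], [10], [], [19], [16], [], [], [13, 17], [16], [19], [12, 18], [1, 4], [], [23], [22], []],
    ![[4, 13, 18], [], [], [], [0], [11], [], [], [], [], [], [5], [], [0], [14], [], [16], [], [0], [20], [19], [], [], [], []],
    ![[1, 12, 17], [0], [], [], [], [5], [], [], [], [], [], [14], [0], [], [11], [], [19], [0], [], [16], [20], [], [], [], []],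
    ![[], [19], [], [], [19], [], [], [], [], [], [22], [], [16], [20], [], [], [12, 18], [20], [16], [1, 4], [13, 17], [], [10], [23], []],
    ![[], [16], [], [], [16], [], [], [], [], [], [23], [], [20], [19], [], [], [1, 4], [19], [20], [13, 17], [12, 18], [], [22], [10], []],
    ![[], [], [9, 21], [9], [], [], [24], [], [], [2, 3], [], [], [], [], [], [], [], [], [], [], [], [2], [], [], [6, 24]],
    ![[], [], [], [], [], [], [], [], [], [], [19], [], [], [], [], [], [23], [], [], [10], [22], [], [20], [16], []],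
    ![[], [], [], [], [], [], [], [], [], [], [20], [], [], [], [], [], [22], [], [], [23], [10], [], [16], [19], []],
    ![[], [], [3], [2, 3], [], [], [9, 21], [], [], [6], [], [], [], [], [], [], [], [], [], [], [], [6, 24], [], [], [21]]]

/-- a further isometry for the symp -/
def sympW : Mat 25 := ![![1, 21, 4], ![1, 13, 3], ![6, 1, 12]]

/-- an isometry moving the set of the symp -/
def sympT : Mat 25 := ![![8, 16, 12], ![7, 23, 10], ![10, 4, 14]]

/-- a moved member for the symp -/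
def sympV : Vec 25 := ![0, 1, 4]

/-- the group of order twenty-seven -/
def sympR : List (Mat 25) :=
  [![![0, 0, 1], ![1, 0, 0], ![0, 1, 0]],
    ![![0, 0, 1], ![12, 0, 0], ![0, 17, 0]],
    ![![0, 0, 1], ![17, 0, 0], ![0, 12, 0]],
    ![![0, 0, 12], ![1, 0, 0], ![0, 17, 0]],
    ![![0, 0, 12], ![12, 0, 0], ![0, 12, 0]],
    ![![0, 0, 12], ![17, 0, 0], ![0, 1, 0]],
    ![![0, 0, 17], ![1, 0, 0], ![0, 12, 0]],
    ![![0, 0, 17], ![12, 0, 0], ![0, 1, 0]],
    ![![0, 0, 17], ![17, 0, 0], ![0, 17, 0]],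
    ![![0, 1, 0], ![0, 0, 1], ![1, 0, 0]],
    ![![0, 1, 0], ![0, 0, 12], ![17, 0, 0]],
    ![![0, 1, 0], ![0, 0, 17], ![12, 0, 0]],
    ![![0, 12, 0], ![0, 0, 1], ![17, 0, 0]],
    ![![0, 12, 0], ![0, 0, 12], ![12, 0, 0]],
    ![![0, 12, 0], ![0, 0, 17], ![1, 0, 0]],
    ![![0, 17, 0], ![0, 0, 1], ![12, 0, 0]],
    ![![0, 17, 0], ![0, 0, 12], ![1, 0, 0]],
    ![![0, 17, 0], ![0, 0, 17], ![17, 0, 0]],
    ![![1, 0, 0], ![0, 1, 0], ![0, 0, 1]],
    ![![1, 0, 0], ![0, 12, 0], ![0, 0, 17]],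
    ![![1, 0, 0], ![0, 17, 0], ![0, 0, 12]],
    ![![12, 0, 0], ![0, 1, 0], ![0, 0, 17]],
    ![![12, 0, 0], ![0, 12, 0], ![0, 0, 12]],
    ![![12, 0, 0], ![0, 17, 0], ![0, 0, 1]],
    ![![17, 0, 0], ![0, 1, 0], ![0, 0, 12]],
    ![![17, 0, 0], ![0, 12, 0], ![0, 0, 1]],
    ![![17, 0, 0], ![0, 17, 0], ![0, 0, 17]]]

/-- for each non-central element an isometry carrying the diagonal generator to it, with its inverse -/
def sympN : List (Mat 25 × Mat 25) :=
  [(![![7, 7, 7], ![7, 15, 8], ![7, 8, 15]], ![![22, 22, 22], ![22, 10, 23], ![22, 23, 10]]),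
    (![![7, 7, 15], ![8, 7, 8], ![7, 8, 8]], ![![22, 23, 22], ![22, 22, 23], ![10, 23, 23]]),
    (![![7, 7, 8], ![15, 8, 8], ![7, 8, 7]], ![![22, 10, 22], ![22, 23, 23], ![23, 23, 22]]),
    (![![7, 7, 8], ![7, 15, 15], ![15, 7, 15]], ![![22, 22, 10], ![22, 10, 22], ![23, 10, 10]]),
    (![![7, 7, 7], ![8, 7, 15], ![15, 7, 8]], ![![22, 23, 10], ![22, 22, 22], ![22, 10, 23]]),
    (![![7, 7, 15], ![15, 8, 15], ![15, 7, 7]], ![![22, 10, 10], ![22, 23, 22], ![10, 10, 22]]),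
    (![![7, 7, 15], ![7, 15, 7], ![8, 15, 15]], ![![22, 22, 23], ![22, 10, 10], ![10, 22, 10]]),
    (![![7, 7, 8], ![8, 7, 7], ![8, 15, 8]], ![![22, 23, 23], ![22, 22, 10], ![23, 22, 23]]),
    (![![7, 7, 7], ![15, 8, 7], ![8, 15, 7]], ![![22, 10, 23], ![22, 23, 10], ![22, 22, 22]]),
    (![![10, 10, 10], ![10, 23, 22], ![10, 22, 23]], ![![15, 15, 15], ![15, 8, 7], ![15, 7, 8]]),
    (![![10, 10, 23], ![10, 23, 10], ![22, 23, 23]], ![![15, 15, 7], ![15, 8, 8], ![8, 15, 8]]),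
    (![![10, 10, 22], ![10, 23, 23], ![23, 10, 23]], ![![15, 15, 8], ![15, 8, 15], ![7, 8, 8]]),
    (![![10, 10, 22], ![22, 10, 10], ![22, 23, 22]], ![![15, 7, 7], ![15, 15, 8], ![7, 15, 7]]),
    (![![10, 10, 10], ![22, 10, 23], ![23, 10, 22]], ![![15, 7, 8], ![15, 15, 15], ![15, 8, 7]]),
    (![![10, 10, 23], ![22, 10, 22], ![10, 22, 22]], ![![15, 7, 15], ![15, 15, 7], ![8, 7, 7]]),
    (![![10, 10, 23], ![23, 22, 23], ![23, 10, 10]], ![![15, 8, 8], ![15, 7, 15], ![8, 8, 15]]),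
    (![![10, 10, 22], ![23, 22, 22], ![10, 22, 10]], ![![15, 8, 15], ![15, 7, 7], ![7, 7, 15]]),
    (![![10, 10, 10], ![23, 22, 10], ![22, 23, 10]], ![![15, 8, 7], ![15, 7, 8], ![15, 15, 15]]),
    (![![1, 0, 0], ![0, 1, 0], ![0, 0, 1]], ![![1, 0, 0], ![0, 1, 0], ![0, 0, 1]]),
    (![![4, 0, 0], ![0, 0, 4], ![0, 4, 0]], ![![4, 0, 0], ![0, 0, 4], ![0, 4, 0]]),
    (![![0, 4, 0], ![4, 0, 0], ![0, 0, 4]], ![![0, 4, 0], ![4, 0, 0], ![0, 0, 4]]),
    (![![0, 1, 0], ![0, 0, 1], ![1, 0, 0]], ![![0, 0, 1], ![1, 0, 0], ![0, 1, 0]]),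
    (![![0, 0, 1], ![1, 0, 0], ![0, 1, 0]], ![![0, 1, 0], ![0, 0, 1], ![1, 0, 0]]),
    (![![0, 0, 4], ![0, 4, 0], ![4, 0, 0]], ![![0, 0, 4], ![0, 4, 0], ![4, 0, 0]])]

/-- the cube root of one -/
def omega : Fin 25 := 12

/-- the set for the five -/
def fiveRows : Fin 25 → Fin 25 → List (Fin 25) :=
  ![![[1, 4, 12, 13, 17, 18], [0], [7, 23], [7, 23], [0], [14, 16], [8, 22], [9, 21], [2, 3], [10, 15], [6, 24], [5, 20], [0], [0], [11, 19], [6, 24], [11, 19], [0], [0], [5, 20], [14, 16], [10, 15], [2, 3], [9, 21], [8, 22]],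
    ![[0], [2, 3], [1, 4], [1, 4], [2, 3], [], [], [11, 19], [], [12, 18], [], [], [], [6, 24], [8, 22], [], [8, 22], [6, 24], [], [], [], [12, 18], [], [11, 19], []],
    ![[8, 22], [1, 4], [], [], [1, 4], [9, 21], [5, 11, 14, 16, 19, 20], [0], [], [], [], [9, 21], [], [12, 18], [9, 21], [], [9, 21], [12, 18], [], [9, 21], [9, 21], [], [], [0], [5, 11, 14, 16, 19, 20]],
    ![[8, 22], [1, 4], [], [], [1, 4], [9, 21], [5, 11, 14, 16, 19, 20], [0], [], [], [], [9, 21], [], [12, 18], [9, 21], [], [9, 21], [12, 18], [], [9, 21], [9, 21], [], [], [0], [5, 11, 14, 16, 19, 20]],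
    ![[0], [2, 3], [1, 4], [1, 4], [2, 3], [], [], [11, 19], [], [12, 18], [], [], [], [6, 24], [8, 22], [], [8, 22], [6, 24], [], [], [], [12, 18], [], [11, 19], []],
    ![[11, 19], [], [6, 24], [6, 24], [], [], [9, 21], [13, 17], [], [2, 3], [], [], [8, 22], [], [0], [], [0], [], [8, 22], [], [], [2, 3], [], [13, 17], [9, 21]],
    ![[10, 15], [13, 17], [], [], [13, 17], [2, 3], [], [], [0], [5, 11, 14, 16, 19, 20], [], [2, 3], [12, 18], [], [2, 3], [], [2, 3], [], [12, 18], [2, 3], [2, 3], [5, 11, 14, 16, 19, 20], [0], [], []],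
    ![[2, 3], [], [], [], [], [], [], [], [], [0], [], [1, 4], [], [5, 20], [], [], [], [5, 20], [], [1, 4], [], [0], [], [], []],
    ![[6, 24], [14, 16], [0], [0], [14, 16], [12, 18], [], [], [], [], [], [], [], [], [], [], [], [], [], [], [12, 18], [], [], [], []],
    ![[7, 23], [], [5, 11, 14, 16, 19, 20], [5, 11, 14, 16, 19, 20], [], [6, 24], [], [], [], [], [0], [6, 24], [1, 4], [13, 17], [6, 24], [0], [6, 24], [13, 17], [1, 4], [6, 24], [6, 24], [], [], [], []],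
    ![[9, 21], [], [], [], [], [], [0], [], [], [], [], [], [11, 19], [], [13, 17], [], [13, 17], [], [11, 19], [], [], [], [], [], [0]],
    ![[14, 16], [7, 23], [6, 24], [6, 24], [7, 23], [0], [9, 21], [], [], [2, 3], [12, 18], [], [], [], [], [12, 18], [], [], [], [], [0], [2, 3], [], [], [9, 21]],
    ![[0], [9, 21], [13, 17], [13, 17], [9, 21], [], [12, 18], [], [5, 20], [], [], [10, 15], [6, 24], [], [], [], [], [], [6, 24], [10, 15], [], [], [5, 20], [], [12, 18]],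
    ![[0], [], [], [], [], [7, 23], [1, 4], [], [], [13, 17], [14, 16], [], [2, 3], [9, 21], [], [14, 16], [], [9, 21], [2, 3], [], [7, 23], [13, 17], [], [], [1, 4]],
    ![[5, 20], [], [6, 24], [6, 24], [], [], [9, 21], [], [1, 4], [2, 3], [], [0], [], [10, 15], [], [], [], [10, 15], [], [0], [], [2, 3], [1, 4], [], [9, 21]],
    ![[9, 21], [], [], [], [], [], [0], [], [], [], [], [], [11, 19], [], [13, 17], [], [13, 17], [], [11, 19], [], [], [], [], [], [0]],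
    ![[5, 20], [], [6, 24], [6, 24], [], [], [9, 21], [], [1, 4], [2, 3], [], [0], [], [10, 15], [], [], [], [10, 15], [], [0], [], [2, 3], [1, 4], [], [9, 21]],
    ![[0], [], [], [], [], [7, 23], [1, 4], [], [], [13, 17], [14, 16], [], [2, 3], [9, 21], [], [14, 16], [], [9, 21], [2, 3], [], [7, 23], [13, 17], [], [], [1, 4]],
    ![[0], [9, 21], [13, 17], [13, 17], [9, 21], [], [12, 18], [], [5, 20], [], [], [10, 15], [6, 24], [], [], [], [], [], [6, 24], [10, 15], [], [], [5, 20], [], [12, 18]],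
    ![[14, 16], [7, 23], [6, 24], [6, 24], [7, 23], [0], [9, 21], [], [], [2, 3], [12, 18], [], [], [], [], [12, 18], [], [], [], [], [0], [2, 3], [], [], [9, 21]],
    ![[11, 19], [], [6, 24], [6, 24], [], [], [9, 21], [13, 17], [], [2, 3], [], [], [8, 22], [], [0], [], [0], [], [8, 22], [], [], [2, 3], [], [13, 17], [9, 21]],
    ![[7, 23], [], [5, 11, 14, 16, 19, 20], [5, 11, 14, 16, 19, 20], [], [6, 24], [], [], [], [], [0], [6, 24], [1, 4], [13, 17], [6, 24], [0], [6, 24], [13, 17], [1, 4], [6, 24], [6, 24], [], [], [], []],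
    ![[6, 24], [14, 16], [0], [0], [14, 16], [12, 18], [], [], [], [], [], [], [], [], [], [], [], [], [], [], [12, 18], [], [], [], []],
    ![[2, 3], [], [], [], [], [], [], [], [], [0], [], [1, 4], [], [5, 20], [], [], [], [5, 20], [], [1, 4], [], [0], [], [], []],
    ![[10, 15], [13, 17], [], [], [13, 17], [2, 3], [], [], [0], [5, 11, 14, 16, 19, 20], [], [2, 3], [12, 18], [], [2, 3], [], [2, 3], [], [12, 18], [2, 3], [2, 3], [5, 11, 14, 16, 19, 20], [0], [], []]]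

/-- a further isometry for the five -/
def fiveW : Mat 25 := ![![5, 24, 2], ![7, 20, 17], ![17, 3, 12]]

/-- an isometry moving the set of the five -/
def fiveT : Mat 25 := ![![8, 16, 12], ![7, 23, 10], ![10, 4, 14]]

/-- a moved member for the five -/
def fiveV : Vec 25 := ![0, 0, 1]

/-- powers of an element of order seven -/
def fiveA : Fin 7 → Mat 25 :=
  ![![![1, 0, 0], ![0, 1, 0], ![0, 0, 1]],
    ![![0, 2, 8], ![0, 7, 2], ![1, 0, 0]],
    ![![8, 14, 4], ![2, 21, 14], ![0, 2, 8]],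
    ![![4, 3, 4], ![14, 24, 3], ![8, 14, 4]],
    ![![4, 19, 23], ![3, 9, 19], ![4, 3, 4]],
    ![![23, 2, 0], ![19, 6, 2], ![4, 19, 23]],
    ![![0, 0, 1], ![2, 22, 0], ![23, 2, 0]]]

/-- the conjugations carrying a conjugate of the element back to it, with their inverses -/
def fiveY : Fin 3 → Mat 25 × Mat 25 :=
  ![(![![1, 0, 0], ![0, 1, 0], ![0, 0, 1]], ![![1, 0, 0], ![0, 1, 0], ![0, 0, 1]]),
    (![![3, 21, 19], ![13, 14, 10], ![18, 24, 18]], ![![3, 18, 13], ![6, 19, 9], ![14, 15, 13]]),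
    (![![3, 18, 13], ![6, 19, 9], ![14, 15, 13]], ![![3, 21, 19], ![13, 14, 10], ![18, 24, 18]])]

/-- the scalars -/
def fiveZ : List (Mat 25) :=
  [![![1, 0, 0], ![0, 1, 0], ![0, 0, 1]],
    ![![12, 0, 0], ![0, 12, 0], ![0, 0, 12]],
    ![![17, 0, 0], ![0, 17, 0], ![0, 0, 17]]]

/-- the trace of the element -/
def fiveAl : Fin 25 := 7

/-- the first coordinate vector and its images -/
def fiveK : Mat 25 := ![![1, 0, 8], ![0, 0, 2], ![0, 1, 0]]

/-- its inverse -/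
def fiveKi : Mat 25 := ![![1, 11, 0], ![0, 0, 1], ![0, 3, 0]]

/-- the products of the first coordinate vector with its images -/
def fiveTs : Vec 25 := ![1, 0, 8]

/-- normalised vectors -/
def fiveWit : Fin 25 → Vec 25 :=
  ![![0, 0, 1],
    ![0, 2, 15],
    ![1, 1, 5],
    ![1, 0, 16],
    ![1, 1, 11],
    ![0, 2, 6],
    ![0, 1, 6],
    ![0, 2, 11],
    ![0, 5, 10],
    ![1, 6, 24],
    ![1, 3, 14],
    ![0, 5, 14],
    ![1, 0, 4],
    ![1, 9, 1],
    ![1, 1, 2],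
    ![0, 5, 5],
    ![1, 2, 18],
    ![0, 2, 7],
    ![0, 1, 9],
    ![0, 1, 11],
    ![1, 10, 13],
    ![1, 0, 12],
    ![1, 0, 20],
    ![0, 1, 4],
    ![1, 4, 10]]

/-- diagonal symmetric forms brought to scalar forms -/
def orthS : List (Fin 25 × Mat 25) :=
  [(1, ![![0, 0, 1], ![0, 1, 0], ![1, 0, 0]]),
    (2, ![![0, 1, 1], ![0, 1, 4], ![1, 0, 0]]),
    (2, ![![0, 1, 1], ![0, 1, 4], ![2, 0, 0]]),
    (1, ![![0, 0, 1], ![0, 1, 0], ![2, 0, 0]]),
    (2, ![![0, 1, 1], ![1, 0, 0], ![0, 1, 4]]),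
    (1, ![![0, 0, 1], ![2, 2, 0], ![2, 3, 0]]),
    (1, ![![0, 0, 1], ![2, 2, 0], ![1, 4, 0]]),
    (2, ![![0, 1, 1], ![1, 0, 0], ![0, 2, 3]]),
    (2, ![![0, 1, 1], ![1, 2, 3], ![2, 2, 3]]),
    (1, ![![0, 0, 1], ![1, 1, 0], ![2, 3, 0]]),
    (1, ![![0, 0, 1], ![1, 1, 0], ![1, 4, 0]]),
    (2, ![![0, 1, 1], ![1, 2, 3], ![1, 1, 4]]),
    (1, ![![0, 0, 1], ![0, 2, 0], ![1, 0, 0]]),
    (2, ![![0, 1, 1], ![0, 2, 3], ![1, 0, 0]]),
    (2, ![![0, 1, 1], ![0, 2, 3], ![2, 0, 0]]),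
    (1, ![![0, 0, 1], ![0, 2, 0], ![2, 0, 0]]),
    (2, ![![0, 0, 1], ![1, 1, 0], ![1, 4, 0]]),
    (1, ![![0, 2, 2], ![1, 0, 0], ![0, 2, 3]]),
    (1, ![![0, 2, 2], ![1, 0, 0], ![0, 1, 4]]),
    (2, ![![0, 0, 1], ![1, 1, 0], ![2, 3, 0]]),
    (1, ![![0, 2, 2], ![0, 2, 3], ![1, 0, 0]]),
    (2, ![![0, 0, 1], ![0, 1, 0], ![1, 0, 0]]),
    (2, ![![0, 0, 1], ![0, 1, 0], ![2, 0, 0]]),
    (1, ![![0, 2, 2], ![0, 2, 3], ![2, 0, 0]]),
    (1, ![![0, 2, 2], ![0, 1, 4], ![1, 0, 0]]),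
    (2, ![![0, 0, 1], ![0, 2, 0], ![1, 0, 0]]),
    (2, ![![0, 0, 1], ![0, 2, 0], ![2, 0, 0]]),
    (1, ![![0, 2, 2], ![0, 1, 4], ![2, 0, 0]]),
    (2, ![![0, 0, 1], ![2, 2, 0], ![1, 4, 0]]),
    (1, ![![0, 2, 2], ![1, 2, 3], ![1, 1, 4]]),
    (1, ![![0, 2, 2], ![1, 2, 3], ![2, 2, 3]]),
    (2, ![![0, 0, 1], ![2, 2, 0], ![2, 3, 0]]),
    (2, ![![0, 0, 2], ![1, 1, 0], ![1, 4, 0]]),
    (1, ![![0, 1, 1], ![1, 0, 0], ![0, 2, 3]]),
    (1, ![![0, 1, 1], ![1, 0, 0], ![0, 1, 4]]),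
    (2, ![![0, 0, 2], ![1, 1, 0], ![2, 3, 0]]),
    (1, ![![0, 1, 1], ![0, 2, 3], ![1, 0, 0]]),
    (2, ![![0, 0, 2], ![0, 1, 0], ![1, 0, 0]]),
    (2, ![![0, 0, 2], ![0, 1, 0], ![2, 0, 0]]),
    (1, ![![0, 1, 1], ![0, 2, 3], ![2, 0, 0]]),
    (1, ![![0, 1, 1], ![0, 1, 4], ![1, 0, 0]]),
    (2, ![![0, 0, 2], ![0, 2, 0], ![1, 0, 0]]),
    (2, ![![0, 0, 2], ![0, 2, 0], ![2, 0, 0]]),
    (1, ![![0, 1, 1], ![0, 1, 4], ![2, 0, 0]]),
    (2, ![![0, 0, 2], ![2, 2, 0], ![1, 4, 0]]),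
    (1, ![![0, 1, 1], ![1, 2, 3], ![1, 1, 4]]),
    (1, ![![0, 1, 1], ![1, 2, 3], ![2, 2, 3]]),
    (2, ![![0, 0, 2], ![2, 2, 0], ![2, 3, 0]]),
    (1, ![![0, 0, 2], ![0, 1, 0], ![1, 0, 0]]),
    (2, ![![0, 2, 2], ![0, 1, 4], ![1, 0, 0]]),
    (2, ![![0, 2, 2], ![0, 1, 4], ![2, 0, 0]]),
    (1, ![![0, 0, 2], ![0, 1, 0], ![2, 0, 0]]),
    (2, ![![0, 2, 2], ![1, 0, 0], ![0, 1, 4]]),
    (1, ![![0, 0, 2], ![2, 2, 0], ![2, 3, 0]]),
    (1, ![![0, 0, 2], ![2, 2, 0], ![1, 4, 0]]),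
    (2, ![![0, 2, 2], ![1, 0, 0], ![0, 2, 3]]),
    (2, ![![0, 2, 2], ![1, 2, 3], ![2, 2, 3]]),
    (1, ![![0, 0, 2], ![1, 1, 0], ![2, 3, 0]]),
    (1, ![![0, 0, 2], ![1, 1, 0], ![1, 4, 0]]),
    (2, ![![0, 2, 2], ![1, 2, 3], ![1, 1, 4]]),
    (1, ![![0, 0, 2], ![0, 2, 0], ![1, 0, 0]]),
    (2, ![![0, 2, 2], ![0, 2, 3], ![1, 0, 0]]),
    (2, ![![0, 2, 2], ![0, 2, 3], ![2, 0, 0]]),
    (1, ![![0, 0, 2], ![0, 2, 0], ![2, 0, 0]])]

end CfsgLib.Asch.Three.D25
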