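import Cfsg.Agent.Lib.Aschbacher.SuThreeCode
import Cfsg.Agent.Lib.Aschbacher.NineField

/-!
# Data for the exclusions in degree three over 9 elements
-/

set_option autoImplicit false

namespace CfsgLib.Asch.Three.D9

/-- operations on the codes of nine elements -/
def ops : Ops 9 where
  add := Nine.add
  mul := Nine.mul
  neg x := Nine.mul x 2
  conj := Nine.conj
  zero := 0
  one := 1

/-- the set for the three -/
def threeRows : Fin 9 → Fin 9 → List (Fin 9) :=
  ![![[], [1], [2], [], [], [], [], [], []],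
    ![[], [], [], [], [8], [7], [], [4], [5]],
    ![[], [], [], [], [7], [8], [], [5], [4]],
    ![[2], [0], [], [], [8], [], [], [5], []],
    ![[], [7], [], [7], [3], [2, 6], [8], [], []],
    ![[], [4], [], [5], [], [], [4], [6], [2, 3]],
    ![[1], [], [0], [], [], [7], [], [], [4]],
    ![[], [], [8], [8], [1, 6], [3], [7], [], []],
    ![[], [], [5], [4], [], [], [5], [1, 3], [6]]]

/-- a further isometry for the three -/
def threeW : Mat 9 := ![![4, 4, 0], ![0, 0, 6], ![4, 8, 0]]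

/-- an isometry moving the set of the three -/
def threeT : Mat 9 := ![![2, 2, 8], ![6, 8, 1], ![8, 6, 1]]

/-- a moved member for the three -/
def threeV : Vec 9 := ![1, 4, 8]

/-- powers of an element of order seven -/
def threeA : Fin 7 → Mat 9 :=
  ![![![1, 0, 0], ![0, 1, 0], ![0, 0, 1]],
    ![![0, 4, 5], ![0, 4, 7], ![1, 0, 0]],
    ![![5, 6, 2], ![7, 6, 2], ![0, 4, 5]],
    ![![2, 8, 2], ![2, 6, 5], ![5, 6, 2]],
    ![![2, 2, 8], ![5, 3, 3], ![2, 8, 2]],
    ![![8, 4, 0], ![3, 3, 7], ![2, 2, 8]],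
    ![![0, 0, 1], ![7, 7, 0], ![8, 4, 0]]]

/-- the conjugations carrying a conjugate of the element back to it, with their inverses -/
def threeY : Fin 3 → Mat 9 × Mat 9 :=
  ![(![![1, 0, 0], ![0, 1, 0], ![0, 0, 1]], ![![1, 0, 0], ![0, 1, 0], ![0, 0, 1]]),
    (![![2, 6, 8], ![7, 8, 0], ![6, 1, 5]], ![![2, 4, 3], ![3, 5, 1], ![5, 0, 8]]),
    (![![2, 4, 3], ![3, 5, 1], ![5, 0, 8]], ![![2, 6, 8], ![7, 8, 0], ![6, 1, 5]])]

/-- the scalars -/
def threeZ : List (Mat 9) :=
  [![![1, 0, 0], ![0, 1, 0], ![0, 0, 1]]]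

/-- the trace of the element -/
def threeAl : Fin 9 := 4

/-- the first coordinate vector and its images -/
def threeK : Mat 9 := ![![1, 0, 5], ![0, 0, 7], ![0, 1, 0]]

/-- its inverse -/
def threeKi : Mat 9 := ![![1, 1, 0], ![0, 0, 1], ![0, 8, 0]]

/-- the products of the first coordinate vector with its images -/
def threeTs : Vec 9 := ![1, 0, 5]

/-- normalised vectors -/
def threeWit : Fin 9 → Vec 9 :=
  ![![0, 0, 1],
    ![0, 4, 5],
    ![0, 1, 2],
    ![1, 1, 2],
    ![0, 1, 7],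
    ![1, 4, 6],
    ![0, 1, 8],
    ![1, 0, 2],
    ![1, 0, 5]]

end CfsgLib.Asch.Three.D9
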