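import Cfsg.Agent.Lib.Aschbacher.SuThreeFieldMax
import Cfsg.Agent.Lib.Aschbacher.SuThreeDataFive
import Cfsg.Agent.Lib.Aschbacher.SuThreeDataThree

/-!
# Fields of degree three over nine and twenty-five elements
-/

set_option autoImplicit false

namespace CfsgLib.Asch.Three

open Matrix Cfsg.Geo CfsgLib.ClassicalMax
open scoped MatrixGroups

variable {F : Type*} [Field F] [Fintype F]

/-- the code of twenty-five elements -/
theorem exists_code25 (h25 : Fintype.card F = 25) {τ : F ≃+* F} (hτ : ∀ a, τ a = a ^ 5) :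
    ∃ φ : Fin 25 → F, Code D25.ops φ τ.toRingHom := by
  classical
  have h5 : (5 : F) = 0 := by
    have h := FiniteField.cast_card_eq_zero F
    rw [h25] at h
    push_cast at h
    exact mul_self_eq_zero.mp (show (5 : F) * 5 = 0 by linear_combination h)
  haveI : Fact (Nat.Prime 5) := ⟨by norm_num⟩
  haveI : CharP F 5 := (CharP.charP_iff_prime_eq_zero (by norm_num)).mpr (by exact_mod_cast h5)
  obtain ⟨s, hs⟩ := (FiniteField.isSquare_two_iff (F := F)).mpr (by rw [h25]; norm_num)
  have hcast : ∀ k : ℕ, ((k % 5 : ℕ) : F) = (k : F) := fun k => by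
    conv_rhs => rw [← Nat.mod_add_div k 5, Nat.cast_add, Nat.cast_mul]
    push_cast
    linear_combination -((k / 5 : ℕ) : F) * h5
  let φ : Fin 25 → F := fun x => ((x.val % 5 : ℕ) : F) + ((x.val / 5 : ℕ) : F) * s
  have hmk : ∀ a b : ℕ, ∀ x : Fin 25, x.val = a % 5 + 5 * (b % 5) → φ x = (a : F) + (b : F) * s := by
    intro a b x hx
    simp only [φ, hx]
    rw [show (a % 5 + 5 * (b % 5)) % 5 = a % 5 by omega, show (a % 5 + 5 * (b % 5)) / 5 = b % 5 by omega,
      hcast, hcast]
  have hadd : ∀ a b, φ (D25.ops.add a b) = φ a + φ b := fun a b => by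
    rw [hmk (a.val % 5 + b.val % 5) (a.val / 5 + b.val / 5) _ rfl]
    simp only [φ]; push_cast; ring
  have hmul : ∀ a b, φ (D25.ops.mul a b) = φ a * φ b := fun a b => by
    rw [hmk (a.val % 5 * (b.val % 5) + 2 * (a.val / 5 * (b.val / 5)))
      (a.val % 5 * (b.val / 5) + a.val / 5 * (b.val % 5)) _ rfl]
    simp only [φ]; push_cast
    linear_combination ((a.val / 5 : ℕ) : F) * ((b.val / 5 : ℕ) : F) * hs
  have h0 : φ 0 = 0 := by simp [φ]
  have h1 : φ 1 = 1 := by simp [φ]
  have hneg : ∀ a, φ (D25.ops.neg a) = - φ a := fun a => by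
    refine eq_neg_of_add_eq_zero_left ?_
    rw [← hadd, (by decide +kernel : ∀ x : Fin 25, D25.ops.add (D25.ops.neg x) x = 0) a, h0]
  have hzero : ∀ x, φ x = 0 → x = 0 := fun x hx => by
    by_contra hne
    obtain ⟨y, hy⟩ := (by decide +kernel : ∀ x : Fin 25, x ≠ 0 → ∃ y, D25.ops.mul x y = 1) x hne
    have := hmul x y
    rw [hy, h1, hx, zero_mul] at this
    exact one_ne_zero this
  have hinj : Function.Injective φ := fun x y h =>
    (by decide +kernel : ∀ x y : Fin 25, D25.ops.add x (D25.ops.neg y) = 0 → x = y) x y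
      (hzero _ (by rw [hadd, hneg, h, add_neg_cancel]))
  refine ⟨φ, ⟨(Fintype.bijective_iff_injective_and_card φ).mpr ⟨hinj, by rw [h25, Fintype.card_fin]⟩,
    h0, h1, hadd, hmul, hneg, fun a => ?_⟩⟩
  show φ _ = τ (φ a)
  rw [hτ]
  show φ _ = (((a.val % 5 : ℕ) : F) + ((a.val / 5 : ℕ) : F) * s) ^ 5
  rw [hmk a.val (5 - a.val / 5) _ (by show a.val % 5 + 5 * ((5 - a.val / 5) % 5) = _; rfl)]
  have hk : ∀ k : ℕ, k < 5 → (k : F) ^ 5 = (k : F) := fun k hk => by
    interval_cases k <;> push_cast
    · ring
    · ring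
    · linear_combination (6 : F) * h5
    · linear_combination (48 : F) * h5
    · linear_combination (204 : F) * h5
  rw [add_pow_char, mul_pow, hk _ (by omega), hk _ (by omega),
    show s ^ 5 = -s by linear_combination (-(s * s) * s - 2 * s) * hs + s * h5, Nat.cast_sub (by omega),
    ← hcast a.val]
  push_cast
  linear_combination s * h5

/-- the code of nine elements -/
theorem exists_code9 (h9 : Fintype.card F = 9) {τ : F ≃+* F} (hτ : ∀ a, τ a = a ^ 3) :
    ∃ φ : Fin 9 → F, Code D9.ops φ τ.toRingHom := by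
  obtain ⟨φ, hφ, h0, h1, hadd, hmul, hconj⟩ := Nine.exists_code h9
  have hneg : ∀ a, φ (D9.ops.neg a) = - φ a := fun a => by
    refine eq_neg_of_add_eq_zero_left ?_
    rw [← hadd, (by decide +kernel : ∀ x : Fin 9, Nine.add (D9.ops.neg x) x = 0) a, h0]
  exact ⟨φ, hφ, h0, h1, hadd, hmul, hneg, fun a => (hconj a).trans (hτ _).symm⟩

lemma five_data : FieldData D25.ops D25.fiveAl D25.fiveA D25.fiveKi D25.fiveWit D25.fiveY D25.fiveZ
    D25.fiveRows D25.fiveW D25.fiveT D25.fiveV where
  A_zero := by decide +kernel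
  A_succ := by decide +kernel
  trace := by decide +kernel
  kry := by decide +kernel
  frame := by decide +kernel
  conjY := by decide +kernel
  cent := by decide +kernel
  stableA := by decide +kernel
  stableZ := by decide +kernel
  W_iso := by decide +kernel
  W_stable := by decide +kernel
  W_out := by decide +kernel
  T_iso := by decide +kernel
  v_mem := by decide +kernel
  T_out := by decide +kernel

lemma three_data : FieldData D9.ops D9.threeAl D9.threeA D9.threeKi D9.threeWit D9.threeY D9.threeZ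
    D9.threeRows D9.threeW D9.threeT D9.threeV where
  A_zero := by decide +kernel
  A_succ := by decide +kernel
  trace := by decide +kernel
  kry := by decide +kernel
  frame := by decide +kernel
  conjY := by decide +kernel
  cent := by decide +kernel
  stableA := by decide +kernel
  stableZ := by decide +kernel
  W_iso := by decide +kernel
  W_stable := by decide +kernel
  W_out := by decide +kernel
  T_iso := by decide +kernel
  v_mem := by decide +kernel
  T_out := by decide +kernel

/-- in degree three over nine and twenty-five elements the normaliser of a cubic field is not maximal -/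
theorem cubic_not_maximal {q : ℕ} (hq : q = 3 ∨ q = 5) (hF : Fintype.card F = q ^ 2)
    {K : Subalgebra F (Matrix (Fin 3) (Fin 3) F)} (hK : IsFieldSubalgebra 3 K)
    (hadj : IsAdjointClosedFor (Cfsg.hermForm 3 F q) K) :
    ∃ L : Subgroup (GL (Fin 3) F), subalgebraNormalizer K ⊓ (Cfsg.GU 3 F q ⊓ specialLinear (Fin 3) F) < L ∧
      L < Cfsg.GU 3 F q ⊓ specialLinear (Fin 3) F := by
  obtain ⟨τ, hτ, -, hne⟩ := Unit.exists_powEquiv hF
  have hf := Unit.isUnitaryForm_hermForm hF 3 hτ hne
  rcases hq with rfl | rfl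
  · obtain ⟨φ, hC⟩ := exists_code9 (by rw [hF]; norm_num) hτ
    exact field_not_maximal three_data hC hτ hf (by rw [hF]; norm_num) (by norm_num) hK hadj
  · obtain ⟨φ, hC⟩ := exists_code25 (by rw [hF]; norm_num) hτ
    exact field_not_maximal five_data hC hτ hf (by rw [hF]; norm_num) (by norm_num) hK hadj

end CfsgLib.Asch.Three
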