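import Cfsg.Agent.Lib.Aschbacher.Fields
import Cfsg.Agent.Lib.Aschbacher.FormInvol
import Cfsg.Agent.Lib.Aschbacher.SuArith
import Cfsg.Agent.Lib.Aschbacher.SuThreeFields
import Cfsg.Agent.Lib.Aschbacher.SuThreeConfigData

/-!
# Lines, rotations and the extraspecial group in degree three over twenty-five elements
-/

set_option autoImplicit false

namespace CfsgLib.Asch.Three

open Matrix Cfsg.Geo CfsgLib.ClassicalMax
open scoped MatrixGroups

variable {F : Type*} [Field F] [Fintype F]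

lemma isU_mul {n : ℕ} {O : Ops n} {φ : Fin n → F} {σ : F →+* F} (hC : Code O φ σ) {A B : Mat n}
    (hA : O.isU A = true) (hB : O.isU B = true) : O.isU (O.mulM A B) = true := by
  obtain ⟨u1, d1⟩ := (isU_iff hC A).mp hA
  obtain ⟨u2, d2⟩ := (isU_iff hC B).mp hB
  rw [isU_iff hC, lift_mul hC, det_mul, d1, d2, one_mul, transpose_mul, Matrix.map_mul, mul_assoc,
    ← mul_assoc (lift φ A)ᵀ, u1, one_mul, u2]
  exact ⟨rfl, rfl⟩


/-- over twenty-five elements the stabiliser of three orthogonal lines is not maximal -/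
theorem lines_not_maximal (hF : Fintype.card F = 5 ^ 2) {D : Fin 3 → Submodule F (Fin 3 → F)}
    (hD : IsNondegenerateMDecomposition (Cfsg.hermForm 3 F 5) 1 D) :
    ∃ L : Subgroup (GL (Fin 3) F), decompositionStabilizer D ⊓ (Cfsg.GU 3 F 5 ⊓ specialLinear (Fin 3) F) < L ∧
      L < Cfsg.GU 3 F 5 ⊓ specialLinear (Fin 3) F := by
  classical
  obtain ⟨τ, hτ, hττ, hne⟩ := Unit.exists_powEquiv hF
  have hf := Unit.isUnitaryForm_hermForm hF 3 hτ hne
  obtain ⟨φ, hC⟩ := exists_code25 (by rw [hF]; norm_num) hτ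
  set f := Cfsg.hermForm 3 F 5
  set σ : F →+* F := τ.toRingHom
  have hσne : σ ≠ RingHom.id F := fun h => hne (RingEquiv.ext fun a => RingHom.congr_fun h a)
  have hbas : ∀ i, ∃ e ∈ D i, f e e = 1 := by
    intro i
    obtain ⟨e, he, he0⟩ : ∃ e ∈ D i, e ≠ 0 := (Submodule.ne_bot_iff _).mp fun hb => by
      have := hD.decomp.finrank_eq i
      rw [hb, finrank_bot] at this
      omega
    have hspan : Submodule.span F {e} = D i :=
      Submodule.eq_of_le_of_finrank_eq ((Submodule.span_singleton_le_iff_mem _ _).2 he)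
        (by rw [finrank_span_singleton he0, hD.decomp.finrank_eq])
    have hee : f e e ≠ 0 := fun h0 => by
      obtain ⟨-, x, hx, hnx⟩ := hD.nondegenerate i e he he0
      rw [← hspan] at hx
      obtain ⟨c, rfl⟩ := Submodule.mem_span_singleton.mp hx
      exact hnx (by rw [Unit.smul_right hf, h0, mul_zero])
    obtain ⟨ν, hν⟩ := exists_norm (σ := σ) hττ hσne (c := (f e e)⁻¹) (by
      rw [map_inv₀]; exact congrArg _ (Unit.self_fixed hf e))
    refine ⟨ν • e, Submodule.smul_mem _ _ he, ?_⟩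
    rw [hf.smul_left, Unit.smul_right hf, ← mul_assoc, show ν * τ ν = (f e e)⁻¹ from hν, inv_mul_cancel₀ hee]
  choose e he hee using hbas
  let Q : Matrix (Fin 3) (Fin 3) F := Matrix.of fun r j => e j r
  have horth : ∀ i j, f (e i) (e j) = if i = j then 1 else 0 := fun i j => by
    split_ifs with h
    · rw [h, hee]
    · exact hD.orthogonal i j h _ (he i) _ (he j)
  have hQ : Qᵀ * Q.map σ = 1 := by
    ext i j
    rw [Matrix.one_apply, ← horth]
    simp only [f, Cfsg.hermForm, Q, Matrix.mul_apply, transpose_apply, Matrix.map_apply, Matrix.of_apply]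
    exact Finset.sum_congr rfl fun r _ => congrArg _ (hτ _)
  have hQi : (Q.map σ)ᵀ * Q = 1 := by
    have h := congrArg Matrix.transpose hQ
    rw [transpose_mul, transpose_transpose, transpose_one] at h
    exact h
  obtain ⟨hW, hWS, hT, hv, hTv, hWout⟩ := D25.lines_other
  refine not_maximal_of_frame hC (fun x => hτ x) hττ (by norm_num) hQ D25.linesRows
    (fun Y => D25.ops.isU Y = true ∧ ∃ i₀ i₁ i₂ : Fin 3, i₀ ≠ i₁ ∧ i₀ ≠ i₂ ∧ i₁ ≠ i₂ ∧
      ∀ k j, k ≠ ![i₀, i₁, i₂] j → Y k j = 0)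
    ?_ ?_ hW hWS ?_ hT hv hTv
  · rintro g ⟨⟨π, hπ⟩, -⟩ Y hY hYU
    refine ⟨hYU, π 0, π 1, π 2, π.injective.ne (by decide), π.injective.ne (by decide),
      π.injective.ne (by decide), fun k j hk => ?_⟩
    have hk' : k ≠ π j := by fin_cases j <;> simpa using hk
    have hmem : (g : Matrix (Fin 3) (Fin 3) F) *ᵥ e j ∈ D (π j) := by
      rw [← hπ j]
      exact ⟨e j, he j, Matrix.toLin'_apply _ _⟩
    have hentry : φ (Y k j) = f ((g : Matrix (Fin 3) (Fin 3) F) *ᵥ e j) (e k) := by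
      have h : (Q.map σ)ᵀ * ((g : Matrix (Fin 3) (Fin 3) F) * Q) = lift φ Y := by
        rw [hY, ← mul_assoc, hQi, one_mul]
      rw [show φ (Y k j) = lift φ Y k j from rfl, ← h]
      simp only [f, Cfsg.hermForm, Q, Matrix.mul_apply, transpose_apply, Matrix.map_apply, Matrix.of_apply,
        Matrix.mulVec, dotProduct, Finset.mul_sum, Finset.sum_mul]
      exact Finset.sum_congr rfl fun r _ => Finset.sum_congr rfl fun s _ => by
        rw [← hτ]; exact mul_comm _ _
    refine hC.bij.1 ?_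
    rw [hentry, show φ 0 = 0 from hC.zero]
    exact hD.orthogonal (π j) k (Ne.symm hk') _ hmem _ (he k)
  · rintro Y ⟨hYU, i₀, i₁, i₂, h01, h02, h12, hpat⟩
    obtain ⟨p, hp, hppat⟩ := D25.lines_pattern i₀ i₁ i₂ h01 h02 h12
    have hpp := List.all_eq_true.mp D25.lines_perm p hp
    simp only [Bool.and_eq_true, decide_eq_true_eq] at hpp
    obtain ⟨⟨⟨kp, hkp⟩, hpu⟩, hpi⟩ := hpp
    obtain ⟨B, hB⟩ : ∃ B, B = D25.ops.mulM (Ops.tp p) Y := ⟨_, rfl⟩
    have hBd : ∀ i j, i ≠ j → B i j = 0 := by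
      intro i j hij
      have hz : ∀ k, φ (p k i) * φ (Y k j) = 0 := fun k => by
        by_cases hk : k = ![i₀, i₁, i₂] j
        · rw [hppat k i (fun h => hij ?_), show φ 0 = 0 from hC.zero, zero_mul]
          have := hk.symm.trans h
          fin_cases i <;> fin_cases j <;> simp_all
        · rw [hpat k j hk, show φ 0 = 0 from hC.zero, mul_zero]
      refine hC.bij.1 ?_
      rw [show φ 0 = 0 from hC.zero, hB]
      simp only [Ops.mulM, Ops.tp, hC.sum3, hC.mul, hz, add_zero]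
    have hBdiag : B = D25.ops.diag (B 0 0) (B 1 1) (B 2 2) := by
      funext i j
      by_cases h : i = j
      · subst h; fin_cases i <;> simp [Ops.diag]
      · rw [hBd i j h]; simp [Ops.diag, h]; rfl
    have hBU : D25.ops.isU B = true := hB ▸ isU_mul hC hpu hYU
    have hY' : Y = D25.ops.mulM p B := by
      refine lift_injective hC ?_
      rw [hB, lift_mul hC, lift_mul hC, ← mul_assoc, ← lift_mul hC, lift_congr hpi, lift_id hC, one_mul]
    obtain ⟨ga, gb⟩ := D25.diag_guard (hBdiag ▸ hBU)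
    obtain ⟨kd, hkd⟩ := D25.lines_diag _ ga _ gb _ (hBdiag ▸ hBU)
    rw [hY', hBdiag, show p = D25.linesL kp from funext₂ hkp,
      show D25.ops.diag _ _ _ = D25.linesL kd from funext₂ hkd]
    exact (stable_chain hC D25.lines_chain.1 D25.lines_chain.2 kp).mul hC
      (stable_chain hC D25.lines_chain.1 D25.lines_chain.2 kd)
  · rintro ⟨-, i₀, i₁, i₂, -, -, -, h⟩
    obtain ⟨j, k, hk, hne'⟩ := hWout i₀ i₁ i₂
    exact hne' (h k j hk)

set_option maxHeartbeats 1000000 in
/-- over twenty-five elements the subfield group of orthogonal type is not maximal -/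
theorem orth_not_maximal (hF : Fintype.card F = 5 ^ 2) {F₀ : Subfield F} {P : GL (Fin 3) F}
    (hc : Fintype.card F = Nat.card F₀ ^ 2) (hrat : IsFormRationalStructure (Cfsg.hermForm 3 F 5) F₀ 1 P) :
    ∃ L : Subgroup (GL (Fin 3) F), subfieldSubgroup F₀ P ⊓ (Cfsg.GU 3 F 5 ⊓ specialLinear (Fin 3) F) < L ∧
      L < Cfsg.GU 3 F 5 ⊓ specialLinear (Fin 3) F := by
  classical
  obtain ⟨τ, hτ, hττ, hne⟩ := Unit.exists_powEquiv hF
  have hf := Unit.isUnitaryForm_hermForm hF 3 hτ hne
  obtain ⟨φ, hC⟩ := exists_code25 (by rw [hF]; norm_num) hτ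
  set f := Cfsg.hermForm 3 F 5
  set σ : F →+* F := τ.toRingHom
  have hσne : σ ≠ RingHom.id F := fun h => hne (RingEquiv.ext fun a => RingHom.congr_fun h a)
  have hc5 : Nat.card F₀ = 5 := Nat.pow_left_injective two_ne_zero (hc.symm.trans hF)
  have hmem : ∀ x, x ∈ F₀ ↔ σ x = x := fun x => by
    rw [mem_subfield_iff_pow, hc5]
    show _ ↔ τ x = x
    rw [hτ]
  have hh2 : (2 : F) ≠ 0 := fun h2 => by
    have h5 := FiniteField.cast_card_eq_zero F
    rw [hF] at h5
    push_cast at h5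
    exact one_ne_zero (show (1 : F) = 0 by linear_combination h5 - 12 * h2)
  set Pm := (P : Matrix (Fin 3) (Fin 3) F)
  set B := Pmᵀ * Pm.map σ
  have hfB : ∀ i j, B i j = f (Pm *ᵥ Pi.single i 1) (Pm *ᵥ Pi.single j 1) := fun i j => by
    simp only [B, f, Cfsg.hermForm, mulVec_single_one, Matrix.col_def, Matrix.mul_apply, transpose_apply,
      Matrix.map_apply]
    exact Finset.sum_congr rfl fun r _ => congrArg _ (hτ _)
  have hBmem : ∀ i j, B i j ∈ F₀ := fun i j => by
    have h := hrat (Pi.single i 1) (Pi.single j 1)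
      (fun k => by rcases eq_or_ne k i with rfl | h <;> simp [*, F₀.one_mem, F₀.zero_mem])
      (fun k => by rcases eq_or_ne k j with rfl | h <;> simp [*, F₀.one_mem, F₀.zero_mem])
    rw [one_mul] at h
    rw [hfB]; exact h
  have hBsym : ∀ i j, B i j = B j i := fun i j => by
    rw [hfB, hf.herm, ← hfB]
    exact (hmem _).mp (hBmem j i)
  have hBdet : B.det ≠ 0 := by
    rw [det_mul, det_transpose]
    refine mul_ne_zero ((Matrix.isUnit_iff_isUnit_det _).mp P.isUnit).ne_zero ?_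
    rw [show Pm.map σ = σ.mapMatrix Pm from rfl, ← RingHom.map_det]
    exact fun h => ((Matrix.isUnit_iff_isUnit_det _).mp P.isUnit).ne_zero (σ.injective (h.trans (map_zero σ).symm))
  -- an orthogonal basis over the small field
  let B₀ : Matrix (Fin 3) (Fin 3) F₀ := Matrix.of fun i j => ⟨B i j, hBmem i j⟩
  haveI : Invertible (2 : F₀) := invertibleOfNonzero (fun h => hh2 (by
    have := congrArg F₀.subtype h
    rwa [map_ofNat, map_zero] at this))
  obtain ⟨v, hv⟩ := LinearMap.BilinForm.exists_orthogonal_basis (B := Matrix.toBilin' B₀) ⟨fun x y => by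
    simp only [Matrix.toBilin'_apply, RingHom.id_apply]
    rw [Finset.sum_comm]
    exact Finset.sum_congr rfl fun i _ => Finset.sum_congr rfl fun j _ => by
      rw [show B₀ j i = B₀ i j from Subtype.ext (hBsym j i)]; ring⟩
  have hdim : Module.finrank F₀ (Fin 3 → F₀) = 3 := Module.finrank_fin_fun F₀
  let v' := v.reindex (finCongr hdim)
  let R₀ : Matrix (Fin 3) (Fin 3) F₀ := (Pi.basisFun F₀ (Fin 3)).toMatrix v'
  have hR₀u : IsUnit R₀.det := by
    haveI := (Pi.basisFun F₀ (Fin 3)).invertibleToMatrix v'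
    exact (Matrix.isUnit_iff_isUnit_det _).mp (isUnit_of_invertible _)
  let R : Matrix (Fin 3) (Fin 3) F := R₀.map F₀.subtype
  have hRdet : R.det ≠ 0 := by
    rw [show R = F₀.subtype.mapMatrix R₀ from rfl, ← RingHom.map_det]
    exact fun h => hR₀u.ne_zero (F₀.subtype.injective (h.trans (map_zero _).symm))
  have hRσ : R.map σ = R := by
    ext i j; exact (hmem _).mp (R₀ i j).2
  have hDR : ∀ i j, i ≠ j → (Rᵀ * B * R) i j = 0 := by
    intro i j hij
    have h := congrArg (fun x : F₀ => (x : F))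
      (hv (show (finCongr hdim).symm i ≠ (finCongr hdim).symm j from fun h => hij ((Equiv.injective _) h)))
    simp [Matrix.toBilin'_apply, B₀] at h
    rw [Matrix.mul_apply]
    simp only [Matrix.mul_apply, Finset.sum_mul, transpose_apply, R, Matrix.map_apply, R₀,
      Module.Basis.toMatrix_apply, Pi.basisFun_repr, Subfield.coe_subtype, v', Module.Basis.reindex_apply,
      finCongr_symm]
    rw [Finset.sum_comm]
    exact h
  have hDsym : ∀ i, σ ((Rᵀ * B * R) i i) = (Rᵀ * B * R) i i := by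
    intro i
    have hBσ : B.map σ = B := by ext a b; exact (hmem _).mp (hBmem a b)
    conv_rhs => rw [← hRσ, ← hBσ, ← transpose_map, ← Matrix.map_mul, ← Matrix.map_mul]
    rfl
  choose d hd using fun i : Fin 3 => hC.bij.2 ((Rᵀ * B * R) i i)
  have hRBR : Rᵀ * B * R = lift φ (D25.ops.diag (d 0) (d 1) (d 2)) := by
    ext i j
    by_cases h : i = j
    · subst h; rw [← hd]; fin_cases i <;> simp [lift, Ops.diag]
    · rw [hDR i j h]; simp [lift, Ops.diag, h]; exact hC.zero.symm
  have hdc : ∀ i, D25.ops.conj (d i) = d i := fun i => hC.bij.1 (by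
    rw [hC.conj, hd]; exact hDsym i)
  have hd0 : d 0 ≠ 0 ∧ d 1 ≠ 0 ∧ d 2 ≠ 0 := by
    have h := congrArg Matrix.det hRBR
    rw [det_mul, det_mul, det_transpose, ← lift_det hC] at h
    have hne0 : φ (D25.ops.det3 (D25.ops.diag (d 0) (d 1) (d 2))) ≠ 0 :=
      h ▸ mul_ne_zero (mul_ne_zero hRdet hBdet) hRdet
    rw [lift_det hC, ← hRBR, hRBR, show lift φ (D25.ops.diag (d 0) (d 1) (d 2))
      = diagonal ![φ (d 0), φ (d 1), φ (d 2)] by
        ext i j; fin_cases i <;> fin_cases j <;> simp [lift, Ops.diag] <;> exact hC.zero,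
      det_diagonal, Fin.prod_univ_three] at hne0
    simp only [Matrix.cons_val, mul_ne_zero_iff] at hne0
    obtain ⟨⟨a0, a1⟩, a2⟩ := hne0
    exact ⟨fun h => a0 (by rw [h]; exact hC.zero), fun h => a1 (by rw [h]; exact hC.zero),
      fun h => a2 (by rw [h]; exact hC.zero)⟩
  obtain ⟨⟨k, S⟩, -, hk, hk0, hS, hSd⟩ :=
    D25.orth_diag (d 0) (d 1) (d 2) (hdc 0) (hdc 1) (hdc 2) hd0.1 hd0.2.1 hd0.2.2
  set RS := R * lift φ S
  have hRSσ : RS.map σ = RS := by
    rw [Matrix.map_mul, hRσ]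
    congr 1
    ext i j
    exact ((hC.conj _).symm.trans (congrArg φ (hS i j)))
  have hφk : φ k ≠ 0 := fun h => hk0 (hC.bij.1 (h.trans hC.zero.symm))
  have hRSB : RSᵀ * B * RS = φ k • (1 : Matrix (Fin 3) (Fin 3) F) := by
    calc RSᵀ * B * RS = (lift φ S)ᵀ * (Rᵀ * B * R) * lift φ S := by
          simp only [RS, transpose_mul, mul_assoc]
      _ = lift φ (D25.ops.diag k k k) := by
          rw [hRBR, show (lift φ S)ᵀ = lift φ (Ops.tp S) from rfl, ← lift_mul hC, ← lift_mul hC, lift_congr hSd]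
      _ = _ := by
          ext i j; fin_cases i <;> fin_cases j <;> simp [lift, Ops.diag] <;> exact hC.zero
  obtain ⟨ν, hν⟩ := exists_norm (σ := σ) hττ hσne (c := (φ k)⁻¹) (by
    rw [map_inv₀, ← hC.conj, hk])
  set Q := ν • (Pm * RS)
  have hQ : Qᵀ * Q.map σ = 1 := by
    rw [show Q.map σ = σ ν • (Pm * RS).map σ by
      ext i j; simp only [Q, Matrix.map_apply, Matrix.smul_apply, smul_eq_mul, map_mul], Matrix.map_mul, hRSσ, transpose_smul,
      smul_mul_smul_comm, hν, transpose_mul,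
      show RSᵀ * Pmᵀ * (Pm.map σ * RS) = RSᵀ * B * RS by simp only [B, mul_assoc], hRSB, smul_smul,
      inv_mul_cancel₀ hφk, one_smul]
  obtain ⟨hW, hWS, hT, hv', hTv, hWout⟩ := D25.orth_other
  refine not_maximal_of_frame hC (fun x => hτ x) hττ (by norm_num) hQ D25.orthRows
    (fun Y => D25.ops.isU Y = true ∧ ∃ l : Fin 25, l ≠ 0 ∧
      ∀ i j, D25.ops.conj (D25.ops.mul l (Y i j)) = D25.ops.mul l (Y i j))
    ?_ ?_ hW hWS ?_ hT hv' hTv
  · rintro g ⟨hg, -⟩ Y hY hYU
    refine ⟨hYU, ?_⟩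
    obtain ⟨_, hM, rfl⟩ := hg
    obtain ⟨_, ⟨N, rfl⟩, z, hz, rfl⟩ := Subgroup.mem_sup_of_normal_right.mp hM
    obtain ⟨c, hcz⟩ := mem_scalars_iff_isScalarMat.mp hz
    set Nm := ((Matrix.GeneralLinearGroup.map (F₀.subtype : F₀ →+* F) N : GL (Fin 3) F) : Matrix (Fin 3) (Fin 3) F)
    have hNσ : Nm.map σ = Nm := by
      ext i j; exact (hmem _).mp ((N : Matrix (Fin 3) (Fin 3) F₀) i j).2
    have hc0 : c ≠ 0 := fun h => by
      rw [h, zero_smul] at hcz
      exact z.ne_zero hcz
    obtain ⟨l, hl⟩ := hC.bij.2 c⁻¹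
    refine ⟨l, fun h => inv_ne_zero hc0 (by rw [← hl, h]; exact hC.zero), fun i j => hC.bij.1 ?_⟩
    rw [hC.conj, hC.mul, hl]
    have hZ : RS * (c⁻¹ • lift φ Y) = Nm * RS := by
      have hPu : IsUnit Pm := P.isUnit
      refine hPu.mul_left_cancel ?_
      have hν0 : ν ≠ 0 := fun h => by
        rw [h, zero_mul] at hν; exact inv_ne_zero hφk hν.symm
      have h2 : (Pm * RS) * lift φ Y = c • (Pm * (Nm * RS)) := by
        apply smul_right_injective (Matrix (Fin 3) (Fin 3) F) hν0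
        show ν • _ = ν • _
        rw [← smul_mul_assoc]
        rw [← hY, mul_smul_comm]
        congr 1
        show ((P * (_ * z) * P⁻¹ : GL (Fin 3) F) : Matrix (Fin 3) (Fin 3) F) * (Pm * RS) = _
        simp only [Units.val_mul, hcz, Pm]
        simp [mul_assoc, Nm]
      rw [mul_smul_comm, mul_smul_comm, ← mul_assoc, h2, smul_smul, inv_mul_cancel₀ hc0, one_smul]
    have hu : IsUnit RS := by
      refine (Matrix.isUnit_iff_isUnit_det _).mpr (Ne.isUnit fun h => hφk ?_)
      have h' := congrArg Matrix.det hRSB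
      rw [det_mul, h, mul_zero, det_smul, det_one, mul_one] at h'
      exact pow_eq_zero_iff (n := 3) (by norm_num) |>.mp h'.symm
    have hX : (c⁻¹ • lift φ Y).map σ = c⁻¹ • lift φ Y := by
      refine hu.mul_left_cancel ?_
      rw [hZ]
      conv_lhs => rw [← hRSσ, ← Matrix.map_mul, hZ, Matrix.map_mul, hNσ, hRSσ]
    exact congrFun (congrFun hX i) j
  · rintro Y ⟨hYU, l, hl0, hl⟩
    obtain ⟨hU, hdY⟩ := (isU_iff hC Y).mp hYU
    set μ := φ l
    have hμ0 : μ ≠ 0 := fun h => hl0 (hC.bij.1 (h.trans hC.zero.symm))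
    set X := μ • lift φ Y
    have hXσ : X.map σ = X := by
      ext i j
      have h := congrArg φ (hl i j)
      rw [hC.conj, hC.mul] at h
      exact h
    have h3 : σ (μ ^ 3) = μ ^ 3 := by
      have h : X.det = μ ^ 3 := by simp [X, det_smul, hdY]
      rw [← h, RingHom.map_det, show σ.mapMatrix X = X.map σ from rfl, hXσ]
    have h12 : μ ^ 12 = 1 := by
      refine mul_left_cancel₀ (pow_ne_zero 3 hμ0) ?_
      rw [mul_one, ← pow_add]
      conv_rhs => rw [← h3]
      show _ = τ (μ ^ 3)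
      rw [hτ, ← pow_mul]
    obtain ⟨Mc, hMc⟩ := hC.exists_mat (μ ^ 4 • lift φ Y)
    have hMU : D25.ops.isU Mc = true := by
      rw [isU_iff hC, hMc]
      refine ⟨?_, by rw [det_smul, hdY, mul_one, Fintype.card_fin, ← pow_mul, h12]⟩
      rw [show (μ ^ 4 • lift φ Y).map σ = σ (μ ^ 4) • (lift φ Y).map σ by ext i j; simp, transpose_smul,
        smul_mul_smul_comm, hU, show σ (μ ^ 4) = τ (μ ^ 4) from rfl, hτ, ← pow_mul, ← pow_add,
        show 4 + 4 * 5 = 12 * 2 from rfl, pow_mul, h12, one_pow, one_smul]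
    have hMr : ∀ i j, D25.ops.conj (Mc i j) = Mc i j := fun i j => hC.bij.1 (by
      have hh : φ (Mc i j) = μ ^ 3 * X i j := by
        rw [show φ (Mc i j) = (μ ^ 4 • lift φ Y) i j from congrFun (congrFun hMc i) j]
        simp [X]; ring
      rw [hC.conj, hh, map_mul, h3]
      congr 1
      exact congrFun (congrFun hXσ i) j)
    obtain ⟨kc, hkc⟩ := hC.bij.2 (μ ^ 8)
    have hk3 : D25.ops.mul kc (D25.ops.mul kc kc) = 1 := hC.bij.1 (by
      rw [hC.mul, hC.mul, hkc, show φ 1 = 1 from hC.one, ← pow_add, ← pow_add,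
        show 8 + (8 + 8) = 12 * 2 from rfl, pow_mul, h12, one_pow])
    have hY' : Y = D25.ops.mulM (D25.ops.diag kc kc kc) Mc := by
      refine lift_injective hC ?_
      rw [lift_mul hC, hMc, show lift φ (D25.ops.diag kc kc kc) = μ ^ 8 • 1 by
        ext i j; fin_cases i <;> fin_cases j <;> simp [lift, Ops.diag, hkc] <;> exact hC.zero,
        smul_mul_smul_comm, one_mul, ← pow_add, h12, one_smul]
    rw [hY']
    obtain ⟨ks, hks⟩ := D25.orth_scalar kc hk3
    rw [show D25.ops.diag kc kc kc = D25.orthL ks from funext₂ hks]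
    refine (stable_chain hC D25.orth_chain.1 D25.orth_chain.2 ks).mul hC ?_
    choose y hy using fun i j => D25.orth_real (Mc i j) (hMr i j)
    have hcol : (fun i => Mc i 0) =
        ![Fin.castLE (by norm_num) (y 0 0), Fin.castLE (by norm_num) (y 1 0), Fin.castLE (by norm_num) (y 2 0)] :=
      funext fun i => by fin_cases i <;> simp [hy]
    have h00 : D25.ops.inner (fun i => Mc i 0) (fun i => Mc i 0) = 1 := by
      have h := hMU
      simp only [Ops.isU, Bool.and_eq_true, decide_eq_true_eq] at h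
      exact h.1 0 0
    rw [hcol] at h00
    obtain ⟨A, hA, hA0, hA1, hA2⟩ := D25.orth_col _ _ _ h00
    rw [← hcol] at hA0 hA1 hA2
    have hAA := List.all_eq_true.mp D25.orth_fix A hA
    simp only [Bool.and_eq_true, decide_eq_true_eq] at hAA
    obtain ⟨⟨⟨ka, hka⟩, hAu⟩, hAi⟩ := hAA
    obtain ⟨C, hCdef⟩ : ∃ C, C = D25.ops.mulM (Ops.tp A) Mc := ⟨_, rfl⟩
    have hCr : ∀ i j, D25.ops.conj (C i j) = C i j := fun i j => hC.bij.1 (by
      rw [hC.conj, hCdef]
      simp only [Ops.mulM, Ops.tp, hC.sum3, hC.mul, map_add, map_mul, ← hC.conj, (hAi _ _).2, hMr])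
    choose z hz using fun i j => D25.orth_real (C i j) (hCr i j)
    have hCa : C = D25.axisMat (z 0 1) (z 0 2) (z 1 1) (z 1 2) (z 2 1) (z 2 2) := by
      have e0 : C 0 0 = 1 := by rw [hCdef]; exact hA0
      have e1 : C 1 0 = 0 := by rw [hCdef]; exact hA1
      have e2 : C 2 0 = 0 := by rw [hCdef]; exact hA2
      funext i j
      fin_cases i <;> fin_cases j <;> simp [D25.axisMat, hz, e0, e1, e2]
    have hCU : D25.ops.isU C = true := hCdef ▸ isU_mul hC hAu hMU
    have hCU' := hCU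
    simp only [Ops.isU, Bool.and_eq_true, decide_eq_true_eq] at hCU'
    have g11 := hCU'.1 1 1
    have g01 := hCU'.1 0 1
    rw [hCa] at g11 g01
    have ec : ∀ j : Fin 3, j ≠ 2 → (fun i => D25.axisMat (z 0 1) (z 0 2) (z 1 1) (z 1 2) (z 2 1) (z 2 2) i j)
        = fun i => D25.axisMat (z 0 1) 0 (z 1 1) 0 (z 2 1) 0 i j := fun j hj => funext fun i => by
      fin_cases i <;> fin_cases j <;> first | rfl | exact absurd rfl hj
    rw [ec 1 (by decide)] at g11
    rw [ec 0 (by decide), ec 1 (by decide)] at g01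
    obtain ⟨kb, hRe⟩ := D25.orth_axis _ _ _ g11 g01 _ _ _ (hCa ▸ hCU)
    have hMC : Mc = D25.ops.mulM A C := by
      refine lift_injective hC ?_
      rw [hCdef, lift_mul hC, lift_mul hC, ← mul_assoc, ← lift_mul hC, lift_congr (fun i j => (hAi i j).1),
        lift_id hC, one_mul]
    rw [hMC, hCa, show D25.axisMat _ _ _ _ _ _ = D25.orthL kb from funext₂ hRe,
      show A = D25.orthL ka from funext₂ hka]
    exact (stable_chain hC D25.orth_chain.1 D25.orth_chain.2 ka).mul hC
      (stable_chain hC D25.orth_chain.1 D25.orth_chain.2 kb)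
  · rintro ⟨-, l, hl0, hl⟩
    obtain ⟨i, j, h⟩ := hWout l hl0
    exact h (hl i j)

set_option maxHeartbeats 1000000 in
/-- over twenty-five elements the normaliser of an extraspecial group of order twenty-seven is not maximal -/
theorem symp_not_maximal (hF : Fintype.card F = 5 ^ 2) {R : Subgroup (GL (Fin 3) F)}
    (hR : IsSymplecticTypeGroup 3 R) (hirr : ActsAbsolutelyIrreducibly (matrixSet R))
    (hsim : R ≤ similarityGroup (Cfsg.hermForm 3 F 5)) (hcard : Nat.card R = 27)
    (hz : Nat.card (Subgroup.center R) = 3) :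
    ∃ L : Subgroup (GL (Fin 3) F), subgroupNormalizer R ⊓ (Cfsg.GU 3 F 5 ⊓ specialLinear (Fin 3) F) < L ∧
      L < Cfsg.GU 3 F 5 ⊓ specialLinear (Fin 3) F := by
  classical
  obtain ⟨τ, hτ, hττ, hne⟩ := Unit.exists_powEquiv hF
  have hf := Unit.isUnitaryForm_hermForm hF 3 hτ hne
  obtain ⟨φ, hC⟩ := exists_code25 (by rw [hF]; norm_num) hτ
  set f := Cfsg.hermForm 3 F 5
  set σ : F →+* F := τ.toRingHom
  have hσne : σ ≠ RingHom.id F := fun h => hne (RingEquiv.ext fun a => RingHom.congr_fun h a)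
  have hexp : ∀ g ∈ R, g ^ 3 = 1 := fun g hg => by
    have h := Monoid.pow_exponent_eq_one (⟨g, hg⟩ : R)
    rw [hR.exponent_eq] at h
    exact congrArg Subtype.val h
  have hRU : R ≤ Cfsg.GU 3 F 5 := le_GU_of_pow_eq_one hF (by norm_num) hsim (r := 3) hexp (by decide)
  have h3F : (3 : F) ≠ 0 := fun h3 => by
    have h5 := FiniteField.cast_card_eq_zero F
    rw [hF] at h5
    push_cast at h5
    exact one_ne_zero (show (1 : F) = 0 by linear_combination h5 - 8 * h3)
  set w := φ D25.omega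
  obtain ⟨homega, homega1, hcubes⟩ := D25.symp_omega
  have hw3 : w ^ 3 = 1 := by
    rw [pow_three]
    show φ _ * (φ _ * φ _) = 1
    rw [← hC.mul, ← hC.mul, homega]; exact hC.one
  have hw1 : w ≠ 1 := fun h => homega1 (hC.bij.1 (h.trans hC.one.symm))
  have hww : w ^ 2 + w + 1 = 0 := by
    refine (mul_eq_zero.mp (show (w - 1) * (w ^ 2 + w + 1) = 0 by linear_combination hw3)).resolve_left
      (sub_ne_zero.mpr hw1)
  -- two generators with commutator `w`
  obtain ⟨x, hx, y, hy, hxy⟩ : ∃ x ∈ R, ∃ y ∈ R, (x : Matrix (Fin 3) (Fin 3) F) * (y : Matrix (Fin 3) (Fin 3) F)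
      = w • ((y : Matrix (Fin 3) (Fin 3) F) * (x : Matrix (Fin 3) (Fin 3) F)) := by
    haveI : Fact (Nat.Prime 3) := ⟨Nat.prime_three⟩
    obtain ⟨a, b, hab⟩ : ∃ a b : R, a * b ≠ b * a := by
      by_contra h
      push Not at h
      have : Subgroup.center R = ⊤ := eq_top_iff.mpr fun a _ => Subgroup.mem_center_iff.mpr fun b => h b a
      rw [this, Subgroup.card_top, hcard] at hz
      omega
    have hq9 : Nat.card (R ⧸ Subgroup.center R) = 3 ^ 2 := by
      have h := Subgroup.card_eq_card_quotient_mul_card_subgroup (Subgroup.center R)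
      rw [hcard, hz] at h
      omega
    have hcomm := IsPGroup.commutative_of_card_eq_prime_sq hq9
      (QuotientGroup.mk a : R ⧸ Subgroup.center R) (QuotientGroup.mk b)
    rw [← QuotientGroup.mk_mul, ← QuotientGroup.mk_mul, QuotientGroup.eq] at hcomm
    set z := (a * b)⁻¹ * (b * a)
    have hba : b * a = a * b * z := (mul_inv_cancel_left _ _).symm
    obtain ⟨μ, hμ⟩ := hirr.2 ((z : GL (Fin 3) F) : Matrix (Fin 3) (Fin 3) F) (by
      rintro _ ⟨g, hg, rfl⟩
      have := congrArg (fun t : R => ((t : GL (Fin 3) F) : Matrix (Fin 3) (Fin 3) F))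
        (Subgroup.mem_center_iff.mp hcomm ⟨g, hg⟩)
      simpa using this.symm)
    have hba' : ((b : GL (Fin 3) F) : Matrix (Fin 3) (Fin 3) F) * ((a : GL (Fin 3) F) : Matrix (Fin 3) (Fin 3) F)
        = μ • (((a : GL (Fin 3) F) : Matrix (Fin 3) (Fin 3) F) * ((b : GL (Fin 3) F) : Matrix (Fin 3) (Fin 3) F)) := by
      have := congrArg (fun t : R => ((t : GL (Fin 3) F) : Matrix (Fin 3) (Fin 3) F)) hba
      simp only [Subgroup.coe_mul, Units.val_mul, hμ, mul_smul_comm, mul_one] at this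
      exact this
    have hμ3 : μ ^ 3 = 1 := by
      have h := congrArg (fun t : GL (Fin 3) F => (t : Matrix (Fin 3) (Fin 3) F) 0 0) (hexp _ z.2)
      simp [hμ, smul_pow] at h
      exact h
    have hμ1 : μ ≠ 1 := fun h => hab (Subtype.ext (Units.ext (by
      rw [h, one_smul] at hba'
      simpa using hba'.symm)))
    obtain ⟨m, hm⟩ := hC.bij.2 μ
    rcases hcubes m (hC.bij.1 (by rw [hC.mul, hC.mul, hm, ← pow_three, hμ3]; exact hC.one.symm))
      with rfl | rfl | rfl
    · exact absurd (hm.symm.trans hC.one) hμ1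
    · exact ⟨b, b.2, a, a.2, by rw [hba', ← hm]⟩
    · refine ⟨a, a.2, b, b.2, ?_⟩
      rw [hba', smul_smul, ← hm, hC.mul, show w * (φ D25.omega * φ D25.omega) = w ^ 3 by rw [pow_three], hw3,
        one_smul]
  set X := (x : Matrix (Fin 3) (Fin 3) F)
  set Ym := (y : Matrix (Fin 3) (Fin 3) F)
  have hpow : ∀ g ∈ R, (g : Matrix (Fin 3) (Fin 3) F) * ((g : Matrix (Fin 3) (Fin 3) F) * (g : Matrix (Fin 3) (Fin 3) F)) = 1 :=
    fun g hg => by
      have h := congrArg (fun t : GL (Fin 3) F => (t : Matrix (Fin 3) (Fin 3) F)) (hexp g hg)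
      rw [pow_three] at h
      simpa using h
  have hiso : ∀ g ∈ R, ∀ u v, f ((g : Matrix (Fin 3) (Fin 3) F) *ᵥ u) ((g : Matrix (Fin 3) (Fin 3) F) *ᵥ v) = f u v :=
    fun g hg u v => hRU hg u v
  have hY' : Ym * (Ym * Ym) = 1 := hpow y hy
  have hXY : ∀ u, X *ᵥ Ym *ᵥ u = w • (Ym *ᵥ X *ᵥ u) := fun u => by
    rw [mulVec_mulVec, hxy, smul_mulVec, ← mulVec_mulVec]
  -- a vector fixed by the first generator
  obtain ⟨v, hv0, hv⟩ : ∃ v : Fin 3 → F, v ≠ 0 ∧ X *ᵥ v = v := by
    set u : Fin 3 → F := Pi.single 0 1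
    let pr : F → Fin 3 → F := fun l => u + l ^ 2 • (X *ᵥ u) + l • (X *ᵥ X *ᵥ u)
    have hX3 : X *ᵥ X *ᵥ X *ᵥ u = u := by
      rw [mulVec_mulVec, mulVec_mulVec, mul_assoc, hpow x hx, one_mulVec]
    have hpr : ∀ l : F, l ^ 3 = 1 → X *ᵥ pr l = l • pr l := fun l hl => by
      simp only [pr, mulVec_add, mulVec_smul, hX3, smul_add, smul_smul, ← pow_succ', hl, one_smul, ← sq]
      abel
    have hsum : pr 1 + pr w + pr (w ^ 2) = (3 : F) • u := by
      funext r
      simp only [pr, Pi.add_apply, Pi.smul_apply, smul_eq_mul]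
      linear_combination ((X *ᵥ u) r + (X *ᵥ X *ᵥ u) r) * hww + (w * (X *ᵥ u) r) * hw3
    obtain ⟨m, hm, hne'⟩ : ∃ m : ℕ, m < 3 ∧ pr (w ^ m) ≠ 0 := by
      by_contra h
      push Not at h
      have e0 := h 0 (by norm_num); have e1 := h 1 (by norm_num); have e2 := h 2 (by norm_num)
      rw [pow_zero] at e0; rw [pow_one] at e1
      rw [e0, e1, e2, add_zero, add_zero] at hsum
      exact (smul_ne_zero h3F (by simp [u] : u ≠ 0)) hsum.symm
    have hp3 : (w ^ m) ^ 3 = 1 := by rw [← pow_mul, mul_comm, pow_mul, hw3, one_pow]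
    have hy0 : ∀ z : Fin 3 → F, z ≠ 0 → Ym *ᵥ z ≠ 0 := fun z hz h => hz (by
      have h' := congrArg (fun t => (Ym * Ym) *ᵥ t) h
      simp only [mulVec_mulVec, mulVec_zero, mul_assoc, hY', one_mulVec] at h'
      exact h')
    interval_cases m
    · exact ⟨_, hne', by rw [hpr _ hp3, pow_zero, one_smul]⟩
    · refine ⟨_, hy0 _ (hy0 _ hne'), ?_⟩
      rw [hXY, hXY, hpr _ hp3, mulVec_smul, mulVec_smul, mulVec_smul, smul_smul, smul_smul, pow_one,
        ← pow_three', hw3, one_smul]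
    · refine ⟨_, hy0 _ hne', ?_⟩
      rw [hXY, hpr _ hp3, mulVec_smul, smul_smul, ← pow_succ', hw3, one_smul]
  let vs : Fin 3 → Fin 3 → F := ![v, Ym *ᵥ v, Ym *ᵥ Ym *ᵥ v]
  have hXv : ∀ m : Fin 3, X *ᵥ vs m = w ^ (m : ℕ) • vs m := fun m => by
    fin_cases m
    · simp [vs, hv]
    · show X *ᵥ Ym *ᵥ v = _
      rw [hXY, hv]; simp [vs]
    · show X *ᵥ Ym *ᵥ Ym *ᵥ v = _
      rw [hXY, hXY, hv, mulVec_smul, smul_smul, ← sq]; rfl
  have hτw : τ w = w ^ 2 := by
    rw [hτ, show 5 = 3 + 2 from rfl, pow_add, hw3, one_mul]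
  have horth : ∀ i j, i ≠ j → f (vs i) (vs j) = 0 := fun i j hij => by
    have h := hiso x hx (vs i) (vs j)
    rw [hXv, hXv, hf.smul_left, Unit.smul_right hf, map_pow, hτw, ← mul_assoc, ← pow_mul, ← pow_add] at h
    by_contra hne'
    have hone : w ^ ((i : ℕ) + 2 * (j : ℕ)) = 1 := by
      refine mul_right_cancel₀ hne' ?_
      rw [h, one_mul]
    have ho : orderOf w = 3 := by
      haveI : Fact (Nat.Prime 3) := ⟨Nat.prime_three⟩
      exact orderOf_eq_prime hw3 hw1
    have hd3 := ho ▸ orderOf_dvd_of_pow_eq_one hone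
    revert hd3
    fin_cases i <;> fin_cases j <;> simp at hij ⊢
  have hdiag : ∀ i, f (vs i) (vs i) = f v v := fun i => by
    fin_cases i
    · rfl
    · exact hiso y hy v v
    · exact (hiso y hy _ _).trans (hiso y hy v v)
  let Q₀ : Matrix (Fin 3) (Fin 3) F := Matrix.of fun r j => vs j r
  have hG : Q₀ᵀ * Q₀.map σ = f v v • (1 : Matrix (Fin 3) (Fin 3) F) := by
    ext i j
    rw [show (Q₀ᵀ * Q₀.map σ) i j = f (vs i) (vs j) by
      simp only [f, Cfsg.hermForm, Q₀, Matrix.mul_apply, transpose_apply, Matrix.map_apply, Matrix.of_apply]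
      exact Finset.sum_congr rfl fun r _ => congrArg _ (hτ _)]
    rcases eq_or_ne i j with rfl | h
    · simp [hdiag]
    · simp [horth i j h, h]
  have hvv : f v v ≠ 0 := fun h0 => by
    have hd : Q₀.det ≠ 0 := fun hd => by
      obtain ⟨c, hc0, hc⟩ := Matrix.exists_mulVec_eq_zero_iff.mpr hd
      have hsum : c 0 • vs 0 + c 1 • vs 1 + c 2 • vs 2 = 0 := by
        rw [← hc]; ext r
        simp [Q₀, Matrix.mulVec, dotProduct, Fin.sum_univ_three, mul_comm]
      have h1 := congrArg (fun t => X *ᵥ t) hsum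
      simp only [mulVec_add, mulVec_smul, mulVec_zero, hXv, smul_smul, Fin.val_zero, Fin.val_one, Fin.val_two,
        pow_zero, pow_one, mul_one] at h1
      have h2 := congrArg (fun t => X *ᵥ t) h1
      simp only [mulVec_add, mulVec_smul, mulVec_zero, hXv, smul_smul, Fin.val_zero, Fin.val_one, Fin.val_two,
        pow_zero, pow_one, mul_one] at h2
      have hvs : ∀ i, vs i ≠ 0 := fun i h => by
        fin_cases i
        · exact hv0 h
        · exact hv0 (by
            have h' := congrArg (fun t => (Ym * Ym) *ᵥ t) (show Ym *ᵥ v = 0 from h)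
            simpa only [mulVec_mulVec, mulVec_zero, mul_assoc, hY', one_mulVec] using h')
        · exact hv0 (by
            have h' := congrArg (fun t => Ym *ᵥ t) (show Ym *ᵥ Ym *ᵥ v = 0 from h)
            simpa only [mulVec_mulVec, mulVec_zero, hY', one_mulVec] using h')
      have key : (3 * c 0) • vs 0 = 0 ∧ (3 * c 1) • vs 1 = 0 ∧ (3 * c 2) • vs 2 = 0 := by
        refine ⟨?_, ?_, ?_⟩ <;> funext r <;>
          (have a0 := congrFun hsum r; have a1 := congrFun h1 r; have a2 := congrFun h2 r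
           simp only [Pi.add_apply, Pi.smul_apply, Pi.zero_apply, smul_eq_mul] at a0 a1 a2 ⊢)
        · linear_combination a0 + a1 + a2 - (c 1 * vs 1 r + c 2 * vs 2 r) * hww - (w * c 2 * vs 2 r) * hw3
        · linear_combination a0 + w ^ 2 * a1 + w * a2 - (c 0 * vs 0 r + c 2 * vs 2 r) * hww
            - (2 * c 1 * vs 1 r + (w + w ^ 2) * c 2 * vs 2 r) * hw3
        · linear_combination a0 + w * a1 + w ^ 2 * a2 - (c 0 * vs 0 r + c 1 * vs 1 r) * hww
            - (w * c 1 * vs 1 r + (2 + w ^ 3) * c 2 * vs 2 r) * hw3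
      refine hc0 (funext fun i => ?_)
      fin_cases i
      · exact (mul_eq_zero.mp ((smul_eq_zero.mp key.1).resolve_right (hvs 0))).resolve_left h3F
      · exact (mul_eq_zero.mp ((smul_eq_zero.mp key.2.1).resolve_right (hvs 1))).resolve_left h3F
      · exact (mul_eq_zero.mp ((smul_eq_zero.mp key.2.2).resolve_right (hvs 2))).resolve_left h3F
    have h := congrArg Matrix.det hG
    rw [h0, zero_smul, det_zero, det_mul, det_transpose, show Q₀.map σ = σ.mapMatrix Q₀ from rfl,
      ← RingHom.map_det] at h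
    exact mul_ne_zero hd (fun e => hd (σ.injective (e.trans (map_zero σ).symm))) h
  obtain ⟨ν, hν⟩ := exists_norm (σ := σ) hττ hσne (c := (f v v)⁻¹) (by
    rw [map_inv₀]; exact congrArg _ (Unit.self_fixed hf v))
  set Q := ν • Q₀
  have hQ : Qᵀ * Q.map σ = 1 := by
    rw [show Q.map σ = σ ν • Q₀.map σ by ext i j; simp [Q], transpose_smul, smul_mul_smul_comm, hν, hG,
      smul_smul, inv_mul_cancel₀ hvv, one_smul]
  have hQi : (Q.map σ)ᵀ * Q = 1 := by
    have h := congrArg Matrix.transpose hQ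
    rw [transpose_mul, transpose_transpose, transpose_one] at h
    exact h
  have hXQ : X * Q = Q * lift φ D25.sympX := by
    rw [mul_smul_comm, smul_mul_assoc]
    congr 1
    ext r j
    rw [show (X * Q₀) r j = (X *ᵥ vs j) r from rfl, hXv]
    fin_cases j <;>
      simp [Q₀, lift, D25.sympX, Ops.diag, Matrix.mul_apply, Fin.sum_univ_three, hC.mul,
        show φ (0 : Fin 25) = 0 from hC.zero, show φ (1 : Fin 25) = 1 from hC.one,
        show φ D25.ops.zero = 0 from hC.zero, w] <;>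
      ring
  have hYQ : Ym * Q = Q * lift φ D25.sympY := by
    rw [mul_smul_comm, smul_mul_assoc]
    congr 1
    ext r j
    rw [show (Ym * Q₀) r j = (Ym *ᵥ vs j) r from rfl]
    have hY3 : Ym *ᵥ Ym *ᵥ Ym *ᵥ v = v := by
      rw [mulVec_mulVec, mulVec_mulVec, mul_assoc, hY', one_mulVec]
    fin_cases j <;>
      simp [-mulVec_mulVec, Q₀, vs, hY3, lift, D25.sympY, Matrix.mul_apply, Fin.sum_univ_three,
        show φ (0 : Fin 25) = 0 from hC.zero, show φ (1 : Fin 25) = 1 from hC.one]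
  -- every member of the group is a product of the generators
  obtain ⟨hprod, hinj⟩ := D25.symp_prod
  have hscal : ∀ k : Fin 3, ∃ g ∈ R, (g : Matrix (Fin 3) (Fin 3) F) * Q
      = Q * lift φ (![D25.ops.id3, D25.ops.diag D25.omega D25.omega D25.omega,
        D25.ops.diag (D25.ops.mul D25.omega D25.omega) (D25.ops.mul D25.omega D25.omega)
          (D25.ops.mul D25.omega D25.omega)] k) := by
    have hdiag' : ∀ a, lift φ (D25.ops.diag a a a) = φ a • (1 : Matrix (Fin 3) (Fin 3) F) := fun a => by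
      ext i j; fin_cases i <;> fin_cases j <;> simp [lift, Ops.diag] <;> exact hC.zero
    have hw' : (((x * y * x⁻¹ * y⁻¹ : GL (Fin 3) F)) : Matrix (Fin 3) (Fin 3) F) = w • 1 := by
      rw [Units.val_mul, Units.val_mul, Units.val_mul, show (x : Matrix (Fin 3) (Fin 3) F) * y = _ from hxy,
        smul_mul_assoc, smul_mul_assoc]
      simp [X, Ym, mul_assoc]
    have hmem' : x * y * x⁻¹ * y⁻¹ ∈ R := R.mul_mem (R.mul_mem (R.mul_mem hx hy) (R.inv_mem hx)) (R.inv_mem hy)
    intro k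
    fin_cases k
    · exact ⟨1, R.one_mem, by simp [lift_id hC]⟩
    · refine ⟨_, hmem', ?_⟩
      rw [hw']; simp [hdiag', w]
    · refine ⟨_, R.mul_mem hmem' hmem', ?_⟩
      rw [Units.val_mul, hw']
      simp [hdiag', w, hC.mul, smul_smul]
  have hgen : ∀ e : Fin 3 × Fin 3 × Fin 3, ∃ g : R,
      ((g : GL (Fin 3) F) : Matrix (Fin 3) (Fin 3) F) * Q = Q * lift φ (D25.sympProd e) := by
    rintro ⟨a, b, k⟩
    have hstep : ∀ {g h : GL (Fin 3) F} {A B : Mat 25},
        (g : Matrix (Fin 3) (Fin 3) F) * Q = Q * lift φ A → (h : Matrix (Fin 3) (Fin 3) F) * Q = Q * lift φ B →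
        ((g * h : GL (Fin 3) F) : Matrix (Fin 3) (Fin 3) F) * Q = Q * lift φ (D25.ops.mulM A B) :=
      fun {g h A B} h1 h2 => by
        rw [Units.val_mul, mul_assoc, h2, ← mul_assoc, h1, mul_assoc, lift_mul hC]
    obtain ⟨gs, hgs, hgsq⟩ := hscal k
    obtain ⟨ga, hga, hgaq⟩ : ∃ g ∈ R, (g : Matrix (Fin 3) (Fin 3) F) * Q
        = Q * lift φ (![D25.ops.id3, D25.sympX, D25.ops.mulM D25.sympX D25.sympX] a) := by
      fin_cases a
      · exact ⟨1, R.one_mem, by simp [lift_id hC]⟩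
      · exact ⟨x, hx, hXQ⟩
      · exact ⟨x * x, R.mul_mem hx hx, hstep hXQ hXQ⟩
    obtain ⟨gb, hgb, hgbq⟩ : ∃ g ∈ R, (g : Matrix (Fin 3) (Fin 3) F) * Q
        = Q * lift φ (![D25.ops.id3, D25.sympY, D25.ops.mulM D25.sympY D25.sympY] b) := by
      fin_cases b
      · exact ⟨1, R.one_mem, by simp [lift_id hC]⟩
      · exact ⟨y, hy, hYQ⟩
      · exact ⟨y * y, R.mul_mem hy hy, hstep hYQ hYQ⟩
    exact ⟨⟨ga * gb * gs, R.mul_mem (R.mul_mem hga hgb) hgs⟩, hstep (hstep hgaq hgbq) hgsq⟩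
  choose G hG' using hgen
  have hGinj : Function.Injective G := fun e e' h => hinj e e' fun i j => by
    have h' : Q * lift φ (D25.sympProd e) = Q * lift φ (D25.sympProd e') := by rw [← hG', ← hG', h]
    have h'' := congrArg (fun N => (Q.map σ)ᵀ * N) h'
    simp only [← mul_assoc, hQi, one_mul] at h''
    exact congrFun (congrFun (lift_injective hC h'') i) j
  have hGbij : Function.Bijective G := (Nat.bijective_iff_injective_and_card G).mpr
    ⟨hGinj, by rw [hcard]; simp⟩
  have hcode : ∀ g ∈ R, ∃ r ∈ D25.sympR, (g : Matrix (Fin 3) (Fin 3) F) * Q = Q * lift φ r := fun g hg => by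
    obtain ⟨e, he⟩ := hGbij.2 ⟨g, hg⟩
    obtain ⟨r, hr, hre⟩ := hprod e
    exact ⟨r, hr, by rw [← lift_congr hre, ← hG', he]⟩
  obtain ⟨hW, hWS, hT, hv', hTv, -, hWout⟩ := D25.symp_other
  refine not_maximal_of_frame hC (fun x => hτ x) hττ (by norm_num) hQ D25.sympRows
    (fun Z => D25.ops.isU Z = true ∧
      (∃ r ∈ D25.sympR, ∀ i j, D25.ops.mulM Z D25.sympX i j = D25.ops.mulM r Z i j) ∧
      ∃ r ∈ D25.sympR, ∀ i j, D25.ops.mulM Z D25.sympY i j = D25.ops.mulM r Z i j)
    ?_ ?_ hW hWS ?_ hT hv' hTv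
  · rintro g ⟨hgN, -⟩ Z hZ hZU
    have hconj : ∀ h ∈ R, ∀ A : Mat 25, (h : Matrix (Fin 3) (Fin 3) F) * Q = Q * lift φ A →
        ∃ r ∈ D25.sympR, ∀ i j, D25.ops.mulM Z A i j = D25.ops.mulM r Z i j := by
      intro h hh A hA
      obtain ⟨r, hr, hrq⟩ := hcode _ ((Subgroup.mem_normalizer_iff.mp hgN h).mp hh)
      refine ⟨r, hr, fun i j => ?_⟩
      have h' : Q * lift φ (D25.ops.mulM Z A) = Q * lift φ (D25.ops.mulM r Z) := by
        rw [lift_mul hC, lift_mul hC, ← mul_assoc, ← hZ, mul_assoc, ← hA, ← mul_assoc, ← mul_assoc, ← hrq,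
          mul_assoc ((g * h * g⁻¹ : GL (Fin 3) F) : Matrix (Fin 3) (Fin 3) F), ← hZ]
        simp [mul_assoc]
      have h'' := congrArg (fun N => (Q.map σ)ᵀ * N) h'
      simp only [← mul_assoc, hQi, one_mul] at h''
      exact congrFun (congrFun (lift_injective hC h'') i) j
    exact ⟨hZU, hconj x hx _ hXQ, hconj y hy _ hYQ⟩
  · rintro Z ⟨hZU, ⟨r, hr, hrX⟩, r', hr', hrY⟩
    have hZX : lift φ Z * lift φ D25.sympX = lift φ r * lift φ Z := by
      rw [← lift_mul hC, ← lift_mul hC, lift_congr hrX]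
    obtain ⟨-, hdZ⟩ := (isU_iff hC Z).mp hZU
    have hZu : IsUnit (lift φ Z) := (Matrix.isUnit_iff_isUnit_det _).mpr (hdZ ▸ isUnit_one)
    rcases (decide_eq_true_eq.mp (List.all_eq_true.mp D25.symp_step r hr)) with ⟨a, ha⟩ | ⟨p, hp, hpr⟩
    · exfalso
      rw [show lift φ r = φ a • (1 : Matrix (Fin 3) (Fin 3) F) by
        rw [lift_congr ha]; ext i j; fin_cases i <;> fin_cases j <;> simp [lift, Ops.diag] <;> exact hC.zero,
        smul_mul_assoc, one_mul] at hZX
      have h : lift φ D25.sympX = φ a • 1 := hZu.mul_left_cancel (by rw [hZX, mul_smul_comm, mul_one])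
      have e0 := congrFun (congrFun h 0) 0
      have e1 := congrFun (congrFun h 1) 1
      simp [lift, D25.sympX, Ops.diag] at e0 e1
      exact homega1 (hC.bij.1 (e1.trans e0.symm))
    · have hpl := List.all_eq_true.mp D25.symp_lift p hp
      simp only [Bool.and_eq_true, decide_eq_true_eq] at hpl
      obtain ⟨⟨⟨kp, hkp⟩, hpu⟩, hpi⟩ := hpl
      obtain ⟨r'', hr'', he⟩ := List.any_eq_true.mp (List.all_eq_true.mp (List.all_eq_true.mp D25.symp_conj p hp) r' hr')
      rw [decide_eq_true_eq] at he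
      obtain ⟨B, hB⟩ : ∃ B, B = D25.ops.mulM p.2 Z := ⟨_, rfl⟩
      have hBX : lift φ B * lift φ D25.sympX = lift φ D25.sympX * lift φ B := by
        rw [hB, lift_mul hC, mul_assoc, hZX, ← mul_assoc, ← lift_mul hC p.2, lift_congr hpr, lift_mul hC, mul_assoc]
      have hBY : ∀ i j, D25.ops.mulM B D25.sympY i j = D25.ops.mulM r'' B i j := by
        have h : lift φ (D25.ops.mulM B D25.sympY) = lift φ (D25.ops.mulM r'' B) := by
          rw [lift_mul hC, lift_mul hC, hB, lift_mul hC, mul_assoc, ← lift_mul hC Z, lift_congr hrY, lift_mul hC,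
            ← mul_assoc, ← lift_mul hC p.2, lift_congr he, lift_mul hC, mul_assoc]
        exact fun i j => congrFun (congrFun (lift_injective hC h) i) j
      have hBd : B = D25.ops.diag (B 0 0) (B 1 1) (B 2 2) := by
        funext i j
        by_cases h : i = j
        · subst h; fin_cases i <;> simp [Ops.diag]
        · refine hC.bij.1 ?_
          rw [show D25.ops.diag (B 0 0) (B 1 1) (B 2 2) i j = D25.ops.zero by simp [Ops.diag, h], hC.zero]
          have e := congrFun (congrFun hBX i) j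
          fin_cases i <;> fin_cases j <;> simp at h <;>
            simp [lift, D25.sympX, Ops.diag, Matrix.mul_apply, Fin.sum_univ_three, hC.mul,
              show φ D25.ops.zero = 0 from hC.zero, show φ (1 : Fin 25) = 1 from hC.one] at e ⊢ <;>
            grind
      have hBU : D25.ops.isU B = true := hB ▸ isU_mul hC hpu hZU
      have hZ' : Z = D25.ops.mulM p.1 B := by
        refine lift_injective hC ?_
        rw [hB, lift_mul hC, lift_mul hC, ← mul_assoc, ← lift_mul hC, lift_congr hpi, lift_id hC, one_mul]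
      obtain ⟨ga, gb⟩ := D25.diag_guard (hBd ▸ hBU)
      obtain ⟨kd, hkd⟩ := D25.symp_diag _ ga _ gb _ (hBd ▸ hBU)
        ⟨r'', hr'', fun i j => by rw [← hBd]; exact hBY i j⟩
      rw [hZ', hBd, show p.1 = D25.sympL kp from funext₂ hkp,
        show D25.ops.diag _ _ _ = D25.sympL kd from funext₂ hkd]
      exact (stable_chain hC D25.symp_chain.1 D25.symp_chain.2 kp).mul hC
        (stable_chain hC D25.symp_chain.1 D25.symp_chain.2 kd)
  · rintro ⟨-, ⟨r, hr, hrW⟩, -⟩
    obtain ⟨i, j, h⟩ := decide_eq_true_eq.mp (List.all_eq_true.mp hWout r hr)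
    exact h (hrW i j)

end CfsgLib.Asch.Three
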