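import Cfsg.Agent.Lib.Aschbacher.SuThreeDataFive

/-!
# Generators of the groups stabilising the sets over twenty-five elements
-/

set_option autoImplicit false

namespace CfsgLib.Asch.Three.D25

/-- generators for the stabiliser of the lines set -/
def linesG : List (Mat 25) :=
  [![![0, 0, 1], ![18, 0, 0], ![0, 13, 0]],
    ![![0, 18, 0], ![17, 0, 0], ![0, 0, 1]],
    ![![0, 0, 12], ![0, 13, 0], ![1, 0, 0]]]

/-- products of the generators -/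
def linesL : Fin 92 → Mat 25 :=
  ![![![1, 0, 0], ![0, 1, 0], ![0, 0, 1]],
    ![![0, 0, 1], ![18, 0, 0], ![0, 13, 0]],
    ![![0, 18, 0], ![17, 0, 0], ![0, 0, 1]],
    ![![0, 0, 12], ![0, 13, 0], ![1, 0, 0]],
    ![![0, 13, 0], ![0, 0, 18], ![1, 0, 0]],
    ![![17, 0, 0], ![0, 0, 17], ![0, 13, 0]],
    ![![0, 4, 0], ![1, 0, 0], ![0, 0, 1]],
    ![![0, 0, 1], ![0, 17, 0], ![18, 0, 0]],
    ![![4, 0, 0], ![0, 4, 0], ![0, 0, 1]],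
    ![![0, 0, 12], ![18, 0, 0], ![0, 18, 0]],
    ![![1, 0, 0], ![0, 0, 13], ![0, 12, 0]],
    ![![0, 1, 0], ![0, 0, 1], ![1, 0, 0]],
    ![![12, 0, 0], ![0, 12, 0], ![0, 0, 12]],
    ![![0, 0, 17], ![0, 18, 0], ![1, 0, 0]],
    ![![12, 0, 0], ![0, 0, 1], ![0, 13, 0]],
    ![![0, 13, 0], ![4, 0, 0], ![0, 0, 18]],
    ![![0, 0, 4], ![12, 0, 0], ![0, 13, 0]],
    ![![0, 4, 0], ![0, 0, 18], ![17, 0, 0]],
    ![![0, 0, 1], ![0, 12, 0], ![13, 0, 0]],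
    ![![18, 0, 0], ![0, 13, 0], ![0, 0, 1]],
    ![![18, 0, 0], ![0, 0, 18], ![0, 18, 0]],
    ![![0, 4, 0], ![0, 0, 17], ![18, 0, 0]],
    ![![13, 0, 0], ![0, 18, 0], ![0, 0, 1]],
    ![![0, 0, 12], ![0, 17, 0], ![4, 0, 0]],
    ![![0, 18, 0], ![0, 0, 13], ![1, 0, 0]],
    ![![17, 0, 0], ![0, 0, 1], ![0, 18, 0]],
    ![![0, 12, 0], ![18, 0, 0], ![0, 0, 12]],
    ![![0, 17, 0], ![0, 0, 12], ![1, 0, 0]],
    ![![1, 0, 0], ![0, 18, 0], ![0, 0, 13]],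
    ![![0, 0, 18], ![0, 17, 0], ![1, 0, 0]],
    ![![0, 0, 17], ![0, 4, 0], ![12, 0, 0]],
    ![![1, 0, 0], ![0, 0, 4], ![0, 1, 0]],
    ![![12, 0, 0], ![0, 1, 0], ![0, 0, 17]],
    ![![0, 13, 0], ![13, 0, 0], ![0, 0, 13]],
    ![![0, 0, 18], ![0, 1, 0], ![17, 0, 0]],
    ![![12, 0, 0], ![0, 18, 0], ![0, 0, 18]],
    ![![0, 13, 0], ![0, 0, 12], ![4, 0, 0]],
    ![![0, 4, 0], ![4, 0, 0], ![0, 0, 4]],
    ![![17, 0, 0], ![0, 12, 0], ![0, 0, 1]],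
    ![![0, 0, 17], ![0, 13, 0], ![17, 0, 0]],
    ![![13, 0, 0], ![0, 0, 18], ![0, 4, 0]],
    ![![0, 13, 0], ![0, 0, 17], ![13, 0, 0]],
    ![![0, 1, 0], ![4, 0, 0], ![0, 0, 1]],
    ![![0, 0, 12], ![0, 12, 0], ![18, 0, 0]],
    ![![0, 0, 17], ![4, 0, 0], ![0, 18, 0]],
    ![![0, 13, 0], ![0, 0, 1], ![18, 0, 0]],
    ![![18, 0, 0], ![0, 12, 0], ![0, 0, 18]],
    ![![0, 0, 4], ![0, 13, 0], ![18, 0, 0]],
    ![![0, 0, 1], ![1, 0, 0], ![0, 1, 0]],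
    ![![0, 0, 12], ![0, 1, 0], ![13, 0, 0]],
    ![![0, 4, 0], ![0, 0, 1], ![4, 0, 0]],
    ![![18, 0, 0], ![0, 18, 0], ![0, 0, 12]],
    ![![1, 0, 0], ![0, 17, 0], ![0, 0, 12]],
    ![![0, 0, 1], ![0, 4, 0], ![1, 0, 0]],
    ![![0, 18, 0], ![4, 0, 0], ![0, 0, 13]],
    ![![0, 0, 18], ![12, 0, 0], ![0, 18, 0]],
    ![![17, 0, 0], ![0, 1, 0], ![0, 0, 12]],
    ![![1, 0, 0], ![0, 4, 0], ![0, 0, 4]],
    ![![1, 0, 0], ![0, 0, 17], ![0, 18, 0]],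
    ![![17, 0, 0], ![0, 17, 0], ![0, 0, 17]],
    ![![0, 0, 12], ![17, 0, 0], ![0, 1, 0]],
    ![![0, 18, 0], ![1, 0, 0], ![0, 0, 17]],
    ![![0, 0, 13], ![0, 1, 0], ![12, 0, 0]],
    ![![1, 0, 0], ![0, 13, 0], ![0, 0, 18]],
    ![![4, 0, 0], ![0, 1, 0], ![0, 0, 4]],
    ![![12, 0, 0], ![0, 13, 0], ![0, 0, 4]],
    ![![0, 1, 0], ![0, 0, 12], ![17, 0, 0]],
    ![![1, 0, 0], ![0, 12, 0], ![0, 0, 17]],
    ![![0, 18, 0], ![0, 0, 1], ![13, 0, 0]],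
    ![![13, 0, 0], ![0, 1, 0], ![0, 0, 18]],
    ![![12, 0, 0], ![0, 17, 0], ![0, 0, 1]],
    ![![13, 0, 0], ![0, 4, 0], ![0, 0, 12]],
    ![![0, 13, 0], ![17, 0, 0], ![0, 0, 17]],
    ![![18, 0, 0], ![0, 1, 0], ![0, 0, 13]],
    ![![13, 0, 0], ![0, 12, 0], ![0, 0, 4]],
    ![![4, 0, 0], ![0, 13, 0], ![0, 0, 12]],
    ![![4, 0, 0], ![0, 12, 0], ![0, 0, 13]],
    ![![0, 0, 17], ![0, 1, 0], ![18, 0, 0]],
    ![![12, 0, 0], ![0, 4, 0], ![0, 0, 13]],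
    ![![0, 18, 0], ![0, 0, 17], ![4, 0, 0]],
    ![![0, 18, 0], ![18, 0, 0], ![0, 0, 18]],
    ![![4, 0, 0], ![0, 0, 1], ![0, 1, 0]],
    ![![18, 0, 0], ![0, 4, 0], ![0, 0, 17]],
    ![![17, 0, 0], ![0, 13, 0], ![0, 0, 13]],
    ![![0, 1, 0], ![1, 0, 0], ![0, 0, 4]],
    ![![17, 0, 0], ![0, 18, 0], ![0, 0, 4]],
    ![![13, 0, 0], ![0, 17, 0], ![0, 0, 13]],
    ![![4, 0, 0], ![0, 18, 0], ![0, 0, 17]],
    ![![13, 0, 0], ![0, 13, 0], ![0, 0, 17]],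
    ![![4, 0, 0], ![0, 17, 0], ![0, 0, 18]],
    ![![17, 0, 0], ![0, 4, 0], ![0, 0, 18]],
    ![![18, 0, 0], ![0, 17, 0], ![0, 0, 4]]]

/-- the previous product -/
def linesPar : Fin 92 → Fin 92 :=
  ![0, 0, 0, 0, 1, 1, 1, 2, 2, 2, 3, 3, 3, 4, 4, 5, 5, 5, 6, 6, 7, 7, 7, 8, 9, 9, 10, 10, 11, 11, 12, 13, 13, 14, 15, 15, 16, 16, 17, 17, 18, 18, 19, 19, 20, 20, 21, 21, 22, 22, 23, 23, 24, 24, 25, 25, 26, 27, 29, 30, 31, 32, 33, 34, 36, 37, 39, 39, 40, 41, 42, 43, 44, 45, 47, 49, 50, 51, 54, 55, 58, 60, 61, 62, 65, 66, 68, 72, 77, 79, 80, 84]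

/-- generators for the stabiliser of the orth set -/
def orthG : List (Mat 25) :=
  [![![21, 17, 13], ![17, 13, 9], ![17, 21, 17]],
    ![![12, 6, 18], ![18, 12, 24], ![24, 18, 18]]]

/-- products of the generators -/
def orthL : Fin 129 → Mat 25 :=
  ![![![1, 0, 0], ![0, 1, 0], ![0, 0, 1]],
    ![![21, 17, 13], ![17, 13, 9], ![17, 21, 17]],
    ![![12, 6, 18], ![18, 12, 24], ![24, 18, 18]],
    ![![18, 18, 6], ![18, 6, 18], ![24, 12, 12]],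
    ![![0, 0, 4], ![0, 4, 0], ![4, 0, 0]],
    ![![0, 1, 0], ![1, 0, 0], ![0, 0, 4]],
    ![![17, 9, 17], ![9, 17, 17], ![17, 17, 9]],
    ![![4, 4, 2], ![4, 3, 1], ![3, 4, 1]],
    ![![13, 9, 13], ![13, 17, 21], ![9, 13, 17]],
    ![![17, 13, 9], ![21, 17, 13], ![13, 9, 13]],
    ![![12, 24, 18], ![6, 18, 12], ![12, 12, 6]],
    ![![17, 21, 17], ![13, 17, 21], ![21, 17, 13]],
    ![![6, 12, 12], ![12, 18, 6], ![18, 24, 12]],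
    ![![18, 12, 24], ![12, 6, 18], ![6, 12, 12]],
    ![![1, 4, 2], ![3, 1, 4], ![4, 2, 4]],
    ![![21, 17, 17], ![17, 13, 21], ![13, 9, 17]],
    ![![6, 18, 18], ![12, 24, 12], ![12, 12, 24]],
    ![![18, 6, 18], ![18, 18, 6], ![6, 18, 18]],
    ![![4, 1, 2], ![4, 2, 1], ![2, 4, 4]],
    ![![24, 12, 12], ![12, 24, 12], ![18, 18, 6]],
    ![![0, 4, 0], ![0, 0, 4], ![1, 0, 0]],
    ![![13, 21, 13], ![13, 13, 21], ![21, 13, 13]],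
    ![![18, 18, 24], ![6, 18, 12], ![12, 24, 18]],
    ![![0, 0, 1], ![4, 0, 0], ![0, 4, 0]],
    ![![9, 17, 13], ![17, 9, 13], ![17, 17, 21]],
    ![![0, 0, 4], ![4, 0, 0], ![0, 1, 0]],
    ![![13, 13, 21], ![21, 13, 13], ![13, 21, 13]],
    ![![12, 0, 0], ![0, 12, 0], ![0, 0, 12]],
    ![![2, 1, 4], ![1, 2, 4], ![1, 1, 3]],
    ![![4, 3, 1], ![4, 4, 2], ![2, 1, 4]],
    ![![0, 13, 0], ![0, 0, 17], ![13, 0, 0]],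
    ![![3, 4, 1], ![1, 2, 4], ![4, 4, 2]],
    ![![13, 17, 21], ![13, 9, 13], ![21, 17, 13]],
    ![![3, 1, 1], ![4, 2, 1], ![4, 1, 2]],
    ![![17, 21, 17], ![9, 13, 17], ![13, 17, 21]],
    ![![13, 9, 13], ![9, 13, 17], ![17, 13, 9]],
    ![![18, 18, 24], ![24, 12, 18], ![18, 6, 12]],
    ![![6, 18, 12], ![12, 24, 18], ![18, 18, 24]],
    ![![4, 4, 3], ![3, 4, 4], ![4, 3, 4]],
    ![![9, 13, 17], ![17, 13, 9], ![13, 9, 13]],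
    ![![13, 17, 21], ![17, 21, 17], ![9, 13, 17]],
    ![![4, 1, 3], ![1, 3, 1], ![2, 4, 1]],
    ![![24, 18, 18], ![18, 24, 12], ![12, 18, 6]],
    ![![4, 3, 1], ![2, 1, 4], ![1, 1, 3]],
    ![![17, 21, 13], ![13, 17, 9], ![9, 13, 13]],
    ![![18, 12, 6], ![12, 6, 12], ![24, 18, 12]],
    ![![13, 9, 17], ![13, 17, 9], ![21, 17, 17]],
    ![![12, 24, 12], ![6, 18, 18], ![18, 18, 6]],
    ![![17, 0, 0], ![0, 0, 17], ![0, 13, 0]],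
    ![![24, 12, 12], ![12, 12, 24], ![12, 24, 12]],
    ![![6, 18, 18], ![12, 12, 24], ![18, 6, 18]],
    ![![3, 1, 1], ![1, 3, 4], ![1, 4, 3]],
    ![![12, 12, 24], ![18, 6, 18], ![6, 18, 18]],
    ![![12, 24, 12], ![24, 12, 12], ![12, 12, 24]],
    ![![6, 12, 12], ![18, 12, 24], ![12, 6, 18]],
    ![![4, 0, 0], ![0, 0, 1], ![0, 1, 0]],
    ![![17, 13, 21], ![17, 21, 13], ![9, 13, 13]],
    ![![1, 0, 0], ![0, 0, 1], ![0, 4, 0]],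
    ![![9, 17, 17], ![17, 17, 9], ![17, 9, 17]],
    ![![18, 6, 12], ![24, 12, 18], ![12, 12, 6]],
    ![![6, 18, 12], ![18, 18, 24], ![18, 6, 12]],
    ![![12, 24, 18], ![24, 12, 18], ![18, 18, 24]],
    ![![21, 17, 13], ![13, 17, 21], ![13, 9, 13]],
    ![![18, 0, 0], ![0, 0, 18], ![0, 18, 0]],
    ![![1, 2, 1], ![2, 1, 1], ![1, 1, 2]],
    ![![1, 2, 4], ![2, 1, 4], ![4, 4, 2]],
    ![![6, 12, 18], ![12, 6, 12], ![18, 12, 6]],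
    ![![2, 1, 4], ![1, 1, 3], ![4, 3, 1]],
    ![![17, 0, 0], ![0, 0, 13], ![0, 17, 0]],
    ![![6, 12, 12], ![12, 6, 18], ![12, 18, 6]],
    ![![1, 1, 3], ![4, 3, 1], ![2, 1, 4]],
    ![![13, 9, 17], ![17, 13, 21], ![9, 13, 13]],
    ![![1, 0, 0], ![0, 4, 0], ![0, 0, 4]],
    ![![9, 13, 17], ![17, 21, 17], ![17, 13, 9]],
    ![![0, 12, 0], ![0, 0, 18], ![18, 0, 0]],
    ![![4, 2, 1], ![3, 1, 1], ![1, 4, 3]],
    ![![4, 1, 2], ![1, 3, 4], ![3, 1, 1]],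
    ![![2, 1, 1], ![1, 1, 2], ![1, 2, 1]],
    ![![24, 12, 18], ![18, 18, 24], ![12, 24, 18]],
    ![![4, 2, 1], ![1, 4, 3], ![2, 4, 4]],
    ![![13, 0, 0], ![0, 0, 13], ![0, 13, 0]],
    ![![4, 3, 4], ![2, 1, 1], ![4, 4, 3]],
    ![![1, 3, 4], ![2, 4, 4], ![1, 4, 3]],
    ![![1, 2, 4], ![4, 4, 2], ![3, 4, 1]],
    ![![2, 1, 4], ![4, 3, 1], ![4, 4, 2]],
    ![![12, 18, 24], ![6, 12, 18], ![18, 24, 18]],
    ![![17, 21, 13], ![9, 13, 13], ![17, 13, 21]],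
    ![![1, 0, 0], ![0, 0, 4], ![0, 1, 0]],
    ![![12, 12, 24], ![24, 12, 12], ![18, 6, 18]],
    ![![1, 4, 2], ![4, 2, 4], ![2, 4, 1]],
    ![![0, 17, 0], ![0, 0, 13], ![13, 0, 0]],
    ![![0, 0, 1], ![1, 0, 0], ![0, 1, 0]],
    ![![21, 13, 17], ![17, 17, 21], ![17, 9, 13]],
    ![![12, 12, 24], ![6, 18, 18], ![12, 24, 12]],
    ![![17, 17, 9], ![21, 13, 13], ![17, 9, 17]],
    ![![13, 21, 17], ![21, 13, 17], ![13, 13, 9]],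
    ![![18, 24, 12], ![12, 18, 6], ![24, 18, 18]],
    ![![21, 17, 17], ![13, 9, 17], ![13, 17, 9]],
    ![![17, 17, 9], ![9, 17, 17], ![13, 21, 13]],
    ![![24, 12, 18], ![18, 6, 12], ![18, 18, 24]],
    ![![12, 24, 18], ![12, 12, 6], ![24, 12, 18]],
    ![![13, 13, 21], ![17, 9, 17], ![21, 13, 13]],
    ![![0, 0, 18], ![18, 0, 0], ![0, 12, 0]],
    ![![17, 9, 17], ![17, 17, 9], ![21, 13, 13]],
    ![![0, 12, 0], ![0, 0, 12], ![12, 0, 0]],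
    ![![17, 0, 0], ![0, 17, 0], ![0, 0, 17]],
    ![![1, 1, 3], ![3, 4, 1], ![4, 3, 1]],
    ![![1, 1, 3], ![2, 1, 4], ![1, 2, 4]],
    ![![21, 17, 17], ![13, 17, 9], ![17, 21, 13]],
    ![![0, 0, 13], ![17, 0, 0], ![0, 13, 0]],
    ![![1, 1, 2], ![3, 4, 4], ![1, 2, 1]],
    ![![0, 0, 1], ![0, 1, 0], ![4, 0, 0]],
    ![![0, 0, 4], ![0, 1, 0], ![1, 0, 0]],
    ![![4, 1, 3], ![4, 2, 4], ![3, 1, 4]],
    ![![4, 1, 2], ![2, 4, 4], ![1, 3, 4]],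
    ![![1, 1, 2], ![2, 1, 1], ![4, 3, 4]],
    ![![1, 1, 2], ![4, 3, 4], ![3, 4, 4]],
    ![![3, 1, 1], ![4, 1, 2], ![1, 3, 4]],
    ![![0, 17, 0], ![0, 0, 17], ![17, 0, 0]],
    ![![2, 1, 1], ![4, 3, 4], ![1, 1, 2]],
    ![![4, 1, 2], ![3, 1, 1], ![4, 2, 1]],
    ![![9, 13, 13], ![13, 9, 17], ![17, 13, 21]],
    ![![1, 1, 3], ![1, 2, 4], ![3, 4, 1]],
    ![![13, 17, 21], ![9, 13, 17], ![13, 9, 13]],
    ![![4, 1, 3], ![3, 1, 4], ![1, 3, 1]],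
    ![![3, 1, 4], ![1, 3, 1], ![4, 1, 3]],
    ![![4, 1, 3], ![2, 4, 1], ![4, 2, 4]],
    ![![3, 1, 4], ![4, 1, 3], ![4, 2, 4]],
    ![![1, 1, 2], ![1, 2, 1], ![2, 1, 1]]]

/-- the previous product -/
def orthPar : Fin 129 → Fin 129 :=
  ![0, 0, 0, 1, 1, 2, 2, 3, 3, 4, 4, 5, 5, 6, 6, 7, 7, 8, 8, 9, 10, 10, 11, 11, 12, 13, 13, 14, 15, 16, 16, 17, 18, 19, 19, 20, 20, 21, 22, 22, 23, 24, 25, 26, 27, 28, 29, 30, 31, 31, 32, 32, 33, 34, 35, 35, 36, 37, 37, 38, 39, 40, 42, 43, 44, 45, 46, 47, 47, 48, 48, 49, 50, 50, 51, 52, 53, 54, 56, 58, 59, 60, 61, 62, 63, 64, 65, 66, 67, 68, 69, 71, 72, 73, 74, 75, 77, 78, 79, 80, 81, 82, 83, 84, 84, 85, 86, 88, 88, 89, 90, 92, 93, 94, 95, 96, 97, 98, 99, 100, 101, 102, 103, 104, 108, 109, 118, 121, 123]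

/-- generators for the stabiliser of the symp set -/
def sympG : List (Mat 25) :=
  [![![15, 8, 15], ![15, 7, 7], ![7, 7, 15]],
    ![![15, 15, 7], ![7, 15, 15], ![7, 8, 7]]]

/-- products of the generators -/
def sympL : Fin 79 → Mat 25 :=
  ![![![1, 0, 0], ![0, 1, 0], ![0, 0, 1]],
    ![![15, 8, 15], ![15, 7, 7], ![7, 7, 15]],
    ![![15, 15, 7], ![7, 15, 15], ![7, 8, 7]],
    ![![0, 0, 4], ![0, 13, 0], ![18, 0, 0]],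
    ![![22, 23, 10], ![10, 10, 10], ![23, 22, 10]],
    ![![7, 15, 8], ![15, 7, 8], ![8, 8, 8]],
    ![![0, 4, 0], ![18, 0, 0], ![0, 0, 13]],
    ![![23, 23, 10], ![22, 10, 10], ![23, 10, 23]],
    ![![22, 22, 10], ![23, 22, 23], ![22, 23, 23]],
    ![![7, 7, 8], ![7, 15, 15], ![15, 7, 15]],
    ![![10, 23, 23], ![23, 10, 23], ![10, 10, 22]],
    ![![23, 22, 23], ![10, 22, 22], ![23, 23, 22]],
    ![![7, 7, 15], ![15, 8, 15], ![15, 7, 7]],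
    ![![10, 10, 22], ![22, 10, 10], ![22, 23, 22]],
    ![![23, 10, 10], ![23, 23, 22], ![10, 23, 10]],
    ![![12, 0, 0], ![0, 12, 0], ![0, 0, 12]],
    ![![7, 15, 8], ![7, 8, 15], ![7, 7, 7]],
    ![![10, 22, 23], ![10, 10, 10], ![10, 23, 22]],
    ![![0, 17, 0], ![0, 0, 12], ![1, 0, 0]],
    ![![7, 8, 15], ![8, 8, 8], ![15, 8, 7]],
    ![![1, 0, 0], ![0, 12, 0], ![0, 0, 17]],
    ![![22, 22, 22], ![22, 10, 23], ![22, 23, 10]],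
    ![![0, 18, 0], ![18, 0, 0], ![0, 0, 18]],
    ![![10, 23, 22], ![22, 23, 10], ![23, 23, 23]],
    ![![8, 8, 8], ![7, 15, 8], ![15, 7, 8]],
    ![![23, 23, 23], ![22, 10, 23], ![10, 22, 23]],
    ![![7, 15, 7], ![7, 8, 8], ![8, 8, 7]],
    ![![7, 7, 8], ![8, 7, 7], ![8, 15, 8]],
    ![![10, 10, 23], ![23, 22, 23], ![23, 10, 10]],
    ![![8, 15, 15], ![8, 8, 7], ![15, 8, 15]],
    ![![23, 10, 23], ![23, 23, 10], ![22, 10, 10]],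
    ![![15, 8, 15], ![7, 8, 8], ![15, 15, 8]],
    ![![10, 23, 10], ![10, 22, 22], ![22, 22, 10]],
    ![![8, 15, 15], ![15, 15, 8], ![8, 7, 8]],
    ![![15, 7, 15], ![7, 7, 8], ![7, 15, 15]],
    ![![10, 10, 22], ![10, 23, 23], ![23, 10, 23]],
    ![![23, 23, 22], ![23, 22, 23], ![10, 22, 22]],
    ![![15, 15, 7], ![8, 7, 7], ![15, 7, 15]],
    ![![10, 22, 10], ![22, 22, 23], ![22, 10, 10]],
    ![![22, 23, 23], ![23, 23, 22], ![22, 10, 22]],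
    ![![22, 23, 22], ![10, 10, 22], ![22, 10, 10]],
    ![![0, 0, 18], ![0, 4, 0], ![13, 0, 0]],
    ![![8, 7, 15], ![7, 8, 15], ![15, 15, 15]],
    ![![0, 0, 4], ![0, 4, 0], ![4, 0, 0]],
    ![![15, 15, 15], ![7, 15, 8], ![8, 15, 7]],
    ![![4, 0, 0], ![0, 0, 4], ![0, 4, 0]],
    ![![10, 23, 22], ![10, 22, 23], ![10, 10, 10]],
    ![![1, 0, 0], ![0, 17, 0], ![0, 0, 12]],
    ![![13, 0, 0], ![0, 0, 4], ![0, 18, 0]],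
    ![![7, 7, 7], ![15, 8, 7], ![8, 15, 7]],
    ![![8, 15, 7], ![15, 15, 15], ![7, 15, 8]],
    ![![12, 0, 0], ![0, 17, 0], ![0, 0, 1]],
    ![![7, 7, 7], ![7, 15, 8], ![7, 8, 15]],
    ![![0, 0, 1], ![1, 0, 0], ![0, 1, 0]],
    ![![0, 12, 0], ![0, 0, 17], ![1, 0, 0]],
    ![![17, 0, 0], ![0, 12, 0], ![0, 0, 1]],
    ![![22, 22, 23], ![10, 23, 23], ![22, 23, 22]],
    ![![10, 10, 23], ![22, 10, 22], ![10, 22, 22]],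
    ![![22, 10, 22], ![23, 10, 10], ![22, 22, 10]],
    ![![22, 22, 10], ![22, 10, 22], ![23, 10, 10]],
    ![![7, 7, 15], ![8, 7, 8], ![7, 8, 8]],
    ![![8, 15, 8], ![15, 15, 7], ![15, 8, 8]],
    ![![22, 23, 22], ![22, 22, 23], ![10, 23, 23]],
    ![![22, 22, 10], ![10, 23, 10], ![10, 22, 22]],
    ![![23, 22, 23], ![23, 10, 10], ![10, 10, 23]],
    ![![7, 7, 15], ![7, 15, 7], ![8, 15, 15]],
    ![![7, 7, 8], ![15, 8, 8], ![7, 8, 7]],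
    ![![17, 0, 0], ![0, 17, 0], ![0, 0, 17]],
    ![![10, 10, 10], ![10, 23, 22], ![10, 22, 23]],
    ![![0, 1, 0], ![0, 0, 1], ![1, 0, 0]],
    ![![22, 10, 23], ![10, 22, 23], ![23, 23, 23]],
    ![![17, 0, 0], ![0, 1, 0], ![0, 0, 12]],
    ![![0, 4, 0], ![4, 0, 0], ![0, 0, 4]],
    ![![7, 7, 7], ![8, 7, 15], ![15, 7, 8]],
    ![![10, 10, 10], ![22, 10, 23], ![23, 10, 22]],
    ![![12, 0, 0], ![0, 1, 0], ![0, 0, 17]],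
    ![![10, 10, 10], ![23, 22, 10], ![22, 23, 10]],
    ![![10, 10, 22], ![23, 22, 22], ![10, 22, 10]],
    ![![10, 10, 23], ![10, 23, 10], ![22, 23, 23]]]

/-- the previous product -/
def sympPar : Fin 79 → Fin 79 :=
  ![0, 0, 0, 1, 1, 2, 2, 3, 3, 4, 4, 5, 5, 6, 6, 7, 7, 8, 8, 9, 10, 11, 12, 12, 13, 14, 15, 15, 16, 16, 17, 18, 19, 19, 20, 21, 22, 23, 23, 24, 25, 26, 27, 29, 30, 31, 31, 32, 33, 34, 35, 36, 37, 38, 39, 40, 41, 41, 42, 44, 44, 46, 48, 48, 50, 51, 54, 56, 58, 58, 59, 59, 61, 62, 63, 64, 65, 70, 72]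

end CfsgLib.Asch.Three.D25
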