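import Cfsg.Agent.Lib.Aschbacher.FormField
import Cfsg.Agent.Lib.Aschbacher.SuThreeCode

/-!
# A field of degree three in the unitary group of degree three: elements of order seven
-/

set_option autoImplicit false

namespace CfsgLib.Asch.Three

open Matrix Cfsg.Geo CfsgLib.ClassicalMax
open scoped MatrixGroups

variable {F : Type*} [Field F] [Fintype F]

/-- the cubic with trace `α` -/
def cubic {R : Type*} [Ring R] [Algebra F R] (α β : F) (x : R) : R := x ^ 3 - α • x ^ 2 + β • x - 1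

set_option maxHeartbeats 1000000 in
/-- a generator of order seven and a frame for its powers -/
theorem exists_generator {q : ℕ} {τ : F ≃+* F} (hτ : ∀ a, τ a = a ^ q)
    (hf : IsUnitaryForm τ (Cfsg.hermForm 3 F q)) {α : F} (hs : α + τ α = -1) (hp2 : α * τ α = 2)
    (hne : α ≠ τ α) (h7 : 7 ∣ Fintype.card F ^ 3 - 1)
    {K : Subalgebra F (Matrix (Fin 3) (Fin 3) F)} (hK : IsFieldSubalgebra 3 K)
    (hadj : IsAdjointClosedFor (Cfsg.hermForm 3 F q) K) :
    ∃ a ∈ K, cubic α (τ α) a = 0 ∧ a ^ 7 = 1 ∧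
      (∀ x ∈ K, cubic α (τ α) x = 0 → x = a ^ 1 ∨ x = a ^ 2 ∨ x = a ^ 4) ∧
      ∃ (Q : Matrix (Fin 3) (Fin 3) F) (t : F),
        Qᵀ * Q.map τ.toRingHom = !![1, τ t, τ (α * t - τ α + τ t); t, 1, τ t; α * t - τ α + τ t, t, 1] ∧
        a * Q = Q * !![0, 0, 1; 1, 0, -τ α; 0, 1, α] := by
  classical
  set f := Cfsg.hermForm 3 F q
  have hττ : ∀ a, τ (τ a) = a := hf.involutive
  letI : Field K := (fieldSub_isField hK).toField
  haveI : Finite K := Module.finite_of_finite F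
  have hKcard : Nat.card K = Fintype.card F ^ 3 := by
    rw [Module.natCard_eq_pow_finrank (K := F), hK.finrank_eq, Nat.card_eq_fintype_card]
  set A : K := algebraMap F K α
  set B : K := algebraMap F K (τ α)
  have hS : A + B = -1 := by rw [← map_add, hs, map_neg, map_one]
  have hP : A * B = 2 := by rw [← map_mul, hp2, map_ofNat]
  have hAB : A - B ≠ 0 := by
    rw [← map_sub, map_ne_zero]; exact sub_ne_zero.mpr hne
  let p : K → K := fun b => b ^ 3 - A * b ^ 2 + B * b - 1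
  let p' : K → K := fun b => b ^ 3 - B * b ^ 2 + A * b - 1
  have hprod : ∀ b, (b - 1) * (p b * p' b) = b ^ 7 - 1 := fun b => by
    have h : p b * p' b = b ^ 6 + b ^ 5 + b ^ 4 + b ^ 3 + b ^ 2 + b + 1 := by
      simp only [p, p']
      linear_combination (-(b ^ 5 + b) + (b ^ 4 + b ^ 2) - (A + B - 1) * b ^ 3) * hS
        + ((b ^ 4 + b ^ 2) + 2 * b ^ 3) * hP
    rw [h]; ring
  have hsq : ∀ b, p (b ^ 2) = -(p b * (-b ^ 3 - A * b ^ 2 - B * b - 1)) := fun b => by
    simp only [p]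
    linear_combination (A * b ^ 4 - B * b ^ 2 - 2 * b ^ 4 + 2 * b ^ 2) * hS + (-b ^ 4 + b ^ 2) * hP
  have hrev : ∀ b, b * b ^ 6 = 1 → p' (b ^ 6) = -(b ^ 18 * p b) := fun b hb => by
    simp only [p, p']
    linear_combination (b ^ 12 * B * 1 - A * b ^ 6 * (b * b ^ 6 + 1) + ((b * b ^ 6) ^ 2 + b * b ^ 6 + 1)) * hb
  obtain ⟨g₀, hg₀⟩ := IsCyclic.exists_ofOrder_eq_natCard (α := Kˣ)
  obtain ⟨k, hk⟩ := h7
  have hk0 : k ≠ 0 := by
    rintro rfl
    have h1 := Fintype.one_lt_card (α := F)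
    have := Nat.one_lt_pow (n := 3) (by norm_num) h1
    omega
  set b : K := ((g₀ ^ k : Kˣ) : K)
  have hb : orderOf b = 7 := by
    rw [orderOf_units, orderOf_pow, hg₀, Nat.card_units, hKcard, hk, Nat.gcd_mul_left_left,
      Nat.mul_div_cancel _ (Nat.pos_of_ne_zero hk0)]
  have hb7 : b ^ 7 = 1 := hb ▸ pow_orderOf_eq_one b
  have hb1 : b ≠ 1 := fun h => by rw [h, orderOf_one] at hb; omega
  obtain ⟨aK, hpa⟩ : ∃ aK, p aK = 0 := by
    have h := hprod b
    rw [hb7, sub_self, mul_eq_zero, mul_eq_zero] at h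
    rcases h.resolve_left (sub_ne_zero.mpr hb1) with h | h
    · exact ⟨b, h⟩
    · refine ⟨b ^ 6, ?_⟩
      simp only [p, p'] at h ⊢
      linear_combination -(b ^ 18) * h
        + (((b ^ 7) ^ 2 + b ^ 7 + 1) - B * b ^ 6 * (b ^ 7 + 1) + A * b ^ 12) * hb7
  have h7' : ∀ x, p x = 0 ∨ p' x = 0 → x ^ 7 = 1 := fun x hx => by
    have h := hprod x
    rw [show p x * p' x = 0 from mul_eq_zero.mpr hx, mul_zero, eq_comm, sub_eq_zero] at h
    exact h
  have hboth : ∀ x, p x = 0 → p' x = 0 → False := fun x h1 h2 => by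
    have hx7 := h7' x (Or.inl h1)
    have hd : (A - B) * (x * (x + 1)) = 0 := by simp only [p, p'] at h1 h2; linear_combination h2 - h1
    rcases mul_eq_zero.mp ((mul_eq_zero.mp hd).resolve_left hAB) with h | h
    · rw [h, zero_pow (by norm_num)] at hx7; exact zero_ne_one hx7
    · have hx : x = 1 := by linear_combination hx7 - (x ^ 6 - x ^ 5 + x ^ 4 - x ^ 3 + x ^ 2 - x) * h
      exact hAB (by simp only [p, hx] at h1; linear_combination -h1)
  have ha7 := h7' aK (Or.inl hpa)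
  have ha1 : aK ≠ 1 := fun h => hAB (by simp only [p, h] at hpa; linear_combination -hpa)
  have hao : orderOf aK = 7 := by
    haveI : Fact (Nat.Prime 7) := ⟨by norm_num⟩
    exact orderOf_eq_prime ha7 ha1
  have hprim : IsPrimitiveRoot aK 7 := hao ▸ IsPrimitiveRoot.orderOf aK
  have hp2a : p (aK ^ 2) = 0 := by rw [hsq, hpa]; simp
  have hp4a : p (aK ^ 4) = 0 := by rw [show aK ^ 4 = (aK ^ 2) ^ 2 by ring, hsq, hp2a]; simp
  have hpow7 : ∀ i, (aK ^ i) * (aK ^ i) ^ 6 = 1 := fun i => by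
    rw [← pow_succ', ← pow_mul, mul_comm, pow_mul, ha7, one_pow]
  have hroots : ∀ x, p x = 0 → x = aK ^ 1 ∨ x = aK ^ 2 ∨ x = aK ^ 4 := by
    intro x hx
    obtain ⟨i, hi, rfl⟩ := hprim.eq_pow_of_pow_eq_one (h7' x (Or.inl hx))
    have hbad : ∀ j, p (aK ^ j) = 0 → p ((aK ^ j) ^ 6) = 0 → False := fun j h1 h2 =>
      hboth _ h2 (by rw [hrev _ (hpow7 j), h1]; simp)
    interval_cases i
    · exact (hAB (by simp only [p, pow_zero] at hx; linear_combination -hx)).elim
    · exact Or.inl rfl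
    · exact Or.inr (Or.inl rfl)
    · refine (hbad 4 hp4a ?_).elim
      rwa [← pow_mul, show 4 * 6 = 7 * 3 + 3 from rfl, pow_add, pow_mul, ha7, one_pow, one_mul]
    · exact Or.inr (Or.inr rfl)
    · refine (hbad 2 hp2a ?_).elim
      rwa [← pow_mul, show 2 * 6 = 7 * 1 + 5 from rfl, pow_add, pow_mul, ha7, one_pow, one_mul]
    · refine (hbad 1 (by rw [pow_one]; exact hpa) ?_).elim
      rwa [← pow_mul, one_mul]
  set a : Matrix (Fin 3) (Fin 3) F := Subtype.val aK
  have hval : ∀ n, ((aK ^ n : K) : Matrix (Fin 3) (Fin 3) F) = a ^ n := fun n => SubmonoidClass.coe_pow aK n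
  have hpv : ∀ x : K, ((p x : K) : Matrix (Fin 3) (Fin 3) F) = cubic α (τ α) (x : Matrix (Fin 3) (Fin 3) F) :=
    fun x => by
      simp only [p, A, B, cubic, ← Algebra.smul_def]
      rfl
  have hpa3 : cubic α (τ α) a = 0 := by rw [← hpv, hpa]; rfl
  have hpa' : ∀ v, (a ^ 3) *ᵥ v = α • ((a ^ 2) *ᵥ v) - τ α • (a *ᵥ v) + v := fun v => by
    have h := congrArg (fun X => X *ᵥ v) hpa3
    simp only [cubic, sub_mulVec, add_mulVec, smul_mulVec, one_mulVec, zero_mulVec] at h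
    rw [← sub_eq_zero, ← h]
    abel
  obtain ⟨a', ha', hadj'⟩ := hadj a aK.2
  have hpowadj : ∀ (n : ℕ) u v, f ((a ^ n) *ᵥ u) v = f u ((a' ^ n) *ᵥ v) := by
    intro n
    induction n with
    | zero => simp
    | succ n ih =>
      intro u v
      rw [pow_succ, ← mulVec_mulVec, ih, hadj', pow_succ', mulVec_mulVec]
  have heq : ∀ {X : Matrix (Fin 3) (Fin 3) F}, (∀ u v, f u (X *ᵥ v) = 0) → X = 0 := by
    intro X h
    refine Matrix.ext_of_mulVec_single fun i => ?_
    rw [zero_mulVec]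
    by_contra hne
    obtain ⟨⟨x, hx⟩, -⟩ := hf.nondegenerate _ hne
    exact hx (h x _)
  have hp'a' : ∀ (c : Matrix (Fin 3) (Fin 3) F) (hc : c ∈ K), (∀ u v, f (a *ᵥ u) v = f u (c *ᵥ v)) →
      p' ⟨c, hc⟩ = 0 := by
    intro c hc hcadj
    have hcp : ∀ (n : ℕ) u v, f ((a ^ n) *ᵥ u) v = f u ((c ^ n) *ᵥ v) := by
      intro n
      induction n with
      | zero => simp
      | succ n ih =>
        intro u v
        rw [pow_succ, ← mulVec_mulVec, ih, hcadj, pow_succ', mulVec_mulVec]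
    refine Subtype.ext ?_
    simp only [p', A, B, ← Algebra.smul_def]
    show c ^ 3 - τ α • c ^ 2 + α • c - 1 = 0
    refine heq fun u v => ?_
    have h0 : f ((cubic α (τ α) a) *ᵥ u) v = 0 := by rw [hpa3, zero_mulVec, Unit.zero_left hf]
    have hsubl : ∀ x y z, f (x - y) z = f x z - f y z := fun x y z => by
      rw [sub_eq_add_neg, hf.add_left, ← neg_one_smul F y, hf.smul_left]; ring
    have hsubr : ∀ z x y, f z (x - y) = f z x - f z y := fun z x y => by
      rw [sub_eq_add_neg, Unit.add_right hf, ← neg_one_smul F y, Unit.smul_right hf, map_neg, map_one]; ring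
    simp only [cubic, sub_mulVec, add_mulVec, smul_mulVec, one_mulVec, hsubl, hf.add_left, hf.smul_left, hcp,
      hcadj] at h0
    simp only [sub_mulVec, add_mulVec, smul_mulVec, one_mulVec, hsubr, Unit.add_right hf, Unit.smul_right hf, hττ]
    linear_combination h0
  have hp'0 := hp'a' a' ha' hadj'
  obtain ⟨j, hj, haj⟩ := hprim.eq_pow_of_pow_eq_one (h7' _ (Or.inr hp'0))
  have hav : a' = a ^ j := by rw [← hval, haj]
  have hjj : aK ^ (j * j) = aK := by
    refine Subtype.ext (sub_eq_zero.mp (heq fun u v => ?_))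
    rw [hval, sub_mulVec, sub_eq_add_neg, Unit.add_right hf, ← neg_one_smul F (a *ᵥ v), Unit.smul_right hf,
      pow_mul, ← hav, ← hpowadj j, ← hav, hf.herm (a' *ᵥ u), ← hadj', ← hf.herm, map_neg, map_one]
    ring
  have hj6 : j = 6 := by
    have h : j * j % 7 = 1 := hprim.pow_inj (Nat.mod_lt _ (by norm_num)) (by norm_num) (by
      rw [← hao, pow_mod_orderOf, pow_one, hjj])
    interval_cases j <;> first | rfl | omega | skip
    rw [pow_one] at hav
    exact (hboth aK hpa (hp'a' a aK.2 (fun u v => by rw [hadj', hav]))).elim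
  have hiso : ∀ (n : ℕ) u v, f ((a ^ n) *ᵥ u) ((a ^ n) *ᵥ v) = f u v := fun n u v => by
    rw [hpowadj, mulVec_mulVec, hav, hj6, ← pow_mul, ← pow_add, show 6 * n + n = 7 * n by ring,
      ← hval, pow_mul, ha7, one_pow, OneMemClass.coe_one, one_mulVec]
  have h10 : ∀ u v, f (a *ᵥ u) (a *ᵥ v) = f u v := fun u v => by simpa using hiso 1 u v
  refine ⟨a, aK.2, hpa3, by rw [← hval, ha7]; rfl, fun x hx hx0 => ?_, ?_⟩
  · rcases hroots ⟨x, hx⟩ (Subtype.ext (by rw [hpv]; exact hx0)) with h | h | h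
    · exact Or.inl (by rw [← hval, ← h])
    · exact Or.inr (Or.inl (by rw [← hval, ← h]))
    · exact Or.inr (Or.inr (by rw [← hval, ← h]))
  set v : Fin 3 → F := Pi.single 0 1
  have hq0 : q ≠ 0 := fun h => hne (by rw [hτ, h, pow_zero]; have := hτ 0; rw [h, pow_zero, map_zero] at this; exact absurd this zero_ne_one)
  have hv : f v v = 1 := by simp [f, v, Cfsg.hermForm, Pi.single_apply, ite_pow, zero_pow hq0]
  set t := f (a *ᵥ v) v
  have g01 : f v (a *ᵥ v) = τ t := hf.herm _ _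
  have g20 : f ((a ^ 2) *ᵥ v) v = α * t - τ α + τ t := by
    rw [← h10, mulVec_mulVec, ← pow_succ', show 2 + 1 = 3 from rfl, hpa', sub_eq_add_neg, hf.add_left,
      hf.add_left, ← neg_one_smul F (τ α • (a *ᵥ v)), hf.smul_left, hf.smul_left, hf.smul_left, g01, h10, hv]
    rw [show f ((a ^ 2) *ᵥ v) (a *ᵥ v) = t by rw [sq, ← mulVec_mulVec, h10]]
    ring
  let Q : Matrix (Fin 3) (Fin 3) F := Matrix.of fun r j => ((a ^ (j : ℕ)) *ᵥ v) r
  refine ⟨Q, t, ?_, ?_⟩
  · have hg : ∀ i j, (Qᵀ * Q.map τ.toRingHom) i j = f ((a ^ (i : ℕ)) *ᵥ v) ((a ^ (j : ℕ)) *ᵥ v) := by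
      intro i j
      simp only [f, Cfsg.hermForm, Q, Matrix.mul_apply, transpose_apply, Matrix.map_apply, Matrix.of_apply]
      exact Finset.sum_congr rfl fun r _ => congrArg _ (hτ _)
    have g02 : f v ((a ^ 2) *ᵥ v) = τ (α * t - τ α + τ t) := by rw [hf.herm, g20]
    have g22 : f ((a ^ 2) *ᵥ v) ((a ^ 2) *ᵥ v) = 1 := by rw [hiso, hv]
    have g21 : f ((a ^ 2) *ᵥ v) (a *ᵥ v) = t := by rw [sq, ← mulVec_mulVec, h10]
    have g12 : f (a *ᵥ v) ((a ^ 2) *ᵥ v) = τ t := by rw [hf.herm, g21]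
    ext i j
    rw [hg]
    fin_cases i <;> fin_cases j <;> simp [hv, h10, g01, g20, g02, g22, g21, g12, t]
  · ext r j
    have hl : (a * Q) r j = ((a ^ ((j : ℕ) + 1)) *ᵥ v) r := by
      rw [pow_succ', ← mulVec_mulVec]
      rfl
    rw [hl, Matrix.mul_apply, Fin.sum_univ_three]
    fin_cases j <;> simp [Q, hpa'] <;> ring

end CfsgLib.Asch.Three
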