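import Cfsg.Agent.Lib.Aschbacher.SuList
import Cfsg.Agent.Lib.Aschbacher.FormInvol
import Cfsg.Agent.Lib.ClassicalMax.OrthThree

/-!
# Over nine elements the subfield group of orthogonal type stabilises three orthogonal lines
-/

set_option autoImplicit false

namespace CfsgLib.Asch.Three

open Matrix Cfsg.Geo CfsgLib.ClassicalMax
open scoped MatrixGroups

variable {F : Type*} [Field F] [Fintype F]

/-- the subfield group of orthogonal type over nine elements lies in a monomial group -/
theorem exists_lines_of_orth (hF : Fintype.card F = 3 ^ 2) {F₀ : Subfield F} {P : GL (Fin 3) F}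
    (hc : Fintype.card F = Nat.card F₀ ^ 2) (hrat : IsFormRationalStructure (Cfsg.hermForm 3 F 3) F₀ 1 P) :
    ∃ D : Fin 3 → Submodule F (Fin 3 → F), IsNondegenerateMDecomposition (Cfsg.hermForm 3 F 3) 1 D ∧
      subfieldSubgroup F₀ P ⊓ (Cfsg.GU 3 F 3 ⊓ specialLinear (Fin 3) F) ≤ decompositionStabilizer D := by
  classical
  obtain ⟨τ, hτ, hττ, hne⟩ := Unit.exists_powEquiv hF
  have hf := Unit.isUnitaryForm_hermForm hF 3 hτ hne
  set f := Cfsg.hermForm 3 F 3
  have hc3 : Nat.card F₀ = 3 := Nat.pow_left_injective two_ne_zero (hc.symm.trans hF)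
  haveI : Fintype F₀ := Fintype.ofFinite F₀
  have hq0 : Fintype.card F₀ = 3 := by rw [← Nat.card_eq_fintype_card, hc3]
  have hfix : ∀ x ∈ F₀, τ x = x := fun x hx => by
    rw [hτ]
    have := congrArg Subtype.val (FiniteField.pow_card (⟨x, hx⟩ : F₀))
    rwa [hq0] at this
  set Pm := (P : Matrix (Fin 3) (Fin 3) F)
  let up : (Fin 3 → F₀) → Fin 3 → F := fun u i => (u i : F)
  let f₀ : (Fin 3 → F₀) → (Fin 3 → F₀) → F₀ := fun u v =>
    ⟨f (Pm *ᵥ up u) (Pm *ᵥ up v), by simpa using hrat (up u) (up v) (fun i => (u i).2) (fun i => (v i).2)⟩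
  have hupadd : ∀ u v, up (u + v) = up u + up v := fun u v => funext fun i => rfl
  have hupsmul : ∀ (c : F₀) u, up (c • u) = (c : F) • up u := fun c u => funext fun i => rfl
  have hb : IsBilinearForm f₀ :=
    { add_left := fun x y v => Subtype.ext (by
        show f _ _ = f _ _ + f _ _
        rw [hupadd, mulVec_add, hf.add_left])
      smul_left := fun c x v => Subtype.ext (by
        show f _ _ = (c : F) * f _ _
        rw [hupsmul, mulVec_smul, hf.smul_left])
      add_right := fun x y z => Subtype.ext (by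
        show f _ _ = f _ _ + f _ _
        rw [hupadd, mulVec_add, Unit.add_right hf])
      smul_right := fun c x y => Subtype.ext (by
        show f _ _ = (c : F) * f _ _
        rw [hupsmul, mulVec_smul, Unit.smul_right hf, hfix _ c.2]) }
  have hs : ∀ x y, f₀ x y = f₀ y x := fun x y => Subtype.ext (by
    show f _ _ = f _ _
    rw [hf.herm]
    exact hfix _ (f₀ y x).2)
  have hbasis : ∀ z : Fin 3 → F, ∑ i, z i • (Pm *ᵥ up (Pi.single i 1)) = Pm *ᵥ z := fun z => by
    rw [← Finset.sum_congr rfl fun i _ => mulVec_smul Pm (z i) (up (Pi.single i 1)), ← mulVec_sum]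
    congr 1
    funext j
    rw [Finset.sum_apply, Finset.sum_eq_single j]
    · simp [up]
    · intro b _ hb'; simp [up, Pi.single_apply, hb'.symm]
    · simp
  have hnd : IsNondegenerateOn f₀ (⊤ : Submodule F₀ (Fin 3 → F₀)) := by
    intro u _ hu
    have key : ∃ v, f₀ v u ≠ 0 := by
      by_contra h
      push Not at h
      have hu' : Pm *ᵥ up u ≠ 0 := fun e => hu (by
        have h' := congrArg (fun t => ((P⁻¹ : GL (Fin 3) F) : Matrix (Fin 3) (Fin 3) F) *ᵥ t) e
        simp only [Pm, mulVec_mulVec, Units.inv_mul, one_mulVec, mulVec_zero] at h'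
        funext i; exact Subtype.ext (congrFun h' i))
      obtain ⟨⟨z, hz⟩, -⟩ := hf.nondegenerate _ hu'
      refine hz ?_
      have hz' : z = Pm *ᵥ (((P⁻¹ : GL (Fin 3) F) : Matrix (Fin 3) (Fin 3) F) *ᵥ z) := by
        simp [Pm, mulVec_mulVec]
      rw [hz', ← hbasis, Fin.sum_univ_three, hf.add_left, hf.add_left, hf.smul_left, hf.smul_left, hf.smul_left]
      have h' : ∀ i, f (Pm *ᵥ up (Pi.single i 1)) (Pm *ᵥ up u) = 0 := fun i =>
        congrArg Subtype.val (h (Pi.single i 1))
      rw [h', h', h', mul_zero, mul_zero, mul_zero, add_zero, add_zero]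
    obtain ⟨v, hv⟩ := key
    exact ⟨⟨v, trivial, hv⟩, ⟨v, trivial, by rwa [hs]⟩⟩
  obtain ⟨d, u, hu⟩ := OrthThree.exists_triple hq0 hb hs (W := ⊤) (by simp) hnd
  set w : Fin 3 → Fin 3 → F := fun k => Pm *ᵥ up (u k)
  have hww : ∀ k l, f (w k) (w l) = if k = l then (d : F) else 0 := fun k l => by
    have h := congrArg Subtype.val (hu.form k l)
    rw [show f (w k) (w l) = (f₀ (u k) (u l) : F) from rfl, h]
    split_ifs <;> rfl
  have hd0 : (d : F) ≠ 0 := fun h => hu.d_ne (Subtype.ext h)
  have hli : LinearIndependent F w := Fintype.linearIndependent_iff.mpr fun a ha k => by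
    have h : f (∑ l, a l • w l) (w k) = 0 := by rw [ha, Unit.zero_left hf]
    rw [Fin.sum_univ_three, hf.add_left, hf.add_left, hf.smul_left, hf.smul_left, hf.smul_left, hww, hww, hww] at h
    fin_cases k <;> simpa [hd0] using h
  refine ⟨fun i => Submodule.span F {w i}, ?_, ?_⟩
  · exact {
      decomp := {
        two_le := by norm_num
        pos := one_pos
        finrank_eq := fun i => finrank_span_singleton (hli.ne_zero i)
        indep := hli.iSupIndep_span_singleton
        iSup_eq_top := by
          rw [← Submodule.span_range_eq_iSup]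
          exact hli.span_eq_top_of_card_eq_finrank' (by simp) }
      nondegenerate := fun i x hx hx0 => by
        obtain ⟨c, rfl⟩ := Submodule.mem_span_singleton.mp hx
        have hc : c ≠ 0 := fun h => hx0 (by rw [h, zero_smul])
        refine ⟨⟨_, Submodule.mem_span_singleton_self _, ?_⟩, ⟨_, Submodule.mem_span_singleton_self _, ?_⟩⟩
        · rw [Unit.smul_right hf, hww, if_pos rfl]
          exact mul_ne_zero (fun h => hc (by simpa using congrArg τ.symm h)) hd0
        · rw [hf.smul_left, hww, if_pos rfl]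
          exact mul_ne_zero hc hd0
      orthogonal := fun i j hij x hx y hy => by
        obtain ⟨c, rfl⟩ := Submodule.mem_span_singleton.mp hx
        obtain ⟨c', rfl⟩ := Submodule.mem_span_singleton.mp hy
        rw [hf.smul_left, Unit.smul_right hf, hww, if_neg hij, mul_zero, mul_zero] }
  · rintro g ⟨hg, hgU, -⟩
    obtain ⟨_, hM, rfl⟩ := hg
    obtain ⟨_, ⟨N, rfl⟩, z, hz, rfl⟩ := Subgroup.mem_sup_of_normal_right.mp hM
    obtain ⟨c, hcz⟩ := mem_scalars_iff_isScalarMat.mp hz
    set g' : GL (Fin 3) F := P * (Matrix.GeneralLinearGroup.map (F₀.subtype : F₀ →+* F) N * z) * P⁻¹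
    have hact : ∀ x, (g' : Matrix (Fin 3) (Fin 3) F) *ᵥ (Pm *ᵥ up x)
        = c • (Pm *ᵥ up ((N : Matrix (Fin 3) (Fin 3) F₀) *ᵥ x)) := fun x => by
      have hN : up ((N : Matrix (Fin 3) (Fin 3) F₀) *ᵥ x)
          = ((Matrix.GeneralLinearGroup.map (F₀.subtype : F₀ →+* F) N : GL (Fin 3) F) : Matrix (Fin 3) (Fin 3) F)
            *ᵥ up x := funext fun i => RingHom.map_mulVec F₀.subtype _ x i
      rw [hN, mulVec_mulVec, ← mulVec_smul]
      simp only [g', Units.val_mul, hcz, Pm, mul_assoc, Units.inv_mul, mul_one, mul_smul_comm, ← mulVec_mulVec,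
        smul_mulVec, one_mulVec]
      simp [mulVec_smul, mulVec_mulVec, mul_assoc, smul_mulVec]
    set x : Fin 3 → Fin 3 → F₀ := fun k => (N : Matrix (Fin 3) (Fin 3) F₀) *ᵥ u k
    have hxx : ∀ k l, c * τ c * (f₀ (x k) (x l) : F) = if k = l then (d : F) else 0 := fun k l => by
      have h := hgU (Pm *ᵥ up (u k)) (Pm *ᵥ up (u l))
      change f ((g' : Matrix (Fin 3) (Fin 3) F) *ᵥ _) ((g' : Matrix (Fin 3) (Fin 3) F) *ᵥ _) = _ at h
      rw [hact, hact, hf.smul_left, Unit.smul_right hf] at h
      rw [← hww, mul_assoc]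
      exact h
    have hc0 : c * τ c ≠ 0 := fun h => by
      have := hxx 0 0
      rw [h, zero_mul, if_pos rfl] at this
      exact hd0 this.symm
    have hn : c * τ c = 1 ∨ c * τ c = -1 := by
      have h : τ (c * τ c) = c * τ c := by rw [map_mul, hττ, mul_comm]
      rw [hτ (c * τ c)] at h
      have h' : (c * τ c - 1) * (c * τ c + 1) = 0 := mul_left_cancel₀ hc0 (by rw [mul_zero]; linear_combination h)
      rcases mul_eq_zero.mp h' with e | e
      · exact Or.inl (sub_eq_zero.mp e)
      · exact Or.inr (eq_neg_of_add_eq_zero_left e)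
    rcases hn with hn | hn
    swap
    · refine (OrthThree.not_anti hq0 hb hu (x := x) (fun _ => trivial) fun k l => Subtype.ext ?_).elim
      have h := hxx k l
      rw [hn] at h
      split_ifs at h ⊢ with e
      · simp only [Subfield.coe_neg] at *
        linear_combination -h
      · simpa using h
    have hline : ∀ k, ∃ j, ∃ e : F₀, x k = e • u j := fun k => hu.line (x k) trivial (Subtype.ext (by
      have h := hxx k k
      rwa [hn, one_mul, if_pos rfl] at h))
    choose j e hje using hline
    have hjinj : Function.Injective j := fun k l hkl => by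
      by_contra hne'
      have h := hxx k l
      rw [hn, one_mul, if_neg hne', hje, hje, hkl, hb.smul_left, hb.smul_right, hu.form, if_pos rfl] at h
      have he : ∀ k, e k ≠ 0 := fun k h => by
        have := hxx k k
        rw [hn, one_mul, if_pos rfl, hje, h, zero_smul] at this
        refine hd0 (this.symm.trans ?_)
        show f (Pm *ᵥ up 0) _ = 0
        rw [show up 0 = 0 from rfl, mulVec_zero, Unit.zero_left hf]
      exact mul_ne_zero (he k) (mul_ne_zero (he l) hu.d_ne) (Subtype.ext h)
    refine ⟨Equiv.ofBijective j (Finite.injective_iff_bijective.mp hjinj), fun k => ?_⟩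
    rw [Submodule.map_span, Set.image_singleton, Matrix.toLin'_apply, Equiv.ofBijective_apply]
    have hgw : (g' : Matrix (Fin 3) (Fin 3) F) *ᵥ w k = (c * (e k : F)) • w (j k) := by
      rw [hact, show (N : Matrix (Fin 3) (Fin 3) F₀) *ᵥ u k = x k from rfl, hje, hupsmul, mulVec_smul, smul_smul]
    rw [show ((MulAut.conj P).toMonoidHom (Matrix.GeneralLinearGroup.map (F₀.subtype : F₀ →+* F) N * z) : GL (Fin 3) F)
      = g' from rfl, hgw]
    refine Submodule.span_singleton_smul_eq (Ne.isUnit (mul_ne_zero (left_ne_zero_of_mul hc0) fun h => ?_)) _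
    have := hxx k k
    rw [hn, one_mul, if_pos rfl, hje, show e k = 0 from Subtype.ext h, zero_smul] at this
    refine hd0 (this.symm.trans ?_)
    show f (Pm *ᵥ up 0) _ = 0
    rw [show up 0 = 0 from rfl, mulVec_zero, Unit.zero_left hf]

end CfsgLib.Asch.Three
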