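import Cfsg.Agent.Lib.Aschbacher.Proper

/-!
# Unipotent elements of subfield groups
-/

set_option autoImplicit false

namespace CfsgLib.Asch

open Matrix Cfsg.Geo
open scoped MatrixGroups

variable {ι : Type} [Fintype ι] [DecidableEq ι] {F : Type*} [Field F]

/-- the entries of a unipotent in a subfield group -/
lemma entries_mem_of_mem_subfield [Fintype F] {F₀ : Subfield F} {P : GL ι F} {N : Matrix ι ι F}
    (hN : N * N = 0) {g : GL ι F} (hg : g ∈ subfieldSubgroup F₀ P) (hgN : (g : Matrix ι ι F) = 1 + N)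
    (i j : ι) : cj P⁻¹ N i j ∈ F₀ := by
  classical
  obtain ⟨p, hp⟩ := CharP.exists F
  have := Fact.mk (CharP.char_is_prime F p)
  have := hp
  set M : Matrix ι ι F := cj P⁻¹ N with hM
  have hM2 : M * M = 0 := by rw [hM, ← cj_mul, hN, cj_zero]
  obtain ⟨x, hx, rfl⟩ := hg
  have hx1 : (x : Matrix ι ι F) = 1 + M := by
    have := congrArg (cj P⁻¹) hgN
    rw [cj_add, cj_one, ← hM] at this
    rw [← this]
    simp [cj, mul_assoc]
  obtain ⟨_, ⟨h', rfl⟩, z, hz, hhz⟩ := Subgroup.mem_sup_of_normal_right.mp hx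
  obtain ⟨l, hl⟩ := mem_scalars_iff_isScalarMat.mp hz
  set A : Matrix ι ι F :=
    ((Matrix.GeneralLinearGroup.map (F₀.subtype : F₀ →+* F) h' : GL ι F) : Matrix ι ι F) with hA
  have hAx : l • A = 1 + M := by
    rw [← hx1, ← hhz, Units.val_mul, hl, mul_smul_comm, mul_one]
  have hpow : l ^ p • A ^ p = 1 := by
    have : Nonempty ι := ⟨i⟩
    rw [← smul_pow, hAx, add_pow_char_of_commute p (Commute.one_left _), one_pow,
      show p = 2 + (p - 2) by have := (Fact.out : p.Prime).two_le; omega, pow_add, _root_.sq, hM2,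
      zero_mul, add_zero]
  have hAp : (A ^ p) i i ∈ F₀ := by
    have e : A ^ p = ((h' : Matrix ι ι F₀) ^ p).map F₀.subtype := by
      rw [show A = (F₀.subtype.mapMatrix (h' : Matrix ι ι F₀)) from rfl, ← map_pow]; rfl
    rw [e]
    exact (((h' : Matrix ι ι F₀) ^ p) i i).2
  have h1 : l ^ p * (A ^ p) i i = 1 := by
    simpa using congrFun (congrFun hpow i) i
  have hlp : l ^ p ∈ F₀ := by
    rw [eq_inv_of_mul_eq_one_left h1]
    exact F₀.inv_mem hAp
  have hinj : Function.Injective fun b : F₀ => b ^ p := fun b b' h => Subtype.ext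
    (frobenius_inj F p (by simpa [frobenius_def] using congrArg Subtype.val h))
  obtain ⟨b, hb⟩ := (Finite.injective_iff_surjective.mp hinj) ⟨l ^ p, hlp⟩
  have hlb : (b : F) = l :=
    frobenius_inj F p (by simpa [frobenius_def] using congrArg Subtype.val hb)
  have hij : (1 + M) i j ∈ F₀ := by
    rw [← hAx, Matrix.smul_apply, smul_eq_mul]
    exact F₀.mul_mem (hlb ▸ b.2) (h' i j).2
  have hd : (1 : Matrix ι ι F) i j ∈ F₀ := by
    rcases eq_or_ne i j with rfl | h
    · simp [F₀.one_mem]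
    · simp [one_apply_ne h, F₀.zero_mem]
  simpa using F₀.sub_mem hij hd

/-- a scaled unipotent in a subfield group pins the scalar down -/
lemma ratio_mem_of_mem_subfield [Fintype F] {F₀ : Subfield F} {P : GL ι F} {N : Matrix ι ι F}
    (hN : N * N = 0) (hN0 : N ≠ 0) {c : F} {g g' : GL ι F} (hg : g ∈ subfieldSubgroup F₀ P)
    (hgN : (g : Matrix ι ι F) = 1 + N) (hg' : g' ∈ subfieldSubgroup F₀ P)
    (hgN' : (g' : Matrix ι ι F) = 1 + c • N) : c ∈ F₀ := by
  obtain ⟨i, j, hij⟩ : ∃ i j, cj P⁻¹ N i j ≠ 0 := by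
    by_contra hc; push Not at hc
    exact hN0 (cj_injective P⁻¹ (by rw [cj_zero]; exact Matrix.ext hc))
  have h2 := entries_mem_of_mem_subfield (N := c • N)
    (by rw [smul_mul_smul_comm, hN, smul_zero]) hg' hgN' i j
  rw [cj_smul, Matrix.smul_apply, smul_eq_mul] at h2
  have h5 := F₀.div_mem h2 (entries_mem_of_mem_subfield hN hg hgN i j)
  rwa [mul_div_assoc, div_self hij, mul_one] at h5

end CfsgLib.Asch
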