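import Cfsg.Agent.Lib.Aschbacher.SubfieldUnip

/-!
# Groups containing enough transvections lie in no class stabiliser
-/

set_option autoImplicit false

namespace CfsgLib.Asch

open Matrix Cfsg.Geo CfsgLib.ClassicalMax
open scoped MatrixGroups

variable {ι : Type} [Fintype ι] [DecidableEq ι] {F : Type*} [Field F] [DecidableEq F]

/-- a connected system of transvections inside `Ω`, centres `T`, axes given by `φ` -/
structure TvSys (Ω : Subgroup (GL ι F)) where
  /-- the centres -/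
  T : Set (ι → F)
  /-- the axis of a centre -/
  φ : (ι → F) → (ι → F)
  /-- the coefficients -/
  C : Set F
  c₀ : F
  c₀_mem : c₀ ∈ C
  c₀_ne : c₀ ≠ 0
  mem : ∀ v ∈ T, ∀ c ∈ C, tvGL v (c • φ v) ∈ Ω
  orth : ∀ v ∈ T, φ v ⬝ᵥ v = 0
  ne : ∀ v ∈ T, v ≠ 0
  span : Submodule.span F T = ⊤
  sep : ∀ x, (∀ v ∈ T, φ v ⬝ᵥ x = 0) → x = 0
  symm : ∀ u ∈ T, ∀ v ∈ T, φ u ⬝ᵥ v = 0 → φ v ⬝ᵥ u = 0
  conn : ∀ u ∈ T, ∀ v ∈ T, ∃ w ∈ T, φ u ⬝ᵥ w ≠ 0 ∧ φ v ⬝ᵥ w ≠ 0
  ex : T.Nonempty

namespace TvSys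

variable {Ω : Subgroup (GL ι F)} (S : TvSys Ω)
include S

lemma orth_smul {v : ι → F} (hv : v ∈ S.T) (c : F) : (c • S.φ v) ⬝ᵥ v = 0 := by
  rw [smul_dotProduct, S.orth v hv, smul_zero]

lemma mulVec_tv {v : ι → F} (hv : v ∈ S.T) (c : F) (x : ι → F) :
    (tvGL v (c • S.φ v) : Matrix ι ι F) *ᵥ x = x + (c * (S.φ v ⬝ᵥ x)) • v := by
  rw [tvGL_mulVec (S.orth_smul hv c), smul_dotProduct, smul_eq_mul]

lemma φ_ne_zero {v : ι → F} (hv : v ∈ S.T) : S.φ v ≠ 0 := fun h => by
  obtain ⟨w, -, h1, -⟩ := S.conn v hv v hv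
  exact h1 (by rw [h, zero_dotProduct])

/-- a property passed along non-orthogonal pairs holds everywhere -/
lemma spread {P : (ι → F) → Prop} {u : ι → F} (hu : u ∈ S.T) (hPu : P u)
    (h : ∀ a ∈ S.T, ∀ b ∈ S.T, S.φ a ⬝ᵥ b ≠ 0 → P a → P b) {v : ι → F} (hv : v ∈ S.T) : P v := by
  obtain ⟨w, hw, h1, h2⟩ := S.conn u hu v hv
  exact h w hw v hv (fun e => h2 (S.symm w hw v hv e)) (h u hu w hw h1 hPu)

lemma not_le_subspace {W : Submodule F (ι → F)} (h0 : W ≠ ⊥) (h1 : W ≠ ⊤) :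
    ¬ Ω ≤ subspaceStabilizer W := by
  intro hle
  have hor : ∀ v ∈ S.T, ∀ x ∈ W, S.φ v ⬝ᵥ x ≠ 0 → v ∈ W := fun v hv x hx hne => by
    have h := (mem_subspaceStabilizer.mp (hle (S.mem v hv _ S.c₀_mem)) x).mp hx
    rw [S.mulVec_tv hv] at h
    have h' := sub_mem h hx
    rw [add_sub_cancel_left] at h'
    have h'' := W.smul_mem (S.c₀ * (S.φ v ⬝ᵥ x))⁻¹ h'
    rwa [smul_smul, inv_mul_cancel₀ (mul_ne_zero S.c₀_ne hne), one_smul] at h''
  obtain ⟨x, hx, hx0⟩ := (Submodule.ne_bot_iff W).mp h0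
  obtain ⟨v, hv, hvx⟩ : ∃ v ∈ S.T, S.φ v ⬝ᵥ x ≠ 0 := by
    by_contra hc
    push Not at hc
    exact hx0 (S.sep x hc)
  have hT : S.T ⊆ W := fun u hu => S.spread (P := (· ∈ W)) hv (hor v hv x hx hvx)
    (fun a ha b hb hab haW => hor b hb a haW fun e => hab (S.symm b hb a ha e)) hu
  exact h1 (eq_top_iff.mpr (S.span ▸ Submodule.span_le.mpr hT))

lemma scalar_of_commute (k : Matrix ι ι F) (h : ∀ v ∈ S.T, cj (tvGL v (S.c₀ • S.φ v)) k = k) :
    IsScalarMat k := by
  classical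
  have heig : ∀ v ∈ S.T, ∀ x, (S.φ v ⬝ᵥ x) • (k *ᵥ v) = (S.φ v ⬝ᵥ k *ᵥ x) • v := fun v hv x => by
    have h1 := congrArg (fun M => M *ᵥ x) (cj_eq_iff_commute.mp (h v hv))
    simp only [← mulVec_mulVec, S.mulVec_tv hv, mulVec_add, mulVec_smul] at h1
    have h2 := add_left_cancel h1
    rw [mul_smul, mul_smul] at h2
    exact (smul_right_injective _ S.c₀_ne h2).symm
  have hl : ∀ v ∈ S.T, ∃ l : F, k *ᵥ v = l • v := fun v hv => by
    obtain ⟨w, -, hw, -⟩ := S.conn v hv v hv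
    exact ⟨(S.φ v ⬝ᵥ w)⁻¹ * (S.φ v ⬝ᵥ k *ᵥ w), by
      rw [mul_smul, ← heig v hv w, smul_smul, inv_mul_cancel₀ hw, one_smul]⟩
  choose l hl using hl
  obtain ⟨u, hu⟩ := S.ex
  have hall : ∀ v ∈ S.T, k *ᵥ v = l u hu • v := fun v hv => by
    refine S.spread (P := fun v => k *ᵥ v = l u hu • v) hu (hl u hu) (fun a ha b hb hab haP => ?_) hv
    have h1 := heig b hb a
    rw [haP, hl b hb, smul_smul, dotProduct_smul, smul_eq_mul] at h1
    have hba : S.φ b ⬝ᵥ a ≠ 0 := fun e => hab (S.symm b hb a ha e)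
    have h2 := smul_left_injective F (S.ne b hb) h1
    rw [hl b hb, show l b hb = l u hu from mul_left_cancel₀ hba (h2.trans (mul_comm _ _))]
  refine ⟨l u hu, Matrix.toLin'.injective (LinearMap.ext_on S.span fun v hv => ?_)⟩
  simpa [smul_mulVec] using hall v hv

/-- a matrix moved only by differences of rank at most two is scalar -/
lemma scalar_of_small_steps (k : Matrix ι ι F)
    (h : ∀ g ∈ Ω, ∀ u w : ι → F,
      (∀ x, (cj g k - k) *ᵥ x ∈ Submodule.span F (Set.range ![u, w])) → cj g k = k) :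
    IsScalarMat k := by
  refine S.scalar_of_commute k fun v hv => h _ (S.mem v hv _ S.c₀_mem) v (k *ᵥ v) fun x => ?_
  have hφ := S.orth_smul hv S.c₀
  set φ := S.c₀ • S.φ v
  have hinv : ((tvGL v φ)⁻¹ : GL ι F) = tvGL v (-φ) := (tvGL_neg_right hφ).symm
  rw [sub_mulVec, cj, hinv, ← mulVec_mulVec, ← mulVec_mulVec, tvGL_mulVec hφ,
    tvGL_mulVec (by rw [neg_dotProduct, hφ, neg_zero]), mulVec_add, mulVec_smul]
  rw [show k *ᵥ x + (-φ ⬝ᵥ x) • k *ᵥ v + (φ ⬝ᵥ (k *ᵥ x + (-φ ⬝ᵥ x) • k *ᵥ v)) • v - k *ᵥ x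
      = (φ ⬝ᵥ (k *ᵥ x + (-φ ⬝ᵥ x) • k *ᵥ v)) • v + (-φ ⬝ᵥ x) • k *ᵥ v by abel]
  exact add_mem (Submodule.smul_mem _ _ (Submodule.subset_span ⟨0, rfl⟩))
    (Submodule.smul_mem _ _ (Submodule.subset_span ⟨1, rfl⟩))

lemma not_le_extField (hn : 3 ≤ Fintype.card ι) {r : ℕ} (hr : 2 ≤ r)
    {K : Subalgebra F (Matrix ι ι F)} (hK : IsFieldSubalgebra r K) : ¬ Ω ≤ subalgebraNormalizer K := by
  intro hle
  have hbot : K ≤ ⊥ := fun k hk => by
    obtain ⟨c, rfl⟩ := S.scalar_of_small_steps k fun g hg u w h => by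
      by_contra hne
      obtain ⟨y, -, hy⟩ := hK.inv _ (sub_mem ((hle hg k).mp hk) hk) (sub_ne_zero.mpr hne)
      obtain ⟨x, hx⟩ := span_pair_ne_top hn u w
      have := h (y *ᵥ x)
      rw [mulVec_mulVec, show (cj g k - k) * y = 1 from hy, one_mulVec] at this
      exact hx this
    exact Subalgebra.smul_mem _ (one_mem _) c
  have hfr := hK.finrank_eq
  have : Nonempty ι := Fintype.card_pos_iff.mp (by omega)
  rw [le_bot_iff.mp hbot, Subalgebra.finrank_bot] at hfr
  omega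

lemma not_le_decomposition {t m : ℕ} (hm : 2 ≤ m) {D : Fin t → Submodule F (ι → F)}
    (hD : IsMDecomposition m D) : ¬ Ω ≤ decompositionStabilizer D := by
  classical
  intro hle
  have hfix : ∀ v ∈ S.T, ∀ i, ∀ x ∈ D i, x + (S.c₀ * (S.φ v ⬝ᵥ x)) • v ∈ D i := by
    intro v hv i x hx
    obtain ⟨σ, hσ⟩ := hle (S.mem v hv _ S.c₀_mem)
    have himg : ∀ y ∈ D i, y + (S.c₀ * (S.φ v ⬝ᵥ y)) • v ∈ D (σ i) := fun y hy => by
      rw [← hσ i, ← S.mulVec_tv hv]
      exact ⟨y, hy, Matrix.toLin'_apply _ _⟩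
    suffices σ i = i by simpa [this] using himg x hx
    by_contra hne
    let L : D i →ₗ[F] F :=
      { toFun := fun y => S.φ v ⬝ᵥ (y : ι → F)
        map_add' := fun y z => by simp [dotProduct_add]
        map_smul' := fun c y => by simp [dotProduct_smul] }
    have hk := LinearMap.finrank_range_add_finrank_ker L
    have hr := (LinearMap.range L).finrank_le
    rw [Module.finrank_self] at hr
    rw [hD.finrank_eq i] at hk
    obtain ⟨y, hy, hy0⟩ := (Submodule.ne_bot_iff (LinearMap.ker L)).mp fun h => by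
      rw [h, finrank_bot] at hk; omega
    have hy' : S.φ v ⬝ᵥ (y : ι → F) = 0 := hy
    have h1 := himg _ y.2
    rw [hy', mul_zero, zero_smul, add_zero] at h1
    exact hy0 (Subtype.ext (Submodule.disjoint_def.mp (hD.indep.pairwiseDisjoint hne) _ h1 y.2))
  have hin : ∀ v ∈ S.T, ∀ i, ∀ x ∈ D i, S.φ v ⬝ᵥ x ≠ 0 → v ∈ D i := fun v hv i x hx hne => by
    have h := sub_mem (hfix v hv i x hx) hx
    rw [add_sub_cancel_left] at h
    have h'' := (D i).smul_mem (S.c₀ * (S.φ v ⬝ᵥ x))⁻¹ h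
    rwa [smul_smul, inv_mul_cancel₀ (mul_ne_zero S.c₀_ne hne), one_smul] at h''
  obtain ⟨u, hu⟩ := S.ex
  obtain ⟨i, hui⟩ : ∃ i, u ∈ D i := by
    by_contra hc
    push Not at hc
    refine S.φ_ne_zero hu (dotProduct_eq_zero _ fun x => ?_)
    have hx : x ∈ iSup D := hD.iSup_eq_top ▸ Submodule.mem_top
    induction hx using Submodule.iSup_induction' with
    | mem i y hy => by_contra hne; exact hc i (hin u hu i y hy hne)
    | zero => simp
    | add y z _ _ h1 h2 => rw [dotProduct_add, h1, h2, add_zero]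
  have hall : S.T ⊆ D i := fun v hv => S.spread (P := (· ∈ D i)) hu hui
    (fun a ha b hb hab haD => hin b hb i a haD fun e => hab (S.symm b hb a ha e)) hv
  have htop : D i = ⊤ := eq_top_iff.mpr (S.span ▸ Submodule.span_le.mpr hall)
  have : Nontrivial (Fin t) := Fin.nontrivial_iff_two_le.mpr hD.two_le
  obtain ⟨j, hj⟩ := exists_ne i
  have hdis := hD.indep.pairwiseDisjoint hj
  rw [Function.onFun, htop, disjoint_top] at hdis
  have hfr := hD.finrank_eq j
  rw [hdis, finrank_bot] at hfr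
  omega

lemma not_le_decomposition_lines {t : ℕ} {D : Fin t → Submodule F (ι → F)} (hD : IsMDecomposition 1 D)
    {v : ι → F} (hv : v ∈ S.T) (hvD : ∀ i j, v ∉ D i ⊔ D j) : ¬ Ω ≤ decompositionStabilizer D := by
  classical
  intro hle
  obtain ⟨σ, hσ⟩ := hle (S.mem v hv _ S.c₀_mem)
  have himg : ∀ i, ∀ x ∈ D i, x + (S.c₀ * (S.φ v ⬝ᵥ x)) • v ∈ D (σ i) := fun i x hx => by
    rw [← hσ i, ← S.mulVec_tv hv]
    exact ⟨x, hx, Matrix.toLin'_apply _ _⟩
  refine S.φ_ne_zero hv (dotProduct_eq_zero _ fun x => ?_)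
  have hx : x ∈ iSup D := hD.iSup_eq_top ▸ Submodule.mem_top
  induction hx using Submodule.iSup_induction' with
  | mem i y hy =>
    by_contra hne
    have h := Submodule.sub_mem (D (σ i) ⊔ D i) (Submodule.mem_sup_left (himg i y hy))
      (Submodule.mem_sup_right hy)
    rw [add_sub_cancel_left] at h
    refine hvD (σ i) i ?_
    have h'' := Submodule.smul_mem _ (S.c₀ * (S.φ v ⬝ᵥ y))⁻¹ h
    rwa [smul_smul, inv_mul_cancel₀ (mul_ne_zero S.c₀_ne hne), one_smul] at h''
  | zero => simp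
  | add y z _ _ h1 h2 => rw [dotProduct_add, h1, h2, add_zero]

/-- subfield groups: the transvections fix the constant of a closed triangle -/
lemma not_le_subfield [Fintype F] {F₀ : Subfield F} (P : GL ι F) {u v w : ι → F} (hu : u ∈ S.T)
    (hv : v ∈ S.T) (hw : w ∈ S.T) {a b d : F} (ha : a ∈ S.C) (hb : b ∈ S.C) (hd : d ∈ S.C)
    (hs : a * b * d * ((S.φ u ⬝ᵥ v) * (S.φ v ⬝ᵥ w) * (S.φ w ⬝ᵥ u)) ∉ F₀) :
    ¬ Ω ≤ subfieldSubgroup F₀ P := by
  classical
  intro hle
  set s := a * b * d * ((S.φ u ⬝ᵥ v) * (S.φ v ⬝ᵥ w) * (S.φ w ⬝ᵥ u)) with hsdef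
  let N : (ι → F) → F → Matrix ι ι F := fun x c => vecMulVec x (c • S.φ x)
  have hsq : ∀ x ∈ S.T, ∀ c, N x c * N x c = 0 := fun x hx c => by
    simp only [N, vecMulVec_mul_vecMulVec, S.orth_smul hx c, zero_smul, vecMulVec_zero]
  have hent : ∀ x ∈ S.T, ∀ c ∈ S.C, ∀ i j, cj P⁻¹ (N x c) i j ∈ F₀ := fun x hx c hc => by
    refine entries_mem_of_mem_subfield (hsq x hx c) (hle (S.mem x hx c hc)) ?_
    rw [coe_tvGL (S.orth_smul hx c)]
  have hmul : ∀ X Y : Matrix ι ι F, (∀ i j, X i j ∈ F₀) → (∀ i j, Y i j ∈ F₀) →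
      ∀ i j, (X * Y) i j ∈ F₀ := fun X Y hX hY i j => by
    rw [Matrix.mul_apply]
    exact F₀.sum_mem fun l _ => F₀.mul_mem (hX i l) (hY l j)
  have hprod : N u a * N v b * N w d * N u a = s • N u a := by
    rw [hsdef]
    simp only [N, vecMulVec_mul_vecMulVec, vecMulVec_smul, smul_mul_assoc, mul_smul_comm, dotProduct_smul,
      smul_dotProduct, smul_eq_mul, smul_smul]
    ext i j
    simp only [Matrix.smul_apply, vecMulVec_apply, Pi.smul_apply, smul_eq_mul]
    ring
  have h1 := congrArg (cj P⁻¹) hprod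
  rw [cj_mul, cj_mul, cj_mul, cj_smul] at h1
  obtain ⟨i, j, hij⟩ : ∃ i j, cj P⁻¹ (N u a) i j ≠ 0 := by
    by_contra hc
    push Not at hc
    have h0 : N u a = 0 := cj_injective P⁻¹ (by rw [cj_zero]; exact Matrix.ext hc)
    rcases eq_or_ne a 0 with rfl | ha0
    · exact hs (by rw [hsdef]; simp [F₀.zero_mem])
    rcases vecMulVec_eq_zero.mp h0 with h | h
    · exact S.ne u hu h
    · exact S.φ_ne_zero hu ((smul_eq_zero.mp h).resolve_left ha0)
  have h2 := hmul _ _ (hmul _ _ (hmul _ _ (hent u hu a ha) (hent v hv b hb)) (hent w hw d hd))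
    (hent u hu a ha) i j
  rw [h1, Matrix.smul_apply, smul_eq_mul] at h2
  refine hs ?_
  have h3 := F₀.div_mem h2 (hent u hu a ha i j)
  rwa [mul_div_assoc, div_self hij, mul_one] at h3

lemma not_le_tensor {n₁ n₂ : ℕ} (h₁ : 2 ≤ n₁) (h₂ : 3 ≤ n₂) (e : ι ≃ Fin n₁ × Fin n₂) (P : GL ι F) :
    ¬ Ω ≤ tensorProductSubgroup n₁ n₂ e P := by
  intro hle
  have : Nonempty (Fin n₂) := ⟨⟨0, by omega⟩⟩
  let z : Fin n₁ := ⟨0, by omega⟩
  let o : Fin n₁ := ⟨1, by omega⟩
  set E : Matrix (Fin n₁) (Fin n₁) F := single z z 1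
  obtain ⟨c, hc⟩ := S.scalar_of_small_steps (tens e P E 1) fun g hg u w h => by
    obtain ⟨A', hA'⟩ := tens_coe_of_mem (hle hg) E
    by_contra hne
    have hd : cj g (tens e P E 1) - tens e P E 1 = tens e P (A' - E) 1 := by
      rw [hA', sub_eq_iff_eq_add, ← tens_add_left, sub_add_cancel]
    refine range_not_small _ (fun b => tens e P 1 (single (b.castLE h₂) (b.castLE h₂) 1)) ?_ ?_ ?_ ?_ u w h
    · intro b; rw [tens_mul, one_mul, single_mul_single_same, one_mul]
    · intro b b' hbb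
      rw [tens_mul, single_mul_single_of_ne _ _ _ _ (fun hh => hbb (Fin.castLE_injective _ hh))]
      ext i j; simp [tens, cj]
    · intro b; rw [hd]; exact commute_tens _ _
    · intro b
      rw [hd, tens_mul, mul_one, one_mul]
      refine tens_ne_zero (fun h0 => hne ?_) (fun h0 => ?_)
      · rw [hA', sub_eq_zero.mp h0]
      · simpa using congrFun (congrFun h0 (b.castLE h₂)) (b.castLE h₂)
  rw [← tens_one (e := e) (P := P), ← tens_smul_left] at hc
  have h1 := tens_left_injective hc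
  have h00 := congrFun (congrFun h1 z) z
  have h11 := congrFun (congrFun h1 o) o
  simp [E, z, o, Fin.ext_iff] at h00 h11
  rw [← h11] at h00
  exact one_ne_zero h00

/-- normalisers of groups of order prime to the characteristic -/
lemma not_le_normalizer (h3 : 3 ≤ Fintype.card ι)
    (hdich : ∀ N ≤ Ω, Norms Ω N → N ≤ scalars ι F ∨ N = Ω) {r p : ℕ} [hr : Fact r.Prime] [hp : Fact p.Prime]
    [CharP F p] (hrp : r ≠ p) {R : Subgroup (GL ι F)} (hpg : IsPGroup r R) (hRΩ : Norms R Ω)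
    (hRs : ¬ R ≤ scalars ι F) : ¬ Ω ≤ subgroupNormalizer R := by
  classical
  intro hle
  obtain ⟨v, hv⟩ := S.ex
  have hpow : ∀ u ∈ S.T, ((tvGL u (S.c₀ • S.φ u) : GL ι F) : Matrix ι ι F) ^ p = 1 := fun u hu => by
    have : Nonempty ι := Fintype.card_pos_iff.mp (by omega)
    rw [coe_tvGL (S.orth_smul hu _), add_pow_char_of_commute p (Commute.one_left _), one_pow,
      show p = 2 + (p - 2) by have := hp.out.two_le; omega, pow_add, _root_.sq, vecMulVec_mul_vecMulVec,
      S.orth_smul hu, zero_smul, vecMulVec_zero, zero_mul, add_zero]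
  rcases hdich (R ⊓ Ω) inf_le_right (fun g hg x hx =>
      ⟨((Subgroup.mem_normalizer_iff.mp (hle hg)) x).mp hx.1,
        Ω.mul_mem (Ω.mul_mem hg hx.2) (Ω.inv_mem hg)⟩) with hN | hN
  · refine hRs fun x hx => ?_
    refine mem_scalars_iff_isScalarMat.mpr (S.scalar_of_commute (x : Matrix ι ι F) fun u hu => ?_)
    set t := tvGL u (S.c₀ • S.φ u)
    have ht : t ∈ Ω := S.mem u hu _ S.c₀_mem
    have hin : t * x * t⁻¹ * x⁻¹ ∈ R ⊓ Ω := by
      refine ⟨R.mul_mem ((Subgroup.mem_normalizer_iff.mp (hle ht) x).mp hx) (R.inv_mem hx), ?_⟩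
      rw [show t * x * t⁻¹ * x⁻¹ = t * (x * t⁻¹ * x⁻¹) by group]
      exact Ω.mul_mem ht (hRΩ x hx _ (Ω.inv_mem ht))
    obtain ⟨z, hz⟩ := mem_scalars_iff_isScalarMat.mp (hN hin)
    have hzt : (t : Matrix ι ι F) * (x : Matrix ι ι F) = z • ((x : Matrix ι ι F) * (t : Matrix ι ι F)) := by
      have h := congrArg (fun M : Matrix ι ι F => M * ((x : Matrix ι ι F) * (t : Matrix ι ι F))) hz
      simpa [mul_assoc] using h
    -- a transvection and its conjugate have a common fixed vector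
    obtain ⟨y, hy0, hy1, hy2⟩ : ∃ y : ι → F, y ≠ 0 ∧ S.φ u ⬝ᵥ y = 0 ∧
        S.φ u ⬝ᵥ ((x : Matrix ι ι F) *ᵥ y) = 0 := by
      let L : (ι → F) →ₗ[F] F × F :=
        { toFun := fun y => (S.φ u ⬝ᵥ y, S.φ u ⬝ᵥ ((x : Matrix ι ι F) *ᵥ y))
          map_add' := fun y y' => by simp [dotProduct_add, mulVec_add]
          map_smul' := fun c y => by simp [dotProduct_smul, mulVec_smul] }
      have hk := LinearMap.finrank_range_add_finrank_ker L
      have hr := (LinearMap.range L).finrank_le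
      rw [Module.finrank_prod, Module.finrank_self] at hr
      rw [Module.finrank_fintype_fun_eq_card] at hk
      obtain ⟨y, hy, hy0⟩ := (Submodule.ne_bot_iff (LinearMap.ker L)).mp fun h => by
        rw [h, finrank_bot] at hk; omega
      exact ⟨y, hy0, congrArg Prod.fst hy, congrArg Prod.snd hy⟩
    have hval := congrArg (fun M => M *ᵥ y) hzt
    simp only [← mulVec_mulVec, smul_mulVec, t, S.mulVec_tv hu, hy1, hy2, mul_zero, zero_smul,
      add_zero] at hval
    have hxy : (x : Matrix ι ι F) *ᵥ y ≠ 0 := gl_mulVec_ne_zero x hy0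
    have hz1 : z = 1 := by
      refine smul_left_injective F hxy ?_
      simpa using hval.symm
    exact cj_eq_iff_commute.mpr (by rw [hzt, hz1, one_smul])
  · have hΩR : Ω ≤ R := hN ▸ inf_le_left
    set t := tvGL v (S.c₀ • S.φ v)
    have hto : t ^ p = 1 := Units.ext (by rw [Units.val_pow_eq_pow_val, Units.val_one]; exact hpow v hv)
    obtain ⟨k, hk⟩ := hpg ⟨t, hΩR (S.mem v hv _ S.c₀_mem)⟩
    have hk' : t ^ r ^ k = 1 := congrArg Subtype.val hk
    have hcop : Nat.Coprime (r ^ k) p :=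
      ((Nat.coprime_primes hr.out hp.out).mpr hrp).pow_left k
    have h1 : t = 1 := by
      have h := (orderOf_dvd_of_pow_eq_one hk').trans dvd_rfl
      have h' := orderOf_dvd_of_pow_eq_one hto
      exact orderOf_eq_one_iff.mp (Nat.eq_one_of_dvd_coprimes hcop h h')
    obtain ⟨w, -, hw, -⟩ := S.conn v hv v hv
    have h2 := congrArg (fun g : GL ι F => (g : Matrix ι ι F) *ᵥ w) h1
    simp only [t, S.mulVec_tv hv, Units.val_one, one_mulVec, add_eq_left, smul_eq_zero] at h2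
    exact h2.elim (mul_ne_zero S.c₀_ne hw) (S.ne v hv)

end TvSys

/-- tensor wreath groups -/
lemma not_le_wreath {Ω : Subgroup (GL ι F)} (S : TvSys Ω) {m t : ℕ} (hm : 3 ≤ m) (ht : 2 ≤ t)
    (e : ι ≃ (Fin t → Fin m)) (P : GL ι F) :
    ¬ Ω ≤ tensorWreathSubgroup m t e P := by
  classical
  intro hle
  have hm0 : 0 < m := by omega
  let L : Fin t → Matrix (Fin m) (Fin m) F → Matrix ι ι F := fun i A => cw e P (pw (Function.update 1 i A))
  have hn : 2 ≤ Fintype.card ι := by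
    rw [Fintype.card_congr e, Fintype.card_pi]
    simp only [Fintype.card_fin, Finset.prod_const, Finset.card_univ]
    calc 2 ≤ m := by omega
      _ = m ^ 1 := (pow_one m).symm
      _ ≤ m ^ t := Nat.pow_le_pow_right hm0 (by omega)
  have hLmul : ∀ i A B, L i A * L i B = L i (A * B) := fun i A B => by
    simp only [L, ← cw_mul, update_one_mul]
  have hLsub : ∀ i A B, L i (A - B) = L i A - L i B := fun i A B => by
    simp only [L, ← cw_sub]
    congr 1
    rw [eq_sub_iff_add_eq, ← update_one_add, sub_add_cancel]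
  have hL1 : ∀ i, L i 1 = 1 := fun i => by
    simp only [L]
    rw [show Function.update (1 : Fin t → Matrix (Fin m) (Fin m) F) i 1 = 1 from Function.update_eq_self i 1, pw_one]
    simp [cw]
  have hLcomm : ∀ i j, i ≠ j → ∀ A B, L i A * L j B = L j B * L i A := fun i j hij A B => by
    simp only [L, ← cw_mul, pw_mul]
    congr 2
    funext k
    rcases eq_or_ne k i with rfl | hki
    · simp [hij]
    rcases eq_or_ne k j with rfl | hkj <;> simp [*]
  have hL0 : ∀ i A, A = 0 → L i A = 0 := fun i A hA => by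
    rw [hA, show (0 : Matrix (Fin m) (Fin m) F) = A - A by simp, hLsub, sub_self]
  have hLne : ∀ i j, i ≠ j → ∀ A B, A ≠ 0 → B ≠ 0 → L i A * L j B ≠ 0 := fun i j hij A B hA hB h => by
    simp only [L, ← cw_mul] at h
    exact pw_two_ne_zero hm0 hij hA hB (cw_injective e P (h.trans (by simp [cw])))
  let i₀ : Fin t := ⟨0, by omega⟩
  let i₁ : Fin t := ⟨1, by omega⟩
  have h01 : i₀ ≠ i₁ := by simp [i₀, i₁, Fin.ext_iff]
  let z : Fin m := ⟨0, hm0⟩
  set E : Matrix (Fin m) (Fin m) F := single z z 1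
  let f : Fin t → Fin 3 → Matrix ι ι F := fun i b => L i (single (b.castLE hm) (b.castLE hm) 1)
  obtain ⟨c, hc⟩ := S.scalar_of_small_steps (L i₀ E) fun g hg u w h => by
    obtain ⟨j, A', hA'⟩ := permutes_of_mem (hle hg) i₀ E
    change cj g (L i₀ E) = L j A' at hA'
    by_contra hne
    by_cases hj : j = i₀
    · subst hj
      have hd : cj g (L i₀ E) - L i₀ E = L i₀ (A' - E) := by rw [hA', hLsub]
      refine range_not_small _ (f i₁) ?_ ?_ ?_ ?_ u w h
      · intro b; rw [hLmul, single_mul_single_same, one_mul]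
      · intro b b' hbb
        rw [hLmul, single_mul_single_of_ne _ _ _ _ (fun hh => hbb (Fin.castLE_injective _ hh))]
        exact hL0 _ _ rfl
      · intro b; rw [hd]; exact hLcomm _ _ h01 _ _
      · intro b
        rw [hd]
        refine hLne _ _ h01 _ _ (fun h0 => hne ?_) (fun h0 => ?_)
        · rw [hA', sub_eq_zero.mp h0]
        · simpa using congrFun (congrFun h0 (b.castLE hm)) (b.castLE hm)
    · rw [hA'] at h
      refine range_not_small _ (f i₀) ?_ ?_ ?_ ?_ u w h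
      · intro b; rw [hLmul, single_mul_single_same, one_mul]
      · intro b b' hbb
        rw [hLmul, single_mul_single_of_ne _ _ _ _ (fun hh => hbb (Fin.castLE_injective _ hh))]
        exact hL0 _ _ rfl
      · intro b
        rw [sub_mul, mul_sub, hLcomm _ _ hj, hLmul, hLmul]
        congr 2
        rcases eq_or_ne (b.castLE hm) z with hb | hb
        · rw [hb]
        · simp only [E]
          rw [single_mul_single_of_ne _ _ _ _ hb, single_mul_single_of_ne _ _ _ _ (Ne.symm hb)]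
      · intro b
        rw [sub_mul]
        rcases eq_or_ne (b.castLE hm) z with hb | hb
        · simp only [f]
          rw [hb, hLmul, show E * single z z 1 = E by simp [E]]
          have h1 : L j A' * L i₀ E - L i₀ E = L j (A' - 1) * L i₀ E := by
            rw [hLsub, hL1, sub_mul, one_mul]
          rw [h1]
          refine hLne _ _ hj _ _ (fun h0 => ?_) (fun h0 => ?_)
          · rw [sub_eq_zero.mp h0, hL1] at hA'
            have h2 := congrArg (cj g⁻¹) hA'
            rw [cj_cj, inv_mul_cancel, cj_one_left, cj_one] at h2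
            have h3 := congrArg (fun M => M * L i₁ E) h2
            let o : Fin m := ⟨1, by omega⟩
            have h4 := congrFun (congrFun (update_one_injective hm0 i₀ (cw_injective e P
              (h2.trans (hL1 i₀).symm))) o) o
            simp [E, z, o, Fin.ext_iff] at h4
          · simpa [E] using congrFun (congrFun h0 z) z
        · simp only [f]
          rw [hLmul, show E * single (b.castLE hm) (b.castLE hm) (1 : F) = 0 from single_mul_single_of_ne _ _ _ _ (Ne.symm hb) _,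
            hL0 _ _ rfl, sub_zero]
          refine hLne _ _ hj _ _ (fun h0 => ?_) (fun h0 => ?_)
          · rw [hL0 _ _ h0] at hA'
            have h2 := cj_injective g (hA'.trans (cj_zero g).symm)
            have h3 := hLne i₀ i₁ h01 E 1 (fun h0 => by simpa [E] using congrFun (congrFun h0 z) z)
              (fun h0 => by simpa using congrFun (congrFun h0 z) z)
            exact h3 (by rw [h2, zero_mul])
          · simpa using congrFun (congrFun h0 (b.castLE hm)) (b.castLE hm)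
  rw [← hL1 i₀, show L i₀ 1 = cw e P (pw (Function.update 1 i₀ 1)) from rfl] at hc
  have h1 : E = c • 1 := update_one_injective hm0 i₀ (cw_injective e P (hc.trans (by
    rw [update_one_smul]; simp [cw])))
  have h00 := congrFun (congrFun h1 z) z
  have h11 := congrFun (congrFun h1 ⟨1, by omega⟩) ⟨1, by omega⟩
  simp [E, z, Fin.ext_iff] at h00 h11
  rw [← h11] at h00
  exact one_ne_zero h00


end CfsgLib.Asch
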